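import Cfsg.Prelude.Def_Sz

/-!
The Suzuki group as the set of fixed points of the graph endomorphism, and its action on the natural module.
-/

set_option autoImplicit false
set_option linter.style.haveILetI false

namespace Cfsg.Agent.Lib.Recognition

open Cfsg.Lie Matrix

section Identities

variable {R : Type*} [CommRing R]

/-- The sum of the principal 2-minors. -/
def minorSum2 (A : Matrix (Fin 4) (Fin 4) R) : R :=
  (A 0 0 * A 1 1 - A 1 0 * A 0 1) + (A 0 0 * A 2 2 - A 2 0 * A 0 2) + (A 0 0 * A 3 3 - A 3 0 * A 0 3)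
    + (A 1 1 * A 2 2 - A 2 1 * A 1 2) + (A 1 1 * A 3 3 - A 3 1 * A 1 3) + (A 2 2 * A 3 3 - A 3 2 * A 2 3)

theorem det_scalar_add (A : Matrix (Fin 4) (Fin 4) R) (x : R) :
    (scalar (Fin 4) x + A).det = x ^ 4 + A.trace * x ^ 3 + minorSum2 A * x ^ 2 + A.adjugate.trace * x + A.det := by
  simp [Matrix.det_succ_row_zero, Fin.sum_univ_succ, Matrix.trace, Matrix.adjugate_fin_succ_eq_det_submatrix,
    minorSum2, Fin.succAbove]
  ring

/-- The two extra minors in the Cauchy–Binet formula for `star4`. -/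
def starGap (A B : Matrix (Fin 4) (Fin 4) R) (p r : Fin 4) : R :=
  (A (pairOf p).1 0 * A (pairOf p).2 3 - A (pairOf p).2 0 * A (pairOf p).1 3) *
      (B 0 (pairOf r).1 * B 3 (pairOf r).2 - B 3 (pairOf r).1 * B 0 (pairOf r).2) +
    (A (pairOf p).1 1 * A (pairOf p).2 2 - A (pairOf p).2 1 * A (pairOf p).1 2) *
      (B 1 (pairOf r).1 * B 2 (pairOf r).2 - B 2 (pairOf r).1 * B 1 (pairOf r).2)

theorem star4_mul_apply (A B : Matrix (Fin 4) (Fin 4) R) (p r : Fin 4) :
    star4 (A * B) p r = (star4 A * star4 B) p r + starGap A B p r := by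
  simp only [star4, starGap, Matrix.mul_apply, Matrix.of_apply, Fin.sum_univ_four]
  simp [pairOf]
  ring

end Identities

variable {F : Type*} [Field F]

/-- The antidiagonal matrix of `altForm4`. -/
def antiJ (F : Type*) [Field F] : Matrix (Fin 4) (Fin 4) F := !![0, 0, 0, 1; 0, 0, 1, 0; 0, 1, 0, 0; 1, 0, 0, 0]

theorem antiJ_mul_self : antiJ F * antiJ F = 1 := by
  ext i j
  fin_cases i <;> fin_cases j <;> simp [antiJ, Matrix.mul_apply, Fin.sum_univ_four]

theorem sp4_gram {g : GL (Fin 4) F} (hg : g ∈ Sp4 F) :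
    (g : Matrix (Fin 4) (Fin 4) F)ᵀ * antiJ F * g = antiJ F := by
  ext i j
  have h := hg (Pi.single i 1) (Pi.single j 1)
  simp [altForm4, Matrix.mulVec_single] at h
  simp [antiJ, Matrix.mul_apply, Fin.sum_univ_four]
  fin_cases i <;> fin_cases j <;> simp [Pi.single_apply] at h ⊢ <;> linear_combination h

theorem sp4_inv {g : GL (Fin 4) F} (hg : g ∈ Sp4 F) :
    ((g⁻¹ : GL (Fin 4) F) : Matrix (Fin 4) (Fin 4) F) = antiJ F * (g : Matrix (Fin 4) (Fin 4) F)ᵀ * antiJ F := by
  symm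
  calc antiJ F * (g : Matrix (Fin 4) (Fin 4) F)ᵀ * antiJ F
      = antiJ F * (g : Matrix (Fin 4) (Fin 4) F)ᵀ * antiJ F * ((g * g⁻¹ : GL (Fin 4) F) : Matrix (Fin 4) (Fin 4) F) := by
        rw [mul_inv_cancel, Units.val_one, mul_one]
    _ = antiJ F * ((g : Matrix (Fin 4) (Fin 4) F)ᵀ * antiJ F * g) * ((g⁻¹ : GL (Fin 4) F) : Matrix (Fin 4) (Fin 4) F) := by
        rw [Units.val_mul]; simp only [Matrix.mul_assoc]
    _ = _ := by rw [sp4_gram hg, antiJ_mul_self, one_mul]

theorem sp4_gram_row {g : GL (Fin 4) F} (hg : g ∈ Sp4 F) :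
    (g : Matrix (Fin 4) (Fin 4) F) * antiJ F * (g : Matrix (Fin 4) (Fin 4) F)ᵀ = antiJ F := by
  calc (g : Matrix (Fin 4) (Fin 4) F) * antiJ F * (g : Matrix (Fin 4) (Fin 4) F)ᵀ
      = (g : Matrix (Fin 4) (Fin 4) F) * (antiJ F * (g : Matrix (Fin 4) (Fin 4) F)ᵀ * antiJ F) * antiJ F := by
        simp only [Matrix.mul_assoc, antiJ_mul_self, mul_one]
    _ = _ := by rw [← sp4_inv hg, ← Units.val_mul, mul_inv_cancel, Units.val_one, one_mul]

variable [CharP F 2]

theorem sp4_col_rel {g : GL (Fin 4) F} (hg : g ∈ Sp4 F) (i j : Fin 4) :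
    (g : Matrix (Fin 4) (Fin 4) F) 0 i * g.val 3 j - g.val 3 i * g.val 0 j
      + (g.val 1 i * g.val 2 j - g.val 2 i * g.val 1 j) = antiJ F i j := by
  have h := congrFun (congrFun (sp4_gram hg) i) j
  simp [antiJ, Matrix.mul_apply, Fin.sum_univ_four] at h ⊢
  simp only [CharTwo.sub_eq_add]
  linear_combination h

theorem sp4_row_rel {g : GL (Fin 4) F} (hg : g ∈ Sp4 F) (k l : Fin 4) :
    (g : Matrix (Fin 4) (Fin 4) F) k 0 * g.val l 3 - g.val l 0 * g.val k 3
      + (g.val k 1 * g.val l 2 - g.val l 1 * g.val k 2) = antiJ F k l := by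
  have h := congrFun (congrFun (sp4_gram_row hg) k) l
  simp [antiJ, Matrix.mul_apply, Fin.sum_univ_four] at h ⊢
  simp only [CharTwo.sub_eq_add]
  linear_combination h

theorem antiJ_pairOf (p : Fin 4) : antiJ F (pairOf p).1 (pairOf p).2 = 0 := by
  fin_cases p <;> simp [antiJ, pairOf]

/-- `star4` is multiplicative on `Sp4`. -/
theorem star4_mul {g h : GL (Fin 4) F} (hg : g ∈ Sp4 F) (hh : h ∈ Sp4 F) :
    star4 ((g * h : GL (Fin 4) F) : Matrix (Fin 4) (Fin 4) F) = star4 g.val * star4 h.val := by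
  ext p r
  rw [Units.val_mul, star4_mul_apply]
  simp only [add_eq_left, starGap]
  have e1 := sp4_row_rel hg (pairOf p).1 (pairOf p).2
  have e2 := sp4_col_rel hh (pairOf r).1 (pairOf r).2
  rw [antiJ_pairOf, CharTwo.add_eq_zero] at e1 e2
  rw [e1, e2, CharTwo.add_self_eq_zero]

theorem star4_one : star4 (1 : Matrix (Fin 4) (Fin 4) F) = 1 := by
  ext p r
  fin_cases p <;> fin_cases r <;> simp [star4, pairOf, Matrix.one_apply]

/-- For `e` a positive power of 2, the fixed point set is the whole Suzuki group. -/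
theorem mem_Sz_imp [Finite F] {m : ℕ} {g : GL (Fin 4) F} (hg : g ∈ Sz F (2 ^ m)) :
    g ∈ Sp4 F ∧ star4 (g : Matrix (Fin 4) (Fin 4) F) = (g : Matrix (Fin 4) (Fin 4) F).map (fun x => x ^ 2 ^ m) := by
  classical
  let θ : F →+* F := iterateFrobenius F 2 m
  have hθ : ∀ A : Matrix (Fin 4) (Fin 4) F, A.map (fun x => x ^ 2 ^ m) = θ.mapMatrix A := fun A => by
    ext i j
    simp [θ, iterateFrobenius_def]
  simp only [hθ]
  induction hg using Subgroup.closure_induction with
  | mem x hx => exact ⟨hx.1, by rw [hx.2, hθ]⟩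
  | one => exact ⟨one_mem _, by rw [Units.val_one, star4_one, map_one]⟩
  | mul x y _ _ hx hy => exact ⟨mul_mem hx.1 hy.1, by rw [star4_mul hx.1 hy.1, hx.2, hy.2, Units.val_mul, map_mul]⟩
  | inv x _ hx =>
    have hx1 : x⁻¹ = x ^ (orderOf x - 1) := by
      apply inv_eq_of_mul_eq_one_right
      rw [← pow_succ', Nat.sub_add_cancel (orderOf_pos x), pow_orderOf_eq_one]
    rw [hx1]
    induction orderOf x - 1 with
    | zero => exact ⟨by simp [one_mem], by rw [pow_zero, Units.val_one, star4_one, map_one]⟩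
    | succ n ih =>
      rw [pow_succ]
      exact ⟨mul_mem ih.1 hx.1, by rw [star4_mul ih.1 hx.1, ih.2, hx.2, Units.val_mul, map_mul]⟩

theorem sp4_det {g : GL (Fin 4) F} (hg : g ∈ Sp4 F) : (g : Matrix (Fin 4) (Fin 4) F).det = 1 := by
  have h := congrArg Matrix.det (sp4_gram hg)
  rw [det_mul, det_mul, det_transpose] at h
  have hJ : (antiJ F).det * (antiJ F).det = 1 := by rw [← det_mul, antiJ_mul_self, det_one]
  have h1 : (g : Matrix (Fin 4) (Fin 4) F).det * g.val.det = 1 := by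
    linear_combination (antiJ F).det * h - (g.val.det * g.val.det - 1) * hJ
  rcases mul_self_eq_one_iff.1 h1 with h2 | h2
  · exact h2
  · rwa [CharTwo.neg_eq] at h2

theorem sp4_trace_adjugate {g : GL (Fin 4) F} (hg : g ∈ Sp4 F) :
    (g : Matrix (Fin 4) (Fin 4) F).adjugate.trace = (g : Matrix (Fin 4) (Fin 4) F).trace := by
  have h1 : ((g⁻¹ : GL (Fin 4) F) : Matrix (Fin 4) (Fin 4) F) = g.val.adjugate := by
    rw [Matrix.coe_units_inv, Matrix.inv_def, sp4_det hg, Ring.inverse_one, one_smul]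
  rw [← h1, sp4_inv hg, Matrix.trace_mul_cycle, antiJ_mul_self, one_mul, Matrix.trace_transpose]

theorem sp4_minorSum2 {g : GL (Fin 4) F} (hg : g ∈ Sp4 F) :
    minorSum2 (g : Matrix (Fin 4) (Fin 4) F) = (star4 (g : Matrix (Fin 4) (Fin 4) F)).trace := by
  have e1 := sp4_col_rel hg 0 3
  have e2 := sp4_col_rel hg 1 2
  have e3 := sp4_row_rel hg 0 3
  simp [antiJ] at e1 e2 e3
  simp [minorSum2, star4, pairOf, Matrix.trace, Fin.sum_univ_four]
  simp only [CharTwo.sub_eq_add] at e1 e2 e3 ⊢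
  linear_combination e1 + e2 + (e1 - e3) + (1 - g.val 1 0 * g.val 2 3 - g.val 2 0 * g.val 1 3) * CharTwo.two_eq_zero (R := F)

/-- An element of the Suzuki group with a nonzero fixed vector has order dividing 4. -/
theorem sz_pow_four_of_fix [Finite F] {m : ℕ} {g : GL (Fin 4) F} (hg : g ∈ Sz F (2 ^ m)) (v : Fin 4 → F) (hv : v ≠ 0)
    (h : (g : Matrix (Fin 4) (Fin 4) F) *ᵥ v = v) : g ^ 4 = 1 := by
  obtain ⟨hsp, hstar⟩ := mem_Sz_imp hg
  set A := (g : Matrix (Fin 4) (Fin 4) F) with hA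
  have hd : (scalar (Fin 4) (1 : F) + A).det = 0 := by
    by_contra hne
    apply hv
    apply Matrix.eq_zero_of_mulVec_eq_zero hne
    rw [map_one, Matrix.add_mulVec, Matrix.one_mulVec, h, CharTwo.add_self_eq_zero]
  rw [det_scalar_add, sp4_det hsp, sp4_trace_adjugate hsp] at hd
  have hb : minorSum2 A = 0 := by
    linear_combination hd - CharTwo.two_eq_zero (R := F) * (1 + A.trace)
  have ha : A.trace = 0 := by
    have h2 := sp4_minorSum2 hsp
    rw [← hA, hb, hstar] at h2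
    have h3 : A.trace ^ 2 ^ m = 0 := by
      rw [h2, Matrix.trace, Matrix.trace, sum_pow_char_pow]
      rfl
    exact pow_eq_zero_iff (by positivity) |>.1 h3
  have hcp : A.charpoly = Polynomial.X ^ 4 + 1 := by
    have hcm : charmatrix A = scalar (Fin 4) Polynomial.X + (Polynomial.C : F →+* Polynomial F).mapMatrix A := by
      rw [charmatrix]
      ext i j
      simp only [Matrix.sub_apply, Matrix.add_apply]
      rw [CharTwo.sub_eq_add]
    rw [charpoly, hcm, det_scalar_add, ← RingHom.map_det, ← RingHom.map_adjugate, sp4_det hsp]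
    have hm : minorSum2 ((Polynomial.C : F →+* Polynomial F).mapMatrix A) = Polynomial.C (minorSum2 A) := by
      simp [minorSum2]
    have ht : ∀ M : Matrix (Fin 4) (Fin 4) F, ((Polynomial.C : F →+* Polynomial F).mapMatrix M).trace = Polynomial.C M.trace :=
      fun M => (AddMonoidHom.map_trace (Polynomial.C : F →+* Polynomial F).toAddMonoidHom M).symm
    rw [hm, ht, ht, sp4_trace_adjugate hsp, ← hA, hb, ha]
    simp
  have hCH := Matrix.aeval_self_charpoly A
  rw [hcp, map_add, map_pow, Polynomial.aeval_X, map_one] at hCH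
  apply Units.ext
  rw [Units.val_pow_eq_pow_val, Units.val_one, ← hA]
  rw [eq_neg_of_add_eq_zero_left hCH]
  ext i j
  simp [CharTwo.neg_eq]

end Cfsg.Agent.Lib.Recognition

namespace Cfsg.Agent.Lib.Recognition

open Cfsg.Lie Matrix

variable {F : Type*} [Field F] [CharP F 2]

/-- An involution of the Suzuki group. -/
theorem sz_exists_involution (m : ℕ) : ∃ g ∈ Sz F (2 ^ m), orderOf g = 2 := by
  let M : Matrix (Fin 4) (Fin 4) F := !![1, 0, 0, 0; 0, 1, 0, 0; 1, 0, 1, 0; 1, 1, 0, 1]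
  have hM : M * M = 1 := by
    ext i j
    fin_cases i <;> fin_cases j <;> simp [M, Matrix.mul_apply, Fin.sum_univ_four, CharTwo.add_self_eq_zero]
  let g : GL (Fin 4) F := ⟨M, M, hM, hM⟩
  refine ⟨g, Subgroup.subset_closure ⟨?_, ?_⟩, orderOf_eq_prime (Units.ext (by rw [sq, Units.val_mul]; exact hM)) ?_⟩
  · intro u v
    show altForm4 (M *ᵥ u) (M *ᵥ v) = altForm4 u v
    simp [M, altForm4, Matrix.mulVec, dotProduct, Fin.sum_univ_four]
    linear_combination (u 0 * v 0 + u 0 * v 1 + u 1 * v 0) * CharTwo.two_eq_zero (R := F)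
  · show star4 M = M.map _
    ext p r
    fin_cases p <;> fin_cases r <;> simp [M, star4, pairOf, CharTwo.neg_eq]
  · intro h
    have := congrArg (fun z : GL (Fin 4) F => (z : Matrix (Fin 4) (Fin 4) F) 2 0) h
    simp [g, M] at this

end Cfsg.Agent.Lib.Recognition
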