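import Cfsg.Agent.Lib.Compute.CertTools

/-!
# A faster kernel check of certificates

The packed transversal elements of a witness are looked up once, not once per point.
-/

set_option autoImplicit false

namespace Cfsg.Agent.Lib.Recognition.CertFast

open Cfsg.Agent.Lib.Compute

/-- Evaluate a number before continuing. -/
def forceN {α : Type} (n : ℕ) (k : ℕ → α) : α :=
  match n with
  | 0 => k 0
  | m + 1 => k (m + 1)

theorem forceN_eq {α : Type} (n : ℕ) (k : ℕ → α) : forceN n k = k n := by cases n <;> rfl

/-- Evaluate a list of numbers before continuing. -/
def forceL {α : Type} : List ℕ → (List ℕ → α) → α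
  | [], k => k []
  | a :: l, k => forceN a fun a => forceL l fun l => k (a :: l)

theorem forceL_eq {α : Type} : ∀ (l : List ℕ) (k : List ℕ → α), forceL l k = k l := by
  intro l
  induction l with
  | nil => intro k; rfl
  | cons a l ih => intro k; rw [forceL, forceN_eq, ih]

/-- The packed elements whose product is a sifted element. -/
def permsOf : List Lvl → List ℕ → List ℕ
  | L :: rest, 0 :: js => permsOf rest js
  | L :: rest, (k + 1) :: js => match L.trans[k]? with
    | some u => u.1 :: permsOf rest js
    | none => permsOf rest js
  | [], _ => []
  | _ :: _, [] => []

/-- Apply a product of packed elements. -/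
def appL (ps : List ℕ) (i : ℕ) : ℕ := ps.foldr (fun P x => app P x) i

theorem appL_permsOf : ∀ (c : List Lvl) (js : List ℕ) (i : ℕ),
    appL (permsOf c js) i = sift c js i := by
  intro c
  induction c with
  | nil => intro js i; cases js <;> rfl
  | cons L rest ih =>
    intro js i
    cases js with
    | nil => rfl
    | cons j js =>
      cases j with
      | zero => rw [permsOf, ih]; rfl
      | succ k =>
        simp only [permsOf, sift, tfun]
        cases hk : L.trans[k]? with
        | none => simp [ih]
        | some u =>
          show app u.1 (appL (permsOf rest js) i) = _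
          rw [ih]

/-- The witness check. -/
def witFast (n : ℕ) (L : Lvl) (next : List Lvl) : Bool :=
  (List.range L.gens.length).all fun s =>
    match L.gens[s]?, L.wit[s]? with
    | some g, some row => forceN g.1 fun G => (List.range (L.trans.length + 1)).all fun j =>
        match row[j]? with
        | some (q :: js) =>
            forceL (permsOf [L] [j]) fun A => forceL (permsOf (L :: next) (q :: js)) fun B =>
              (List.range n).all fun i => app G (appL A i) == appL B i
        | _ => false
    | _, _ => false

theorem witOk_of_fast {n : ℕ} {L : Lvl} {next : List Lvl} (h : witFast n L next = true) :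
    witOk n L next = true := by
  simp only [witFast, witOk, List.all_eq_true] at h ⊢
  intro s hs
  have hs' := h s hs
  cases hg : L.gens[s]? with
  | none => simp [hg] at hs'
  | some g =>
    cases hw : L.wit[s]? with
    | none => simp [hg, hw] at hs'
    | some row =>
      simp only [hg, hw, forceN_eq, List.all_eq_true] at hs' ⊢
      intro j hj
      have hj' := hs' j hj
      cases hr : row[j]? with
      | none => simp [hr] at hj'
      | some l =>
        cases l with
        | nil => simp [hr] at hj'
        | cons q js =>
          simp only [hr, forceL_eq, List.all_eq_true, appL_permsOf] at hj' ⊢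
          intro i hi
          exact hj' i hi

/-- The witness check for the generators with index `lo ≤ s < hi`. -/
def witPart (n : ℕ) (L : Lvl) (next : List Lvl) (lo hi : ℕ) : Bool :=
  (List.range' lo (hi - lo)).all fun s =>
    match L.gens[s]?, L.wit[s]? with
    | some g, some row => forceN g.1 fun G => (List.range (L.trans.length + 1)).all fun j =>
        match row[j]? with
        | some (q :: js) =>
            forceL (permsOf [L] [j]) fun A => forceL (permsOf (L :: next) (q :: js)) fun B =>
              (List.range n).all fun i => app G (appL A i) == appL B i
        | _ => false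
    | _, _ => false

theorem witFast_of_parts {n : ℕ} {L : Lvl} {next : List Lvl}
    (h : ∀ s < L.gens.length, witPart n L next s (s + 1) = true) : witFast n L next = true := by
  simp only [witFast, List.all_eq_true, List.mem_range]
  intro s hs
  have h' := h s hs
  simp only [witPart, Nat.add_sub_cancel_left, List.range'_one, List.all_cons, List.all_nil,
    Bool.and_true] at h'
  exact h'

/-- The tree check. -/
def treeFast (n : ℕ) (L : Lvl) : Bool :=
  (List.range L.trans.length).all fun k =>
    match L.trans[k]? with
    | some (u, s, p) => decide (p ≤ k) && (match L.gens[s]? with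
      | some g => forceN u fun U => forceN g.1 fun G => forceL (permsOf [L] [p]) fun A =>
          (List.range n).all fun i => app U i == app G (appL A i)
      | none => false)
    | none => false

theorem treeOk_of_fast {n : ℕ} {L : Lvl} (h : treeFast n L = true) : treeOk n L = true := by
  simp only [treeFast, treeOk, List.all_eq_true] at h ⊢
  intro k hk
  have hk' := h k hk
  cases ht : L.trans[k]? with
  | none => simp [ht] at hk'
  | some t =>
    obtain ⟨u, s, p⟩ := t
    simp only [ht, Bool.and_eq_true] at hk' ⊢
    refine ⟨hk'.1, ?_⟩
    cases hg : L.gens[s]? with
    | none => simp [hg] at hk'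
    | some g =>
      have h2 := hk'.2
      simp only [hg, forceN_eq, forceL_eq, appL_permsOf] at h2 ⊢
      exact h2

/-- Fast check of one level. -/
def lvlFast (n : ℕ) (L : Lvl) (next : List Lvl) : Bool :=
  decide (L.base < n) && L.gens.all (genOk n) && treeFast n L && decide (orbit L).Nodup
    && witFast n L next && nextOk L next

/-- Fast check of one level, apart from the witnesses. -/
def lvlRest (n : ℕ) (L : Lvl) (next : List Lvl) : Bool :=
  decide (L.base < n) && L.gens.all (genOk n) && treeFast n L && decide (orbit L).Nodup
    && nextOk L next

theorem lvlFast_of_parts {n : ℕ} {L : Lvl} {next : List Lvl} (h : lvlRest n L next = true)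
    (h' : ∀ s < L.gens.length, witPart n L next s (s + 1) = true) :
    lvlFast n L next = true := by
  simp only [lvlRest, lvlFast, witFast_of_parts h', Bool.and_eq_true, and_true] at h ⊢
  exact h

theorem chk_cons_of_fast {n : ℕ} {L : Lvl} {rest : List Lvl} (h : lvlFast n L rest = true)
    (h' : chk n rest = true) : chk n (L :: rest) = true := by
  simp only [lvlFast, Bool.and_eq_true] at h
  obtain ⟨⟨⟨⟨⟨h1, h2⟩, h3⟩, h4⟩, h5⟩, h6⟩ := h
  simp only [chk, lvlOk, h1, h2, treeOk_of_fast h3, h4, witOk_of_fast h5, h6, h', Bool.and_self]

end Cfsg.Agent.Lib.Recognition.CertFast
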