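import Cfsg.Agent.Lib.Recognition.Sp6CoverData
import Cfsg.Agent.Lib.Recognition.CertFast
import Cfsg.Agent.Lib.Compute.CoverCert

/-!
# The double cover of the symplectic group Sp6(2) on 240 points
-/

set_option autoImplicit false
set_option maxRecDepth 100000

namespace Cfsg.Agent.Lib.Recognition.Sp6Cover

open Cfsg.Agent.Lib.Compute CertFast

theorem cov_lvl3 : lvlFast 303 covCert3 [] = true := by decide +kernel

theorem cov_lvl2 : lvlFast 303 covCert2 [covCert3] = true := by decide +kernel

theorem cov_lvl1 : lvlFast 303 covCert1 [covCert2, covCert3] = true := by decide +kernel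

theorem cov_wit00 : witPart 303 covCert0 [covCert1, covCert2, covCert3] 0 1 = true := by
  decide +kernel

theorem cov_wit01 : witPart 303 covCert0 [covCert1, covCert2, covCert3] 1 2 = true := by
  decide +kernel

theorem cov_wit02 : witPart 303 covCert0 [covCert1, covCert2, covCert3] 2 3 = true := by
  decide +kernel

theorem cov_wit03 : witPart 303 covCert0 [covCert1, covCert2, covCert3] 3 4 = true := by
  decide +kernel

theorem cov_lvl0 : lvlFast 303 covCert0 [covCert1, covCert2, covCert3] = true := by
  refine lvlFast_of_parts (by decide +kernel) fun s hs => ?_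
  have hl : covCert0.gens.length = 4 := by decide +kernel
  match s, hl ▸ hs with
  | 0, _ => exact cov_wit00
  | 1, _ => exact cov_wit01
  | 2, _ => exact cov_wit02
  | 3, _ => exact cov_wit03

theorem covCert_ok : chk 303 covCert = true :=
  chk_cons_of_fast cov_lvl0 (chk_cons_of_fast cov_lvl1 (chk_cons_of_fast cov_lvl2
    (chk_cons_of_fast cov_lvl3 rfl)))

theorem small_lvl3 : lvlFast 240 covSmall3 [] = true := by decide +kernel

theorem small_lvl2 : lvlFast 240 covSmall2 [covSmall3] = true := by decide +kernel

theorem small_lvl1 : lvlFast 240 covSmall1 [covSmall2, covSmall3] = true := by decide +kernel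

theorem small_lvl0 : lvlFast 240 covSmall0 [covSmall1, covSmall2, covSmall3] = true := by
  decide +kernel

theorem covSmall_ok : chk 240 covSmall = true :=
  chk_cons_of_fast small_lvl0 (chk_cons_of_fast small_lvl1 (chk_cons_of_fast small_lvl2
    (chk_cons_of_fast small_lvl3 rfl)))

theorem psp_ok : chk 63 pspCert = true := by decide +kernel

theorem card_psp : Nat.card (grp 63 pspCert) = 1451520 := by
  rw [card_grp psp_ok]; decide +kernel

theorem card_cov : Nat.card (grp 303 covCert) = 2903040 := by
  rw [card_grp covCert_ok]; decide +kernel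

theorem card_small : Nat.card (grp 240 covSmall) = 2903040 := by
  rw [card_grp covSmall_ok]; decide +kernel

end Cfsg.Agent.Lib.Recognition.Sp6Cover
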