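import Cfsg.Agent.Lib.Recognition.Sp6CoverData
import Cfsg.Agent.Lib.Recognition.Sp6Cover
import Cfsg.Agent.Lib.Classical.SympCard
import Cfsg.Prelude.Def_Classical

/-!
# Sp6(2) acting on the 63 nonzero vectors
-/

set_option autoImplicit false
set_option maxRecDepth 100000

namespace Cfsg.Agent.Lib.Recognition.Sp6Model

open Equiv Matrix
open Cfsg.Agent.Lib.Compute
open Cfsg.Agent.Lib.Recognition.Sp6Cover

/-- The coordinates. -/
abbrev Ix : Type := Fin 3 ⊕ Fin 3

/-- The group. -/
abbrev S : Type := Matrix.symplecticGroup (Fin 3) (ZMod 2)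

/-- The position of a coordinate. -/
def pos : Ix → Fin 6
  | .inl a => ⟨a.val, by omega⟩
  | .inr a => ⟨a.val + 3, by omega⟩

/-- The vector of a point. -/
def vec (i : Fin 63) : Ix → ZMod 2 := fun k => if (i.val + 1).testBit (pos k).val then 1 else 0

theorem vec_ne : ∀ i, vec i ≠ 0 := by decide +kernel

theorem vec_inj : ∀ i j, vec i = vec j → i = j := by decide +kernel

theorem vec_surj : ∀ v : Ix → ZMod 2, v ≠ 0 → ∃ i, vec i = v := by decide +kernel

theorem mulVec_ne (A : S) (i : Fin 63) : (A : Matrix Ix Ix (ZMod 2)) *ᵥ vec i ≠ 0 := fun h => by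
  apply vec_ne i
  have h2 := congrArg (fun v => ((A⁻¹ : S) : Matrix Ix Ix (ZMod 2)) *ᵥ v) h
  simp only [Matrix.mulVec_mulVec, Matrix.mulVec_zero] at h2
  have e : ((A⁻¹ : S) : Matrix Ix Ix (ZMod 2)) * (A : Matrix Ix Ix (ZMod 2)) = 1 := by
    rw [← Submonoid.coe_mul, inv_mul_cancel]; rfl
  rwa [e, Matrix.one_mulVec] at h2

/-- The action on points. -/
noncomputable def act (A : S) (i : Fin 63) : Fin 63 :=
  Classical.choose (vec_surj _ (mulVec_ne A i))

theorem vec_act (A : S) (i : Fin 63) : vec (act A i) = (A : Matrix Ix Ix (ZMod 2)) *ᵥ vec i :=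
  Classical.choose_spec (vec_surj _ (mulVec_ne A i))

theorem act_mul (A B : S) (i : Fin 63) : act (A * B) i = act A (act B i) :=
  vec_inj _ _ (by rw [vec_act, vec_act, vec_act, Matrix.mulVec_mulVec, Submonoid.coe_mul])

theorem act_one (i : Fin 63) : act 1 i = i :=
  vec_inj _ _ (by rw [vec_act]; exact Matrix.one_mulVec _)

/-- The permutation representation. -/
noncomputable def rep : S →* Perm (Fin 63) where
  toFun A :=
    { toFun := act A
      invFun := act A⁻¹
      left_inv := fun i => by rw [← act_mul, inv_mul_cancel, act_one]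
      right_inv := fun i => by rw [← act_mul, mul_inv_cancel, act_one] }
  map_one' := Equiv.ext act_one
  map_mul' A B := Equiv.ext (act_mul A B)

theorem rep_injective : Function.Injective rep := by
  intro A B h
  have key : ∀ v : Ix → ZMod 2,
      (A : Matrix Ix Ix (ZMod 2)) *ᵥ v = (B : Matrix Ix Ix (ZMod 2)) *ᵥ v := by
    intro v
    by_cases hv : v = 0
    · simp [hv]
    · obtain ⟨i, rfl⟩ := vec_surj v hv
      rw [← vec_act, ← vec_act]
      exact congrArg vec (Equiv.ext_iff.mp h i)
  exact Subtype.ext (Matrix.ext_of_mulVec_single fun j => key (Pi.single j 1))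

/-- The matrices of the generators. -/
def mat (k : ℕ) : Matrix Ix Ix (ZMod 2) :=
  fun a b => ((pspMats.getD k fun _ _ => 0) (pos a) (pos b) : ZMod 2)

theorem mats_ok : ∀ k : Fin pspCert0.gens.length,
    mat k.val * Matrix.J (Fin 3) (ZMod 2) * (mat k.val)ᵀ = Matrix.J (Fin 3) (ZMod 2) ∧
    ∀ i : Fin 63, app (pspCert0.gens.get k).1 i.val < 63 ∧
      ∀ j : Fin 63, j.val = app (pspCert0.gens.get k).1 i.val → vec j = mat k.val *ᵥ vec i := by
  decide +kernel

theorem gens_ok : ∀ g ∈ pspCert0.gens, genOk 63 g = true := by decide +kernel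

theorem card_S : Nat.card S = 1451520 := by
  rw [Cfsg.Agent.Lib.Classical.card_sp 3, ZMod.card]
  decide

theorem range_eq : rep.range = grp 63 pspCert := by
  have hle : grp 63 pspCert ≤ rep.range := by
    refine (Subgroup.closure_le _).mpr ?_
    rintro _ ⟨g, hg, rfl⟩
    obtain ⟨k, rfl⟩ := List.get_of_mem hg
    obtain ⟨hJ, hp⟩ := mats_ok k
    refine ⟨⟨mat k.val, SymplecticGroup.mem_iff.mpr hJ⟩, ?_⟩
    refine (Equiv.ext fun i => Fin.ext ?_)
    rw [repr_toPerm_of_genOk (gens_ok _ (List.get_mem _ k))]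
    obtain ⟨hlt, hj⟩ := hp i
    have h2 := hj ⟨_, hlt⟩ rfl
    show ((act _ i : Fin 63) : ℕ) = _
    rw [vec_inj (act ⟨mat k.val, _⟩ i) ⟨_, hlt⟩ (by rw [vec_act, h2])]
  refine (Subgroup.eq_of_le_of_card_ge hle ?_).symm
  rw [card_psp, ← Nat.card_congr (MonoidHom.ofInjective rep_injective).toEquiv, card_S]

/-- The permutation model. -/
noncomputable def symplecticEquiv : S ≃* grp 63 pspCert :=
  (MonoidHom.ofInjective rep_injective).trans (MulEquiv.subgroupCongr range_eq)

/-- A field of two elements. -/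
noncomputable def fieldEquiv {F : Type*} [Field F] [Fintype F] (hF : Fintype.card F = 2) :
    F ≃+* ZMod 2 :=
  (ZMod.ringEquivOfPrime F Nat.prime_two hF).symm

/-- Change of field. -/
noncomputable def fieldMap {F : Type*} [Field F] [Fintype F] (φ : F ≃+* ZMod 2) :
    Matrix.symplecticGroup (Fin 3) F ≃* S where
  toFun A := ⟨(A : Matrix Ix Ix F).map φ, by
    rw [SymplecticGroup.mem_iff, ← Matrix.transpose_map, ← Matrix.map_J (Fin 3) φ,
      ← Matrix.map_mul, ← Matrix.map_mul, SymplecticGroup.mem_iff.mp A.2]⟩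
  invFun A := ⟨(A : Matrix Ix Ix (ZMod 2)).map φ.symm, by
    rw [SymplecticGroup.mem_iff, ← Matrix.transpose_map, ← Matrix.map_J (Fin 3) φ.symm,
      ← Matrix.map_mul, ← Matrix.map_mul, SymplecticGroup.mem_iff.mp A.2]⟩
  left_inv A := Subtype.ext (by ext i j; simp)
  right_inv A := Subtype.ext (by ext i j; simp)
  map_mul' A B := Subtype.ext (Matrix.map_mul (f := φ))

/-- The projective group over a field of two elements. -/
noncomputable def pspEquiv {F : Type*} [Field F] [Fintype F] (hF : Fintype.card F = 2) :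
    Cfsg.PSp 3 F ≃* grp 63 pspCert :=
  have hc : Subgroup.center (Matrix.symplecticGroup (Fin 3) F) = ⊥ := Subgroup.eq_bot_of_card_eq _
    (by rw [Cfsg.Agent.Lib.Classical.card_center_sp (by norm_num), hF]; rfl)
  ((QuotientGroup.quotientMulEquivOfEq hc).trans QuotientGroup.quotientBot).trans
    ((fieldMap (fieldEquiv hF)).trans symplecticEquiv)

end Cfsg.Agent.Lib.Recognition.Sp6Model
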