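import Mathlib

/-!
Groups of order 60 with more than one Sylow 5-subgroup are simple.
-/

set_option autoImplicit false
set_option linter.style.haveILetI false

namespace Cfsg.Agent.Lib.Recognition

variable {G : Type*} [Group G] [Finite G]

/-- Order of a Sylow subgroup for a prime dividing the order exactly once. -/
theorem sylow_card_eq_prime {p : ℕ} [hp : Fact p.Prime] (P : Sylow p G) (h1 : p ∣ Nat.card G) (h2 : ¬ p ^ 2 ∣ Nat.card G) :
    Nat.card P = p := by
  rw [P.card_eq_multiplicity]
  have a := (hp.out.pow_dvd_iff_le_factorization Nat.card_pos.ne').1 (show p ^ 1 ∣ Nat.card G by simpa using h1)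
  have b : ¬ 2 ≤ (Nat.card G).factorization p := fun h => h2 ((hp.out.pow_dvd_iff_le_factorization Nat.card_pos.ne').2 h)
  rw [show (Nat.card G).factorization p = 1 by omega, pow_one]

/-- In a group of order 30 the Sylow 5-subgroup is normal. -/
theorem sylow_five_normal_of_card_thirty (h : Nat.card G = 30) (P : Sylow 5 G) [Fact (Nat.Prime 5)] :
    (P : Subgroup G).Normal := by
  classical
  haveI : Fact (Nat.Prime 3) := ⟨Nat.prime_three⟩
  by_contra hP
  have hPc : Nat.card P = 5 := sylow_card_eq_prime P (by rw [h]; norm_num) (by rw [h]; norm_num)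
  have hn : ∀ p : ℕ, ∀ [Fact p.Prime], Nat.card (Sylow p G) ∣ 30 := fun p _ => by
    obtain ⟨Q⟩ : Nonempty (Sylow p G) := inferInstance
    rw [Q.card_eq_index_normalizer, ← h]
    exact Subgroup.index_dvd_card _
  have h5 : Nat.card (Sylow 5 G) = 6 := by
    have h1 := card_sylow_modEq_one 5 G
    have h2 := hn 5
    have hne : Nat.card (Sylow 5 G) ≠ 1 := fun e => by
      haveI : Subsingleton (Sylow 5 G) := (Nat.card_eq_one_iff_unique.1 e).1
      exact hP (Sylow.normal_of_subsingleton P)
    rw [Nat.ModEq] at h1
    obtain ⟨c, hc⟩ := h2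
    have : Nat.card (Sylow 5 G) ≤ 30 := Nat.le_of_dvd (by norm_num) ⟨c, hc⟩
    interval_cases hh : Nat.card (Sylow 5 G) <;> omega
  have hN : Nat.card (Subgroup.normalizer ((P : Subgroup G) : Set G)) = 5 := by
    have := (Subgroup.normalizer ((P : Subgroup G) : Set G)).card_mul_index
    rw [P.coe_coe, ← P.card_eq_index_normalizer, h5, h] at this
    rw [P.coe_coe]
    omega
  -- elements of order 5
  let F : Finset G := (Set.toFinite {g : G | orderOf g = 5}).toFinset
  let T : Finset G := (Set.toFinite {g : G | orderOf g = 3}).toFinset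
  obtain ⟨Q⟩ : Nonempty (Sylow 3 G) := inferInstance
  have hQc : Nat.card Q = 3 := sylow_card_eq_prime Q (by rw [h]; norm_num) (by rw [h]; norm_num)
  haveI hQn : (Q : Subgroup G).Normal := by
    by_contra hQ
    have h3 : 4 ≤ Nat.card (Sylow 3 G) := by
      have h1 := card_sylow_modEq_one 3 G
      have hne : Nat.card (Sylow 3 G) ≠ 1 := fun e => by
        haveI : Subsingleton (Sylow 3 G) := (Nat.card_eq_one_iff_unique.1 e).1
        exact hQ (Sylow.normal_of_subsingleton Q)
      have hpos : 0 < Nat.card (Sylow 3 G) := Nat.card_pos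
      rw [Nat.ModEq] at h1
      omega
    have cnt : ∀ (p : ℕ) [Fact p.Prime], (∀ R : Sylow p G, Nat.card R = p) →
        (p - 1) * Nat.card (Sylow p G) ≤ Nat.card {g : G // orderOf g = p} := by
      intro p _ hp
      let f : (Σ R : Sylow p G, {x : R // x ≠ 1}) → {g : G // orderOf g = p} := fun x => ⟨(x.2.1 : G), by
        rw [Subgroup.orderOf_coe]
        exact (Nat.dvd_prime Fact.out).1 ((orderOf_dvd_natCard (x.2.1 : x.1)).trans (dvd_of_eq (hp x.1))) |>.resolve_left
          (fun e => x.2.2 (orderOf_eq_one_iff.1 e))⟩
      have hf : Function.Injective f := by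
        rintro ⟨R, x, hx⟩ ⟨R', x', hx'⟩ e
        have e' : (x : G) = x' := congrArg Subtype.val e
        have hRR : R = R' := by
          apply Sylow.ext
          have hz : ∀ (S : Sylow p G) (y : S), y ≠ 1 → Subgroup.zpowers (y : G) = S := fun S y hy => by
            refine Subgroup.eq_of_le_of_card_ge (Subgroup.zpowers_le.2 y.2) ?_
            rw [Nat.card_zpowers, Subgroup.orderOf_coe]
            exact le_of_eq ((hp S).trans ((Nat.dvd_prime Fact.out).1 ((orderOf_dvd_natCard y).trans (dvd_of_eq (hp S))) |>.resolve_left
              (fun e => hy (orderOf_eq_one_iff.1 e))).symm)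
          rw [← hz R x hx, ← hz R' x' hx', e']
        subst hRR
        congr
        exact Subtype.ext e'
      haveI := Fintype.ofFinite (Sylow p G)
      have := Nat.card_le_card_of_injective f hf
      rw [Nat.card_sigma] at this
      refine le_trans (le_of_eq ?_) this
      rw [Finset.sum_congr rfl (g := fun _ => p - 1) (fun R _ => ?_), Finset.sum_const, Finset.card_univ,
        Nat.card_eq_fintype_card, smul_eq_mul, mul_comm]
      haveI := Fintype.ofFinite R
      rw [Nat.card_eq_fintype_card, Fintype.card_subtype_compl, Fintype.card_subtype_eq, ← Nat.card_eq_fintype_card]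
      exact congrArg (· - 1) (hp R)
    have e5 := cnt 5 (fun R => (Nat.card_congr (R.equiv P).toEquiv).trans hPc)
    have e3 := cnt 3 (fun R => (Nat.card_congr (R.equiv Q).toEquiv).trans hQc)
    have hdis : Nat.card ({g : G // orderOf g = 5} ⊕ {g : G // orderOf g = 3}) ≤ Nat.card G := by
      refine Nat.card_le_card_of_injective (Sum.elim Subtype.val Subtype.val) ?_
      rintro (⟨a, ha⟩ | ⟨a, ha⟩) (⟨b, hb⟩ | ⟨b, hb⟩) e <;> simp only [Sum.elim_inl, Sum.elim_inr] at e <;> subst e
      · rfl
      · omega
      · omega
      · rfl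
    rw [Nat.card_sum, h] at hdis
    omega
  -- Q centralizes P
  obtain ⟨x, hx⟩ : ∃ x : P, x ≠ 1 := by
    haveI : Nontrivial P := Finite.one_lt_card_iff_nontrivial.1 (by rw [hPc]; norm_num)
    exact exists_ne 1
  have hxo : orderOf (x : G) = 5 := by
    rw [Subgroup.orderOf_coe]
    exact (Nat.dvd_prime Fact.out).1 ((orderOf_dvd_natCard x).trans (dvd_of_eq hPc)) |>.resolve_left (fun e => hx (orderOf_eq_one_iff.1 e))
  have hfix : ∀ q : Q, (x : G) * q * (x : G)⁻¹ = q := by
    intro q
    let f : Equiv.Perm Q := (MulAut.conjNormal (x : G) : MulAut Q).toEquiv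
    have hf5 : (MulAut.conjNormal (x : G) : MulAut Q) ^ 5 = 1 := by
      rw [← map_pow, show (x : G) ^ 5 = 1 from orderOf_dvd_iff_pow_eq_one.1 (dvd_of_eq hxo), map_one]
    have hone : (MulAut.conjNormal (x : G) : MulAut Q) = 1 := by
      have hinj : ∀ φ : MulAut Q, φ ^ 5 = 1 → φ = 1 := by
        haveI : IsCyclic Q := isCyclic_of_prime_card hQc
        intro φ hφ
        rw [← orderOf_eq_one_iff]
        refine Nat.eq_one_of_dvd_coprimes (?_ : Nat.Coprime 5 2) (orderOf_dvd_of_pow_eq_one hφ) ?_
        · norm_num
        · have : Nat.card (MulAut Q) = 2 := by rw [IsCyclic.card_mulAut, hQc]; decide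
          rw [← this]
          exact orderOf_dvd_natCard φ
      exact hinj _ hf5
    have := congrArg (fun φ : MulAut Q => ((φ q : Q) : G)) hone
    simpa using this
  have hPz : (P : Subgroup G) = Subgroup.zpowers (x : G) :=
    (Subgroup.eq_of_le_of_card_ge (Subgroup.zpowers_le.2 x.2) (by rw [Nat.card_zpowers, hxo]; exact hPc.le)).symm
  have hle : (Q : Subgroup G) ≤ Subgroup.normalizer ((P : Subgroup G) : Set G) := by
    refine le_trans ?_ (Subgroup.centralizer_le_normalizer _)
    intro q hq
    rw [Subgroup.mem_centralizer_iff]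
    intro y hy
    have hy' : y ∈ Subgroup.zpowers (x : G) := hPz ▸ hy
    obtain ⟨k, rfl⟩ := hy'
    have hc : Commute (x : G) q := mul_inv_eq_iff_eq_mul.1 (hfix ⟨q, hq⟩)
    exact (hc.zpow_left k).eq
  have := Subgroup.card_dvd_of_le hle
  rw [hQc, hN] at this
  omega

/-- A group of order 60 in which the Sylow 5-subgroup is not normal is simple. -/
theorem isSimpleGroup_of_card_sixty (h : Nat.card G = 60) [Fact (Nat.Prime 5)] (P : Sylow 5 G)
    (hP : ¬ (P : Subgroup G).Normal) : IsSimpleGroup G := by
  classical
  haveI : Nontrivial G := Finite.one_lt_card_iff_nontrivial.1 (by omega)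
  have h5 : Nat.card (Sylow 5 G) = 6 := by
    have h1 := card_sylow_modEq_one 5 G
    have h2 : Nat.card (Sylow 5 G) ∣ 60 := by
      rw [P.card_eq_index_normalizer, ← h]
      exact Subgroup.index_dvd_card _
    have hne : Nat.card (Sylow 5 G) ≠ 1 := fun e => by
      haveI : Subsingleton (Sylow 5 G) := (Nat.card_eq_one_iff_unique.1 e).1
      exact hP (Sylow.normal_of_subsingleton P)
    have h12 : Nat.card (Sylow 5 G) ∣ 12 := by
      have hco : Nat.Coprime (Nat.card (Sylow 5 G)) 5 := by
        rw [Nat.coprime_comm, (Fact.out : Nat.Prime 5).coprime_iff_not_dvd]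
        exact not_dvd_card_sylow 5 G
      exact hco.dvd_of_dvd_mul_left (show Nat.card (Sylow 5 G) ∣ 5 * 12 by simpa using h2)
    rw [Nat.ModEq] at h1
    obtain ⟨c, hc⟩ := h12
    have : Nat.card (Sylow 5 G) ≤ 12 := Nat.le_of_dvd (by norm_num) ⟨c, hc⟩
    interval_cases hh : Nat.card (Sylow 5 G) <;> omega
  have hPc : Nat.card P = 5 := sylow_card_eq_prime P (by rw [h]; norm_num) (by rw [h]; norm_num)
  have hNP : Nat.card (Subgroup.normalizer ((P : Subgroup G) : Set G)) = 10 := by
    have := (Subgroup.normalizer ((P : Subgroup G) : Set G)).card_mul_index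
    rw [P.coe_coe, ← P.card_eq_index_normalizer, h5, h] at this
    rw [P.coe_coe]
    omega
  refine ⟨fun N hN => ?_⟩
  by_contra hne
  rw [not_or] at hne
  obtain ⟨hN1, hN2⟩ := hne
  have hdvd : Nat.card N ∣ 60 := h ▸ Subgroup.card_subgroup_dvd_card N
  have hN1' : Nat.card N ≠ 1 := fun e => hN1 (Subgroup.eq_bot_of_card_eq N e)
  have hN60 : Nat.card N ≠ 60 := fun e => hN2 (Subgroup.eq_top_of_card_eq N (e.trans h.symm))
  by_cases h5N : 5 ∣ Nat.card N
  · -- every Sylow 5-subgroup lies in N
    have hall : ∀ R : Sylow 5 G, (R : Subgroup G) ≤ N := by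
      intro R
      obtain ⟨y, hy⟩ := exists_prime_orderOf_dvd_card' (G := N) 5 h5N
      obtain ⟨S, hS⟩ := (IsPGroup.of_card (p := 5) (n := 1) (G := Subgroup.zpowers (y : G))
        (by rw [Nat.card_zpowers, Subgroup.orderOf_coe, hy, pow_one])).exists_le_sylow
      have hSc : Nat.card S = 5 := (Nat.card_congr (S.equiv P).toEquiv).trans hPc
      have hSeq : (S : Subgroup G) = Subgroup.zpowers (y : G) :=
        (Subgroup.eq_of_le_of_card_ge hS (by rw [Nat.card_zpowers, Subgroup.orderOf_coe, hy]; exact hSc.le)).symm
      obtain ⟨g, hg⟩ := MulAction.exists_smul_eq G S R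
      rw [← hg, Sylow.coe_subgroup_smul, hSeq]
      rintro _ ⟨z, hz, rfl⟩
      exact hN.conj_mem z (Subgroup.zpowers_le.2 y.2 hz) g
    have h6 : 6 ∣ Nat.card N := by
      have e : Nat.card (Sylow 5 N) = 6 := by
        rw [← h5]
        refine Nat.card_eq_of_bijective (fun R => ?_) ?_
        · exact Sylow.ofCard ((R : Subgroup N).map N.subtype) (by
            rw [Nat.card_congr ((R : Subgroup N).equivMapOfInjective _ N.subtype_injective).toEquiv.symm,
              sylow_card_eq_prime R h5N (fun h25 => by have := h25.trans hdvd; norm_num at this),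
              ← P.card_eq_multiplicity, hPc])
        · constructor
          · intro R R' e
            have := congrArg (fun S : Sylow 5 G => (S : Subgroup G)) e
            simp only [Sylow.coe_ofCard] at this
            exact Sylow.ext (Subgroup.map_injective N.subtype_injective this)
          · intro S
            refine ⟨S.subtype (hall S), ?_⟩
            apply Sylow.ext
            rw [Sylow.coe_ofCard, Sylow.coe_subtype, Subgroup.map_subgroupOf_eq_of_le (hall S)]
      rw [← e]
      obtain ⟨R⟩ : Nonempty (Sylow 5 N) := inferInstance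
      rw [R.card_eq_index_normalizer]
      exact Subgroup.index_dvd_card _
    have h30 : Nat.card N = 30 := by
      obtain ⟨c, hc⟩ := (show Nat.Coprime 6 5 by norm_num).mul_dvd_of_dvd_of_dvd h6 h5N
      have : Nat.card N ≤ 60 := Nat.le_of_dvd (by norm_num) hdvd
      have hpos : 0 < Nat.card N := Nat.card_pos
      omega
    haveI := sylow_five_normal_of_card_thirty h30 (P.subtype (hall P))
    apply hP
    haveI : ((P : Subgroup G).subgroupOf N).Characteristic := by
      rw [← Sylow.coe_subtype (h := hall P)]
      exact Sylow.characteristic_of_normal _ inferInstance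
    have := ConjAct.normal_of_characteristic_of_normal (H := N) (K := (P : Subgroup G).subgroupOf N)
    rwa [Subgroup.map_subgroupOf_eq_of_le (hall P)] at this
  · -- P centralizes N
    have hcent : N ≤ Subgroup.normalizer ((P : Subgroup G) : Set G) → False := by
      intro hle
      have hd := Subgroup.card_dvd_of_le hle
      rw [hNP] at hd
      have hN2c : Nat.card N = 2 := by
        have : Nat.card N ∣ 2 := by
          have hco : Nat.Coprime (Nat.card N) 5 := by
            rw [Nat.coprime_comm, (Fact.out : Nat.Prime 5).coprime_iff_not_dvd]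
            exact h5N
          exact hco.dvd_of_dvd_mul_left (show Nat.card N ∣ 5 * 2 by simpa using hd)
        rcases (Nat.dvd_prime Nat.prime_two).1 this with e | e
        · exact absurd e hN1'
        · exact e
      have hq : Nat.card (G ⧸ N) = 30 := by
        have := N.card_mul_index
        rw [hN2c, h, Subgroup.index_eq_card] at this
        omega
      let R : Sylow 5 (G ⧸ N) := P.mapSurjective (QuotientGroup.mk'_surjective N)
      haveI := sylow_five_normal_of_card_thirty hq R
      have hRn : ((R : Subgroup (G ⧸ N)).comap (QuotientGroup.mk' N)).Normal := inferInstance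
      have hRe : (R : Subgroup (G ⧸ N)).comap (QuotientGroup.mk' N) = (P : Subgroup G) ⊔ N := by
        rw [Sylow.coe_mapSurjective, Subgroup.comap_map_eq, QuotientGroup.ker_mk']
      rw [hRe] at hRn
      apply hP
      have hle2 : (P : Subgroup G) ⊔ N ≤ Subgroup.normalizer ((P : Subgroup G) : Set G) := sup_le Subgroup.le_normalizer hle
      refine ⟨fun z hz g => ?_⟩
      -- conjugates of P are Sylow subgroups of the normalizer, hence equal to P
      have hle3 : ((g • P : Sylow 5 G) : Subgroup G) ≤ Subgroup.normalizer ((P : Subgroup G) : Set G) := by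
        rw [Sylow.coe_subgroup_smul]
        rintro _ ⟨w, hw, rfl⟩
        exact hle2 (hRn.conj_mem w (Subgroup.mem_sup_left hw) g)
      haveI : ((P : Subgroup G).subgroupOf (Subgroup.normalizer ((P : Subgroup G) : Set G))).Normal := Subgroup.normal_in_normalizer
      haveI : Subsingleton (Sylow 5 (Subgroup.normalizer ((P : Subgroup G) : Set G))) := by
        haveI : ((P.subtype Subgroup.le_normalizer : Sylow 5 (Subgroup.normalizer ((P : Subgroup G) : Set G))) :
            Subgroup (Subgroup.normalizer ((P : Subgroup G) : Set G))).Normal := by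
          rw [Sylow.coe_subtype]; infer_instance
        haveI := Sylow.unique_of_normal _ this
        infer_instance
      have heq := congrArg (fun S : Sylow 5 (Subgroup.normalizer ((P : Subgroup G) : Set G)) =>
        ((S : Subgroup (Subgroup.normalizer ((P : Subgroup G) : Set G))).map (Subgroup.normalizer ((P : Subgroup G) : Set G)).subtype))
        (Subsingleton.elim ((g • P).subtype hle3) (P.subtype Subgroup.le_normalizer))
      simp only [Sylow.coe_subtype, Subgroup.map_subgroupOf_eq_of_le hle3, Subgroup.map_subgroupOf_eq_of_le Subgroup.le_normalizer] at heq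
      rw [← heq, Sylow.coe_subgroup_smul]
      exact ⟨z, hz, rfl⟩
    apply hcent
    -- the fixed points of P on N
    letI : MulAction P N := MulAction.compHom N ((MulAut.conjNormal : G →* MulAut N).comp (P : Subgroup G).subtype)
    have hsmul : ∀ (p : P) (n : N), ((p • n : N) : G) = (p : G) * n * (p : G)⁻¹ := fun p n => MulAut.conjNormal_apply _ _
    let C : Subgroup N :=
      { carrier := MulAction.fixedPoints P N
        one_mem' := fun p => Subtype.ext (by rw [hsmul]; simp)
        mul_mem' := fun {a b} ha hb p => Subtype.ext (by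
          have e1 := congrArg Subtype.val (ha p)
          have e2 := congrArg Subtype.val (hb p)
          rw [hsmul] at e1 e2 ⊢
          push_cast
          calc (p : G) * (↑a * ↑b) * (↑p)⁻¹ = ((p : G) * a * (↑p)⁻¹) * ((p : G) * b * (↑p)⁻¹) := by group
            _ = _ := by rw [e1, e2])
        inv_mem' := fun {a} ha p => Subtype.ext (by
          have e1 := congrArg Subtype.val (ha p)
          rw [hsmul] at e1 ⊢
          push_cast
          conv_rhs => rw [← e1]
          group) }
    have hmod : Nat.card C % 5 = Nat.card N % 5 := by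
      have := (P.isPGroup'.card_modEq_card_fixedPoints N).symm
      exact this
    have hCd : Nat.card C ∣ Nat.card N := Subgroup.card_subgroup_dvd_card C
    have hN12 : Nat.card N ∣ 12 := by
      have hco : Nat.Coprime (Nat.card N) 5 := by
        rw [Nat.coprime_comm, (Fact.out : Nat.Prime 5).coprime_iff_not_dvd]
        exact h5N
      exact hco.dvd_of_dvd_mul_left (show Nat.card N ∣ 5 * 12 by simpa using hdvd)
    suffices hC : C = ⊤ by
      intro n hn
      have hall : ∀ p : P, (p : G) * n = n * p := fun p => by
        have hm : (⟨n, hn⟩ : N) ∈ C := hC ▸ Subgroup.mem_top _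
        have := congrArg Subtype.val (hm p)
        rw [hsmul] at this
        exact mul_inv_eq_iff_eq_mul.1 this
      exact Subgroup.centralizer_le_normalizer _ (Subgroup.mem_centralizer_iff.2 fun p hp => hall ⟨p, hp⟩)
    apply Subgroup.eq_top_of_card_eq
    by_contra hCN
    have hCle : Nat.card C ≤ Nat.card N := Nat.le_of_dvd Nat.card_pos hCd
    have hCpos : 0 < Nat.card C := Nat.card_pos
    have hN12' : Nat.card N ≤ 12 := Nat.le_of_dvd (by norm_num) hN12
    -- P fixes each Sylow 3-subgroup, hence a subgroup of order 3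
    have h3 : 3 ∣ Nat.card N → 3 ∣ Nat.card C := by
      intro h3N
      haveI : Fact (Nat.Prime 3) := ⟨Nat.prime_three⟩
      obtain ⟨y, hy⟩ := exists_prime_orderOf_dvd_card' (G := N) 3 h3N
      have h9 : ¬ 9 ∣ Nat.card N := fun h9 => by have := h9.trans hN12; norm_num at this
      have hR : ∀ R : Sylow 3 N, Nat.card R = 3 := fun R => by
        exact sylow_card_eq_prime R h3N h9
      have hs : Nat.card (Sylow 3 N) ∣ 4 := by
        obtain ⟨R⟩ : Nonempty (Sylow 3 N) := inferInstance
        have h1 := (R.card_eq_index_normalizer ▸ Subgroup.index_dvd_card _ : Nat.card (Sylow 3 N) ∣ Nat.card N).trans hN12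
        have hco : Nat.Coprime (Nat.card (Sylow 3 N)) 3 := by
          rw [Nat.coprime_comm, Nat.prime_three.coprime_iff_not_dvd]
          exact not_dvd_card_sylow 3 N
        exact hco.dvd_of_dvd_mul_left (show Nat.card (Sylow 3 N) ∣ 3 * 4 by simpa using h1)
      letI : MulAction P (Sylow 3 N) := MulAction.compHom (Sylow 3 N) ((MulAut.conjNormal : G →* MulAut N).comp (P : Subgroup G).subtype)
      obtain ⟨R, hRfix⟩ := P.isPGroup'.nonempty_fixed_point_of_prime_not_dvd_card (Sylow 3 N) (fun h => by
        have := h.trans hs; norm_num at this)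
      haveI : IsCyclic R := isCyclic_of_prime_card (hR R)
      refine (hR R) ▸ Subgroup.card_dvd_of_le ?_
      intro r hr p
      have hmem : ∀ z ∈ (R : Subgroup N), (MulAut.conjNormal (p : G) : MulAut N) z ∈ (R : Subgroup N) := by
        intro z hz
        have he := congrArg (fun S : Sylow 3 N => (S : Subgroup N)) (hRfix p)
        rw [← he]
        exact ⟨z, hz, rfl⟩
      let φ : MulAut R := MulEquiv.ofBijective
        ({ toFun := fun z => ⟨(MulAut.conjNormal (p : G) : MulAut N) z, hmem z z.2⟩
           map_one' := Subtype.ext (map_one _)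
           map_mul' := fun a b => Subtype.ext (map_mul _ _ _) } : R →* R)
        (Finite.injective_iff_bijective.1 fun a b e => Subtype.ext ((MulAut.conjNormal (p : G) : MulAut N).injective (congrArg Subtype.val e)))
      have hpow : ∀ k : ℕ, ∀ z : R, (((φ ^ k) z : R) : N) = ((MulAut.conjNormal (p : G) : MulAut N) ^ k) (z : N) := by
        intro k
        induction k with
        | zero => intro z; rfl
        | succ k ih =>
          intro z
          rw [pow_succ, pow_succ, MulAut.mul_apply, MulAut.mul_apply, ih]
          rfl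
      have hp5 : (p : G) ^ 5 = 1 := by
        exact congrArg Subtype.val (orderOf_dvd_iff_pow_eq_one.1 ((orderOf_dvd_natCard p).trans (dvd_of_eq hPc)))
      have h1 : φ = 1 := by
        rw [← orderOf_eq_one_iff]
        refine Nat.eq_one_of_dvd_coprimes (show Nat.Coprime 5 2 by norm_num) (orderOf_dvd_of_pow_eq_one ?_) ?_
        · ext z
          rw [hpow, ← map_pow, hp5, map_one]
          rfl
        · have : Nat.card (MulAut R) = 2 := by rw [IsCyclic.card_mulAut, hR R]; decide
          rw [← this]
          exact orderOf_dvd_natCard φ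
      exact congrArg (fun ψ : MulAut R => ((ψ ⟨r, hr⟩ : R) : N)) h1
    obtain ⟨c, hc⟩ := hCd
    interval_cases hn : Nat.card N
    all_goals try norm_num at hN12
    all_goals try norm_num at hN1'
    all_goals (have hC12 : Nat.card C ≤ 12 := by omega)
    all_goals interval_cases hcc : Nat.card C
    all_goals omega

end Cfsg.Agent.Lib.Recognition
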