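import Mathlib.LinearAlgebra.Basis.VectorSpace
import Mathlib.LinearAlgebra.FiniteDimensional.Basic
import Mathlib.LinearAlgebra.Dimension.RankNullity
import Mathlib.Tactic
import Mathlib.Data.ZMod.Basic

/-!
Elementary facts about linear and affine maps.
-/

set_option autoImplicit false
set_option linter.style.haveILetI false

namespace Cfsg.Agent.Lib.Recognition

/-- Two linearly independent families of the same size differ by a linear automorphism. -/
theorem exists_linearEquiv_apply_eq {K V ι : Type*} [Field K] [AddCommGroup V] [Module K V]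
    [FiniteDimensional K V] [Fintype ι] (u w : ι → V) (hu : LinearIndependent K u)
    (hw : LinearIndependent K w) : ∃ e : V ≃ₗ[K] V, ∀ i, e (u i) = w i := by
  obtain ⟨Cu, hCu⟩ := Submodule.exists_isCompl (Submodule.span K (Set.range u))
  obtain ⟨Cw, hCw⟩ := Submodule.exists_isCompl (Submodule.span K (Set.range w))
  let bu := Module.Basis.span hu
  let bw := Module.Basis.span hw
  have hdim : Module.finrank K Cu = Module.finrank K Cw := by
    have h1 := Submodule.finrank_add_eq_of_isCompl hCu
    have h2 := Submodule.finrank_add_eq_of_isCompl hCw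
    rw [finrank_span_eq_card hu] at h1
    rw [finrank_span_eq_card hw] at h2
    omega
  let e : V ≃ₗ[K] V := ((Submodule.prodEquivOfIsCompl _ _ hCu).symm.trans
    ((bu.equiv bw (Equiv.refl ι)).prodCongr (LinearEquiv.ofFinrankEq _ _ hdim))).trans
    (Submodule.prodEquivOfIsCompl _ _ hCw)
  refine ⟨e, fun i => ?_⟩
  have h1 : (Submodule.prodEquivOfIsCompl _ _ hCu).symm (u i) = (bu i, 0) := by
    rw [LinearEquiv.symm_apply_eq, Submodule.coe_prodEquivOfIsCompl', Module.Basis.span_apply]
    simp
  show Submodule.prodEquivOfIsCompl _ _ hCw (((bu.equiv bw (Equiv.refl ι)).prodCongr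
    (LinearEquiv.ofFinrankEq _ _ hdim)) ((Submodule.prodEquivOfIsCompl _ _ hCu).symm (u i))) = w i
  rw [h1, LinearEquiv.prodCongr_apply, Module.Basis.equiv_apply, map_zero,
    Submodule.coe_prodEquivOfIsCompl', Module.Basis.span_apply]
  simp

theorem zmod2_cases : ∀ c : ZMod 2, c = 0 ∨ c = 1 := by decide

theorem plane2_cases : ∀ y : Fin 2 → ZMod 2,
    y = 0 ∨ y = Pi.single 0 1 ∨ y = Pi.single 1 1 ∨ y = Pi.single 0 1 + Pi.single 1 1 := by decide

theorem plane2_ne : ((Pi.single 0 1 + Pi.single 1 1 : Fin 2 → ZMod 2) ≠ 0) ∧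
    ((Pi.single 0 1 + Pi.single 1 1 : Fin 2 → ZMod 2) ≠ Pi.single 0 1) ∧
    ((Pi.single 0 1 + Pi.single 1 1 : Fin 2 → ZMod 2) ≠ Pi.single 1 1) := by decide

end Cfsg.Agent.Lib.Recognition
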