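import Mathlib

/-!
Powers of the natural module extended by `SL(2, q)` in characteristic 2.
-/

set_option autoImplicit false
set_option linter.style.haveILetI false

namespace Cfsg.Agent.Lib.Recognition

open Matrix

section CayleyHamilton

variable {F : Type*} [Field F]

/-- Cayley–Hamilton for 2 × 2 matrices of determinant 1. -/
theorem sl2_mul_self (z : SpecialLinearGroup (Fin 2) F) :
    (z : Matrix (Fin 2) (Fin 2) F) * z = ((z : Matrix (Fin 2) (Fin 2) F).trace) • (z : Matrix (Fin 2) (Fin 2) F) - 1 := by
  have h := z.2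
  rw [Matrix.det_fin_two] at h
  ext i j
  fin_cases i <;> fin_cases j <;> simp [Matrix.mul_apply, Fin.sum_univ_two, Matrix.trace_fin_two] <;>
    first | linear_combination h | linear_combination -h | ring

/-- In characteristic 2, an element with a nonzero fixed vector squares to 1. -/
theorem sl2_mul_self_eq_one_of_fix [CharP F 2] (z : SpecialLinearGroup (Fin 2) F) (v : Fin 2 → F) (hv : v ≠ 0)
    (h : (z : Matrix (Fin 2) (Fin 2) F) *ᵥ v = v) : z * z = 1 := by
  have hd : ((z : Matrix (Fin 2) (Fin 2) F) - 1).det = 0 := by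
    by_contra hne
    apply hv
    apply Matrix.eq_zero_of_mulVec_eq_zero hne
    rw [Matrix.sub_mulVec, Matrix.one_mulVec, h, sub_self]
  have hz := z.2
  rw [Matrix.det_fin_two] at hz hd
  simp at hd
  have ht : (z : Matrix (Fin 2) (Fin 2) F).trace = 0 := by
    rw [Matrix.trace_fin_two]
    have h2 : (2 : F) = 0 := CharTwo.two_eq_zero
    linear_combination hz - hd + h2
  apply Matrix.SpecialLinearGroup.ext
  intro i j
  rw [Matrix.SpecialLinearGroup.coe_mul, sl2_mul_self, ht, zero_smul, zero_sub, CharTwo.neg_eq,
    Matrix.SpecialLinearGroup.coe_one]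

/-- An element of order `q` odd fixes only 0. -/
theorem sl2_eq_zero_of_fix [CharP F 2] (z : SpecialLinearGroup (Fin 2) F) {q : ℕ} (hq : Odd q) (hq1 : q ≠ 1)
    (hz : orderOf z = q) (v : Fin 2 → F) (h : (z : Matrix (Fin 2) (Fin 2) F) *ᵥ v = v) : v = 0 := by
  by_contra hv
  have h2 : z ^ 2 = 1 := by rw [sq]; exact sl2_mul_self_eq_one_of_fix z v hv h
  have hd : q ∣ 2 := hz ▸ orderOf_dvd_of_pow_eq_one h2
  rcases (Nat.dvd_prime Nat.prime_two).1 hd with rfl | rfl
  · exact hq1 rfl
  · exact absurd hq (by decide)

end CayleyHamilton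

section Extension

variable (F : Type*) [Field F] (k : ℕ)

/-- The action of `SL(2,F)` on the `k`-th power of its natural module. -/
def natModuleAut : SpecialLinearGroup (Fin 2) F →* MulAut (Multiplicative (Fin k → Fin 2 → F)) where
  toFun s :=
    { toFun := fun v => Multiplicative.ofAdd fun i => (s : Matrix (Fin 2) (Fin 2) F) *ᵥ v.toAdd i
      invFun := fun v => Multiplicative.ofAdd fun i => ((s⁻¹ : SpecialLinearGroup (Fin 2) F) : Matrix (Fin 2) (Fin 2) F) *ᵥ v.toAdd i
      left_inv := fun v => by
        apply Multiplicative.toAdd.injective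
        funext i
        show ((s⁻¹ : SpecialLinearGroup (Fin 2) F) : Matrix (Fin 2) (Fin 2) F) *ᵥ ((s : Matrix (Fin 2) (Fin 2) F) *ᵥ v.toAdd i) = v.toAdd i
        rw [Matrix.mulVec_mulVec, ← Matrix.SpecialLinearGroup.coe_mul, inv_mul_cancel, Matrix.SpecialLinearGroup.coe_one, Matrix.one_mulVec]
      right_inv := fun v => by
        apply Multiplicative.toAdd.injective
        funext i
        show (s : Matrix (Fin 2) (Fin 2) F) *ᵥ (((s⁻¹ : SpecialLinearGroup (Fin 2) F) : Matrix (Fin 2) (Fin 2) F) *ᵥ v.toAdd i) = v.toAdd i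
        rw [Matrix.mulVec_mulVec, ← Matrix.SpecialLinearGroup.coe_mul, mul_inv_cancel, Matrix.SpecialLinearGroup.coe_one, Matrix.one_mulVec]
      map_mul' := fun v w => by
        apply Multiplicative.toAdd.injective
        funext i
        show (s : Matrix (Fin 2) (Fin 2) F) *ᵥ (v.toAdd i + w.toAdd i) = _
        rw [Matrix.mulVec_add]
        rfl }
  map_one' := by
    apply MulEquiv.ext
    intro v
    apply Multiplicative.toAdd.injective
    funext i
    exact Matrix.one_mulVec (v.toAdd i)
  map_mul' s t := by
    apply MulEquiv.ext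
    intro v
    apply Multiplicative.toAdd.injective
    funext i
    exact (Matrix.mulVec_mulVec (v.toAdd i) (s : Matrix (Fin 2) (Fin 2) F) (t : Matrix (Fin 2) (Fin 2) F)).symm

/-- `F^{2k} ⋊ SL(2, F)`. -/
abbrev NatExt := SemidirectProduct (Multiplicative (Fin k → Fin 2 → F)) (SpecialLinearGroup (Fin 2) F) (natModuleAut F k)

instance [Fintype F] : Finite (NatExt F k) :=
  Finite.of_equiv _ SemidirectProduct.equivProd.symm

theorem natExt_card [Fintype F] :
    Nat.card (NatExt F k) = (Fintype.card F) ^ (2 * k) * Nat.card (SpecialLinearGroup (Fin 2) F) := by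
  rw [SemidirectProduct.card, Nat.card_congr Multiplicative.toAdd, Nat.card_fun, Nat.card_fun, Nat.card_eq_fintype_card,
    Nat.card_fin, Nat.card_fin, pow_mul]

theorem lt_natExt_card [Fintype F] : k < Nat.card (NatExt F k) := by
  rw [natExt_card]
  refine lt_of_lt_of_le (Nat.lt_two_pow_self (n := k)) ?_
  refine le_trans ?_ (Nat.le_mul_of_pos_right _ Nat.card_pos)
  exact (Nat.pow_le_pow_left Fintype.one_lt_card k).trans (Nat.pow_le_pow_right Fintype.card_pos (by omega))

/-- The prime divisors are those of `SL(2,F)`, with 2. -/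
theorem natExt_prime_dvd [Fintype F] [CharP F 2] (p : ℕ) (hp : p.Prime) :
    p ∣ Nat.card (NatExt F k) ↔ p ∣ Nat.card (SpecialLinearGroup (Fin 2) F) := by
  constructor
  · intro h
    rw [natExt_card] at h
    rcases hp.dvd_mul.1 h with h1 | h1
    · obtain ⟨n, -, hn⟩ := FiniteField.card F 2
      rw [hn, ← pow_mul] at h1
      rw [(Nat.prime_dvd_prime_iff_eq hp Nat.prime_two).1 (hp.dvd_of_dvd_pow h1)]
      let u : SpecialLinearGroup (Fin 2) F := ⟨!![1, 1; 0, 1], by simp [Matrix.det_fin_two]⟩
      have hu : orderOf u = 2 := by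
        refine orderOf_eq_prime ?_ fun h => ?_
        · apply Matrix.SpecialLinearGroup.ext
          intro i j
          rw [sq, Matrix.SpecialLinearGroup.coe_mul]
          fin_cases i <;> fin_cases j <;> simp [u, Matrix.mul_apply, Fin.sum_univ_two, CharTwo.add_self_eq_zero]
        · have := congrArg (fun z : SpecialLinearGroup (Fin 2) F => (z : Matrix (Fin 2) (Fin 2) F) 0 1) h
          simp [u] at this
      exact (dvd_of_eq hu.symm).trans (orderOf_dvd_natCard u)
    · exact h1
  · intro h
    rw [natExt_card]
    exact h.mul_left _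

/-- The prime graph edges are those of `SL(2,F)`. -/
theorem natExt_orderOf_iff [Fintype F] [CharP F 2] (p q : ℕ) (hp : p.Prime) (hq : q.Prime) (hpq : p ≠ q) :
    (∃ g : NatExt F k, orderOf g = p * q) ↔ ∃ s : SpecialLinearGroup (Fin 2) F, orderOf s = p * q := by
  constructor
  · rintro ⟨g, hg⟩
    refine ⟨g.right, ?_⟩
    set d := orderOf g.right with hd
    have hd1 : d ∣ p * q := hg ▸ orderOf_map_dvd SemidirectProduct.rightHom g
    have hker : (g ^ d).right = 1 := by
      have : SemidirectProduct.rightHom (g ^ d) = 1 := by rw [map_pow]; exact pow_orderOf_eq_one g.right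
      exact this
    have h2d : p * q ∣ d * 2 := by
      rw [← hg]
      apply orderOf_dvd_of_pow_eq_one
      rw [pow_mul, sq]
      ext1
      · rw [SemidirectProduct.mul_left, hker, map_one, MulAut.one_apply, SemidirectProduct.one_left]
        apply Multiplicative.toAdd.injective
        funext i j
        show _ + _ = (0 : F)
        exact CharTwo.add_self_eq_zero _
      · rw [SemidirectProduct.mul_right, hker, mul_one, SemidirectProduct.one_right]
    have main : ∀ a b : ℕ, a.Prime → b.Prime → a ≠ b → orderOf g = a * b → b ≠ 2 → d ∣ a * b → a * b ∣ d * 2 → d = a * b := by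
      intro a b ha hb hab hgab hb2 hdab habd
      have hbd : b ∣ d := (hb.dvd_mul.1 ((dvd_mul_left b a).trans habd)).resolve_right fun h =>
        hb2 ((Nat.prime_dvd_prime_iff_eq hb Nat.prime_two).1 h)
      rcases ha.eq_two_or_odd' with rfl | hao
      · obtain ⟨e, he⟩ := hbd
        have he2 : e ∣ 2 := by
          rw [he, mul_comm 2 b] at hdab
          exact Nat.dvd_of_mul_dvd_mul_left hb.pos hdab
        rcases (Nat.dvd_prime Nat.prime_two).1 he2 with rfl | rfl
        · exfalso
          rw [mul_one] at he
          have hfix : natModuleAut F k g.right (g ^ d).left = (g ^ d).left := by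
            have hc : (g * g ^ d).left = (g ^ d * g).left := by rw [← pow_succ', ← pow_succ]
            rw [SemidirectProduct.mul_left, SemidirectProduct.mul_left, hker, map_one, MulAut.one_apply, mul_comm (g ^ d).left] at hc
            exact mul_left_cancel hc
          have h0 : (g ^ d).left = 1 := by
            apply Multiplicative.toAdd.injective
            funext i
            exact sl2_eq_zero_of_fix g.right (hb.odd_of_ne_two hb2) hb.one_lt.ne' (hd.symm.trans he)
              _ (congrFun (congrArg Multiplicative.toAdd hfix) i)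
          have h1 : g ^ d = 1 := SemidirectProduct.ext h0 hker
          have h3 := orderOf_dvd_of_pow_eq_one h1
          rw [hgab, he] at h3
          have := Nat.le_of_dvd hb.pos h3
          have := hb.pos
          omega
        · rw [he, mul_comm]
      · have had : a ∣ d := (ha.dvd_mul.1 ((dvd_mul_right a b).trans habd)).resolve_right fun h => by
          rw [(Nat.prime_dvd_prime_iff_eq ha Nat.prime_two).1 h] at hao
          exact absurd hao (by decide)
        exact Nat.dvd_antisymm hdab (((Nat.coprime_primes ha hb).2 hab).mul_dvd_of_dvd_of_dvd had hbd)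
    by_cases hq2 : q = 2
    · rw [mul_comm p q] at hd1 h2d hg ⊢
      exact main q p hq hp hpq.symm hg (fun h => hpq (h.trans hq2.symm)) hd1 h2d
    · exact main p q hp hq hpq hg hq2 hd1 h2d
  · rintro ⟨s, hs⟩
    exact ⟨SemidirectProduct.inr s, by rw [orderOf_injective _ SemidirectProduct.inr_injective, hs]⟩

end Extension

/-- Every finite group is isomorphic to one in `Type`. -/
theorem exists_type_zero_model (H : Type*) [Group H] [Finite H] :
    ∃ (K : Type) (_ : Group K) (_ : Finite K), Nonempty (H ≃* K) := by
  haveI : Small.{0} H := inferInstance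
  exact ⟨Shrink.{0} H, inferInstance, Finite.of_equiv H (equivShrink H), ⟨Shrink.mulEquiv.symm⟩⟩

end Cfsg.Agent.Lib.Recognition
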