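import Mathlib
import Cfsg.Agent.Lib.Recognition.NaturalModule

/-!
`F₄² ⋊ SL(2,4)` has the spectrum of `A₆`.
-/

set_option autoImplicit false
set_option linter.style.haveILetI false

namespace Cfsg.Agent.Lib.Recognition

open Matrix

theorem alt6_exponents : ∀ σ : Equiv.Perm (Fin 6), Equiv.Perm.sign σ = 1 → σ ^ 4 = 1 ∨ σ ^ 3 = 1 ∨ σ ^ 5 = 1 := by
  decide +kernel

theorem range_orderOf_eq_12345 {G : Type*} [Monoid G] (h : ∀ g : G, g ^ 4 = 1 ∨ g ^ 3 = 1 ∨ g ^ 5 = 1)
    (a b c : G) (ha : orderOf a = 4) (hb : orderOf b = 3) (hc : orderOf c = 5) :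
    Set.range (orderOf : G → ℕ) = ({1, 2, 3, 4, 5} : Set ℕ) := by
  ext n
  simp only [Set.mem_range, Set.mem_insert_iff, Set.mem_singleton_iff]
  constructor
  · rintro ⟨g, rfl⟩
    rcases h g with h | h | h <;> have hd := orderOf_dvd_of_pow_eq_one h <;> have hle := Nat.le_of_dvd (by norm_num) hd <;>
      (generalize orderOf g = m at hd hle ⊢; interval_cases m <;> norm_num at hd <;> omega)
  · rintro (rfl | rfl | rfl | rfl | rfl)
    · exact ⟨1, orderOf_one⟩
    · exact ⟨a ^ 2, by rw [orderOf_pow' _ (by norm_num : (2 : ℕ) ≠ 0), ha]; rfl⟩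
    · exact ⟨b, hb⟩
    · exact ⟨a, ha⟩
    · exact ⟨c, hc⟩

theorem alt6_spectrum : Set.range (orderOf : alternatingGroup (Fin 6) → ℕ) = ({1, 2, 3, 4, 5} : Set ℕ) := by
  let a : alternatingGroup (Fin 6) := ⟨Equiv.swap 0 1 * Equiv.swap 1 2 * Equiv.swap 2 3 * Equiv.swap 4 5,
    Equiv.Perm.mem_alternatingGroup.2 (by decide +kernel)⟩
  let b : alternatingGroup (Fin 6) := ⟨Equiv.swap 0 1 * Equiv.swap 1 2, Equiv.Perm.mem_alternatingGroup.2 (by decide +kernel)⟩
  let c : alternatingGroup (Fin 6) := ⟨Equiv.swap 0 1 * Equiv.swap 1 2 * Equiv.swap 2 3 * Equiv.swap 3 4,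
    Equiv.Perm.mem_alternatingGroup.2 (by decide +kernel)⟩
  haveI : Fact (Nat.Prime 2) := ⟨by norm_num⟩
  haveI : Fact (Nat.Prime 3) := ⟨by norm_num⟩
  haveI : Fact (Nat.Prime 5) := ⟨by norm_num⟩
  refine range_orderOf_eq_12345 (fun g => ?_) a b c ?_ ?_ ?_
  · rcases alt6_exponents g.1 (Equiv.Perm.mem_alternatingGroup.1 g.2) with h | h | h
    · exact Or.inl (Subtype.ext h)
    · exact Or.inr (Or.inl (Subtype.ext h))
    · exact Or.inr (Or.inr (Subtype.ext h))
  · exact orderOf_eq_prime_pow (p := 2) (n := 1) (by decide +kernel) (by decide +kernel)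
  · exact orderOf_eq_prime (by decide +kernel) (by decide +kernel)
  · exact orderOf_eq_prime (by decide +kernel) (by decide +kernel)

variable {F : Type*} [Field F] [Fintype F]

/-- Last row `(0, 0, 1)`. -/
def IsAff (A : Matrix (Fin 3) (Fin 3) F) : Prop := A 2 0 = 0 ∧ A 2 1 = 0 ∧ A 2 2 = 1

omit [Fintype F] in
theorem isAff_mul {A B : Matrix (Fin 3) (Fin 3) F} (hA : IsAff A) (hB : IsAff B) : IsAff (A * B) := by
  obtain ⟨a, b, c⟩ := hA
  obtain ⟨a', b', c'⟩ := hB
  refine ⟨?_, ?_, ?_⟩ <;> simp [Matrix.mul_apply, Fin.sum_univ_three, a, b, c, a', b', c']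

omit [Fintype F] in
theorem isAff_one : IsAff (1 : Matrix (Fin 3) (Fin 3) F) := by
  refine ⟨?_, ?_, ?_⟩ <;> simp

omit [Fintype F] in
theorem isAff_pow {A : Matrix (Fin 3) (Fin 3) F} (hA : IsAff A) : ∀ n : ℕ, IsAff (A ^ n) := by
  intro n
  induction n with
  | zero => rw [pow_zero]; exact isAff_one
  | succ n ih => rw [pow_succ]; exact isAff_mul ih hA

/-- The affine group as a subgroup of `SL(3, F)`. -/
def affineThree (F : Type*) [Field F] [Fintype F] : Subgroup (SpecialLinearGroup (Fin 3) F) where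
  carrier := {M | (M : Matrix (Fin 3) (Fin 3) F) 2 0 = 0 ∧ (M : Matrix (Fin 3) (Fin 3) F) 2 1 = 0 ∧ (M : Matrix (Fin 3) (Fin 3) F) 2 2 = 1}
  one_mem' := isAff_one
  mul_mem' := fun {M N} hM hN => isAff_mul hM hN
  inv_mem' := fun {M} hM => by
    have h1 : M⁻¹ = M ^ (orderOf M - 1) :=
      inv_eq_of_mul_eq_one_right (by rw [← pow_succ', Nat.sub_add_cancel (orderOf_pos M), pow_orderOf_eq_one])
    show IsAff ((M⁻¹ : SpecialLinearGroup (Fin 3) F) : Matrix (Fin 3) (Fin 3) F)
    rw [h1, Matrix.SpecialLinearGroup.coe_pow]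
    exact isAff_pow hM _

/-- The underlying matrix. -/
def amat (M : affineThree F) : Matrix (Fin 3) (Fin 3) F := (M.1 : Matrix (Fin 3) (Fin 3) F)

theorem amat_mul (M N : affineThree F) : amat (M * N) = amat M * amat N := rfl

theorem amat_mk (A : Matrix (Fin 3) (Fin 3) F) (h) (h') : amat (⟨⟨A, h⟩, h'⟩ : affineThree F) = A := rfl

theorem amat_one : amat (1 : affineThree F) = 1 := rfl

theorem amat_row (M : affineThree F) : amat M 2 0 = 0 ∧ amat M 2 1 = 0 ∧ amat M 2 2 = 1 := M.2

/-- The linear part as a matrix. -/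
def lmat (M : affineThree F) : Matrix (Fin 2) (Fin 2) F := !![amat M 0 0, amat M 0 1; amat M 1 0, amat M 1 1]

theorem lmat_mul (M N : affineThree F) : lmat (M * N) = lmat M * lmat N := by
  obtain ⟨a', b', -⟩ := amat_row N
  ext i j
  fin_cases i <;> fin_cases j <;> simp [lmat, amat_mul, Matrix.mul_apply, Fin.sum_univ_three, Fin.sum_univ_two, a', b']

/-- The linear part. -/
def linPart (F : Type*) [Field F] [Fintype F] : affineThree F →* SpecialLinearGroup (Fin 2) F :=
  MonoidHom.mk' (fun M => ⟨lmat M, by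
      have h := M.1.2
      change (amat M).det = 1 at h
      obtain ⟨a, b, c⟩ := amat_row M
      rw [Matrix.det_fin_three, a, b, c] at h
      rw [Matrix.det_fin_two]
      simp [lmat]
      linear_combination h⟩) fun M N => Subtype.ext (lmat_mul M N)

theorem linPart_coe (M : affineThree F) : (linPart F M : Matrix (Fin 2) (Fin 2) F) = lmat M := rfl

/-- The translation part. -/
def transPart (M : affineThree F) : Fin 2 → F := ![amat M 0 2, amat M 1 2]

theorem transPart_mul (M N : affineThree F) :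
    transPart (M * N) = (linPart F M : Matrix (Fin 2) (Fin 2) F) *ᵥ transPart N + transPart M := by
  obtain ⟨-, -, c'⟩ := amat_row N
  rw [linPart_coe]
  funext i
  fin_cases i <;> simp [transPart, lmat, amat_mul, Matrix.mul_apply, Fin.sum_univ_three, Matrix.mulVec, dotProduct, Fin.sum_univ_two, c'] <;> ring

theorem eq_one_of_parts (M : affineThree F) (h1 : linPart F M = 1) (h2 : transPart M = 0) : M = 1 := by
  obtain ⟨a, b, c⟩ := amat_row M
  have hl : lmat M = 1 := by rw [← linPart_coe, h1, Matrix.SpecialLinearGroup.coe_one]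
  have e00 := congrFun (congrFun hl 0) 0
  have e01 := congrFun (congrFun hl 0) 1
  have e10 := congrFun (congrFun hl 1) 0
  have e11 := congrFun (congrFun hl 1) 1
  have f0 := congrFun h2 0
  have f1 := congrFun h2 1
  simp [lmat, transPart] at e00 e01 e10 e11 f0 f1
  refine Subtype.ext (Subtype.ext ?_)
  show amat M = 1
  ext i j
  fin_cases i <;> fin_cases j <;> simp [a, b, c, e00, e01, e10, e11, f0, f1]

theorem affine_translation_sq [CharP F 2] (M : affineThree F) (h : linPart F M = 1) : M ^ 2 = 1 := by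
  refine eq_one_of_parts _ (by rw [map_pow, h, one_pow]) ?_
  rw [sq, transPart_mul, h, Matrix.SpecialLinearGroup.coe_one, Matrix.one_mulVec]
  funext i
  exact CharTwo.add_self_eq_zero _

theorem affine_exponents [CharP F 2] (hF : Fintype.card F = 4) (M : affineThree F) :
    M ^ 4 = 1 ∨ M ^ 3 = 1 ∨ M ^ 5 = 1 := by
  set z := linPart F M with hzdef
  set t : F := (z : Matrix (Fin 2) (Fin 2) F).trace with htdef
  have h2 := sl2_mul_self z
  rw [← htdef] at h2
  set A : Matrix (Fin 2) (Fin 2) F := (z : Matrix (Fin 2) (Fin 2) F) with hA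
  have hsub : A * A = t • A + 1 := by
    rw [h2]; ext i j; rw [Matrix.sub_apply, Matrix.add_apply, CharTwo.sub_eq_add]
  have h22 : (2 : F) = 0 := CharTwo.two_eq_zero
  by_cases ht : t = 0
  · left
    have hz2 : z * z = 1 := Matrix.SpecialLinearGroup.ext _ _ fun i j => by
      rw [Matrix.SpecialLinearGroup.coe_mul, ← hA, hsub, ht, zero_smul, zero_add, Matrix.SpecialLinearGroup.coe_one]
    rw [show 4 = 2 * 2 from rfl, pow_mul]
    exact affine_translation_sq _ (by rw [map_pow, ← hzdef, sq, hz2])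
  right
  have kill : ∀ n : ℕ, z ^ n = 1 → M ^ n = 1 := by
    intro n hn
    have hl : linPart F (M ^ n) = 1 := by rw [map_pow]; exact hn
    refine eq_one_of_parts _ hl ?_
    have hc : transPart (M * M ^ n) = transPart (M ^ n * M) := by rw [← pow_succ', ← pow_succ]
    rw [transPart_mul, transPart_mul, hl, Matrix.SpecialLinearGroup.coe_one, Matrix.one_mulVec, add_comm (transPart M),
      ← hzdef] at hc
    have hfix : A *ᵥ transPart (M ^ n) = transPart (M ^ n) := add_right_cancel hc
    by_contra hne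
    have hz : z * z = 1 := sl2_mul_self_eq_one_of_fix z _ hne hfix
    apply ht
    have e : t • A = 0 := by
      have e1 : A * A = 1 := by
        rw [hA, ← Matrix.SpecialLinearGroup.coe_mul, hz, Matrix.SpecialLinearGroup.coe_one]
      rw [hsub] at e1
      exact add_eq_right.1 e1
    rcases smul_eq_zero.1 e with h | h
    · exact h
    · have hd := z.2
      rw [← hA, h] at hd
      simp at hd
  have ht3 : t ^ 3 = 1 := by
    have h4 : t ^ 4 = t := hF ▸ FiniteField.pow_card t
    exact mul_right_cancel₀ ht (by rw [one_mul, ← pow_succ]; exact h4)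
  have hfac : (t + 1) * (t ^ 2 + t + 1) = 0 := by linear_combination ht3 + (t ^ 2 + t + 1) * h22
  rcases mul_eq_zero.1 hfac with h1 | h1
  · left
    have ht1 : t = 1 := by linear_combination h1 - h22
    refine kill 3 (Matrix.SpecialLinearGroup.ext _ _ fun i j => ?_)
    rw [Matrix.SpecialLinearGroup.coe_pow, ← hA, pow_succ, sq, hsub, ht1, one_smul, add_mul, hsub, ht1, one_smul, one_mul,
      Matrix.SpecialLinearGroup.coe_one]
    simp only [Matrix.add_apply]
    linear_combination (A i j) * h22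
  · right
    refine kill 5 (Matrix.SpecialLinearGroup.ext _ _ fun i j => ?_)
    have e4 : (A * A) * (A * A) = A + t • 1 := by
      rw [hsub]
      simp only [add_mul, mul_add, smul_mul_assoc, mul_smul_comm, one_mul, mul_one, hsub, smul_add, smul_smul]
      ext a b
      simp only [Matrix.add_apply, Matrix.smul_apply, smul_eq_mul]
      linear_combination (A a b) * ht3 + (t * A a b + A a b) * h22 + ((1 : Matrix (Fin 2) (Fin 2) F) a b) * h1 - (t * A a b + A a b + t * (1 : Matrix (Fin 2) (Fin 2) F) a b - A a b) * h22 + (t * A a b - A a b) * h22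
    rw [Matrix.SpecialLinearGroup.coe_pow, ← hA, show A ^ 5 = ((A * A) * (A * A)) * A by simp [pow_succ, mul_assoc],
      e4, add_mul, hsub, smul_mul_assoc, one_mul, Matrix.SpecialLinearGroup.coe_one]
    simp only [Matrix.add_apply, Matrix.smul_apply, smul_eq_mul]
    linear_combination (t * A i j) * h22

theorem affine_spectrum [CharP F 2] (hF : Fintype.card F = 4) :
    Set.range (orderOf : affineThree F → ℕ) = ({1, 2, 3, 4, 5} : Set ℕ) := by
  haveI : Fact (Nat.Prime 2) := ⟨by norm_num⟩
  haveI : Fact (Nat.Prime 3) := ⟨by norm_num⟩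
  haveI : Fact (Nat.Prime 5) := ⟨by norm_num⟩
  obtain ⟨w, hw0, hw1⟩ : ∃ w : F, w ≠ 0 ∧ w ≠ 1 := by
    classical
    by_contra hcon
    push_neg at hcon
    have : Fintype.card F ≤ 2 := by
      refine (Finset.card_le_card (s := Finset.univ) (t := ({0, 1} : Finset F)) fun a _ => ?_).trans Finset.card_le_two
      rw [Finset.mem_insert, Finset.mem_singleton]
      by_cases h : a = 0
      exacts [Or.inl h, Or.inr (hcon a h)]
    omega
  let a : affineThree F := ⟨⟨!![1, 1, 0; 0, 1, 1; 0, 0, 1], by simp [Matrix.det_fin_three]⟩,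
    show IsAff (!![1, 1, 0; 0, 1, 1; 0, 0, 1] : Matrix (Fin 3) (Fin 3) F) by refine ⟨?_, ?_, ?_⟩ <;> simp⟩
  let b : affineThree F := ⟨⟨!![0, 1, 0; 1, 1, 0; 0, 0, 1], by simp [Matrix.det_fin_three, CharTwo.neg_eq]⟩,
    show IsAff (!![0, 1, 0; 1, 1, 0; 0, 0, 1] : Matrix (Fin 3) (Fin 3) F) by refine ⟨?_, ?_, ?_⟩ <;> simp⟩
  let c : affineThree F := ⟨⟨!![0, 1, 0; 1, w, 0; 0, 0, 1], by simp [Matrix.det_fin_three, CharTwo.neg_eq]⟩,
    show IsAff (!![0, 1, 0; 1, w, 0; 0, 0, 1] : Matrix (Fin 3) (Fin 3) F) by refine ⟨?_, ?_, ?_⟩ <;> simp⟩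
  have hA : amat a = !![1, 1, 0; 0, 1, 1; 0, 0, 1] := rfl
  have hB : amat b = !![0, 1, 0; 1, 1, 0; 0, 0, 1] := rfl
  have hC : amat c = !![0, 1, 0; 1, w, 0; 0, 0, 1] := rfl
  have hne : ∀ (M : affineThree F), amat M 0 1 = 1 → M ≠ 1 := fun M h e => by
    rw [e, amat_one] at h
    simp at h
  refine range_orderOf_eq_12345 (affine_exponents hF) a b c ?_ ?_ ?_
  · have ha2 : ¬ a ^ 2 = 1 := fun h => by
      have := congrArg (fun M => amat M 0 2) h
      simp [sq, amat_mul, amat_one, hA, Matrix.mul_apply, Fin.sum_univ_three] at this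
    have ha4 : a ^ 4 = 1 := by
      rcases affine_exponents hF a with h | h | h
      · exact h
      · exfalso
        have := congrArg (fun M => amat M 0 1) h
        simp [pow_succ, amat_mul, amat_one, hA, Matrix.mul_apply, Fin.sum_univ_three, CharTwo.add_self_eq_zero] at this
      · exfalso
        have := congrArg (fun M => amat M 0 1) h
        simp [pow_succ, amat_mul, amat_one, hA, Matrix.mul_apply, Fin.sum_univ_three, CharTwo.add_self_eq_zero] at this
    exact orderOf_eq_prime_pow (p := 2) (n := 1) (by simpa using ha2) (by simpa using ha4)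
  · refine orderOf_eq_prime ?_ (hne b (by simp [hB]))
    refine Subtype.ext (Subtype.ext ?_)
    show amat (b ^ 3) = 1
    simp only [pow_succ, pow_zero, one_mul, amat_mul, hB]
    ext i j
    fin_cases i <;> fin_cases j <;> simp [Matrix.mul_apply, Fin.sum_univ_three, CharTwo.add_self_eq_zero, add_assoc]
  · refine orderOf_eq_prime ?_ (hne c (by simp [hC]))
    rcases affine_exponents hF c with h | h | h
    · exfalso
      have := congrArg (fun M => amat M 0 1) h
      simp [pow_succ, amat_mul, amat_one, hC, Matrix.mul_apply, Fin.sum_univ_three] at this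
      apply hw0
      have h' : w ^ 3 = 0 := by linear_combination this - w * (CharTwo.two_eq_zero : (2 : F) = 0)
      exact (pow_eq_zero_iff (by norm_num)).1 h'
    · exfalso
      have := congrArg (fun M => amat M 0 1) h
      simp [pow_succ, amat_mul, amat_one, hC, Matrix.mul_apply, Fin.sum_univ_three] at this
      apply hw1
      have h' : (w - 1) ^ 2 = 0 := by linear_combination this + (-w) * (CharTwo.two_eq_zero : (2 : F) = 0)
      exact sub_eq_zero.1 ((pow_eq_zero_iff two_ne_zero).1 h')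
    · exact h

end Cfsg.Agent.Lib.Recognition
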