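import Mathlib
import Cfsg.Prelude.Def_Solvable
import Cfsg.Agent.Lib.Frobenius.Kernel
import Cfsg.Agent.S0054

/-!
Burnside's theorem on the minimal normal subgroups of a doubly transitive group.
-/

set_option autoImplicit false
set_option linter.style.haveILetI false

namespace Cfsg.Agent.Lib.Recognition

open MulAction
open scoped Pointwise

variable {G Ω : Type*} [Group G] [MulAction G Ω]

/-- A subgroup whose centralizer is transitive has semiregular action. -/
theorem eq_one_of_commute_transitive [FaithfulSMul G Ω] (N : Subgroup G) [IsPretransitive N Ω] (c : G)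
    (hc : ∀ n ∈ N, n * c = c * n) (a : Ω) (ha : c • a = a) : c = 1 := by
  apply eq_of_smul_eq_smul (α := Ω)
  intro x
  obtain ⟨n, rfl⟩ := exists_smul_eq N a x
  rw [one_smul, Subgroup.smul_def, ← mul_smul, ← hc n n.2, mul_smul, ha]

variable [Finite G] [FaithfulSMul G Ω] [Finite Ω]

/-- A normal subgroup that is minimal and not regular in a doubly transitive group is primitive. -/
theorem isPreprimitive_of_two_transitive_minimal (h2 : IsMultiplyPretransitive G Ω 2) (N : Subgroup G) [N.Normal]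
    [IsPretransitive N Ω] (hmin : ∀ M : Subgroup G, M.Normal → M ≤ N → M = ⊥ ∨ M = N)
    (a : Ω) (ha : stabilizer N a ≠ ⊥) : IsPreprimitive N Ω := by
  classical
  rw [is_two_pretransitive_iff] at h2
  by_contra hnp
  -- a smallest nontrivial block
  let P : Set Ω → Prop := fun B => a ∈ B ∧ IsBlock N B ∧ 1 < B.ncard ∧ B ≠ Set.univ
  have hex : ∃ B, P B := by
    by_contra hno
    apply hnp
    apply IsPreprimitive.of_isTrivialBlock_base a
    intro B haB hB
    by_contra hB'
    rw [IsTrivialBlock, not_or] at hB'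
    refine hno ⟨B, haB, hB, ?_, hB'.2⟩
    rw [Set.one_lt_ncard (Set.toFinite B)]
    obtain ⟨x, hx, y, hy, hxy⟩ : ∃ x ∈ B, ∃ y ∈ B, x ≠ y := by
      have h := hB'.1
      simp only [Set.Subsingleton, not_forall] at h
      obtain ⟨x, hx, y, hy, hxy⟩ := h
      exact ⟨x, hx, y, hy, hxy⟩
    exact ⟨x, hx, y, hy, hxy⟩
  obtain ⟨B, hBP, hBmin⟩ := Set.exists_min_image {B | P B} Set.ncard (Set.toFinite _) hex
  obtain ⟨haB, hBb, hB1, hBu⟩ := hBP
  obtain ⟨b, hb, hba⟩ := Set.exists_ne_of_one_lt_ncard hB1 a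
  have hblock : ∀ g : G, IsBlock N (g • B) := by
    intro g
    rw [isBlock_iff_smul_eq_or_disjoint]
    intro n
    let m : N := ⟨g⁻¹ * (n : G) * g, by
      have h := Subgroup.Normal.conj_mem inferInstance (n : G) n.2 g⁻¹
      rwa [inv_inv] at h⟩
    have hm : n • g • B = g • (m • B) := by
      ext x
      simp [Subgroup.smul_def, m, smul_smul, mul_assoc, ← Set.image_smul]
    rcases isBlock_iff_smul_eq_or_disjoint.1 hBb m with h | h
    · left; rw [hm, h]
    · right
      rw [hm]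
      exact (Set.disjoint_image_iff (MulAction.injective g)).2 h
  have huniq : ∀ g g' : G, ∀ x y : Ω, x ≠ y → x ∈ g • B → y ∈ g • B → x ∈ g' • B → y ∈ g' • B → g • B = g' • B := by
    intro g g' x y hxy hx hy hx' hy'
    obtain ⟨n, hn⟩ := exists_smul_eq N x a
    have hC : IsBlock N (n • (g • B ∩ g' • B)) := ((hblock g).inter (hblock g')).translate n
    have hcard : ∀ z : G, (z • B).ncard = B.ncard := fun z => Set.ncard_smul_set z B
    have hC1 : 1 < (n • (g • B ∩ g' • B)).ncard := by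
      rw [Set.ncard_smul_set, Set.one_lt_ncard (Set.toFinite _)]
      exact ⟨x, ⟨hx, hx'⟩, y, ⟨hy, hy'⟩, hxy⟩
    have hle : (g • B ∩ g' • B).ncard ≤ B.ncard :=
      le_of_le_of_eq (Set.ncard_le_ncard Set.inter_subset_left (Set.toFinite _)) (hcard g)
    have h := hBmin (n • (g • B ∩ g' • B)) ⟨hn ▸ Set.smul_mem_smul_set ⟨hx, hx'⟩, hC, hC1, fun h => by
      have := congrArg Set.ncard h
      rw [Set.ncard_smul_set, Set.ncard_univ] at this
      have h3 : B.ncard < Nat.card Ω := by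
        rw [← Set.ncard_univ]
        exact Set.ncard_lt_ncard ((Set.ssubset_univ_iff).2 hBu) (Set.toFinite _)
      omega⟩
    rw [Set.ncard_smul_set] at h
    have e1 := Set.eq_of_subset_of_ncard_le Set.inter_subset_left (le_of_eq_of_le (hcard g) h) (Set.toFinite _)
    have e2 := Set.eq_of_subset_of_ncard_le Set.inter_subset_right (le_of_eq_of_le (hcard g') h) (Set.toFinite _)
    exact e1.symm.trans e2
  have hline : ∀ x y : Ω, x ≠ y → ∃ g : G, x ∈ g • B ∧ y ∈ g • B := by
    intro x y hxy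
    obtain ⟨g, hgx, hgy⟩ := h2 hba hxy
    exact ⟨g, hgx ▸ Set.smul_mem_smul_set hb, hgy ▸ Set.smul_mem_smul_set haB⟩
  have hfix : ∀ n : N, ∀ x y : Ω, x ≠ y → n • x = x → n • y = y → ∀ c, ∀ g : G, x ∈ g • B → y ∈ g • B →
      c ∉ g • B → n • c = c := by
    intro n x y hxy hx hy c g hxg hyg hc
    have hxc : x ≠ c := fun h => hc (h ▸ hxg)
    have hyc : y ≠ c := fun h => hc (h ▸ hyg)
    obtain ⟨g₁, hx1, hc1⟩ := hline x c hxc
    obtain ⟨g₂, hy2, hc2⟩ := hline y c hyc
    have e1 : n • g₁ • B = g₁ • B := (hblock g₁).smul_eq_of_mem hx1 (by rw [hx]; exact hx1)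
    have e2 : n • g₂ • B = g₂ • B := (hblock g₂).smul_eq_of_mem hy2 (by rw [hy]; exact hy2)
    by_contra hnc
    have h := huniq g₁ g₂ c (n • c) (Ne.symm hnc) hc1 (e1 ▸ Set.smul_mem_smul_set hc1) hc2
      (e2 ▸ Set.smul_mem_smul_set hc2)
    exact hc ((huniq g g₁ x y hxy hxg hyg hx1 (h ▸ hy2)).symm ▸ hc1)
  have htwo : ∀ n : N, ∀ x y : Ω, x ≠ y → n • x = x → n • y = y → n = 1 := by
    intro n x y hxy hx hy
    obtain ⟨g, hxg, hyg⟩ := hline x y hxy
    apply Subtype.ext
    apply eq_of_smul_eq_smul (α := Ω)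
    intro c
    show (n : G) • c = (1 : G) • c
    rw [one_smul]
    by_cases hc : c ∈ g • B
    · by_cases hcx : c = x
      · rw [hcx]; exact hx
      obtain ⟨d, hd⟩ : ∃ d, d ∉ g • B := by
        by_contra hall
        push Not at hall
        exact hBu (Set.eq_univ_of_forall fun z => Set.smul_mem_smul_set_iff.1 (hall (g • z)))
      have hd1 : n • d = d := hfix n x y hxy hx hy d g hxg hyg hd
      have hxd : x ≠ d := fun h => hd (h ▸ hxg)
      obtain ⟨g', hx', hd'⟩ := hline x d hxd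
      refine hfix n x d hxd hx hd1 c g' hx' hd' fun hc' => ?_
      exact hd ((huniq g g' c x hcx hc hxg hc' hx').symm ▸ hd')
    · exact hfix n x y hxy hx hy c g hxg hyg hc
  -- Frobenius kernel
  have hH : Cfsg.IsFrobeniusComplement (stabilizer N a) := by
    refine ⟨ha, fun htop => ?_, fun g hg => ?_⟩
    · obtain ⟨n, hn⟩ := exists_smul_eq N a b
      have hna : n • a = a := by
        have : n ∈ stabilizer N a := htop ▸ Subgroup.mem_top n
        exact this
      exact hba (hn.symm.trans hna)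
    · rw [Subgroup.eq_bot_iff_forall]
      intro x hx
      obtain ⟨hx1, hx2⟩ := Subgroup.mem_inf.1 hx
      have hconj : stabilizer N (g • a) = MulAut.conj g • stabilizer N a := stabilizer_smul_eq_stabilizer_map_conj g a
      rw [← hconj] at hx2
      exact htwo x a (g • a) (fun h => hg h.symm) hx1 hx2
  obtain ⟨K, -, hK, hKH, -, hK1, -, -⟩ := Cfsg.Agent.Lib.Frobenius.exists_frobeniusKernel hH
  have hKmem : ∀ x : N, x ∈ K ↔ x = 1 ∨ ∀ p : Ω, x • p ≠ p := by
    intro x
    rw [← SetLike.mem_coe, hK]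
    refine or_congr_right ⟨fun h p hp => ?_, fun h g hg => ?_⟩
    · obtain ⟨g, rfl⟩ := exists_smul_eq N a p
      apply h g
      have hgp : x ∈ stabilizer N (g • a) := hp
      rw [stabilizer_smul_eq_stabilizer_map_conj g a] at hgp
      exact hgp
    · have hgp : x ∈ stabilizer N (g • a) := by
        rw [stabilizer_smul_eq_stabilizer_map_conj g a]
        exact hg
      exact h (g • a) hgp
  have hKn : (K.map N.subtype).Normal := ⟨fun x hx g => by
    obtain ⟨k, hk, rfl⟩ := hx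
    refine ⟨⟨g * (k : G) * g⁻¹, Subgroup.Normal.conj_mem inferInstance (k : G) k.2 g⟩, ?_, rfl⟩
    rcases (hKmem k).1 hk with h | h
    · refine (hKmem _).2 (Or.inl (Subtype.ext ?_))
      rw [h]; simp
    · refine (hKmem _).2 (Or.inr fun p hp => h (g⁻¹ • p) ?_)
      have hp' : (g * (k : G) * g⁻¹) • p = p := hp
      rw [mul_smul, mul_smul, ← eq_inv_smul_iff] at hp'
      exact hp'⟩
  rcases hmin _ hKn (Subgroup.map_subtype_le K) with h | h
  · exact hK1 ((Subgroup.map_eq_bot_iff_of_injective K N.subtype_injective).1 h)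
  · apply ha
    have hKtop : K = ⊤ := Subgroup.map_injective N.subtype_injective (by
      rw [h, ← MonoidHom.range_eq_map, Subgroup.range_subtype])
    rwa [hKtop, top_inf_eq] at hKH

/-- A non-regular minimal normal subgroup of a doubly transitive group is simple. -/
theorem isSimpleGroup_of_two_transitive_minimal (h2 : IsMultiplyPretransitive G Ω 2) (N : Subgroup G) [N.Normal]
    [IsPreprimitive N Ω] (hmin : ∀ M : Subgroup G, M.Normal → M ≤ N → M = ⊥ ∨ M = N)
    (a : Ω) (ha : stabilizer N a ≠ ⊥) : IsSimpleGroup N := by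
  classical
  rw [is_two_pretransitive_iff] at h2
  have hN1 : Nontrivial N := by
    by_contra h
    rw [not_nontrivial_iff_subsingleton] at h
    exact ha (Subsingleton.elim _ _)
  -- a minimal nontrivial subgroup normalized by N
  let P : Subgroup G → Prop := fun S => S ≤ N ∧ S ≠ ⊥ ∧ ∀ n ∈ N, ∀ s ∈ S, n * s * n⁻¹ ∈ S
  have hex : ∃ S, P S := ⟨N, le_rfl, N.nontrivial_iff_ne_bot.1 hN1,
    fun n hn s hs => N.mul_mem (N.mul_mem hn hs) (N.inv_mem hn)⟩
  obtain ⟨S, hS⟩ := exists_minimal_of_wellFoundedLT P hex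
  obtain ⟨⟨hSN, hS1, hSn⟩, hSmin⟩ := hS
  by_cases hSN' : S = N
  · haveI := hN1
    refine ⟨fun H hH => ?_⟩
    by_cases h : H = ⊥
    · exact Or.inl h
    · right
      have hP : P (H.map N.subtype) := ⟨Subgroup.map_subtype_le H,
        fun h' => h ((Subgroup.map_eq_bot_iff_of_injective H N.subtype_injective).1 h'), by
        rintro n hn _ ⟨s, hs, rfl⟩
        exact ⟨⟨n, hn⟩ * s * ⟨n, hn⟩⁻¹, hH.conj_mem s hs _, rfl⟩⟩
      have := le_antisymm (hSN' ▸ Subgroup.map_subtype_le H) (hSmin hP (hSN' ▸ Subgroup.map_subtype_le H))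
      exact Subgroup.map_injective N.subtype_injective (by
        rw [this, hSN', ← MonoidHom.range_eq_map, Subgroup.range_subtype])
  exfalso
  -- the subgroups normalized by N are transitive
  have htr : ∀ R : Subgroup G, R ≤ N → R ≠ ⊥ → (∀ n ∈ N, ∀ s ∈ R, n * s * n⁻¹ ∈ R) → IsPretransitive R Ω := by
    intro R hRN hR1 hRn
    haveI : (R.subgroupOf N).Normal := ⟨fun s hs n => hRn n n.2 s hs⟩
    have h : IsPretransitive (R.subgroupOf N) Ω := by
      apply IsQuasiPreprimitive.isPretransitive_of_normal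
      intro h
      obtain ⟨r, hr, hr1⟩ := R.bot_or_exists_ne_one.resolve_left hR1
      apply hr1
      apply eq_of_smul_eq_smul (α := Ω)
      intro x
      rw [one_smul]
      have hx : x ∈ fixedPoints (R.subgroupOf N) Ω := h ▸ Set.mem_univ x
      exact hx ⟨⟨r, hRN hr⟩, hr⟩
    exact ⟨fun x y => by
      obtain ⟨r, hr⟩ := h.exists_smul_eq x y
      exact ⟨⟨((r : N) : G), r.2⟩, hr⟩⟩
  obtain ⟨g₀, s₀, hs₀, hg₀⟩ : ∃ g : G, ∃ s ∈ S, g * s * g⁻¹ ∉ S := by
    by_contra h
    push Not at h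
    exact (hmin S ⟨fun s hs g => h g s hs⟩ hSN).elim hS1 hSN'
  have hT : ∀ g : G, P (S.map (MulAut.conj g).toMonoidHom) := by
    intro g
    refine ⟨?_, fun h => hS1 ((Subgroup.map_eq_bot_iff_of_injective S (MulAut.conj g).injective).1 h), ?_⟩
    · rintro _ ⟨s, hs, rfl⟩
      exact Subgroup.Normal.conj_mem inferInstance s (hSN hs) g
    · rintro n hn _ ⟨s, hs, rfl⟩
      refine ⟨g⁻¹ * n * g * s * (g⁻¹ * n * g)⁻¹, hSn _ ?_ s hs, ?_⟩
      · have h := Subgroup.Normal.conj_mem inferInstance n hn g⁻¹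
        rwa [inv_inv] at h
      · simp [mul_assoc]
  have hcomm : ∀ g : G, S.map (MulAut.conj g).toMonoidHom ≠ S →
      ∀ s ∈ S, ∀ t ∈ S.map (MulAut.conj g).toMonoidHom, Commute s t := by
    intro g hne s hs t ht
    obtain ⟨hTN, -, hTn⟩ := hT g
    have hinf : S ⊓ S.map (MulAut.conj g).toMonoidHom = ⊥ := by
      by_contra h
      have hP : P (S ⊓ S.map (MulAut.conj g).toMonoidHom) :=
        ⟨inf_le_left.trans hSN, h, fun n hn x hx => ⟨hSn n hn x hx.1, hTn n hn x hx.2⟩⟩
      have h1 : S ≤ S.map (MulAut.conj g).toMonoidHom := (hSmin hP inf_le_left).trans inf_le_right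
      refine hne (Subgroup.eq_of_le_of_card_ge h1 ?_).symm
      rw [Nat.card_congr (S.equivMapOfInjective (MulAut.conj g).toMonoidHom (MulAut.conj g).injective).toEquiv]
    have hm : s * t * s⁻¹ * t⁻¹ ∈ S ⊓ S.map (MulAut.conj g).toMonoidHom := by
      refine ⟨?_, Subgroup.mul_mem _ (hTn s (hSN hs) t ht) (Subgroup.inv_mem _ ht)⟩
      rw [show s * t * s⁻¹ * t⁻¹ = s * (t * s⁻¹ * t⁻¹) by simp [mul_assoc]]
      exact S.mul_mem hs (hSn t (hTN ht) _ (S.inv_mem hs))
    rw [hinf, Subgroup.mem_bot, mul_inv_eq_one, mul_inv_eq_iff_eq_mul] at hm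
    exact hm
  haveI hSt : IsPretransitive S Ω := htr S hSN hS1 hSn
  have hT₀ : S.map (MulAut.conj g₀).toMonoidHom ≠ S := fun h => hg₀ (h ▸ ⟨s₀, hs₀, rfl⟩)
  set T := S.map (MulAut.conj g₀).toMonoidHom with hTdef
  haveI hTt : IsPretransitive T Ω := htr T (hT g₀).1 (hT g₀).2.1 (hT g₀).2.2
  have hSreg : ∀ s ∈ S, s • a = a → s = 1 := fun s hs h =>
    eq_one_of_commute_transitive T s (fun t ht => ((hcomm g₀ hT₀ s hs t ht).eq).symm) a h
  have horder : ∀ s ∈ S, ∀ s' ∈ S, s ≠ 1 → s' ≠ 1 → orderOf s = orderOf s' := by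
    intro s hs s' hs' h1 h1'
    obtain ⟨g, hga, hgs⟩ := h2 (fun h : a = s • a => h1 (hSreg s hs h.symm)) (fun h : a = s' • a => h1' (hSreg s' hs' h.symm))
    have hga' : g⁻¹ • a = a := inv_smul_eq_iff.2 hga.symm
    set t := g * s * g⁻¹ with ht
    have hta : t • a = s' • a := by rw [ht, mul_smul, mul_smul, hga', hgs]
    have hto : orderOf t = orderOf s := by
      rw [ht, show g * s * g⁻¹ = MulAut.conj g s from rfl, MulEquiv.orderOf_eq]
    by_cases hg : S.map (MulAut.conj g).toMonoidHom = S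
    · have htS : t ∈ S := hg ▸ ⟨s, hs, rfl⟩
      have : s'⁻¹ * t = 1 := hSreg _ (S.mul_mem (S.inv_mem hs') htS) (by rw [mul_smul, hta, inv_smul_smul])
      rw [← hto, ← inv_mul_eq_one.1 this]
    · haveI : IsPretransitive (S.map (MulAut.conj g).toMonoidHom) Ω := htr _ (hT g).1 (hT g).2.1 (hT g).2.2
      have htT : t ∈ S.map (MulAut.conj g).toMonoidHom := ⟨s, hs, rfl⟩
      have hc : Commute s' t := hcomm g hg s' hs' t htT
      have hx : (s'⁻¹ * t) • a = a := by rw [mul_smul, hta, inv_smul_smul]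
      have hpow : ∀ k : ℕ, t ^ k • a = s' ^ k • a := fun k => by
        have h := hc.inv_left.mul_pow k
        have hk : (s'⁻¹ * t) ^ k • a = a := (stabilizer G a).pow_mem hx k
        rw [h, mul_smul, inv_pow, inv_smul_eq_iff] at hk
        exact hk
      rw [← hto]
      apply Nat.dvd_antisymm
      · apply orderOf_dvd_of_pow_eq_one
        refine eq_one_of_commute_transitive S _ (fun u hu => ((hcomm g hg u hu t htT).pow_right _).eq) a ?_
        rw [hpow, pow_orderOf_eq_one, one_smul]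
      · apply orderOf_dvd_of_pow_eq_one
        exact hSreg _ (S.pow_mem hs' _) (by rw [← hpow, pow_orderOf_eq_one, one_smul])
  obtain ⟨s₁, hs₁, hs₁1⟩ := S.bot_or_exists_ne_one.resolve_left hS1
  obtain ⟨p, hp, hpdvd⟩ := Nat.exists_prime_and_dvd (mt orderOf_eq_one_iff.1 hs₁1)
  haveI := Fact.mk hp
  have hexp : ∀ s ∈ S, s ≠ 1 → orderOf s = p := by
    intro s hs h1
    have hu : orderOf (s₁ ^ (orderOf s₁ / p)) = p := orderOf_pow_orderOf_div (orderOf_pos s₁).ne' hpdvd
    have hu1 : s₁ ^ (orderOf s₁ / p) ≠ 1 := fun h => by rw [h, orderOf_one] at hu; exact hp.ne_one hu.symm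
    rw [horder s hs _ (S.pow_mem hs₁ _) h1 hu1, hu]
  have hpS : IsPGroup p S := fun s => by
    by_cases h : (s : G) = 1
    · exact ⟨0, Subtype.ext (by simpa using h)⟩
    · exact ⟨1, Subtype.ext (by rw [Subgroup.coe_pow, pow_one, ← hexp s s.2 h, pow_orderOf_eq_one]; rfl)⟩
  haveI : Nontrivial S := (Subgroup.nontrivial_iff_ne_bot S).2 hS1
  have hZ := hpS.center_nontrivial
  have hab : ∀ s ∈ S, ∀ s' ∈ S, Commute s s' := by
    have hP : P ((Subgroup.center S).map S.subtype) := ⟨(Subgroup.map_subtype_le _).trans hSN,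
      fun h => ((Subgroup.nontrivial_iff_ne_bot _).1 hZ) ((Subgroup.map_eq_bot_iff_of_injective _ S.subtype_injective).1 h), by
      rintro n hn _ ⟨z, hz, rfl⟩
      refine ⟨⟨_, hSn n hn z z.2⟩, ?_, rfl⟩
      rw [SetLike.mem_coe, Subgroup.mem_center_iff] at hz ⊢
      intro w
      have hw := congrArg Subtype.val (hz ⟨n⁻¹ * w * n, by
        have h := hSn n⁻¹ (N.inv_mem hn) w w.2
        rwa [inv_inv] at h⟩)
      apply Subtype.ext
      simp only [Subgroup.coe_mul] at hw ⊢
      calc (w : G) * (n * z * n⁻¹) = n * (n⁻¹ * w * n * z) * n⁻¹ := by simp [mul_assoc]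
        _ = n * (z * (n⁻¹ * w * n)) * n⁻¹ := by rw [hw]
        _ = _ := by simp [mul_assoc]⟩
    have hc := hSmin hP (Subgroup.map_subtype_le _)
    intro s hs s' hs'
    obtain ⟨z, hz, rfl⟩ := hc hs
    rw [SetLike.mem_coe, Subgroup.mem_center_iff] at hz
    exact (congrArg Subtype.val (hz ⟨s', hs'⟩)).symm
  apply hg₀
  obtain ⟨r, hr⟩ := exists_smul_eq S a ((g₀ * s₀ * g₀⁻¹) • a)
  have hmem : g₀ * s₀ * g₀⁻¹ ∈ T := ⟨s₀, hs₀, rfl⟩
  have hx : (r : G)⁻¹ * (g₀ * s₀ * g₀⁻¹) = 1 := by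
    refine eq_one_of_commute_transitive S _ (fun u hu => ?_) a ?_
    · exact ((hab u hu r r.2).inv_right.mul_right (hcomm g₀ hT₀ u hu _ hmem)).eq
    · rw [mul_smul, ← hr, Subgroup.smul_def, inv_smul_smul]
  rw [← inv_mul_eq_one.1 hx]
  exact r.2

/-- Burnside: a minimal normal subgroup of a doubly transitive group is regular elementary abelian or simple,
primitive, and of trivial centralizer. -/
theorem burnside_minimal_normal (h2 : IsMultiplyPretransitive G Ω 2) [Nontrivial Ω]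
    (N : Subgroup G) [N.Normal] (hN : N ≠ ⊥) (hmin : ∀ M : Subgroup G, M.Normal → M ≤ N → M = ⊥ ∨ M = N) :
    IsPretransitive N Ω ∧
      ((IsMulCommutative N ∧ (∃ p : ℕ, p.Prime ∧ ∀ n ∈ N, n ^ p = 1) ∧ ∀ a : Ω, stabilizer N a = ⊥) ∨
        (IsSimpleGroup N ∧ IsPreprimitive N Ω ∧ (∀ a : Ω, stabilizer N a ≠ ⊥) ∧
          Subgroup.centralizer (N : Set G) = ⊥)) := by
  classical
  haveI : IsPreprimitive G Ω := isPreprimitive_of_is_two_pretransitive h2
  have htr : ∀ M : Subgroup G, M.Normal → M ≠ ⊥ → IsPretransitive M Ω := by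
    intro M hM hM1
    apply IsQuasiPreprimitive.isPretransitive_of_normal
    intro h
    obtain ⟨r, hr, hr1⟩ := M.bot_or_exists_ne_one.resolve_left hM1
    apply hr1
    apply eq_of_smul_eq_smul (α := Ω)
    intro x
    rw [one_smul]
    have hx : x ∈ fixedPoints M Ω := h ▸ Set.mem_univ x
    exact hx ⟨r, hr⟩
  haveI hNt := htr N inferInstance hN
  refine ⟨hNt, ?_⟩
  by_cases hreg : ∀ a : Ω, stabilizer N a = ⊥
  · obtain ⟨h1, h3⟩ := Cfsg.Agent.S0054.result h2 N hNt hreg
    exact Or.inl ⟨h1, h3, hreg⟩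
  right
  push Not at hreg
  obtain ⟨a, ha⟩ := hreg
  haveI hprim := isPreprimitive_of_two_transitive_minimal h2 N hmin a ha
  have hall : ∀ b : Ω, stabilizer N b ≠ ⊥ := fun b h => by
    obtain ⟨n, rfl⟩ := exists_smul_eq N a b
    rw [stabilizer_smul_eq_stabilizer_map_conj] at h
    exact ha ((Subgroup.map_eq_bot_iff_of_injective _ (MulAut.conj n).injective).1 h)
  refine ⟨isSimpleGroup_of_two_transitive_minimal h2 N hmin a ha, hprim, hall, ?_⟩
  by_contra hC
  haveI hCn : (Subgroup.centralizer (N : Set G)).Normal := inferInstance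
  haveI hCt := htr _ hCn hC
  have hCreg : ∀ b : Ω, stabilizer (Subgroup.centralizer (N : Set G)) b = ⊥ := fun b => by
    rw [Subgroup.eq_bot_iff_forall]
    exact fun c hc => Subtype.ext (eq_one_of_commute_transitive N _ (fun n hn => c.2 n hn) b hc)
  apply ha
  rw [Subgroup.eq_bot_iff_forall]
  exact fun n hn => Subtype.ext (eq_one_of_commute_transitive (Subgroup.centralizer (N : Set G)) _
    (fun c hc => (hc n n.2).symm) a hn)

end Cfsg.Agent.Lib.Recognition
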