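import Cfsg.Agent.Lib.Compute.OutBound

/-!
# Bounding outer automorphism classes through two centralisers

If `a` has prime order and `Z = ⟨a⟩` is its own centraliser, `c` conjugates `a` to `a ^ r` and every
power of `a` is conjugate to `a`, then each automorphism can be moved to one fixing `a` and `c`; the
image of a further involution commuting with `c` is searched for in the centraliser of `c`, which is
enumerated by backtracking along a certificate.
-/

set_option autoImplicit false

namespace Cfsg.Agent.Lib.Recognition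

open Cfsg.Agent.Lib.Compute Equiv

/-- The image pair `p` is compatible with `b ↦ img` for a map commuting with `x`. -/
def consOk (x b img : ℕ) (p : ℕ × ℕ) : Bool :=
  (app x p.1 != b || app x p.2 == img) && (app x b != p.1 || app x img == p.2)

/-- Candidates for the elements commuting with `x`, by base images. -/
def commCands (x : ℕ) : List Lvl → List (ℕ × ℕ) → (ℕ → ℕ) → List (List ℕ)
  | [], _, _ => [[]]
  | L :: rest, seen, f => (List.range (L.trans.length + 1)).flatMap fun q =>
      if ((L.base, f (tfun L q L.base)) :: seen).all (consOk x L.base (f (tfun L q L.base))) then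
        (commCands x rest ((L.base, f (tfun L q L.base)) :: seen) (fun i => f (tfun L q i))).map
          (q :: ·)
      else []

variable {n : ℕ}

theorem exists_commCands {x : ℕ} {X : Perm (Fin n)} (hX : Repr X (app x)) :
    ∀ {c : List Lvl}, chk n c = true → ∀ {seen : List (ℕ × ℕ)} {f : ℕ → ℕ} {π σ : Perm (Fin n)},
      Repr π f → σ ∈ grp n c → (π * σ) * X = X * (π * σ) →
      (∀ p ∈ seen, ∃ b : Fin n, (b : ℕ) = p.1 ∧ ((π * σ) b : ℕ) = p.2 ∧
        ∀ τ ∈ grp n c, τ b = b) →
      ∃ js ∈ commCands x c seen f, σ = siftPerm n c js := by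
  intro c
  induction c with
  | nil =>
    intro _ seen f π σ _ hσ _ _
    refine ⟨[], List.mem_singleton_self _, ?_⟩
    simpa [grp, siftPerm] using hσ
  | cons L rest ih =>
    intro hc seen f π σ hπ hσ hcomm hseen
    have hc' := hc
    simp only [chk, Bool.and_eq_true] at hc'
    obtain ⟨hb, hg, ht, -, -, -⟩ := lvlOk_iff hc'.1
    obtain ⟨q, hq, τ, hτ, rfl⟩ := exists_decomp hc hσ
    set b₀ : Fin n := ⟨L.base, hb⟩ with hb₀
    have hfix : ∀ υ ∈ grp n rest, υ b₀ = b₀ := fun υ hυ => grp_rest_fixes hc'.1 hc'.2 b₀ rfl hυ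
    have hrt := (trans_spec (rest := rest) hg ht q).1
    have himg : ((π * (tperm n L q * τ)) b₀ : ℕ) = f (tfun L q L.base) := by
      rw [Perm.mul_apply, Perm.mul_apply, hfix τ hτ, hπ, hrt]
    have hseen' : ∀ p ∈ (L.base, f (tfun L q L.base)) :: seen, ∃ b : Fin n, (b : ℕ) = p.1 ∧
        ((π * (tperm n L q * τ)) b : ℕ) = p.2 ∧ ∀ υ ∈ grp n rest, υ b = b := by
      intro p hp
      rcases List.mem_cons.mp hp with rfl | hp
      · exact ⟨b₀, rfl, himg, hfix⟩
      · obtain ⟨b, h1, h2, h3⟩ := hseen p hp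
        exact ⟨b, h1, h2, fun υ hυ => h3 υ (grp_rest_le hc'.1 hυ)⟩
    obtain ⟨js, hjs, he⟩ := ih hc'.2 (seen := (L.base, f (tfun L q L.base)) :: seen)
      (π := π * tperm n L q) (σ := τ) (hπ.mul hrt) hτ (by simpa [mul_assoc] using hcomm)
      (by simpa [mul_assoc] using hseen')
    refine ⟨q :: js, ?_, by rw [he]; simp [siftPerm]⟩
    rw [commCands, List.mem_flatMap]
    refine ⟨q, List.mem_range.mpr (Nat.lt_succ_of_le hq), ?_⟩
    rw [if_pos, List.mem_map]
    · exact ⟨js, hjs, rfl⟩
    rw [List.all_eq_true]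
    intro p hp
    obtain ⟨b, h1, h2, -⟩ := hseen' p hp
    have key : ∀ y z : Fin n, app x y = z →
        app x ((π * (tperm n L q * τ)) y : Fin n) = ((π * (tperm n L q * τ)) z : Fin n) := by
      intro y z h
      have hz : X y = z := Fin.ext (by rw [hX, h])
      rw [← hX, ← hz, ← Perm.mul_apply X, ← hcomm, Perm.mul_apply]
    simp only [consOk, Bool.and_eq_true, Bool.or_eq_true, bne_iff_ne, beq_iff_eq]
    constructor
    · refine Classical.or_iff_not_imp_left.mpr fun h => ?_
      rw [not_not] at h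
      have := key b b₀ (by rw [h1, h])
      rwa [h2, himg] at this
    · refine Classical.or_iff_not_imp_left.mpr fun h => ?_
      rw [not_not] at h
      have := key b₀ b (by rw [h1]; exact h)
      rwa [h2, himg] at this

/-- `f` and `g` agree on the points. -/
def sameOn (n : ℕ) (f g : ℕ → ℕ) : Bool := (List.range n).all fun i => f i == g i

theorem Repr.eq_of_sameOn {σ τ : Perm (Fin n)} {f g : ℕ → ℕ} (hσ : Repr σ f) (hτ : Repr τ g)
    (h : sameOn n f g = true) : σ = τ :=
  hσ.eq hτ fun i hi => beq_iff_eq.mp (List.all_eq_true.mp h i (List.mem_range.mpr hi))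

theorem sameOn_of_eq {σ τ : Perm (Fin n)} {f g : ℕ → ℕ} (hσ : Repr σ f) (hτ : Repr τ g)
    (h : σ = τ) : sameOn n f g = true :=
  List.all_eq_true.mpr fun i hi => beq_iff_eq.mpr <| by
    have e := hσ ⟨i, List.mem_range.mp hi⟩
    rw [h, hτ] at e
    exact e.symm

/-- Only the first `p` powers of `a` commute with it. -/
def selfCentOk (n p : ℕ) (c : List Lvl) (a : ℕ) : Bool :=
  (commCands a c [] fun i => i).all fun js =>
    !(sameOn n (fun i => sift c js (app a i)) fun i => app a (sift c js i)) ||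
      (List.range p).any fun k => sameOn n (app a)^[k] (sift c js)

theorem mem_zpowers_of_selfCentOk {c : List Lvl} (hc : chk n c = true) {p a : ℕ}
    (hav : Valid n a) (h : selfCentOk n p c a = true) {σ : Perm (Fin n)} (hσ : σ ∈ grp n c)
    (hcomm : σ * toPerm n a = toPerm n a * σ) : σ ∈ Subgroup.zpowers (toPerm n a) := by
  obtain ⟨js, hjs, he⟩ := exists_commCands hav.repr hc (seen := []) (f := fun i => i) (π := 1)
    Repr.one hσ (by simpa using hcomm) (by simp)
  have hr := (sift_spec hc js).1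
  rw [← he] at hr
  have := List.all_eq_true.mp h js hjs
  rw [sameOn_of_eq (hr.mul hav.repr) (hav.repr.mul hr) hcomm, Bool.not_true, Bool.false_or,
    List.any_eq_true] at this
  obtain ⟨k, -, hk⟩ := this
  rw [← Repr.eq_of_sameOn (repr_pow hav.repr k) hr hk]
  exact Subgroup.npow_mem_zpowers _ _

/-- An involution commuting with `c` and standing to `a` in the word orders is one of two. -/
def twoInvOk (n : ℕ) (cert : List Lvl) (W : List (List Bool × ℕ)) (a c b b' : ℕ) : Bool :=
  (commCands c cert [] fun i => i).all fun js =>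
    !(sameOn n (fun i => sift cert js (app c i)) fun i => app c (sift cert js i)) ||
      !(sameOn n (fun i => sift cert js (sift cert js i)) fun i => i) ||
      !(orderSig n W (app a) (sift cert js)) ||
      sameOn n (sift cert js) (app b) || sameOn n (sift cert js) (app b')

theorem eq_of_twoInvOk {cert : List Lvl} (hc : chk n cert = true) {W : List (List Bool × ℕ)}
    {a c b b' : ℕ} (hcv : Valid n c) (hbv : Valid n b) (hbv' : Valid n b')
    (h : twoInvOk n cert W a c b b' = true) {σ : Perm (Fin n)} (hσ : σ ∈ grp n cert)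
    (hcomm : σ * toPerm n c = toPerm n c * σ) (h2 : σ * σ = 1)
    (hW : ∀ f, Repr σ f → orderSig n W (app a) f = true) : σ = toPerm n b ∨ σ = toPerm n b' := by
  obtain ⟨js, hjs, he⟩ := exists_commCands hcv.repr hc (seen := []) (f := fun i => i) (π := 1)
    Repr.one hσ (by simpa using hcomm) (by simp)
  have hr := (sift_spec hc js).1
  rw [← he] at hr
  have := List.all_eq_true.mp h js hjs
  rw [sameOn_of_eq (hr.mul hcv.repr) (hcv.repr.mul hr) hcomm,
    sameOn_of_eq (hr.mul hr) Repr.one h2, hW _ hr, Bool.not_true, Bool.false_or, Bool.false_or,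
    Bool.false_or, Bool.or_eq_true] at this
  exact this.imp (Repr.eq_of_sameOn hr hbv.repr) (Repr.eq_of_sameOn hr hbv'.repr)

/-- **At most two outer classes.** -/
theorem card_out_le_two {H : Subgroup (Perm (Fin n))} {p : ℕ} [Fact p.Prime] (a c b b' : H)
    (hoa : orderOf a = p) (hp : ¬ p ^ 2 ∣ Nat.card H) (hgen : Subgroup.closure {a, b} = ⊤)
    (hb : b * b = 1) (hbc : b * c = c * b) {r s : ℕ} (hr : c * a * c⁻¹ = a ^ r)
    (hrs : (r - 1) * s % p = 1) (hr1 : 1 ≤ r)
    (hcent : ∀ σ : H, σ * a = a * σ → σ ∈ Subgroup.zpowers a)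
    (hpow : ∀ k < p, k ≠ 0 → ∃ g : H, g * a ^ k * g⁻¹ = a)
    {W : List (List Bool × ℕ)} {fa fb : ℕ → ℕ} (hfa : Repr (a : Perm (Fin n)) fa)
    (hfb : Repr (b : Perm (Fin n)) fb) (hW : orderSig n W fa fb = true)
    (hkey : ∀ σ : H, σ * c = c * σ → σ * σ = 1 →
      (∀ f, Repr (σ : Perm (Fin n)) f → orderSig n W fa f = true) → σ = b ∨ σ = b') :
    Nat.card (Cfsg.Out H) ≤ 2 := by
  have hpp : p.Prime := Fact.out
  refine card_out_le hgen (fun _ => a) ![b, b'] fun φ => ?_
  have hoa' : orderOf (φ a) = p := by rw [MulEquiv.orderOf_eq, hoa]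
  have hfac : (Nat.card H).factorization p = 1 := by
    have h1 : p ∣ Nat.card H := hoa ▸ orderOf_dvd_natCard a
    have h0 : Nat.card H ≠ 0 := Nat.card_pos.ne'
    have h2 := (hpp.dvd_iff_one_le_factorization h0).mp h1
    by_contra hne
    exact hp ((hpp.pow_dvd_iff_le_factorization h0).mpr (by omega))
  let P : Sylow p H := Sylow.ofCard (Subgroup.zpowers a)
    (by rw [Nat.card_zpowers, hoa, hfac, pow_one])
  let Q : Sylow p H := Sylow.ofCard (Subgroup.zpowers (φ a))
    (by rw [Nat.card_zpowers, hoa', hfac, pow_one])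
  obtain ⟨g, hg⟩ := MulAction.exists_smul_eq H Q P
  have hmem : g * φ a * g⁻¹ ∈ Subgroup.zpowers a := by
    show g * φ a * g⁻¹ ∈ (P : Subgroup H)
    rw [← hg]
    exact ⟨φ a, Subgroup.mem_zpowers _, by simp [MulAut.conj_apply]⟩
  obtain ⟨k, hkp, hk⟩ := (isOfFinOrder_of_finite a).mem_zpowers_iff_mem_range_orderOf.mp hmem
    |> Finset.mem_image.mp
  rw [Finset.mem_range, hoa] at hkp
  have hk0 : k ≠ 0 := by
    rintro rfl
    rw [pow_zero, eq_comm, conj_eq_one_iff] at hk
    rw [hk, orderOf_one] at hoa'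
    exact hpp.one_lt.ne hoa'
  obtain ⟨g₁, hg₁⟩ := hpow k hkp hk0
  let ψ : MulAut H := MulAut.conj (g₁ * g) * φ
  have hψa : ψ a = a := by
    conv_rhs => rw [← hg₁, hk]
    simp [ψ, mul_assoc]
  -- the image of `c` differs from `c` by a power of `a`
  have hψc : ψ c * a * (ψ c)⁻¹ = a ^ r := by
    conv_rhs => rw [← hψa, ← map_pow, ← hr, map_mul, map_mul, map_inv, hψa]
  have hz : c⁻¹ * ψ c ∈ Subgroup.zpowers a := by
    refine hcent _ ?_
    calc c⁻¹ * ψ c * a = c⁻¹ * (ψ c * a * (ψ c)⁻¹) * ψ c := by group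
      _ = c⁻¹ * (c * a * c⁻¹) * ψ c := by rw [hψc, hr]
      _ = a * (c⁻¹ * ψ c) := by group
  obtain ⟨j, -, hj⟩ := (isOfFinOrder_of_finite a).mem_zpowers_iff_mem_range_orderOf.mp hz
    |> Finset.mem_image.mp
  have hcpow : ∀ m, c * a ^ m = a ^ (r * m) * c := fun m => by
    rw [pow_mul, ← hr, conj_pow, inv_mul_cancel_right]
  obtain ⟨i, hi⟩ : ∃ i, i + r * j ≡ r * i [MOD p] := by
    refine ⟨s * (r * j), ?_⟩
    have h1 : (r - 1) * s ≡ 1 [MOD p] := by
      rw [Nat.ModEq, hrs, Nat.one_mod_eq_one.mpr hpp.one_lt.ne']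
    have h2 : (r - 1) * s * (r * j) ≡ 1 * (r * j) [MOD p] := h1.mul_right _
    have h3 : r * (s * (r * j)) = s * (r * j) + (r - 1) * s * (r * j) := by
      obtain ⟨t, rfl⟩ : ∃ t, r = t + 1 := ⟨r - 1, by omega⟩
      simp only [Nat.add_sub_cancel]
      ring
    rw [h3]
    simpa using (h2.symm.add_left (s * (r * j)))
  have hc : a ^ i * ψ c * (a ^ i)⁻¹ = c := by
    rw [mul_inv_eq_iff_eq_mul, show ψ c = c * a ^ j by rw [hj, mul_inv_cancel_left], hcpow, hcpow,
      ← mul_assoc, ← pow_add]
    congr 1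
    exact pow_eq_pow_iff_modEq.mpr (hoa.symm ▸ hi)
  let θ : MulAut H := MulAut.conj (a ^ i * (g₁ * g)) * φ
  have hθ : ∀ x, θ x = a ^ i * ψ x * (a ^ i)⁻¹ := fun x => by
    simp only [θ, ψ, MulAut.mul_apply, MulAut.conj_apply]
    group
  have hθa : θ a = a := by
    rw [hθ, hψa, ← pow_succ, pow_succ', mul_inv_cancel_right]
  have hθc : θ c = c := by rw [hθ, hc]
  have hx := hkey (θ b) (by conv_lhs => rw [← hθc]
                            conv_rhs => rw [← hθc]
                            rw [← map_mul, hbc, map_mul])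
    (by rw [← map_mul, hb, map_one])
    fun f hf => orderSig_map θ hfa hfb (by rw [hθa]; exact hfa) hf hW
  have e1 : a ^ i * (g₁ * g) * φ a * (a ^ i * (g₁ * g))⁻¹ = a := by
    rw [← MulAut.conj_apply]; exact hθa
  rcases hx with h | h
  · exact ⟨a ^ i * (g₁ * g), 0, e1, (MulAut.conj_apply _ _).symm.trans h⟩
  · exact ⟨a ^ i * (g₁ * g), 1, e1, (MulAut.conj_apply _ _).symm.trans h⟩

end Cfsg.Agent.Lib.Recognition
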