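import Cfsg.Agent.Lib.Recognition.CentralizerOutBound

/-!
# The centraliser bound with two classes of generators of the cyclic subgroup

As `CentralizerOutBound`, when the powers of `a` fall into the classes of `a` and `a'` and no
element commuting with `c` stands to `a'` in the word orders.
-/

set_option autoImplicit false

namespace Cfsg.Agent.Lib.Recognition

open Cfsg.Agent.Lib.Compute Equiv

variable {n : ℕ}

/-- An element commuting with `c` and standing to `a` in the word orders is in the list `bs`. -/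
def inListOk (n : ℕ) (cert : List Lvl) (W : List (List Bool × ℕ)) (a c : ℕ) (bs : List ℕ) : Bool :=
  (commCands c cert [] fun i => i).all fun js =>
    !(sameOn n (fun i => sift cert js (app c i)) fun i => app c (sift cert js i)) ||
      !(orderSig n W (app a) (sift cert js)) || bs.any fun b => sameOn n (sift cert js) (app b)

theorem mem_of_inListOk {cert : List Lvl} (hc : chk n cert = true) {W : List (List Bool × ℕ)}
    {a c : ℕ} {bs : List ℕ} (hcv : Valid n c) (hbv : ∀ b ∈ bs, Valid n b)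
    (h : inListOk n cert W a c bs = true) {σ : Perm (Fin n)} (hσ : σ ∈ grp n cert)
    (hcomm : σ * toPerm n c = toPerm n c * σ)
    (hW : ∀ f, Repr σ f → orderSig n W (app a) f = true) : ∃ b ∈ bs, σ = toPerm n b := by
  obtain ⟨js, hjs, he⟩ := exists_commCands hcv.repr hc (seen := []) (f := fun i => i) (π := 1)
    Repr.one hσ (by simpa using hcomm) (by simp)
  have hr := (sift_spec hc js).1
  rw [← he] at hr
  have := List.all_eq_true.mp h js hjs
  rw [sameOn_of_eq (hr.mul hcv.repr) (hcv.repr.mul hr) hcomm, hW _ hr, Bool.not_true, Bool.false_or,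
    Bool.false_or, List.any_eq_true] at this
  obtain ⟨b, hb, hs⟩ := this
  exact ⟨b, hb, Repr.eq_of_sameOn hr (hbv b hb).repr hs⟩

/-- **At most two outer classes**, two classes of generators. -/
theorem card_out_le_two' {H : Subgroup (Perm (Fin n))} {p : ℕ} [Fact p.Prime] (a a' c b b' : H)
    (hoa : orderOf a = p) (hp : ¬ p ^ 2 ∣ Nat.card H) (hgen : Subgroup.closure {a, b} = ⊤)
    (hbc : b * c = c * b) {r s : ℕ} (hr : c * a * c⁻¹ = a ^ r) (hr' : c * a' * c⁻¹ = a' ^ r)
    (hrs : (r - 1) * s % p = 1) (hr1 : 1 ≤ r) (ha' : a' ∈ Subgroup.zpowers a)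
    (ha'' : a ∈ Subgroup.zpowers a')
    (hcent : ∀ σ : H, σ * a = a * σ → σ ∈ Subgroup.zpowers a)
    (hpow : ∀ k < p, k ≠ 0 → ∃ g : H, g * a ^ k * g⁻¹ = a ∨ g * a ^ k * g⁻¹ = a')
    {W : List (List Bool × ℕ)} {fa fa' fb : ℕ → ℕ} (hfa : Repr (a : Perm (Fin n)) fa)
    (hfa' : Repr (a' : Perm (Fin n)) fa') (hfb : Repr (b : Perm (Fin n)) fb)
    (hW : orderSig n W fa fb = true)
    (hnone : ∀ σ : H, σ * c = c * σ →
      (∀ f, Repr (σ : Perm (Fin n)) f → orderSig n W fa' f = true) → False)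
    (hkey : ∀ σ : H, σ * c = c * σ →
      (∀ f, Repr (σ : Perm (Fin n)) f → orderSig n W fa f = true) → σ = b ∨ σ = b') :
    Nat.card (Cfsg.Out H) ≤ 2 := by
  have hpp : p.Prime := Fact.out
  refine card_out_le hgen (fun _ => a) ![b, b'] fun φ => ?_
  have hoa' : orderOf (φ a) = p := by rw [MulEquiv.orderOf_eq, hoa]
  have hfac : (Nat.card H).factorization p = 1 := by
    have h1 : p ∣ Nat.card H := hoa ▸ orderOf_dvd_natCard a
    have h0 : Nat.card H ≠ 0 := Nat.card_pos.ne'
    have h2 := (hpp.dvd_iff_one_le_factorization h0).mp h1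
    by_contra hne
    exact hp ((hpp.pow_dvd_iff_le_factorization h0).mpr (by omega))
  let P : Sylow p H := Sylow.ofCard (Subgroup.zpowers a)
    (by rw [Nat.card_zpowers, hoa, hfac, pow_one])
  let Q : Sylow p H := Sylow.ofCard (Subgroup.zpowers (φ a))
    (by rw [Nat.card_zpowers, hoa', hfac, pow_one])
  obtain ⟨g, hg⟩ := MulAction.exists_smul_eq H Q P
  have hmem : g * φ a * g⁻¹ ∈ Subgroup.zpowers a := by
    show g * φ a * g⁻¹ ∈ (P : Subgroup H)
    rw [← hg]
    exact ⟨φ a, Subgroup.mem_zpowers _, by simp [MulAut.conj_apply]⟩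
  obtain ⟨k, hkp, hk⟩ := (isOfFinOrder_of_finite a).mem_zpowers_iff_mem_range_orderOf.mp hmem
    |> Finset.mem_image.mp
  rw [Finset.mem_range, hoa] at hkp
  have hk0 : k ≠ 0 := by
    rintro rfl
    rw [pow_zero, eq_comm, conj_eq_one_iff] at hk
    rw [hk, orderOf_one] at hoa'
    exact hpp.one_lt.ne hoa'
  obtain ⟨g₁, hg₁⟩ := hpow k hkp hk0
  -- move `c` as well, keeping the image of `a`
  have main : ∀ x : H, Subgroup.zpowers a = Subgroup.zpowers x → orderOf x = p →
      c * x * c⁻¹ = x ^ r → g₁ * a ^ k * g₁⁻¹ = x →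
      ∃ i : ℕ, ∀ θ : MulAut H, θ = MulAut.conj (x ^ i * (g₁ * g)) * φ → θ a = x ∧ θ c = c := by
    intro x hzx hox hrx hgx
    let ψ : MulAut H := MulAut.conj (g₁ * g) * φ
    have hψa : ψ a = x := by
      conv_rhs => rw [← hgx, hk]
      simp [ψ, mul_assoc]
    have hψc : ψ c * x * (ψ c)⁻¹ = x ^ r := by
      conv_rhs => rw [← hψa, ← map_pow, ← hr, map_mul, map_mul, map_inv, hψa]
    have hz : c⁻¹ * ψ c ∈ Subgroup.zpowers x := by
      have hcomm : c⁻¹ * ψ c * x = x * (c⁻¹ * ψ c) := by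
        calc c⁻¹ * ψ c * x = c⁻¹ * (ψ c * x * (ψ c)⁻¹) * ψ c := by group
          _ = c⁻¹ * (c * x * c⁻¹) * ψ c := by rw [hψc, hrx]
          _ = x * (c⁻¹ * ψ c) := by group
      rw [← hzx]
      refine hcent _ ?_
      obtain ⟨m, hm⟩ : a ∈ Subgroup.zpowers x := hzx ▸ Subgroup.mem_zpowers a
      rw [← hm]
      exact (show Commute (c⁻¹ * ψ c) x from hcomm).zpow_right m
    obtain ⟨j, -, hj⟩ := (isOfFinOrder_of_finite x).mem_zpowers_iff_mem_range_orderOf.mp hz
      |> Finset.mem_image.mp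
    have hcpow : ∀ m, c * x ^ m = x ^ (r * m) * c := fun m => by
      rw [pow_mul, ← hrx, conj_pow, inv_mul_cancel_right]
    obtain ⟨i, hi⟩ : ∃ i, i + r * j ≡ r * i [MOD p] := by
      refine ⟨s * (r * j), ?_⟩
      have h1 : (r - 1) * s ≡ 1 [MOD p] := by
        rw [Nat.ModEq, hrs, Nat.one_mod_eq_one.mpr hpp.one_lt.ne']
      have h2 : (r - 1) * s * (r * j) ≡ 1 * (r * j) [MOD p] := h1.mul_right _
      have h3 : r * (s * (r * j)) = s * (r * j) + (r - 1) * s * (r * j) := by
        obtain ⟨t, rfl⟩ : ∃ t, r = t + 1 := ⟨r - 1, by omega⟩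
        simp only [Nat.add_sub_cancel]
        ring
      rw [h3]
      simpa using (h2.symm.add_left (s * (r * j)))
    have hc : x ^ i * ψ c * (x ^ i)⁻¹ = c := by
      rw [mul_inv_eq_iff_eq_mul, show ψ c = c * x ^ j by rw [hj, mul_inv_cancel_left], hcpow, hcpow,
        ← mul_assoc, ← pow_add]
      congr 1
      exact pow_eq_pow_iff_modEq.mpr (hox.symm ▸ hi)
    refine ⟨i, fun θ hθ => ?_⟩
    have he : ∀ y, θ y = x ^ i * ψ y * (x ^ i)⁻¹ := fun y => by
      simp only [hθ, ψ, MulAut.mul_apply, MulAut.conj_apply]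
      group
    exact ⟨by rw [he, hψa, ← pow_succ, pow_succ', mul_inv_cancel_right], by rw [he, hc]⟩
  rcases hg₁ with hg₁ | hg₁
  · obtain ⟨i, hi⟩ := main a rfl hoa hr hg₁
    let θ : MulAut H := MulAut.conj (a ^ i * (g₁ * g)) * φ
    obtain ⟨hθa, hθc⟩ := hi θ rfl
    have hx := hkey (θ b) (by
        conv_lhs => rw [← hθc]
        conv_rhs => rw [← hθc]
        rw [← map_mul, hbc, map_mul])
      fun f hf => orderSig_map θ hfa hfb (by rw [hθa]; exact hfa) hf hW
    have e1 : a ^ i * (g₁ * g) * φ a * (a ^ i * (g₁ * g))⁻¹ = a := by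
      rw [← MulAut.conj_apply]; exact hθa
    rcases hx with h | h
    · exact ⟨a ^ i * (g₁ * g), 0, e1, (MulAut.conj_apply _ _).symm.trans h⟩
    · exact ⟨a ^ i * (g₁ * g), 1, e1, (MulAut.conj_apply _ _).symm.trans h⟩
  · have hz' : Subgroup.zpowers a = Subgroup.zpowers a' :=
      le_antisymm (Subgroup.zpowers_le.mpr ha'') (Subgroup.zpowers_le.mpr ha')
    have ho : orderOf a' = p := by rw [← Nat.card_zpowers, ← hz', Nat.card_zpowers, hoa]
    obtain ⟨i, hi⟩ := main a' hz' ho hr' hg₁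
    let θ : MulAut H := MulAut.conj (a' ^ i * (g₁ * g)) * φ
    obtain ⟨hθa, hθc⟩ := hi θ rfl
    exact (hnone (θ b) (by
        conv_lhs => rw [← hθc]
        conv_rhs => rw [← hθc]
        rw [← map_mul, hbc, map_mul])
      fun f hf => orderSig_map θ hfa hfb (by rw [hθa]; exact hfa') hf hW).elim

end Cfsg.Agent.Lib.Recognition
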