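import Cfsg.Agent.Lib.Compute.CertTools

/-!
Identifying the group of a certificate with a closure.
-/

set_option autoImplicit false

namespace Cfsg.Agent.Lib.Recognition

open Cfsg.Agent.Lib.Compute Equiv

/-- The group of a certificate is the closure of the given permutations. -/
theorem closure_eq_grp {n : ℕ} {c : List Lvl} {base : List ℕ} {steps : List (ℕ × ℕ × ℕ × Bool)} {w : List (List ℕ)}
    (h : chk n c = true) (hslp : slpOk n base steps = true) (hcov : slpCovers base steps c = true)
    (hw : (List.range base.length).all (fun k => memOk n c (base.getD k 0) (w.getD k [])) = true) :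
    grp n c = Subgroup.closure (toPerm n '' {b | b ∈ base}) := by
  have hmem : ∀ b ∈ base, Valid n b ∧ toPerm n b ∈ grp n c := by
    intro b hb
    obtain ⟨k, hk, rfl⟩ := List.getElem_of_mem hb
    have := mem_grp_of_memOk h (List.all_eq_true.mp hw k (List.mem_range.mpr hk))
    rwa [← List.getElem_eq_getD 0 (h := hk)] at this
  refine le_antisymm (grp_le_closure (fun b hb => (hmem b hb).1) hslp hcov) ?_
  rw [Subgroup.closure_le]
  rintro _ ⟨b, hb, rfl⟩
  exact (hmem b hb).2

end Cfsg.Agent.Lib.Recognition
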