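import Cfsg.Agent.Lib.Compute.TwoSplit
import Cfsg.Agent.Lib.Recognition.CertFast

/-!
# A faster check of the table of a subgroup

Only the tree edges are compared at every point, the others at the base points.
-/

set_option autoImplicit false

namespace Cfsg.Agent.Lib.Recognition.TabFast

open Equiv
open Cfsg.Agent.Lib.Compute CertFast

variable {n : ℕ}

/-- The tree edge into `a`. -/
def treeEdge (t : STab) (n : ℕ) (gens : List ℕ) (a : ℕ) : Bool :=
  match (t.wd a).reverse with
  | [] => false
  | i :: w =>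
    let p := t.stop 0 w.reverse
    decide (p < a) && decide (i < t.k) && forceN (t.el a) fun A => forceN (t.el p) fun P =>
      forceN (gens.getD i 0) fun G => (List.range n).all fun j => app A j == app P (app G j)

/-- The check of the table. -/
def tabFast (t : STab) (n : ℕ) (c : List Lvl) (gens : List ℕ) : Bool :=
  (t.k == gens.length) && decide (0 < t.N) && (t.wd 0 == []) &&
    (List.range n).all (fun j => decide (app (t.el 0) j = j)) &&
    (c.all fun L => decide (L.base < n)) &&
    (List.range t.N).all fun a =>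
      (t.stop 0 (t.wd a) == a) && (t.wd a).all (fun i => decide (i < t.k)) &&
      ((a == 0) || ((c.any fun L => app (t.el a) L.base != L.base) && treeEdge t n gens a)) &&
      (List.range t.k).all fun i => decide (t.next a i < t.N) &&
        c.all fun L => app (t.el (t.next a i)) L.base == app (t.el a) (app (gens.getD i 0) L.base)

theorem eq_of_bases {c : List Lvl} (hc : chk n c = true) {σ τ : Perm (Fin n)}
    (hσ : σ ∈ grp n c) (hτ : τ ∈ grp n c)
    (h : ∀ L ∈ c, ∀ b : Fin n, (b : ℕ) = L.base → σ b = τ b) : σ = τ := by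
  refine (inv_mul_eq_one.mp (eq_one_of_fix_bases hc (mul_mem (inv_mem hτ) hσ) fun L hL b hb => ?_)).symm
  rw [Perm.mul_apply, h L hL b hb, Perm.coe_inv, Equiv.symm_apply_apply]

theorem tabOk_of_fast {c : List Lvl} (hc : chk n c = true) {gens : List ℕ} {wit : List (List ℕ)}
    (hgens : ((List.range gens.length).all fun i =>
      memOk n c (gens.getD i 0) (wit.getD i [])) = true)
    (t : STab) (h : tabFast t n c gens = true) : t.tabOk n gens = true := by
  simp only [List.all_eq_true, List.mem_range] at hgens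
  simp only [tabFast, Bool.and_eq_true, beq_iff_eq, decide_eq_true_eq, List.all_eq_true,
    Bool.or_eq_true, List.any_eq_true, bne_iff_ne, List.mem_range] at h
  obtain ⟨⟨⟨⟨⟨hk, hN⟩, hw0⟩, hid⟩, hb⟩, htab⟩ := h
  have hgm : ∀ i < t.k, Valid n (gens.getD i 0) ∧ toPerm n (gens.getD i 0) ∈ grp n c :=
    fun i hi => mem_grp_of_memOk hc (hgens i (hk ▸ hi))
  have key : ∀ a < t.N, ∃ σ ∈ grp n c, Repr σ (app (t.el a)) := by
    intro a
    induction a using Nat.strong_induction_on with
    | _ a ih =>
      intro ha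
      by_cases h0 : a = 0
      · exact ⟨1, one_mem _, fun j => by subst h0; exact (hid j j.isLt).symm⟩
      · obtain ⟨⟨-, hor⟩, -⟩ := htab a ha
        obtain ⟨-, hedge⟩ := hor.resolve_left h0
        rw [treeEdge] at hedge
        cases hw : (t.wd a).reverse with
        | nil => rw [hw] at hedge; simp at hedge
        | cons i w =>
          rw [hw] at hedge
          simp only [forceN_eq, Bool.and_eq_true, decide_eq_true_eq, List.all_eq_true,
            List.mem_range, beq_iff_eq] at hedge
          obtain ⟨⟨hp, hi⟩, hall⟩ := hedge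
          obtain ⟨σ, hσ, hr⟩ := ih _ hp (lt_trans hp ha)
          refine ⟨σ * toPerm n (gens.getD i 0), mul_mem hσ (hgm i hi).2, fun j => ?_⟩
          rw [Perm.mul_apply, hr, (hgm i hi).1.repr, hall j j.isLt]
  have hmul : ∀ a < t.N, ∀ i < t.k, ∀ j < n,
      app (t.el (t.next a i)) j = app (t.el a) (app (gens.getD i 0) j) := by
    intro a ha i hi j hj
    obtain ⟨hlt, hbs⟩ := (htab a ha).2 i hi
    obtain ⟨σ, hσ, hrσ⟩ := key _ hlt
    obtain ⟨τ, hτ, hrτ⟩ := key a ha
    have he : σ = τ * toPerm n (gens.getD i 0) :=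
      eq_of_bases hc hσ (mul_mem hτ (hgm i hi).2) fun L hL b hbe => Fin.ext (by
        rw [hrσ, Perm.mul_apply, hrτ, (hgm i hi).1.repr, hbe, hbs L hL])
    have h2 := hrσ ⟨j, hj⟩
    rw [he, Perm.mul_apply, hrτ, (hgm i hi).1.repr] at h2
    exact h2.symm
  simp only [STab.tabOk, Bool.and_eq_true, beq_iff_eq, decide_eq_true_eq, List.all_eq_true,
    Bool.or_eq_true, List.any_eq_true, bne_iff_ne, List.mem_range]
  refine ⟨⟨⟨hk, hN⟩, hw0⟩, fun a ha => ?_⟩
  obtain ⟨⟨⟨h1, h2⟩, hor⟩, h4⟩ := htab a ha
  refine ⟨⟨⟨⟨h1, h2⟩, ?_⟩, hid⟩, fun i hi => ⟨(h4 i hi).1, hmul a ha i hi⟩⟩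
  rcases hor with h0 | ⟨⟨L, hL, hne⟩, -⟩
  · exact Or.inl h0
  · exact Or.inr ⟨L.base, hb L hL, hne⟩

end Cfsg.Agent.Lib.Recognition.TabFast
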