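import Cfsg.Agent.Lib.Compute.FusionSimple
import Cfsg.Agent.Lib.Recognition.TabFast

/-!
# Changing the base of a checked certificate

The Schreier products of the new certificate lie in the known group, so they need only be compared
at the base points of the known certificate.
-/

set_option autoImplicit false

namespace Cfsg.Agent.Lib.Recognition.CertRebase

open Cfsg.Agent.Lib.Compute Equiv CertFast TabFast

variable {n : ℕ}

/-- The witness check at the base points of `c₀`. -/
def witBase (c₀ : List Lvl) (L : Lvl) (next : List Lvl) : Bool :=
  (List.range L.gens.length).all fun s =>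
    match L.gens[s]?, L.wit[s]? with
    | some g, some row => (List.range (L.trans.length + 1)).all fun j =>
        match row[j]? with
        | some (q :: js) => c₀.all fun L₀ =>
            app g.1 (tfun L j L₀.base) == tfun L q (sift next js L₀.base)
        | _ => false
    | _, _ => false

theorem chk_cons_of_base {c₀ : List Lvl} (hc₀ : chk n c₀ = true) {L : Lvl} {rest : List Lvl}
    {wit : List (List ℕ)} (hsub : subOk n c₀ (L :: rest) wit = true)
    (hrest : chk n rest = true) (h : (lvlRest n L rest && witBase c₀ L rest) = true) :
    chk n (L :: rest) = true := by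
  simp only [Bool.and_eq_true, lvlRest] at h
  obtain ⟨⟨⟨⟨⟨h1, h2⟩, h3⟩, h4⟩, h6⟩, hw⟩ := h
  have hG := grp_le_of_subOk hc₀ hsub
  have hg : ∀ g ∈ L.gens, genOk n g = true := fun g hgm => List.all_eq_true.mp h2 g hgm
  have ht := treeOk_of_fast h3
  have hnext : grp n rest ≤ grp n (L :: rest) := by
    cases rest with
    | nil => simp [grp]
    | cons L' rest' =>
      refine (Subgroup.closure_le _).mpr ?_
      rintro _ ⟨g, hgm, rfl⟩
      simp only [nextOk, List.all_eq_true, Bool.and_eq_true, List.any_eq_true, beq_iff_eq] at h6
      obtain ⟨-, g', hg', he⟩ := h6 g hgm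
      show toPerm n g.1 ∈ grp n (L :: _)
      rw [← he]
      exact gen_mem hg'
  have hwit : witOk n L rest = true := by
    simp only [witBase, witOk, List.all_eq_true, List.mem_range] at hw ⊢
    intro s hs
    have hs' := hw s hs
    cases hgs : L.gens[s]? with
    | none => simp [hgs] at hs'
    | some g =>
      cases hws : L.wit[s]? with
      | none => simp [hgs, hws] at hs'
      | some row =>
        simp only [hgs, hws, List.all_eq_true, List.mem_range] at hs' ⊢
        intro j hj
        have hj' := hs' j hj
        cases hr : row[j]? with
        | none => simp [hr] at hj'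
        | some l =>
          cases l with
          | nil => simp [hr] at hj'
          | cons q js =>
            simp only [hr, List.all_eq_true, List.mem_range, beq_iff_eq] at hj' ⊢
            have hgm : g ∈ L.gens := List.mem_of_getElem? hgs
            obtain ⟨hjr, hjm⟩ := trans_spec (rest := rest) hg ht j
            obtain ⟨hqr, hqm⟩ := trans_spec (rest := rest) hg ht q
            obtain ⟨hsr, hsm⟩ := sift_spec hrest js
            have hl := (repr_toPerm_of_genOk (hg g hgm)).mul hjr
            have hr2 := hqr.mul hsr
            have he : toPerm n g.1 * tperm n L j = tperm n L q * siftPerm n rest js := by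
              refine eq_of_bases hc₀ (hG (mul_mem (gen_mem hgm) hjm))
                (hG (mul_mem hqm (hnext hsm))) fun L₀ hL₀ b hb => Fin.ext ?_
              rw [hl b, hr2 b, hb]
              exact hj' L₀ hL₀
            intro i hi
            have e := hl ⟨i, hi⟩
            rw [he, hr2 ⟨i, hi⟩] at e
            exact e.symm
  simp only [chk, lvlOk, h1, h2, ht, h4, hwit, h6, hrest, Bool.and_self]

end Cfsg.Agent.Lib.Recognition.CertRebase
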