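import Cfsg.Agent.Lib.Compute.CoverCert

/-!
# Restriction to a shifted invariant block of points
-/

set_option autoImplicit false
set_option linter.unusedSectionVars false

namespace Cfsg.Agent.Lib.Recognition.CertShift

open Cfsg Equiv
open Cfsg.Agent.Lib.Compute

variable {n m d : ℕ}

/-- The generators map the points `d ≤ i < d + m` to themselves. -/
def keepShift (d m : ℕ) : List Lvl → Bool
  | [] => true
  | L :: _ => L.gens.all fun g => (List.range m).all fun i =>
      decide (d ≤ app g.1 (i + d)) && decide (app g.1 (i + d) < d + m)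

/-- The shifted images of the generators are in `c'`. -/
def imgShift (d m : ℕ) (c c' : List Lvl) (Bs : List ℕ) (wit : List (List ℕ)) : Bool :=
  match c with
  | [] => true
  | L :: _ => (L.gens.length == Bs.length) && (List.range Bs.length).all fun k =>
      memOk m c' (Bs.getD k 0) (wit.getD k []) &&
        (List.range m).all fun i => app (Bs.getD k 0) i + d == app (L.gens.getD k (0, 0)).1 (i + d)

/-- **Restriction to a shifted invariant block of points.** -/
theorem exists_restrict_shift (hdm : d + m ≤ n) {L : Lvl} {rest : List Lvl}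
    (hc : chk n (L :: rest) = true) {c' : List Lvl} (hc' : chk m c' = true)
    (hkeep : keepShift d m (L :: rest) = true) {Bs : List ℕ} {wit : List (List ℕ)}
    (himg : imgShift d m (L :: rest) c' Bs wit = true) {steps : List (ℕ × ℕ × ℕ × Bool)}
    (hslp : slpOk m Bs steps = true) (hcov : slpCovers Bs steps c' = true) :
    ∃ σ : grp n (L :: rest) →* grp m c', Function.Surjective σ := by
  classical
  simp only [keepShift, List.all_eq_true, List.mem_range, Bool.and_eq_true,
    decide_eq_true_eq] at hkeep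
  simp only [imgShift, Bool.and_eq_true, beq_iff_eq, List.all_eq_true, List.mem_range] at himg
  obtain ⟨hlen, himg⟩ := himg
  obtain ⟨-, hgok, -⟩ := lvlOk_iff (by simp only [chk, Bool.and_eq_true] at hc; exact hc.1)
  have hinv : ∀ σ ∈ grp n (L :: rest), ∀ i : Fin n, d ≤ (i : ℕ) → (i : ℕ) < d + m →
      d ≤ ((σ i : Fin n) : ℕ) ∧ ((σ i : Fin n) : ℕ) < d + m := by
    intro σ hσ
    have hfin : σ ∈ Submonoid.closure ((fun g => toPerm n g.1) '' {g | g ∈ L.gens}) := by
      rw [← Subgroup.closure_toSubmonoid_of_finite]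
      exact hσ
    induction hfin using Submonoid.closure_induction_left with
    | one => intro i h1 h2; simpa using ⟨h1, h2⟩
    | mul_left x hx y hy ih =>
      obtain ⟨g, hg, rfl⟩ := hx
      intro i h1 h2
      have hy' : y ∈ grp n (L :: rest) := by
        show y ∈ (Subgroup.closure _).toSubmonoid
        rw [Subgroup.closure_toSubmonoid_of_finite]
        exact hy
      obtain ⟨h3, h4⟩ := ih hy' i h1 h2
      obtain ⟨j, hj⟩ : ∃ j, ((y i : Fin n) : ℕ) = j + d := ⟨_, (Nat.sub_add_cancel h3).symm⟩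
      rw [Perm.mul_apply, repr_toPerm_of_genOk (hgok g hg), hj]
      exact hkeep g hg j (by omega)
  let ι : Fin m → Fin n := fun i => ⟨(i : ℕ) + d, by omega⟩
  have hι : ∀ σ ∈ grp n (L :: rest), ∀ i : Fin m,
      d ≤ ((σ (ι i) : Fin n) : ℕ) ∧ ((σ (ι i) : Fin n) : ℕ) < d + m :=
    fun σ hσ i => hinv σ hσ (ι i) (Nat.le_add_left d i) (by show (i : ℕ) + d < d + m; omega)
  let r : grp n (L :: rest) → Fin m → Fin m := fun σ i =>
    ⟨(((σ : Perm (Fin n)) (ι i) : Fin n) : ℕ) - d, by have := hι _ σ.2 i; omega⟩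
  have hr : ∀ σ i, ι (r σ i) = (σ : Perm (Fin n)) (ι i) := fun σ i => by
    apply Fin.ext
    show (((σ : Perm (Fin n)) (ι i) : Fin n) : ℕ) - d + d = _
    have := hι _ σ.2 i
    omega
  have hmul : ∀ a b i, r (a * b) i = r a (r b i) := fun a b i => by
    apply Fin.ext
    show (((a * b : grp n (L :: rest)) : Perm (Fin n)) (ι i) : ℕ) - d =
      ((a : Perm (Fin n)) (ι (r b i)) : ℕ) - d
    rw [hr, Subgroup.coe_mul, Perm.mul_apply]
  have hone : ∀ i, r 1 i = i := fun i => by
    apply Fin.ext
    show (((1 : grp n (L :: rest)) : Perm (Fin n)) (ι i) : ℕ) - d = i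
    simp [ι]
  let f : grp n (L :: rest) → Perm (Fin m) := fun σ =>
    { toFun := r σ
      invFun := r σ⁻¹
      left_inv := fun i => by rw [← hmul, inv_mul_cancel, hone]
      right_inv := fun i => by rw [← hmul, mul_inv_cancel, hone] }
  let F : grp n (L :: rest) →* Perm (Fin m) :=
    { toFun := f
      map_one' := Equiv.ext hone
      map_mul' := fun a b => Equiv.ext (hmul a b) }
  have hgenF : ∀ k (hk : k < Bs.length) (g : grp n (L :: rest)),
      (g : Perm (Fin n)) = toPerm n (L.gens[k]'(hlen ▸ hk)).1 →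
      Valid m Bs[k] ∧ F g = toPerm m Bs[k] ∧ toPerm m Bs[k] ∈ grp m c' := by
    intro k hk g hg
    have hkL : k < L.gens.length := hlen ▸ hk
    obtain ⟨hm, heq⟩ := himg k hk
    rw [List.getD_eq_getElem _ _ hk] at hm heq
    rw [List.getD_eq_getElem _ _ hkL] at heq
    obtain ⟨hv, hmem⟩ := mem_grp_of_memOk hc' hm
    refine ⟨hv, Repr.eq (fun i => ?_) hv.repr fun _ _ => rfl, hmem⟩
    show (((g : Perm (Fin n)) (ι i) : Fin n) : ℕ) - d = app Bs[k] i
    rw [hg, repr_toPerm_of_genOk (hgok _ (List.getElem_mem hkL))]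
    show app L.gens[k].1 ((i : ℕ) + d) - d = _
    rw [← heq i i.isLt, Nat.add_sub_cancel]
  have hrange : ∀ σ, F σ ∈ grp m c' := by
    have : (⊤ : Subgroup (grp n (L :: rest))) ≤ (grp m c').comap F := by
      have htop : Subgroup.closure (((↑) : grp n (L :: rest) → Perm (Fin n)) ⁻¹'
          ((fun g => toPerm n g.1) '' {g | g ∈ L.gens})) = ⊤ :=
        Subgroup.closure_closure_coe_preimage
      rw [← htop, Subgroup.closure_le]
      rintro g ⟨g', hg', he⟩
      obtain ⟨k, hk, rfl⟩ := List.getElem_of_mem hg'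
      obtain ⟨-, hF, hmem⟩ := hgenF k (hlen ▸ hk) g he.symm
      show F g ∈ grp m c'
      rw [hF]
      exact hmem
    exact fun σ => this (Subgroup.mem_top σ)
  refine ⟨F.codRestrict (grp m c') hrange, fun y => ?_⟩
  have hgen : ∀ k (hk : k < Bs.length), Valid m Bs[k] ∧ ∃ g, F g = toPerm m Bs[k] := by
    intro k hk
    obtain ⟨hv, hF, -⟩ := hgenF k hk ⟨_, gen_mem (List.getElem_mem (hlen ▸ hk))⟩ rfl
    exact ⟨hv, _, hF⟩
  have hle : grp m c' ≤ F.range := by
    refine (grp_le_closure (fun b hb => ?_) hslp hcov).trans ((Subgroup.closure_le _).mpr ?_)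
    · obtain ⟨k, hk, rfl⟩ := List.getElem_of_mem hb
      exact (hgen k hk).1
    · rintro _ ⟨b, hb, rfl⟩
      obtain ⟨k, hk, rfl⟩ := List.getElem_of_mem hb
      exact (hgen k hk).2
  obtain ⟨g, hg⟩ := hle y.2
  exact ⟨g, Subtype.ext hg⟩

end Cfsg.Agent.Lib.Recognition.CertShift
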