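import Cfsg.Agent.Lib.LeechOut.Word
import Cfsg.Agent.Lib.MonsterType.Co1Facts
import Cfsg.Prelude.Def_Classical

/-!
The sublattice of vectors supported on an octad, reduced modulo 2 as the hyperbolic quadratic space
of dimension 8, and the centraliser of the sign change on the octad acting on it.
-/

set_option autoImplicit false

namespace Cfsg.Agent.Lib.Recognition.OctadCent

open Cfsg Equiv Cfsg.Agent.Lib.Compute Cfsg.Agent.Lib.Leech
open scoped Matrix

/-- The octad as a mask. -/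
def octM : ℕ := 0x400a4f

/-- The octad. -/
def oct : Finset GolayPt := setOf24 octM

/-- The positions of the octad. -/
def idx : Fin 8 → Fin 24 := ![0, 1, 2, 3, 6, 9, 11, 22]

/-- The points of the octad. -/
def pt (j : Fin 8) : GolayPt := enc.symm (idx j)

theorem pt_mem (j : Fin 8) : pt j ∈ oct := by revert j; decide +kernel

theorem exists_pt : ∀ q ∈ oct, ∃ j, q = pt j := by decide +kernel

theorem pt_injective : Function.Injective pt :=
  enc.symm.injective.comp (by decide +kernel : Function.Injective idx)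

theorem oct_eq : oct = Finset.univ.image pt := by decide +kernel

theorem oct_code : inCode octM = true ∧ pop octM = 8 ∧ inCode (0xffffff ^^^ octM) = true := by decide +kernel

/-- The lattice vectors supported on the octad. -/
def Lm : AddSubgroup ↥leechLattice where
  carrier := {v | ∀ q, q ∉ oct → (v : GolayPt → ℤ) q = 0}
  add_mem' := fun hv hw q hq => by simp [hv q hq, hw q hq]
  zero_mem' := fun q _ => by simp
  neg_mem' := fun hv q hq => by simp [hv q hq]

theorem mem_Lm {v : ↥leechLattice} : v ∈ Lm ↔ ∀ q, q ∉ oct → (v : GolayPt → ℤ) q = 0 := Iff.rfl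

theorem code_split_all : (codeList.all fun m =>
    !((List.finRange 24).all (fun i : Fin 24 => octM.testBit i || (m.testBit i == m.testBit 4))) ||
    (List.finRange 8).all (fun j : Fin 8 => m.testBit (idx j) == m.testBit (idx 7))) = true := by
  decide +kernel

theorem code_split (m : ℕ) (hm : m ∈ codeList)
    (h : (List.finRange 24).all (fun i : Fin 24 => octM.testBit i || (m.testBit i == m.testBit 4)) = true) :
    (List.finRange 8).all (fun j : Fin 8 => m.testBit (idx j) == m.testBit (idx 7)) = true := by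
  have := List.all_eq_true.mp code_split_all m hm
  rwa [h, Bool.not_true, Bool.false_or] at this

/-- The coordinates of a vector supported on the octad, with the congruences of the lattice. -/
theorem congr_of_mem {v : ↥leechLattice} (hv : v ∈ Lm) :
    (∀ j, (2 : ℤ) ∣ (v : GolayPt → ℤ) (pt j)) ∧
    (∀ j, (4 : ℤ) ∣ (v : GolayPt → ℤ) (pt j) - (v : GolayPt → ℤ) (pt 7)) ∧
    (8 : ℤ) ∣ ∑ j, (v : GolayPt → ℤ) (pt j) := by
  classical
  obtain ⟨m, w, hf', hw, hs⟩ := mem_leechLattice_iff.mp v.2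
  have hf : ∀ i, (v : GolayPt → ℤ) i = m + 2 * w i := hf'
  have hout : ∀ q, q ∉ oct → m + 2 * w q = 0 := fun q hq => (hf q).symm.trans (hv q hq)
  have h4 : enc.symm 4 ∉ oct := by decide +kernel
  have hm : m = -(2 * w (enc.symm 4)) := by linarith [hout _ h4]
  have hsum : ∑ q, (v : GolayPt → ℤ) q = ∑ j, (v : GolayPt → ℤ) (pt j) := by
    rw [← Finset.sum_subset (Finset.subset_univ oct) fun q _ hq => hv q hq, oct_eq,
      Finset.sum_image fun a _ b _ h => pt_injective h]
  obtain ⟨k, hk, hke⟩ := mem_golayCode_iff.mp hw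
  have hbit : ∀ q, k.testBit (enc q) = decide (w q % 2 = 1) := fun q => by
    have h := congrFun hke q
    simp only [wordOf, redTwo] at h
    cases hb : k.testBit (enc q) <;> rw [hb] at h
    · have : (2 : ℤ) ∣ w q := (ZMod.intCast_zmod_eq_zero_iff_dvd _ 2).mp (by simpa using h)
      simp; omega
    · have : w q % 2 = 1 := by
        by_contra hne
        have h2 : ((w q : ℤ) : ZMod 2) = 0 := (ZMod.intCast_zmod_eq_zero_iff_dvd _ 2).mpr (by omega)
        simp [h2] at h
      simp [this]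
  have hall : (List.finRange 24).all
      (fun i : Fin 24 => octM.testBit i || (k.testBit i == k.testBit 4)) = true := by
    rw [List.all_eq_true]
    intro i _
    by_cases hi : octM.testBit i = true
    · simp [hi]
    · have hio : enc.symm i ∉ oct := by simpa [oct, mem_setOf24] using hi
      have e1 := hbit (enc.symm i)
      have e2 := hbit (enc.symm 4)
      rw [Equiv.apply_symm_apply] at e1 e2
      have := hout _ hio
      have he : w (enc.symm i) = w (enc.symm 4) := by linarith [hout _ h4]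
      rw [he] at e1
      simp [e1, show k.testBit 4 = decide (w (enc.symm 4) % 2 = 1) from e2]
  have hin := List.all_eq_true.mp (code_split k hk hall)
  refine ⟨fun j => ⟨w (pt j) - w (enc.symm 4), ?_⟩, fun j => ?_, ?_⟩
  · rw [hf, hm]; ring
  · have h := hin j (List.mem_finRange j)
    rw [beq_iff_eq] at h
    have e1 := hbit (pt j)
    have e2 := hbit (pt 7)
    simp only [pt, Equiv.apply_symm_apply] at e1 e2
    rw [e1, e2] at h
    replace h := decide_eq_decide.mp h
    have : (2 : ℤ) ∣ w (pt j) - w (pt 7) := by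
      simp only [pt]; omega
    obtain ⟨t, ht⟩ := this
    exact ⟨t, by rw [hf, hf]; linarith⟩
  · rw [← hsum]
    have e : ∑ q, (v : GolayPt → ℤ) q = 24 * m + 2 * ∑ q, w q := by
      rw [Finset.mul_sum, ← sum_const_golayPt m, ← Finset.sum_add_distrib]
      exact Finset.sum_congr rfl fun q _ => hf q
    simp only [Int.ModEq] at hs
    omega

/-- The basis vectors, by position. -/
def btbl : Fin 8 → Fin 8 → ℤ :=
  ![![2, 2, 2, 2, 2, 2, 2, 2], ![-4, 4, 0, 0, 0, 0, 0, 0], ![-4, 0, 4, 0, 0, 0, 0, 0],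
    ![-4, 0, 0, 4, 0, 0, 0, 0], ![-4, 0, 0, 0, 4, 0, 0, 0], ![-4, 0, 0, 0, 0, 4, 0, 0],
    ![-4, 0, 0, 0, 0, 0, 4, 0], ![8, 0, 0, 0, 0, 0, 0, 0]]

/-- A function on positions extended by zero. -/
def extZero (a : Fin 8 → ℤ) : GolayPt → ℤ := fun q => ∑ j, if q = pt j then a j else 0

theorem extZero_pt (a : Fin 8 → ℤ) (j : Fin 8) : extZero a (pt j) = a j := by
  simp [extZero, pt_injective.eq_iff]

theorem extZero_out (a : Fin 8 → ℤ) {q : GolayPt} (hq : q ∉ oct) : extZero a q = 0 :=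
  Finset.sum_eq_zero fun j _ => if_neg fun e => hq (by rw [e]; exact pt_mem j)

theorem basis_mem : ∀ i, LeechOut.latOk (extZero (btbl i)) = true := by decide +kernel

/-- The basis vectors. -/
def bvec (i : Fin 8) : ↥Lm :=
  ⟨⟨extZero (btbl i), LeechOut.mem_of_latOk (basis_mem i)⟩, fun _ hq => extZero_out _ hq⟩

/-- Integral combinations of the basis. -/
def lin (c : Fin 8 → ℤ) : ↥Lm := ∑ i, c i • bvec i

/-- The integral coordinates. -/
def cv (x : GolayPt → ℤ) : Fin 8 → ℤ :=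
  ![x (pt 7) / 2, (x (pt 1) - x (pt 7)) / 4, (x (pt 2) - x (pt 7)) / 4, (x (pt 3) - x (pt 7)) / 4,
    (x (pt 4) - x (pt 7)) / 4, (x (pt 5) - x (pt 7)) / 4, (x (pt 6) - x (pt 7)) / 4,
    (∑ j, x (pt j)) / 8 - x (pt 7)]

theorem lin_apply (c : Fin 8 → ℤ) (j : Fin 8) :
    ((lin c : ↥leechLattice) : GolayPt → ℤ) (pt j) = ∑ i, c i * btbl i j := by
  simp only [lin, AddSubgroup.val_finsetSum, AddSubgroup.coe_zsmul, Finset.sum_apply, Pi.smul_apply,
    smul_eq_mul]
  exact Finset.sum_congr rfl fun i _ => by rw [show ((bvec i : ↥leechLattice) : GolayPt → ℤ) (pt j) = btbl i j from extZero_pt _ _]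

theorem cv_lin (c : Fin 8 → ℤ) : cv ((lin c : ↥leechLattice) : GolayPt → ℤ) = c := by
  funext i
  simp only [cv, lin_apply, Fin.sum_univ_eight]
  fin_cases i <;> simp [btbl] <;> omega

theorem lin_cv (v : ↥Lm) : lin (cv ((v : ↥leechLattice) : GolayPt → ℤ)) = v := by
  refine Subtype.ext (Subtype.ext (funext fun q => ?_))
  by_cases hq : q ∈ oct
  · obtain ⟨j, rfl⟩ := exists_pt q hq
    rw [lin_apply, Fin.sum_univ_eight]
    obtain ⟨h2, h4, h8⟩ := congr_of_mem v.2
    have a := h2 7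
    have b1 := h4 1; have b2 := h4 2; have b3 := h4 3; have b4 := h4 4; have b5 := h4 5; have b6 := h4 6
    rw [Fin.sum_univ_eight] at h8
    fin_cases j <;> simp [cv, btbl, Fin.sum_univ_eight] <;> omega
  · rw [(lin _).2 q hq, v.2 q hq]

theorem lin_add (c d : Fin 8 → ℤ) : lin (c + d) = lin c + lin d := by
  simp [lin, add_smul, Finset.sum_add_distrib]

theorem cv_add (v w : ↥Lm) : cv (((v + w : ↥Lm) : ↥leechLattice) : GolayPt → ℤ)
    = cv ((v : ↥leechLattice) : GolayPt → ℤ) + cv ((w : ↥leechLattice) : GolayPt → ℤ) := by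
  conv_lhs => rw [← lin_cv v, ← lin_cv w, ← lin_add]
  rw [cv_lin]

/-- The change to hyperbolic coordinates. -/
def toHyp (c : Fin 8 → ZMod 2) : Fin 4 ⊕ Fin 4 → ZMod 2 :=
  Sum.elim ![c 0, c 1 + c 2 + c 4, c 2 + c 3 + c 4 + c 6, c 3 + c 4 + c 5]
    ![c 0 + c 7, c 1 + c 2 + c 3, c 1 + c 5 + c 6, c 1 + c 3 + c 4 + c 5]

/-- The inverse change of coordinates. -/
def fromHyp (x : Fin 4 ⊕ Fin 4 → ZMod 2) : Fin 8 → ZMod 2 :=
  ![x (.inl 0),
    x (.inl 3) + x (.inr 3),
    x (.inl 2) + x (.inr 2) + x (.inr 3),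
    x (.inl 2) + x (.inl 3) + x (.inr 1) + x (.inr 2),
    x (.inl 1) + x (.inl 2) + x (.inl 3) + x (.inr 2),
    x (.inl 1) + x (.inl 3) + x (.inr 1),
    x (.inl 1) + x (.inr 1) + x (.inr 2) + x (.inr 3),
    x (.inl 0) + x (.inr 0)]

theorem toHyp_add (c d : Fin 8 → ZMod 2) : toHyp (c + d) = toHyp c + toHyp d := by
  funext k
  rcases k with k | k <;> fin_cases k <;> simp [toHyp] <;> ring

theorem toHyp_fromHyp : ∀ x, toHyp (fromHyp x) = x := by decide +kernel

theorem toHyp_eq_zero : ∀ c, toHyp c = 0 → c = 0 := by decide +kernel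

/-- Reduction modulo 2. -/
def redX (x : GolayPt → ℤ) : Fin 4 ⊕ Fin 4 → ZMod 2 := toHyp fun i => (cv x i : ZMod 2)

/-- Reduction on the sublattice. -/
def red : ↥Lm →+ (Fin 4 ⊕ Fin 4 → ZMod 2) :=
  AddMonoidHom.mk' (fun v => redX ((v : ↥leechLattice) : GolayPt → ℤ)) fun v w => by
    unfold redX
    rw [cv_add, ← toHyp_add]
    congr 1
    funext i
    simp

theorem red_apply (v : ↥Lm) : red v = redX ((v : ↥leechLattice) : GolayPt → ℤ) := rfl

/-- A lift. -/
def sec (x : Fin 4 ⊕ Fin 4 → ZMod 2) : ↥Lm := lin fun i => ((fromHyp x i).val : ℤ)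

theorem red_sec (x : Fin 4 ⊕ Fin 4 → ZMod 2) : red (sec x) = x := by
  rw [red_apply, redX, sec, cv_lin]
  simp only [Int.cast_natCast, ZMod.natCast_zmod_val]
  exact toHyp_fromHyp x

theorem red_eq_zero {v : ↥Lm} : red v = 0 ↔ ∃ w : ↥Lm, v = w + w := by
  constructor
  · intro h
    have h0 : (fun i => (cv ((v : ↥leechLattice) : GolayPt → ℤ) i : ZMod 2)) = 0 := toHyp_eq_zero _ (by rw [red_apply] at h; exact h)
    refine ⟨lin fun i => cv ((v : ↥leechLattice) : GolayPt → ℤ) i / 2, ?_⟩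
    rw [← lin_add]
    conv_lhs => rw [← lin_cv v]
    congr 1
    funext i
    have : (2 : ℤ) ∣ cv ((v : ↥leechLattice) : GolayPt → ℤ) i :=
      (ZMod.intCast_zmod_eq_zero_iff_dvd _ 2).mp (congrFun h0 i)
    simp only [Pi.add_apply]
    omega
  · rintro ⟨w, rfl⟩
    rw [map_add]
    exact funext fun k => CharTwo.add_self_eq_zero _

/-- Norm over 32, modulo 2. -/
theorem quad_red (v : ↥Lm) : ∃ P : ℤ, sqNorm ((v : ↥leechLattice) : GolayPt → ℤ) = 32 * P ∧
    quadFormPlus 4 (ZMod 2) (red v) = (P : ZMod 2) := by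
  set c := cv ((v : ↥leechLattice) : GolayPt → ℤ) with hc
  let P : (Fin 8 → ℤ) → ℤ := fun c => c 0 * c 0 + 2 * (c 7 * c 7) + c 0 * c 7
    - 2 * (c 1 + c 2 + c 3 + c 4 + c 5 + c 6) * c 7
    + (c 1 * c 1 + c 2 * c 2 + c 3 * c 3 + c 4 * c 4 + c 5 * c 5 + c 6 * c 6)
    + (c 1 * c 2 + c 1 * c 3 + c 1 * c 4 + c 1 * c 5 + c 1 * c 6 + c 2 * c 3 + c 2 * c 4 + c 2 * c 5
      + c 2 * c 6 + c 3 * c 4 + c 3 * c 5 + c 3 * c 6 + c 4 * c 5 + c 4 * c 6 + c 5 * c 6)
  refine ⟨P c, ?_, ?_⟩
  · conv_lhs => rw [← lin_cv v, ← hc]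
    unfold sqNorm
    rw [← Finset.sum_subset (Finset.subset_univ oct) fun q _ hq => by rw [(lin c).2 q hq]; norm_num,
      oct_eq, Finset.sum_image fun a _ b _ h => pt_injective h]
    simp only [Fin.sum_univ_eight, lin_apply]
    simp [P, btbl]
    ring
  · have key : ∀ z : Fin 8 → ZMod 2, quadFormPlus 4 (ZMod 2) (toHyp z) =
        z 0 * z 0 + z 0 * z 7 + (z 1 * z 1 + z 2 * z 2 + z 3 * z 3 + z 4 * z 4 + z 5 * z 5 + z 6 * z 6)
        + (z 1 * z 2 + z 1 * z 3 + z 1 * z 4 + z 1 * z 5 + z 1 * z 6 + z 2 * z 3 + z 2 * z 4 + z 2 * z 5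
        + z 2 * z 6 + z 3 * z 4 + z 3 * z 5 + z 3 * z 6 + z 4 * z 5 + z 4 * z 6 + z 5 * z 6) := by
      unfold quadFormPlus toHyp
      decide +kernel
    rw [red_apply, redX, key]
    simp only [P, Int.cast_add, Int.cast_mul, Int.cast_sub, Int.cast_ofNat, ← hc,
      show ((2 : ZMod 2)) = 0 from rfl, zero_mul, sub_zero, add_zero]

/-- The sign change on the octad. -/
noncomputable def eps : ↥Co0 :=
  (exists_diag (c := oct) (by rw [supports_golayCode]; exact ⟨octM, mem_codeList_of_inCode oct_code.1, rfl⟩)).choose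

theorem eps_apply (v : ↥leechLattice) (q : GolayPt) : ((eps • v : ↥leechLattice) : GolayPt → ℤ) q
    = if q ∈ oct then -(v : GolayPt → ℤ) q else (v : GolayPt → ℤ) q :=
  (exists_diag (c := oct) (by rw [supports_golayCode]; exact ⟨octM, mem_codeList_of_inCode oct_code.1, rfl⟩)).choose_spec v q

theorem mem_Lm_iff_eps {v : ↥leechLattice} : v ∈ Lm ↔ eps • v = -v := by
  rw [mem_Lm]
  constructor
  · intro h
    refine Subtype.ext (funext fun q => ?_)
    rw [eps_apply, AddSubgroup.coe_neg, Pi.neg_apply]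
    split_ifs with hq
    · rfl
    · rw [h q hq, neg_zero]
  · intro h q hq
    have h1 := congrFun (congrArg Subtype.val h) q
    rw [eps_apply, if_neg hq, AddSubgroup.coe_neg, Pi.neg_apply] at h1
    omega

/-- The centraliser of the sign change. -/
noncomputable def Hc : Subgroup ↥Co0 := Subgroup.centralizer ({eps} : Set ↥Co0)

theorem smul_Lm (g : ↥Hc) {v : ↥leechLattice} (hv : v ∈ Lm) : (g : ↥Co0) • v ∈ Lm := by
  rw [mem_Lm_iff_eps] at hv ⊢
  rw [← mul_smul, ← Subgroup.mem_centralizer_singleton_iff.1 g.2, mul_smul, hv, co0_neg]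

/-- The action of an element on the sublattice. -/
noncomputable def actL (g : ↥Hc) : ↥Lm →+ ↥Lm :=
  AddMonoidHom.mk' (fun v => ⟨(g : ↥Co0) • (v : ↥leechLattice), smul_Lm g v.2⟩) fun v w =>
    Subtype.ext (map_add (co0Hom (g : ↥Co0)) _ _)

theorem actL_mul (g h : ↥Hc) (v : ↥Lm) : actL (g * h) v = actL g (actL h v) :=
  Subtype.ext (mul_smul (g : ↥Co0) (h : ↥Co0) (v : ↥leechLattice))

theorem actL_one (v : ↥Lm) : actL 1 v = v := Subtype.ext (one_smul _ _)

theorem red_actL_congr (g : ↥Hc) {v w : ↥Lm} (h : red v = red w) : red (actL g v) = red (actL g w) := by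
  obtain ⟨u, hu⟩ := red_eq_zero.1 (show red (v - w) = 0 by rw [map_sub, h, sub_self])
  rw [← sub_eq_zero, ← map_sub, ← map_sub, hu, map_add, map_add]
  exact funext fun k => CharTwo.add_self_eq_zero _

/-- The induced linear map. -/
noncomputable def indMap (g : ↥Hc) : (Fin 4 ⊕ Fin 4 → ZMod 2) →ₗ[ZMod 2] (Fin 4 ⊕ Fin 4 → ZMod 2) :=
  (AddMonoidHom.mk' (fun x => red (actL g (sec x))) fun x y => by
    rw [red_actL_congr g (w := sec x + sec y) (by rw [map_add, red_sec, red_sec, red_sec]), map_add,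
      map_add]).toZModLinearMap 2

theorem indMap_red (g : ↥Hc) (v : ↥Lm) : indMap g (red v) = red (actL g v) :=
  red_actL_congr g (red_sec _)

/-- The matrices. -/
noncomputable def matHom : ↥Hc →* Matrix (Fin 4 ⊕ Fin 4) (Fin 4 ⊕ Fin 4) (ZMod 2) where
  toFun g := LinearMap.toMatrix' (indMap g)
  map_one' := by
    rw [← LinearMap.toMatrix'_id]
    congr 1
    refine LinearMap.ext fun x => ?_
    rw [← red_sec x, indMap_red, actL_one]
    rfl
  map_mul' g h := by
    rw [← LinearMap.toMatrix'_comp]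
    congr 1
    refine LinearMap.ext fun x => ?_
    rw [← red_sec x, LinearMap.comp_apply, indMap_red, indMap_red, indMap_red, actL_mul]

theorem matHom_mulVec (g : ↥Hc) (x : Fin 4 ⊕ Fin 4 → ZMod 2) : matHom g *ᵥ x = indMap g x :=
  LinearMap.toMatrix'_mulVec _ _

theorem matHom_red (g : ↥Hc) (v : ↥Lm) : matHom g *ᵥ red v = red (actL g v) := by
  rw [matHom_mulVec, indMap_red]

theorem matHom_quad (g : ↥Hc) (x : Fin 4 ⊕ Fin 4 → ZMod 2) :
    quadFormPlus 4 (ZMod 2) (matHom g *ᵥ x) = quadFormPlus 4 (ZMod 2) x := by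
  obtain ⟨P, hP, hP'⟩ := quad_red (sec x)
  obtain ⟨R, hR, hR'⟩ := quad_red (actL g (sec x))
  have : P = R := by
    have e : sqNorm (((actL g (sec x)) : ↥leechLattice) : GolayPt → ℤ) = sqNorm ((sec x : ↥leechLattice) : GolayPt → ℤ) :=
      co0_sqNorm _ _
    omega
  rw [← red_sec x, matHom_red, hR', hP', this]

/-- The representation by isometries. -/
noncomputable def rho : ↥Hc →* ↥(isometryGroup (ZMod 2) (quadFormPlus 4 (ZMod 2))) :=
  matHom.toHomUnits.codRestrict _ fun g u _ => matHom_quad g u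

theorem rho_apply (g : ↥Hc) :
    (((rho g : ↥(isometryGroup (ZMod 2) (quadFormPlus 4 (ZMod 2)))) : GL (Fin 4 ⊕ Fin 4) (ZMod 2)) :
      Matrix (Fin 4 ⊕ Fin 4) (Fin 4 ⊕ Fin 4) (ZMod 2)) = matHom g := rfl

theorem mem_ker_rho {g : ↥Hc} : g ∈ rho.ker ↔ ∀ v : ↥Lm, red (actL g v) = red v := by
  rw [MonoidHom.mem_ker]
  constructor
  · intro h v
    rw [← matHom_red, ← rho_apply, h]
    exact Matrix.one_mulVec _
  · intro h
    refine Subtype.ext (Units.ext (Matrix.ext_of_mulVec_single fun i => ?_))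
    show matHom g *ᵥ Pi.single i 1 = (1 : Matrix _ _ (ZMod 2)) *ᵥ Pi.single i 1
    rw [Matrix.one_mulVec, ← red_sec (Pi.single i 1), matHom_red, h]

end Cfsg.Agent.Lib.Recognition.OctadCent
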