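import Cfsg.Agent.Lib.Recognition.Co1CentMono
import Cfsg.Agent.Lib.PGroups.SymplecticType

/-!
The elements fixing the sublattice pointwise form an extraspecial group of order 512.
-/

set_option autoImplicit false

namespace Cfsg.Agent.Lib.Recognition.OctadCent

open Cfsg Equiv Cfsg.Agent.Lib.Compute Cfsg.Agent.Lib.Leech Cfsg.Agent.Lib.LeechOut
open scoped commutatorElement

/-- The identity, packed. -/
def idP : ℕ := 0x170016001500140013001200110010000f000e000d000c000b000a0009000800070006000500040003000200010000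

/-- The sign change off the octad. -/
def zE : MGen := (idP, idP, 0xffffff ^^^ octM)

/-- The elements of the pointwise stabiliser. -/
def kList : List MGen := fixList.flatMap fun P => maskList.map fun m => (P, P, m)

/-- Generators. -/
def kGens : List MGen :=
  ([1, 2, 4, 8].map fun i => (fixList.getD i 0, fixList.getD i 0, 0)) ++
    ([0x7b420, 0x99590, 0x10f130, 0x237180].map fun m => (idP, idP, m))

theorem kList_good : (maskList.all fun m => inCode m) = true ∧ (kGens.all fun e => genGood e) = true ∧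
    (kGens.all fun e => kList.contains e) = true ∧ genGood zE = true ∧ kList.contains zE = true := by
  decide +kernel

theorem el_good {e : MGen} (h : e ∈ kList) : genGood e = true := by
  obtain ⟨P, hP, hm'⟩ := List.mem_flatMap.1 h
  obtain ⟨m, hm, rfl⟩ := List.mem_map.1 hm'
  have h1 := List.all_eq_true.1 fix_ok P hP
  have h2 := List.all_eq_true.1 kList_good.1 m hm
  simp only [Bool.and_eq_true, genGood] at h1 ⊢
  exact ⟨h1.1.1, h2⟩

theorem el_mem_K1 {e : MGen} (he : e ∈ kList) : ∃ h : el [.mono e] ∈ Hc, (⟨_, h⟩ : ↥Hc) ∈ K1 := by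
  have hg := el_good he
  obtain ⟨P, hP, hm'⟩ := List.mem_flatMap.1 he
  obtain ⟨m, hm, rfl⟩ := List.mem_map.1 hm'
  have hfix := fixPerm_mem hP
  have happ : ∀ v : ↥leechLattice, ((el [.mono (P, P, m)] • v : ↥leechLattice) : GolayPt → ℤ)
      = signedPerm (fixPerm P) (setOf24 m) (v : GolayPt → ℤ) := fun v => mono_apply hg v
  have hH : el [.mono (P, P, m)] ∈ Hc := (cross_comm_iff happ).2
    (ThreeTransp.M24Octad.stab_of_fix (ThreeTransp.M24Octad.mem_fixO.1 hfix).2)
  refine ⟨hH, mem_K1_iff.2 ⟨_, _, hfix, ?_, (mem_maskList.1 hm).2, happ⟩⟩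
  rw [supports_golayCode]
  exact ⟨m, (mem_maskList.1 hm).1, rfl⟩

theorem exists_code {g : ↥Hc} (hg : g ∈ K1) : ∃ e ∈ kList, (g : ↥Co0) = el [.mono e] := by
  obtain ⟨π, c, hπ, hc, hd, happ⟩ := mem_K1_iff.1 hg
  obtain ⟨P, hP, rfl⟩ := fixO_eq π hπ
  rw [supports_golayCode] at hc
  obtain ⟨m, hm, rfl⟩ := hc
  have he : (P, P, m) ∈ kList := List.mem_flatMap.2 ⟨P, hP, List.mem_map.2 ⟨m, mem_maskList.2 ⟨hm, hd⟩, rfl⟩⟩
  exact ⟨_, he, co0_ext fun v => by rw [happ, mono_apply (el_good he)]; rfl⟩

/-- The identity as a monomial element. -/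
def oneE : MGen := (idP, idP, 0)

/-- The image of a frame vector: position and sign. -/
def img1 (e : MGen) (i : ℕ) : ℕ × Bool := (app e.1 i, e.2.2.testBit (app e.1 i))

/-- The image under a product. -/
def img2 (e f : MGen) (i : ℕ) : ℕ × Bool :=
  ((img1 e (img1 f i).1).1, xor (img1 e (img1 f i).1).2 (img1 f i).2)

/-- A frame vector with a sign. -/
noncomputable def sgnB (b : Bool) (p : GolayPt) : ↥leechLattice := bif b then -eightAt p else eightAt p

theorem sgnB_eq (b : Bool) (p : GolayPt) : sgnB b p = MonsterType.sgn (b = true) p := by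
  cases b <;> simp [sgnB, MonsterType.sgn]

theorem sgnB_inj {b c : Bool} {p q : GolayPt} (h : sgnB b p = sgnB c q) : p = q ∧ b = c := by
  rw [sgnB_eq, sgnB_eq] at h
  obtain ⟨h1, h2⟩ := MonsterType.sgn_inj h
  exact ⟨h1, Bool.eq_iff_iff.2 h2⟩

theorem co0_sgnB (g : ↥Co0) (b : Bool) (p : GolayPt) : g • sgnB b p = bif b then -(g • eightAt p) else g • eightAt p := by
  cases b
  · rfl
  · exact co0_neg g _

/-- The signed frame vector of an image. -/
noncomputable def sgnVec (x : ℕ × Bool) : ↥leechLattice :=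
  if h : x.1 < 24 then sgnB x.2 (enc.symm ⟨x.1, h⟩) else 0

theorem el_smul_eight {e : MGen} (h : genGood e = true) (i : Fin 24) :
    el [.mono e] • eightAt (enc.symm i) = sgnVec (img1 e i) := by
  have h1 := h
  simp only [genGood, Bool.and_eq_true] at h1
  have hr := repr_toPerm_of_genOk h1.1.1.1
  have hlt : app e.1 i < 24 := by rw [← hr i]; exact (toPerm 24 e.1 i).isLt
  have hπ : toGP (toPerm 24 e.1) (enc.symm i) = enc.symm ⟨app e.1 i, hlt⟩ := by
    apply enc.injective
    apply Fin.ext
    rw [enc_toGP, Equiv.apply_symm_apply, Equiv.apply_symm_apply, hr i]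
  refine Subtype.ext ?_
  rw [mono_apply h, show ((eightAt (enc.symm i) : ↥leechLattice) : GolayPt → ℤ) = Pi.single (enc.symm i) 8 from rfl,
    signedPerm_single, hπ, sgnVec, dif_pos (show (img1 e i).1 < 24 from hlt)]
  simp only [img1, mem_setOf24, Equiv.apply_symm_apply]
  cases e.2.2.testBit (app e.1 i) <;> simp [sgnB, eightAt, Pi.single_neg]

theorem el_two_smul {e f : MGen} (he : genGood e = true) (hf : genGood f = true) (i : Fin 24) :
    (el [.mono e] * el [.mono f]) • eightAt (enc.symm i) = sgnVec (img2 e f i) := by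
  have h1 := hf
  simp only [genGood, Bool.and_eq_true] at h1
  have hlt : app f.1 i < 24 := by
    rw [← repr_toPerm_of_genOk h1.1.1.1 i]; exact (toPerm 24 f.1 i).isLt
  have h2 := he
  simp only [genGood, Bool.and_eq_true] at h2
  have hlt2 : app e.1 (app f.1 i) < 24 := by
    rw [← repr_toPerm_of_genOk h2.1.1.1 ⟨_, hlt⟩]; exact (toPerm 24 e.1 ⟨_, hlt⟩).isLt
  have key := el_smul_eight he ⟨app f.1 i, hlt⟩
  rw [sgnVec, dif_pos (show (img1 e (app f.1 i)).1 < 24 from hlt2)] at key
  rw [mul_smul, el_smul_eight hf i, sgnVec, sgnVec, dif_pos (show (img1 f i).1 < 24 from hlt),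
    dif_pos (show (img2 e f i).1 < 24 from hlt2)]
  simp only [img2, img1] at key ⊢
  rw [co0_sgnB, key]
  cases f.2.2.testBit (app f.1 i) <;> cases e.2.2.testBit (app e.1 (app f.1 i)) <;> simp [sgnB]

/-- The product is a given element. -/
def prodIs (e f g : MGen) : Bool := (List.range 24).all fun i => img2 e f i == img1 g i

/-- The two elements do not commute on the frame. -/
def noComm (e f : MGen) : Bool :=
  (List.range 24).any fun i => !(img2 e f i == img2 f e i) && decide ((img2 e f i).1 < 24) &&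
    decide ((img2 f e i).1 < 24)

theorem el_prod {e f g : MGen} (he : genGood e = true) (hf : genGood f = true) (hg : genGood g = true)
    (h : prodIs e f g = true) : el [.mono e] * el [.mono f] = el [.mono g] := by
  refine ext_eightAt fun i => ?_
  have h1 := List.all_eq_true.1 h i (List.mem_range.2 i.isLt)
  rw [beq_iff_eq] at h1
  rw [el_two_smul he hf, el_smul_eight hg, h1]

theorem el_noComm {e f : MGen} (he : genGood e = true) (hf : genGood f = true) (h : noComm e f = true) :
    el [.mono e] * el [.mono f] ≠ el [.mono f] * el [.mono e] := by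
  simp only [noComm, List.any_eq_true, List.mem_range, Bool.and_eq_true, Bool.not_eq_true',
    beq_eq_false_iff_ne, decide_eq_true_eq] at h
  obtain ⟨i, hi, ⟨hne, l1⟩, l2⟩ := h
  intro e'
  have h1 := congrArg (fun g : ↥Co0 => g • eightAt (enc.symm (⟨i, hi⟩ : Fin 24))) e'
  simp only [el_two_smul he hf, el_two_smul hf he, sgnVec, dif_pos l1, dif_pos l2] at h1
  obtain ⟨a, b⟩ := sgnB_inj h1
  exact hne (Prod.ext (congrArg Fin.val (enc.symm.injective a)) b)

theorem el_one : el [.mono oneE] = 1 := by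
  have hg : genGood oneE = true := by decide +kernel
  refine ext_eightAt fun i => ?_
  rw [el_smul_eight hg, one_smul]
  have : ∀ i : Fin 24, img1 oneE i = ((i : ℕ), false) := by decide +kernel
  rw [this, sgnVec, dif_pos i.isLt]
  rfl

theorem sq_ok : (kList.all fun e => prodIs e e oneE || prodIs e e zE) = true := by
  decide +kernel

theorem center_ok : (kList.all fun e => (List.range 24).all (fun i => img1 e i == img1 oneE i) ||
    (List.range 24).all (fun i => img1 e i == img1 zE i) || kGens.any fun f => noComm e f) = true := by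
  decide +kernel

theorem zE_central : (kList.all fun e => (List.range 24).all fun i => img2 e zE i == img2 zE e i) = true ∧
    (List.range 24).any (fun i => !(img1 zE i == img1 oneE i)) = true := by
  decide +kernel

theorem el_eq_of_img {e f : MGen} (he : genGood e = true) (hf : genGood f = true)
    (h : (List.range 24).all (fun i => img1 e i == img1 f i) = true) : el [.mono e] = el [.mono f] := by
  refine ext_eightAt fun i => ?_
  have h1 := List.all_eq_true.1 h i (List.mem_range.2 i.isLt)
  rw [beq_iff_eq] at h1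
  rw [el_smul_eight he, el_smul_eight hf, h1]

/-- The central involution. -/
noncomputable def zK : ↥K1 :=
  ⟨⟨el [.mono zE], (el_mem_K1 (List.contains_iff_mem.1 kList_good.2.2.2.2)).1⟩,
    (el_mem_K1 (List.contains_iff_mem.1 kList_good.2.2.2.2)).2⟩

theorem K1_ext {a b : ↥K1} (h : ((a : ↥Hc) : ↥Co0) = ((b : ↥Hc) : ↥Co0)) : a = b :=
  Subtype.ext (Subtype.ext h)

theorem zK_center : zK ∈ Subgroup.center ↥K1 := by
  refine Subgroup.mem_center_iff.2 fun g => K1_ext ?_
  obtain ⟨e, he, hge⟩ := exists_code g.2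
  show ((g : ↥Hc) : ↥Co0) * el [.mono zE] = el [.mono zE] * ((g : ↥Hc) : ↥Co0)
  rw [hge]
  refine ext_eightAt fun i => ?_
  have h1 := List.all_eq_true.1 (List.all_eq_true.1 zE_central.1 e he) i (List.mem_range.2 i.isLt)
  rw [beq_iff_eq] at h1
  rw [el_two_smul (el_good he) kList_good.2.2.2.1, el_two_smul kList_good.2.2.2.1 (el_good he), h1]

theorem center_cases {g : ↥K1} (hg : g ∈ Subgroup.center ↥K1) : g = 1 ∨ g = zK := by
  obtain ⟨e, he, hge⟩ := exists_code g.2
  have h := List.all_eq_true.1 center_ok e he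
  rw [Bool.or_eq_true, Bool.or_eq_true, List.any_eq_true] at h
  rcases h with (h | h) | ⟨f, hf, h⟩
  · exact Or.inl (K1_ext (hge.trans ((el_eq_of_img (el_good he) (by decide +kernel) h).trans el_one)))
  · exact Or.inr (K1_ext (hge.trans (el_eq_of_img (el_good he) kList_good.2.2.2.1 h)))
  · exfalso
    have hfk : f ∈ kList := List.contains_iff_mem.1 (List.all_eq_true.1 kList_good.2.2.1 f hf)
    obtain ⟨h1, h2⟩ := el_mem_K1 hfk
    have := congrArg (fun x : ↥K1 => ((x : ↥Hc) : ↥Co0)) (Subgroup.mem_center_iff.1 hg ⟨⟨_, h1⟩, h2⟩)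
    simp only [Subgroup.coe_mul] at this
    rw [hge] at this
    exact el_noComm (el_good he) (el_good hfk) h this.symm

theorem sq_mem (g : ↥K1) : g ^ 2 ∈ Subgroup.center ↥K1 := by
  obtain ⟨e, he, hge⟩ := exists_code g.2
  have h := List.all_eq_true.1 sq_ok e he
  rw [Bool.or_eq_true] at h
  have h2 : ((g ^ 2 : ↥K1) : ↥Hc).1 = el [.mono e] * el [.mono e] := by
    rw [pow_two, Subgroup.coe_mul, Subgroup.coe_mul, hge]
  rcases h with h | h
  · rw [show g ^ 2 = 1 from K1_ext (h2.trans ((el_prod (el_good he) (el_good he) (by decide +kernel) h).trans el_one))]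
    exact one_mem _
  · rw [show g ^ 2 = zK from K1_ext (h2.trans (el_prod (el_good he) (el_good he) kList_good.2.2.2.1 h))]
    exact zK_center

theorem zK_ne : zK ≠ 1 := by
  intro e
  have h1 : el [.mono zE] = 1 := congrArg (fun x : ↥K1 => ((x : ↥Hc) : ↥Co0)) e
  have hw := zE_central.2
  simp only [List.any_eq_true, List.mem_range, Bool.not_eq_true', beq_eq_false_iff_ne] at hw
  obtain ⟨i, hi, hne⟩ := hw
  have h2 := congrArg (fun g : ↥Co0 => g • eightAt (enc.symm (⟨i, hi⟩ : Fin 24))) (h1.trans el_one.symm)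
  simp only [el_smul_eight kList_good.2.2.2.1, el_smul_eight (show genGood oneE = true by decide +kernel)] at h2
  have l1 : ∀ j : Fin 24, (img1 zE j).1 < 24 ∧ (img1 oneE j).1 < 24 := by decide +kernel
  rw [sgnVec, sgnVec, dif_pos (l1 ⟨i, hi⟩).1, dif_pos (l1 ⟨i, hi⟩).2] at h2
  obtain ⟨a, b⟩ := sgnB_inj h2
  exact hne (Prod.ext (congrArg Fin.val (enc.symm.injective a)) b)

theorem card_center_K1 : Nat.card (Subgroup.center ↥K1) = 2 := by
  rw [Nat.card_eq_two_iff]
  refine ⟨⟨1, one_mem _⟩, ⟨zK, zK_center⟩, fun e => zK_ne (congrArg Subtype.val e).symm, ?_⟩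
  ext x
  simp only [Set.mem_insert_iff, Set.mem_singleton_iff, Set.mem_univ, iff_true]
  rcases center_cases x.2 with h | h
  · exact Or.inl (Subtype.ext h)
  · exact Or.inr (Subtype.ext h)

theorem isExtraspecial_K1 : Cfsg.IsExtraspecial 2 ↥K1 := by
  haveI : Fact (Nat.Prime 2) := ⟨Nat.prime_two⟩
  haveI : Finite ↥Co0 := finite_co0
  refine Lib.PGroups.SymplecticType.isExtraspecial_of (IsPGroup.of_card (n := 9) card_K1) (fun h => ?_) card_center_K1 ?_ sq_mem
  · have : Subgroup.center ↥K1 = ⊤ := eq_top_iff.2 fun x _ => Subgroup.mem_center_iff.2 fun y => h.1.comm y x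
    have h2 := card_center_K1
    rw [this, Subgroup.card_top, card_K1] at h2
    omega
  · rw [commutator_def, Subgroup.commutator_le]
    intro a _ b _
    have e : ⁅a, b⁆ = (a * b) ^ 2 * ((b⁻¹ * (a ^ 2)⁻¹ * b) * (b ^ 2)⁻¹) := by
      rw [commutatorElement_def, pow_two, pow_two, pow_two]
      group
    rw [e]
    refine mul_mem (sq_mem _) (mul_mem ?_ (inv_mem (sq_mem b)))
    have hc := inv_mem (sq_mem a)
    rw [show b⁻¹ * (a ^ 2)⁻¹ * b = (a ^ 2)⁻¹ by
      rw [mul_assoc, ← (Subgroup.mem_center_iff.1 hc b), inv_mul_cancel_left]]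
    exact hc

end Cfsg.Agent.Lib.Recognition.OctadCent
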