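import Cfsg.Agent.Lib.Recognition.Co1CentMono
import Cfsg.Agent.Lib.Classical.POmegaCard
import Cfsg.Agent.S0293
import Cfsg.Agent.S0296

/-!
The image of the centraliser is the commutator subgroup of the isometry group.
-/

set_option autoImplicit false

namespace Cfsg.Agent.Lib.Recognition.OctadCent

open Cfsg Equiv Cfsg.Agent.Lib.Compute Cfsg.Agent.Lib.Leech
open scoped Matrix Pointwise commutatorElement

theorem tet_oct : ∀ p q : GolayPt, (ThreeTransp.tetOf p).testBit (enc q) = true → (q ∈ oct ↔ p ∈ oct) := by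
  decide +kernel

theorem exists_xi_Hc : ∃ g : ↥Hc, ∀ v : ↥leechLattice,
    (((g : ↥Co0) • v : ↥leechLattice) : GolayPt → ℤ) = ThreeTransp.xiFun (v : GolayPt → ℤ) := by
  obtain ⟨g, hg⟩ := ThreeTransp.exists_co0_xi
  have hg' : ∀ v : ↥leechLattice, ((g • v : ↥leechLattice) : GolayPt → ℤ) = ThreeTransp.xiFun (v : GolayPt → ℤ) :=
    fun v => by rw [hg v]; rfl
  refine ⟨⟨g, Subgroup.mem_centralizer_singleton_iff.2 (co0_ext fun v => funext fun p => ?_)⟩, hg'⟩
  rw [mul_smul, mul_smul, hg', eps_apply, hg']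
  have h2 := congrFun (ThreeTransp.xiFun_add_self v.2).1 p
  simp only [Pi.add_apply] at h2
  have hs : ThreeTransp.tetSum (((eps • v : ↥leechLattice)) : GolayPt → ℤ) p =
      if p ∈ oct then -ThreeTransp.tetSum (v : GolayPt → ℤ) p else ThreeTransp.tetSum (v : GolayPt → ℤ) p := by
    unfold ThreeTransp.tetSum
    split_ifs with hp
    · rw [← Finset.sum_neg_distrib]
      exact Finset.sum_congr rfl fun q hq => by rw [eps_apply, if_pos ((tet_oct p q (mem_setOf24.1 hq)).2 hp)]
    · exact Finset.sum_congr rfl fun q hq => by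
        rw [eps_apply, if_neg fun e => hp ((tet_oct p q (mem_setOf24.1 hq)).1 e)]
  show ThreeTransp.xiTwo _ p / 2 = if p ∈ oct then -(ThreeTransp.xiTwo _ p / 2) else ThreeTransp.xiTwo _ p / 2
  have e : ThreeTransp.xiTwo ((eps • v : ↥leechLattice) : GolayPt → ℤ) p =
      if p ∈ oct then -ThreeTransp.xiTwo (v : GolayPt → ℤ) p else ThreeTransp.xiTwo (v : GolayPt → ℤ) p := by
    show ThreeTransp.tetSign p * (ThreeTransp.tetSum _ p - 2 * _) = if p ∈ oct then
      -(ThreeTransp.tetSign p * (ThreeTransp.tetSum _ p - 2 * _)) else ThreeTransp.tetSign p * (ThreeTransp.tetSum _ p - 2 * _)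
    rw [hs, eps_apply]
    split_ifs <;> ring
  rw [e]
  split_ifs
  · omega
  · rfl

/-- The monomial generators. -/
def gens : List MGen :=
    [(0x4000300070008001400110005000f000a0013000d000c00060010000b0017001500160012000e0002000900000001, 0x8000600070013000e00050012000a00100004000d000c0009000f000200140015000b001100170016000300000001, 0x0),
    (0x17000000140013001100070008000f00120004000e00050003000a0009000c000d0002001500100016000b00060001, 0x170003000500150014000f001300040010000d000700080002000a0009001100120001000c000e000b000600000016, 0x0),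
    (0x170016001500140013001200110010000f000e000d000c000b000a0009000800070006000500040003000200010000, 0x170016001500140013001200110010000f000e000d000c000b000a0009000800070006000500040003000200010000, 0x5481d)]

theorem gens_ok : (gens.all fun e => genGood e &&
    (List.finRange 24).all fun i : Fin 24 => octM.testBit (app e.1 i) == octM.testBit i) = true := by
  decide +kernel

theorem exists_mono_Hc {e : MGen} (he : e ∈ gens) : ∃ g : ↥Hc, ∀ v : ↥leechLattice,
    (((g : ↥Co0) • v : ↥leechLattice) : GolayPt → ℤ) = vecOf (actMono e (listOf (v : GolayPt → ℤ))) := by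
  have h := List.all_eq_true.1 gens_ok e he
  simp only [Bool.and_eq_true, List.all_eq_true, List.mem_finRange, forall_true_left, beq_iff_eq] at h
  obtain ⟨h1, h2⟩ := h
  have hr := h1
  simp only [genGood, Bool.and_eq_true] at hr
  have hrep := repr_toPerm_of_genOk hr.1.1.1
  have hmono := LeechOut.mono_apply h1
  have hH : LeechOut.el [.mono e] ∈ Hc := by
    refine (cross_comm_iff hmono).2 (Finset.ext fun q => ?_)
    rw [mem_smul_finset_iff, oct, mem_setOf24, mem_setOf24]
    obtain ⟨p, rfl⟩ := (toGP (toPerm 24 e.1)).surjective q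
    rw [Equiv.symm_apply_apply, enc_toGP, hrep (enc p), h2 (enc p)]
  refine ⟨⟨_, hH⟩, fun v => ?_⟩
  have hsp := LeechOut.el_spec (w := [.mono e]) (by simp [LeechOut.Lt.good, h1]) v
  simp only [LeechOut.actW, LeechOut.Lt.act] at hsp
  rw [← hsp, vecOf_listOf]

/-- The coordinate function of a lift. -/
def secX (x : Fin 4 ⊕ Fin 4 → ZMod 2) : GolayPt → ℤ :=
  fun q => ∑ i, ((fromHyp x i).val : ℤ) * extZero (btbl i) q

theorem coe_sec (x : Fin 4 ⊕ Fin 4 → ZMod 2) : ((sec x : ↥leechLattice) : GolayPt → ℤ) = secX x := by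
  funext q
  simp only [sec, lin, AddSubgroup.val_finsetSum, AddSubgroup.coe_zsmul, Finset.sum_apply, Pi.smul_apply,
    smul_eq_mul]
  rfl

theorem mulVec_of {g : ↥Hc} {F : (GolayPt → ℤ) → GolayPt → ℤ}
    (h : ∀ v : ↥leechLattice, (((g : ↥Co0) • v : ↥leechLattice) : GolayPt → ℤ) = F (v : GolayPt → ℤ))
    (x : Fin 4 ⊕ Fin 4 → ZMod 2) : matHom g *ᵥ x = redX (F (secX x)) := by
  conv_lhs => rw [← red_sec x, matHom_red, red_apply]
  show redX (((g : ↥Co0) • (sec x : ↥leechLattice) : ↥leechLattice) : GolayPt → ℤ) = _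
  rw [h, coe_sec]

/-- A vector from its code. -/
def dec8 (n : ℕ) : Fin 4 ⊕ Fin 4 → ZMod 2 :=
  Sum.elim (fun i => if n.testBit i then 1 else 0) (fun i => if n.testBit (4 + i) then 1 else 0)

/-- One step of the orbit certificate. -/
def stepVec (gi : ℕ) (x : Fin 4 ⊕ Fin 4 → ZMod 2) : Fin 4 ⊕ Fin 4 → ZMod 2 :=
  if gi = 0 then redX (ThreeTransp.xiFun (secX x))
  else redX (vecOf (actMono (gens.getD (gi - 1) (0, 0, 0)) (listOf (secX x))))

/-- The orbit: code, generator, parent. -/
def orbList : List (ℕ × ℕ × ℕ) :=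
    [(16, 0, 0), (120, 0, 0), (28, 1, 1), (82, 2, 1), (104, 3, 1), (117, 0, 2), (126, 1, 2), (240, 2, 2), (59, 0, 3), (88, 1, 3), (20, 2, 3), (66, 3, 3), (12, 1, 4), (115, 1, 5), (179, 2, 5), (171, 3, 5), (22, 0, 6), (56, 1, 6), (24, 2, 6), (153, 0, 7), (176, 1, 7), (220, 2, 7), (224, 3, 7), (85, 1, 8), (87, 2, 8), (245, 3, 8), (48, 0, 9), (18, 1, 9), (190, 2, 9), (125, 0, 10), (118, 1, 10), (250, 2, 10), (4, 3, 10), (67, 0, 11), (72, 1, 11), (13, 0, 12), (110, 1, 12), (26, 0, 13), (249, 2, 13), (189, 3, 13), (219, 0, 14), (217, 2, 14), (225, 1, 15), (195, 2, 15), (52, 1, 16), (90, 2, 16), (6, 3, 16), (80, 0, 17), (246, 2, 17), (112, 0, 18), (8, 3, 18), (159, 2, 19), (186, 1, 20), (180, 0, 21), (208, 1, 21), (160, 1, 22), (204, 2, 22), (60, 0, 23), (95, 2, 23), (155, 3, 23), (63, 0, 24), (255, 2, 24), (157, 0, 25), (215, 1, 25), (55, 2, 25), (30, 1, 26), (252, 2, 26), (32, 3, 26), (123, 0, 27), (150, 1, 28), (185, 2, 29), (102, 3, 30), (146, 0, 31), (5, 0, 32), (234, 2, 32),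 (73, 1, 33), (2, 1, 34), (174, 2, 34), (111, 1, 35), (40, 1, 36), (10, 3, 37), (144, 0, 38), (213, 0, 39), (183, 1, 41), (7, 3, 41), (161, 1, 42), (205, 2, 42), (237, 1, 43), (129, 2, 43), (93, 0, 44), (51, 0, 45), (36, 1, 46), (74, 2, 46), (64, 3, 47), (148, 1, 48), (65, 3, 51), (210, 0, 52), (170, 3, 52), (164, 3, 53), (192, 1, 56), (44, 3, 57), (243, 0, 59), (33, 3, 61), (9, 3, 63), (222, 1, 66), (236, 3, 66), (14, 1, 67), (165, 3, 68), (103, 3, 70), (130, 3, 72), (235, 2, 73), (3, 1, 75), (175, 2, 75), (135, 3, 75), (134, 1, 77), (41, 1, 78), (230, 2, 79), (11, 0, 80), (128, 3, 81), (105, 3, 83), (37, 1, 84), (75, 2, 84), (193, 1, 86), (207, 1, 87), (45, 2, 87), (133, 2, 88), (131, 3, 89), (194, 2, 97), (96, 1, 100), (15, 1, 102), (206, 1, 105), (97, 3, 112), (231, 2, 115), (132, 1, 116), (1, 3, 123)]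

theorem orbList_ok : ((List.range orbList.length).all fun k =>
    match orbList[k]? with
    | none => false
    | some (n, gi, j) => if k = 0 then decide (dec8 n = redX (eightAt (pt 0) : GolayPt → ℤ))
        else decide (gi ≤ gens.length) && decide (j < k) &&
          decide (dec8 n = stepVec gi (dec8 (orbList.getD j (0, 0, 0)).1))) = true := by
  decide +kernel

/-- The points acted on. -/
abbrev Pt : Type := Fin 4 ⊕ Fin 4 → ZMod 2

noncomputable instance instActPt : MulAction ↥Hc Pt where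
  smul g x := (matHom g *ᵥ (x : Fin 4 ⊕ Fin 4 → ZMod 2) : Fin 4 ⊕ Fin 4 → ZMod 2)
  one_smul x := show matHom 1 *ᵥ _ = _ by rw [map_one, Matrix.one_mulVec]
  mul_smul g h x := show matHom (g * h) *ᵥ _ = matHom g *ᵥ (matHom h *ᵥ _) by
    rw [Matrix.mulVec_mulVec, map_mul]

theorem smul_pt (g : ↥Hc) (x : Fin 4 ⊕ Fin 4 → ZMod 2) : (g • (x : Pt) : Pt) = matHom g *ᵥ x := rfl

/-- The base point. -/
def p0 : Pt := redX (eightAt (pt 0) : GolayPt → ℤ)

theorem orb_mem : ∀ k, ∀ h : k < orbList.length, (dec8 (orbList[k]).1 : Pt) ∈ MulAction.orbit ↥Hc p0 := by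
  intro k
  induction k using Nat.strong_induction_on with
  | _ k ih =>
    intro hk
    have h := List.all_eq_true.1 orbList_ok k (List.mem_range.2 hk)
    rw [List.getElem?_eq_getElem hk] at h
    generalize hn : orbList[k] = t at h
    obtain ⟨n, gi, j⟩ := t
    by_cases h0 : k = 0
    · simp only [h0, if_true, decide_eq_true_eq] at h
      show (dec8 n : Pt) ∈ _
      rw [show (dec8 n : Pt) = p0 from h]
      exact MulAction.mem_orbit_self _
    · simp only [h0, if_false, Bool.and_eq_true, decide_eq_true_eq] at h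
      obtain ⟨⟨hgi, hj⟩, he⟩ := h
      obtain ⟨g₀, hg₀⟩ := ih j hj (by omega)
      rw [List.getD_eq_getElem _ _ (by omega : j < orbList.length)] at he
      rcases Nat.eq_zero_or_pos gi with rfl | hpos
      · obtain ⟨g, hg⟩ := exists_xi_Hc
        refine ⟨g * g₀, ?_⟩
        show (g * g₀) • p0 = (dec8 n : Pt)
        rw [mul_smul, show g₀ • p0 = _ from hg₀, smul_pt, mulVec_of hg, he, stepVec, if_pos rfl]
      · have hm : gens.getD (gi - 1) (0, 0, 0) ∈ gens := by
          rw [List.getD_eq_getElem _ _ (by omega)]; exact List.getElem_mem _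
        obtain ⟨g, hg⟩ := exists_mono_Hc hm
        refine ⟨g * g₀, ?_⟩
        show (g * g₀) • p0 = (dec8 n : Pt)
        rw [mul_smul, show g₀ • p0 = _ from hg₀, smul_pt,
          mulVec_of (F := fun y => vecOf (actMono _ (listOf y))) hg, he, stepVec, if_neg (by omega)]

theorem singular_covered : ∀ x : Fin 4 ⊕ Fin 4 → ZMod 2,
    decide (x ≠ 0) && decide (quadFormPlus 4 (ZMod 2) x = 0) = true →
    (List.range orbList.length).any (fun k => decide (dec8 (orbList.getD k (0, 0, 0)).1 = x)) = true := by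
  unfold quadFormPlus
  decide +kernel

theorem singular_card : (Finset.univ.filter fun x : Fin 4 ⊕ Fin 4 → ZMod 2 =>
    x ≠ 0 ∧ quadFormPlus 4 (ZMod 2) x = 0).card = 135 := by
  unfold quadFormPlus
  decide +kernel

theorem p0_singular : redX (eightAt (pt 0) : GolayPt → ℤ) ≠ 0 ∧
    quadFormPlus 4 (ZMod 2) (redX (eightAt (pt 0) : GolayPt → ℤ)) = 0 := by
  unfold quadFormPlus
  decide +kernel

theorem orbit_p0 : (MulAction.orbit ↥Hc p0).ncard = 135 := by
  rw [← singular_card, ← Set.ncard_coe_finset]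
  congr 1
  ext x
  simp only [Finset.coe_filter, Finset.mem_univ, true_and, Set.mem_ofPred_eq]
  constructor
  · rintro ⟨g, rfl⟩
    refine ⟨fun h => p0_singular.1 ?_, (matHom_quad g _).trans p0_singular.2⟩
    have h1 : matHom g *ᵥ (p0 : Fin 4 ⊕ Fin 4 → ZMod 2) = 0 := h
    have h2 := congrArg (matHom g⁻¹ *ᵥ ·) h1
    rwa [Matrix.mulVec_mulVec, ← map_mul, inv_mul_cancel, map_one, Matrix.one_mulVec, Matrix.mulVec_zero] at h2
  · rintro ⟨h1, h2⟩
    have := singular_covered x (by simp [h1, h2])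
    rw [List.any_eq_true] at this
    obtain ⟨k, hk, he⟩ := this
    rw [decide_eq_true_eq, List.getD_eq_getElem _ _ (List.mem_range.1 hk)] at he
    rw [← he]
    exact orb_mem k (List.mem_range.1 hk)

theorem frame_even : ∀ j : Fin 8, redX (Pi.single (pt j) 8) = redX (Pi.single (pt 0) 8) ∧
    redX (Pi.single (pt j) (-8)) = redX (Pi.single (pt 0) 8) := by
  decide +kernel

theorem red_eightAt {i : GolayPt} (hi : i ∈ oct) :
    red ⟨eightAt i, eightAt_mem_Lm hi⟩ = redX (Pi.single i 8) := by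
  rw [red_apply]
  rfl

theorem stab_p0 (g : ↥Hc) : g ∈ MulAction.stabilizer ↥Hc p0 ↔ (g : ↥Co0) ∈ crossGrp := by
  have hp : red ⟨eightAt (pt 0), eightAt_mem_Lm (pt_mem 0)⟩ = p0 := red_eightAt (pt_mem 0)
  rw [MulAction.mem_stabilizer_iff, smul_pt, ← hp, matHom_red]
  constructor
  · intro h; exact mem_cross_of_red (pt_mem 0) h
  · intro h
    obtain ⟨q, s, hs, hq⟩ := mem_crossGrp.1 h (pt 0)
    have hm := smul_Lm g (eightAt_mem_Lm (pt_mem 0))
    have hqo : q ∈ oct := by
      by_contra hn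
      have := hm q hn
      rw [hq, Pi.single_eq_same] at this
      omega
    obtain ⟨j, rfl⟩ := exists_pt q hqo
    have e1 : red (actL g ⟨eightAt (pt 0), eightAt_mem_Lm (pt_mem 0)⟩) = redX (Pi.single (pt j) s) := by
      rw [red_apply, ← hq]
      rfl
    rw [e1, red_eightAt (pt_mem 0)]
    rcases hs with rfl | rfl
    · exact (frame_even j).1
    · exact (frame_even j).2

theorem card_cross_Hc : Nat.card ↥(MulAction.stabilizer ↥Hc p0) = 4096 * 322560 := by
  let K : Subgroup ↥M24 := (Cfsg.Agent.S1553.octStab oct).subgroupOf M24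
  have hK : Nat.card ↥K = 322560 := by
    rw [← Cfsg.Agent.S1553.card_octStab oct_mem_octads]
    exact Nat.card_congr (Subgroup.subgroupOfEquivOfLe inf_le_left).toEquiv
  have hmem : ∀ x : ↥crossGrp, (x : ↥Co0) ∈ Hc ↔ x ∈ K.comap crossHom := by
    intro x
    obtain ⟨c, -, happ⟩ := crossPerm_spec x
    rw [cross_comm_iff happ]
    show _ ↔ (crossPerm x : Perm GolayPt) ∈ M24 ⊓ MulAction.stabilizer (Perm GolayPt) oct
    exact ⟨fun h => ⟨(crossPerm x).2, h⟩, fun h => h.2⟩
  have e : Nat.card ↥(MulAction.stabilizer ↥Hc p0) = Nat.card ↥(K.comap crossHom) := Nat.card_congr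
    { toFun := fun g => ⟨⟨((g : ↥Hc) : ↥Co0), (stab_p0 _).1 g.2⟩, (hmem _).1 (g : ↥Hc).2⟩
      invFun := fun x => ⟨⟨((x : ↥crossGrp) : ↥Co0), (hmem _).2 x.2⟩, (stab_p0 _).2 (x : ↥crossGrp).2⟩
      left_inv := fun g => rfl
      right_inv := fun x => rfl }
  have hi := Subgroup.index_comap_of_surjective K crossHom_surjective
  have h1 := Subgroup.card_mul_index (K.comap crossHom)
  have h2 := Subgroup.card_mul_index K
  rw [card_crossGrp, hi] at h1
  rw [hK, Lib.Compute.card_M24] at h2
  have h3 : K.index = 759 := by omega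
  rw [h3] at h1
  rw [e]
  omega

theorem card_Hc : Nat.card ↥Hc = 135 * (4096 * 322560) := by
  haveI := finite_co0
  rw [← orbit_p0, ← card_cross_Hc, ← MulAction.index_stabilizer, Subgroup.index_mul_card]

theorem card_range_rho : Nat.card ↥rho.range = 174182400 := by
  haveI := finite_co0
  have h := Subgroup.card_mul_index rho.ker
  rw [Subgroup.index_ker, card_ker, card_Hc] at h
  omega

theorem card_POmega8 : Nat.card (POmega (ZMod 2) (quadFormPlus 4 (ZMod 2))) = 174182400 := by
  have h := Cfsg.Agent.S0293.result (F := ZMod 2) (q := 2) (ZMod.card 2) 4 le_rfl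
  norm_num [Finset.prod_range_succ] at h
  exact h

theorem card_O8 : Nat.card ↥(isometryGroup (ZMod 2) (quadFormPlus 4 (ZMod 2))) = 2 * 174182400 := by
  obtain ⟨he, -, -⟩ := Cfsg.Agent.Lib.Classical.card_POmega_mul _ Cfsg.Agent.Lib.Classical.zero_nondegenerate 4
    (by omega) (Cfsg.Agent.Lib.Classical.plusEquiv 4 (ZMod 2)) _ (Cfsg.Agent.Lib.Classical.quadFormPlus_eq_hyper 4)
  rw [← he (by decide), card_POmega8]

/-- The image is the commutator subgroup. -/
theorem range_rho : rho.range = Omega (ZMod 2) (quadFormPlus 4 (ZMod 2)) := by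
  have hi : rho.range.index = 2 := by
    have h := Subgroup.card_mul_index rho.range
    rw [card_range_rho, card_O8] at h
    omega
  haveI := Subgroup.normal_of_index_eq_two hi
  have hle : Omega (ZMod 2) (quadFormPlus 4 (ZMod 2)) ≤ rho.range := by
    rw [Omega, commutator_def, Subgroup.commutator_le]
    intro a _ b _
    simp only [commutatorElement_def, Subgroup.mul_mem_iff_of_index_two hi, inv_mem_iff]
    tauto
  refine (Subgroup.eq_of_le_of_card_ge hle ?_).symm
  rw [card_range_rho, ← card_POmega8]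
  exact Nat.card_le_card_of_surjective _ (QuotientGroup.mk'_surjective _)

end Cfsg.Agent.Lib.Recognition.OctadCent
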