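import Cfsg.Agent.Lib.Recognition.Co1CentImage
import Cfsg.Agent.Lib.Recognition.Co1CentExtra
import Cfsg.Agent.Lib.Classification.Extraspecial
import Cfsg.Agent.Lib.LocalEven2.CharPFitting
import Cfsg.Prelude.Def_Spor_Conway

/-!
The centraliser in the first Conway group of the image of the sign change on an octad.
-/

set_option autoImplicit false

namespace Cfsg.Agent.Lib.Recognition.OctadCent

open Cfsg Equiv Cfsg.Agent.Lib.Compute Cfsg.Agent.Lib.Leech Cfsg.Agent.Lib.LeechOut
open scoped Pointwise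

/-- The quotient map. -/
noncomputable def mkQ1 : ↥Co0 →* Spor.Co1 := QuotientGroup.mk' (Subgroup.center ↥Co0)

/-- The involution. -/
noncomputable def zInv : Spor.Co1 := mkQ1 eps

theorem eps_sq : eps * eps = 1 := co0_ext fun v => funext fun q => by
  rw [mul_smul, eps_apply, eps_apply, one_smul]
  split_ifs <;> simp

theorem eps_not_central : eps ∉ Subgroup.center ↥Co0 := by
  intro h
  obtain ⟨n, -, hn, hcases⟩ := MonsterType.exists_negation
  have h0 := eps_apply (eightAt (pt 0)) (pt 0)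
  have h4 := eps_apply (eightAt (enc.symm 4)) (enc.symm 4)
  have hout : enc.symm 4 ∉ oct := by decide +kernel
  rw [if_pos (pt_mem 0)] at h0
  rw [if_neg hout] at h4
  rcases hcases _ h with e | e
  · rw [e, one_smul] at h0
    simp [eightAt] at h0
  · rw [e, hn, AddSubgroup.coe_neg, Pi.neg_apply] at h4
    simp [eightAt] at h4

theorem order_zInv : orderOf zInv = 2 :=
  orderOf_eq_prime (by rw [pow_two, zInv, ← map_mul, eps_sq, map_one])
    (fun e => eps_not_central ((QuotientGroup.eq_one_iff _).1 e))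

/-- Conjugating the sign change never gives its negative. -/
theorem no_flip (g : ↥Co0) {n : ↥Co0} (hn : ∀ v : ↥leechLattice, n • v = -v) : g * eps ≠ n * eps * g := by
  classical
  intro h
  set Out : Finset GolayPt := Finset.univ \ oct with hOut
  have hcard : Out.card = 16 := by rw [hOut]; decide +kernel
  have hsupp : ∀ i ∈ Out, ∀ q, q ∉ oct → ((g • eightAt i : ↥leechLattice) : GolayPt → ℤ) q = 0 := by
    intro i hi
    refine mem_Lm.1 (mem_Lm_iff_eps.2 ?_)
    have h1 : eps • eightAt i = eightAt i := Subtype.ext (funext fun q => by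
      rw [eps_apply]
      split_ifs with hq
      · have : q ≠ i := fun e => by rw [e] at hq; simp [hOut] at hi; exact hi hq
        show -(Pi.single i 8 : GolayPt → ℤ) q = (Pi.single i 8 : GolayPt → ℤ) q
        rw [Pi.single_eq_of_ne this, neg_zero]
      · rfl)
    have h2 := congrArg (fun x : ↥Co0 => x • eightAt i) h
    simp only [mul_smul, h1, hn] at h2
    conv_rhs => rw [h2, neg_neg]
  let A : Finset (GolayPt → ℤ) := Out.image (fun i => (eightAt i : GolayPt → ℤ))
  let B : Finset (GolayPt → ℤ) := Out.image (fun i => ((g • eightAt i : ↥leechLattice) : GolayPt → ℤ))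
  have hiA : Function.Injective fun i => (eightAt i : GolayPt → ℤ) := fun a b e => eightAt_injective (Subtype.ext e)
  have hiB : Function.Injective fun i => ((g • eightAt i : ↥leechLattice) : GolayPt → ℤ) := fun a b e =>
    eightAt_injective (smul_left_cancel g (Subtype.ext e))
  have hd0 : ∀ a b : GolayPt, a ≠ b → dotInt (eightAt a : GolayPt → ℤ) (eightAt b : GolayPt → ℤ) = 0 := by
    intro a b hab
    refine Finset.sum_eq_zero fun q _ => ?_
    show (Pi.single a 8 : GolayPt → ℤ) q * (Pi.single b 8 : GolayPt → ℤ) q = 0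
    by_cases hq : q = a
    · subst hq; rw [Pi.single_eq_of_ne hab, mul_zero]
    · rw [Pi.single_eq_of_ne hq, zero_mul]
  have hne : ∀ i, ((g • eightAt i : ↥leechLattice) : GolayPt → ℤ) ≠ 0 := fun i e => by
    have := co0_sqNorm g (eightAt i)
    rw [e, sqNorm_eightAt, sqNorm_zero] at this
    norm_num at this
  have hdis : Disjoint A B := by
    rw [Finset.disjoint_left]
    rintro x hx hy
    obtain ⟨i, hi, rfl⟩ := Finset.mem_image.1 hx
    obtain ⟨j, hj, e⟩ := Finset.mem_image.1 hy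
    have hio : i ∉ oct := (Finset.mem_sdiff.1 hi).2
    have h1 := hsupp j hj i hio
    rw [e] at h1
    simp [eightAt] at h1
  have hle := card_orth_le (A ∪ B) ?_ ?_
  · rw [Finset.card_union_of_disjoint hdis, Finset.card_image_of_injective _ hiA,
      Finset.card_image_of_injective _ hiB, hcard] at hle
    omega
  · intro x hx
    rcases Finset.mem_union.1 hx with hx | hx <;> obtain ⟨i, -, rfl⟩ := Finset.mem_image.1 hx
    · intro e
      have := congrFun e i
      simp [eightAt] at this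
    · exact hne i
  · intro x hx y hy hxy
    rcases Finset.mem_union.1 hx with hx | hx <;> rcases Finset.mem_union.1 hy with hy | hy <;>
      obtain ⟨i, hi, rfl⟩ := Finset.mem_image.1 hx <;> obtain ⟨j, hj, rfl⟩ := Finset.mem_image.1 hy
    · exact hd0 i j fun e => hxy (by rw [e])
    · refine Finset.sum_eq_zero fun q _ => ?_
      show (Pi.single i 8 : GolayPt → ℤ) q * _ = 0
      by_cases hq : q = i
      · subst hq; rw [hsupp j hj q (Finset.mem_sdiff.1 hi).2, mul_zero]
      · rw [Pi.single_eq_of_ne hq, zero_mul]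
    · refine Finset.sum_eq_zero fun q _ => ?_
      show _ * (Pi.single j 8 : GolayPt → ℤ) q = 0
      by_cases hq : q = j
      · subst hq; rw [hsupp i hi q (Finset.mem_sdiff.1 hj).2, zero_mul]
      · rw [Pi.single_eq_of_ne hq, mul_zero]
    · rw [co0_dot]
      exact hd0 i j fun e => hxy (by rw [e])

/-- The centraliser of the involution. -/
noncomputable abbrev CC : Subgroup Spor.Co1 := Subgroup.centralizer ({zInv} : Set Spor.Co1)

theorem mem_CC (h : ↥Hc) : mkQ1 (h : ↥Co0) ∈ CC :=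
  Subgroup.mem_centralizer_singleton_iff.2 (by
    rw [zInv, ← map_mul, ← map_mul, Subgroup.mem_centralizer_singleton_iff.1 h.2])

/-- The map onto the centraliser. -/
noncomputable def toCC : ↥Hc →* ↥CC := (mkQ1.comp Hc.subtype).codRestrict CC mem_CC

theorem toCC_surjective : Function.Surjective toCC := by
  intro c
  obtain ⟨g, hg⟩ := QuotientGroup.mk'_surjective (Subgroup.center ↥Co0) (c : Spor.Co1)
  obtain ⟨n, hnc, hn, hcases⟩ := MonsterType.exists_negation
  have hc := Subgroup.mem_centralizer_singleton_iff.1 c.2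
  have hmem : g ∈ Hc := by
    have e : mkQ1 (g * eps) = mkQ1 (eps * g) := by
      rw [map_mul, map_mul]
      show mkQ1 g * zInv = zInv * mkQ1 g
      rw [show mkQ1 g = (c : Spor.Co1) from hg, hc]
    have hm : (eps * g)⁻¹ * (g * eps) ∈ Subgroup.center ↥Co0 := QuotientGroup.eq.1 e.symm
    rcases hcases _ hm with h | h
    · exact Subgroup.mem_centralizer_singleton_iff.2 (inv_mul_eq_one.1 h).symm
    · exfalso
      refine no_flip g hn ?_
      rw [inv_mul_eq_iff_eq_mul.1 h, Subgroup.mem_center_iff.1 hnc (eps * g), mul_assoc]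
  exact ⟨⟨g, hmem⟩, Subtype.ext hg⟩

theorem toCC_ker : toCC.ker ≤ rho.ker := by
  intro g hg
  obtain ⟨n, hnc, hn, hcases⟩ := MonsterType.exists_negation
  have hc : (g : ↥Co0) ∈ Subgroup.center ↥Co0 :=
    (QuotientGroup.eq_one_iff _).1 (congrArg Subtype.val (MonoidHom.mem_ker.1 hg))
  refine mem_ker_rho.2 fun v => ?_
  rcases hcases _ hc with e | e
  · congr 1
    refine Subtype.ext ?_
    show (g : ↥Co0) • (v : ↥leechLattice) = _
    rw [e, one_smul]
  · have : actL g v = -v := Subtype.ext (by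
      show (g : ↥Co0) • (v : ↥leechLattice) = _
      rw [e, hn]
      rfl)
    rw [this, map_neg]
    exact funext fun k => ZModModule.neg_eq_self _

/-- The representation of the centraliser. -/
noncomputable def rhoC : ↥CC →* ↥(isometryGroup (ZMod 2) (quadFormPlus 4 (ZMod 2))) :=
  toCC.liftOfSurjective toCC_surjective ⟨rho, toCC_ker⟩

theorem rhoC_toCC (g : ↥Hc) : rhoC (toCC g) = rho g :=
  toCC.liftOfRightInverse_comp_apply _ (Function.rightInverse_surjInv toCC_surjective) ⟨rho, toCC_ker⟩ g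

theorem range_rhoC : rhoC.range = Omega (ZMod 2) (quadFormPlus 4 (ZMod 2)) := by
  rw [← range_rho]
  ext x
  constructor
  · rintro ⟨c, rfl⟩
    obtain ⟨g, rfl⟩ := toCC_surjective c
    exact ⟨g, (rhoC_toCC g).symm⟩
  · rintro ⟨g, rfl⟩
    exact ⟨toCC g, rhoC_toCC g⟩

/-- The extraspecial subgroup. -/
noncomputable def QQ : Subgroup ↥CC := rhoC.ker

/-- The embedding of the pointwise stabiliser. -/
noncomputable def emb : ↥K1 →* ↥CC := toCC.comp K1.subtype

theorem emb_injective : Function.Injective emb := by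
  rw [← MonoidHom.ker_eq_bot_iff, eq_bot_iff]
  intro g hg
  obtain ⟨n, hnc, hn, hcases⟩ := MonsterType.exists_negation
  have hc : (((g : ↥Hc) : ↥Co0)) ∈ Subgroup.center ↥Co0 :=
    (QuotientGroup.eq_one_iff _).1 (congrArg Subtype.val (MonoidHom.mem_ker.1 hg))
  rcases hcases _ hc with e | e
  · exact Subgroup.mem_bot.2 (Subtype.ext (Subtype.ext e))
  · exfalso
    have h1 := congrArg (fun u : ↥Lm => ((u : ↥leechLattice) : GolayPt → ℤ) (pt 0))
      (g.2 ⟨eightAt (pt 0), eightAt_mem_Lm (pt_mem 0)⟩)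
    change (((((g : ↥Hc) : ↥Co0)) • eightAt (pt 0) : ↥leechLattice) : GolayPt → ℤ) (pt 0) =
      (eightAt (pt 0) : GolayPt → ℤ) (pt 0) at h1
    rw [e, hn] at h1
    simp [eightAt] at h1

theorem emb_range : emb.range = QQ := by
  haveI := finite_co0
  refine Subgroup.eq_of_le_of_card_ge ?_ ?_
  · rintro _ ⟨g, rfl⟩
    show rhoC (toCC (g : ↥Hc)) = 1
    rw [rhoC_toCC]
    exact K1_le_ker g.2
  · rw [← Nat.card_congr (MonoidHom.ofInjective emb_injective).toEquiv, card_K1]
    have h1 := Subgroup.card_mul_index QQ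
    rw [QQ, Subgroup.index_ker, range_rhoC, ← range_rho, card_range_rho] at h1
    have h2 : Nat.card ↥CC * 2 ≤ Nat.card ↥Hc := by
      have h3 := Subgroup.card_mul_index toCC.ker
      rw [Subgroup.index_ker, MonoidHom.range_eq_top.2 toCC_surjective, Subgroup.card_top] at h3
      rw [← h3, mul_comm]
      refine Nat.mul_le_mul_right _ ?_
      obtain ⟨n, hnc, hn, -⟩ := MonsterType.exists_negation
      have hnH : n ∈ Hc := Subgroup.mem_centralizer_singleton_iff.2 (Subgroup.mem_center_iff.1 hnc eps).symm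
      have hne : (⟨n, hnH⟩ : ↥Hc) ≠ 1 := fun e => by
        have h4 := congrFun (congrArg Subtype.val (hn (eightAt none))) none
        rw [show n = 1 from congrArg Subtype.val e, one_smul] at h4
        simp [eightAt] at h4
      exact (Finite.one_lt_card_iff_nontrivial.2 ⟨⟨⟨_, show toCC ⟨n, hnH⟩ = 1 from
        Subtype.ext ((QuotientGroup.eq_one_iff _).2 hnc)⟩, 1, fun e => hne (congrArg Subtype.val e)⟩⟩)
    rw [card_Hc, ← h1] at h2
    show Nat.card ↥rhoC.ker ≤ 512
    linarith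

/-- The isomorphism with the pointwise stabiliser. -/
noncomputable def embEquiv : ↥K1 ≃* ↥QQ :=
  (MonoidHom.ofInjective emb_injective).trans (MulEquiv.subgroupCongr emb_range)

theorem isExtraspecial_QQ : Cfsg.IsExtraspecial 2 ↥QQ :=
  Lib.Classification.isExtraspecial_of_mulEquiv embEquiv isExtraspecial_K1

theorem card_QQ : Nat.card ↥QQ = 2 ^ 9 :=
  (Nat.card_congr embEquiv.toEquiv).symm.trans card_K1

theorem isSimple_Omega8 : IsSimpleGroup ↥(Omega (ZMod 2) (quadFormPlus 4 (ZMod 2))) := by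
  haveI := Cfsg.Agent.S0296.result (F := ZMod 2) 4 le_rfl
  have hc := Lib.Classical.card_center_Omega _ 4 (by omega)
    (Lib.Classical.hyperForm_nondegenerate 4 _ Lib.Classical.zero_nondegenerate)
    (Lib.Classical.plusEquiv 4 (ZMod 2)) _ (Lib.Classical.quadFormPlus_eq_hyper 4)
  rw [if_neg (fun h => h.1 (by decide))] at hc
  have e : ↥(Omega (ZMod 2) (quadFormPlus 4 (ZMod 2))) ≃* POmega (ZMod 2) (quadFormPlus 4 (ZMod 2)) :=
    (QuotientGroup.quotientBot.symm).trans
      (QuotientGroup.quotientMulEquivOfEq (Subgroup.card_eq_one.1 hc).symm)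
  exact e.isSimpleGroup

/-- A monomial element of the centraliser acting on the extraspecial group by a non-inner automorphism. -/
def witOk : Bool :=
  gens.any fun h => kGens.any fun x => genGood h && noComm h x && !(prodIs3 h x)
where
  prodIs3 (h x : MGen) : Bool := (List.range 24).all fun i =>
    img2 h x i == img1x zE x h i
  img1x (z x h : MGen) (i : ℕ) : ℕ × Bool :=
    ((img1 z (img2 x h i).1).1, xor (img1 z (img2 x h i).1).2 (img2 x h i).2)

theorem witOk_true : witOk = true := by decide +kernel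

theorem exists_outer : ∃ h : ↥Hc, ∃ x : ↥K1,
    (h : ↥Co0) * ((x : ↥Hc) : ↥Co0) ≠ ((x : ↥Hc) : ↥Co0) * h ∧
    (h : ↥Co0) * ((x : ↥Hc) : ↥Co0) ≠ el [.mono zE] * (((x : ↥Hc) : ↥Co0) * h) := by
  have h := witOk_true
  simp only [witOk, List.any_eq_true, Bool.and_eq_true, Bool.not_eq_true'] at h
  obtain ⟨e, he, f, hf, ⟨hg, hnc⟩, hp⟩ := h
  have hfk : f ∈ kList := List.contains_iff_mem.1 (List.all_eq_true.1 kList_good.2.2.1 f hf)
  obtain ⟨g, hgv⟩ := exists_mono_Hc he
  have hge : (g : ↥Co0) = el [.mono e] := co0_ext fun v => by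
    rw [hgv, ← vecOf_listOf (((el [.mono e] • v : ↥leechLattice)) : GolayPt → ℤ),
      el_spec (by simp [Lt.good, hg]) v]
    rfl
  obtain ⟨h1, h2⟩ := el_mem_K1 hfk
  refine ⟨g, ⟨⟨_, h1⟩, h2⟩, ?_, ?_⟩
  · rw [hge]; exact el_noComm hg (el_good hfk) hnc
  · rw [hge]
    intro heq
    rw [witOk.prodIs3, ← Bool.not_eq_true, List.all_eq_true] at hp
    refine hp fun i hi => ?_
    rw [List.mem_range] at hi
    have hfg := el_good hfk
    have hlt : ∀ (a : MGen), genGood a = true → ∀ j < 24, app a.1 j < 24 := by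
      intro a ha j hj
      simp only [genGood, Bool.and_eq_true] at ha
      rw [← repr_toPerm_of_genOk ha.1.1.1 ⟨j, hj⟩]
      exact (toPerm 24 a.1 ⟨j, hj⟩).isLt
    have e1 := congrArg (fun y : ↥Co0 => y • eightAt (enc.symm (⟨i, hi⟩ : Fin 24))) heq
    have l1 : (img2 e f i).1 < 24 := hlt e hg _ (hlt f hfg _ hi)
    have l2 : (img2 f e i).1 < 24 := hlt f hfg _ (hlt e hg _ hi)
    have l3 : (witOk.img1x zE f e i).1 < 24 := hlt zE kList_good.2.2.2.1 _ l2
    simp only at e1
    rw [el_two_smul hg hfg, mul_smul, el_two_smul hfg hg, sgnVec, sgnVec, dif_pos l1, dif_pos l2] at e1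
    have key := el_smul_eight kList_good.2.2.2.1 ⟨_, l2⟩
    rw [sgnVec, dif_pos (show (img1 zE (img2 f e i).1).1 < 24 from hlt zE kList_good.2.2.2.1 _ l2)] at key
    rw [co0_sgnB, key] at e1
    have e2 : sgnB (img2 e f i).2 (enc.symm ⟨(img2 e f i).1, l1⟩) =
        sgnB (witOk.img1x zE f e i).2 (enc.symm ⟨(witOk.img1x zE f e i).1, l3⟩) := by
      rw [e1]
      simp only [witOk.img1x]
      cases (img2 f e i).2 <;> cases (img1 zE (img2 f e i).1).2 <;> simp [sgnB]
    obtain ⟨a, b⟩ := sgnB_inj e2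
    rw [beq_iff_eq]
    exact Prod.ext (congrArg Fin.val (enc.symm.injective a)) b

theorem centralizer_QQ_le : Subgroup.centralizer (QQ : Set ↥CC) ≤ QQ := by
  haveI := isSimple_Omega8
  haveI : QQ.Normal := MonoidHom.normal_ker _
  haveI hN : (Subgroup.centralizer (QQ : Set ↥CC)).Normal := inferInstance
  have hr : ∀ c, rhoC c ∈ Omega (ZMod 2) (quadFormPlus 4 (ZMod 2)) := fun c => range_rhoC ▸ ⟨c, rfl⟩
  let r : ↥CC →* ↥(Omega (ZMod 2) (quadFormPlus 4 (ZMod 2))) := rhoC.codRestrict _ hr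
  have hrs : Function.Surjective r := fun y => by
    obtain ⟨c, hc⟩ : (y : ↥(isometryGroup (ZMod 2) (quadFormPlus 4 (ZMod 2)))) ∈ rhoC.range := range_rhoC.symm ▸ y.2
    exact ⟨c, Subtype.ext hc⟩
  rcases Subgroup.Normal.eq_bot_or_eq_top (hN.map r hrs) with h | h
  · intro c hc
    have : r c ∈ (Subgroup.centralizer (QQ : Set ↥CC)).map r := Subgroup.mem_map_of_mem _ hc
    rw [h, Subgroup.mem_bot] at this
    exact congrArg Subtype.val this
  · exfalso
    obtain ⟨g, x, hne1, hne2⟩ := exists_outer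
    have : r (toCC g) ∈ (Subgroup.centralizer (QQ : Set ↥CC)).map r := by rw [h]; exact Subgroup.mem_top _
    obtain ⟨a, ha, hae⟩ := this
    obtain ⟨a0, rfl⟩ := toCC_surjective a
    have hq : (toCC a0)⁻¹ * toCC g ∈ QQ := by
      show rhoC _ = 1
      rw [map_mul, map_inv, inv_mul_eq_one]
      exact congrArg Subtype.val hae
    rw [← emb_range] at hq
    obtain ⟨q, hq⟩ := hq
    have hx : emb x ∈ QQ := emb_range ▸ ⟨x, rfl⟩
    have hg : toCC g = toCC a0 * emb q := by rw [hq, mul_inv_cancel_left]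
    -- the commutator of `q` and `x` in the extraspecial group
    have hc : q * x * q⁻¹ * x⁻¹ ∈ Subgroup.center ↥K1 := by
      rw [← isExtraspecial_K1.1.2.2, commutator_def, ← commutatorElement_def]
      exact Subgroup.commutator_mem_commutator (Subgroup.mem_top _) (Subgroup.mem_top _)
    have hconj : toCC g * emb x * (toCC g)⁻¹ = emb (q * x * q⁻¹) := by
      have hcomm := Subgroup.mem_centralizer_iff.1 ha (emb (q * x * q⁻¹)) (emb_range ▸ ⟨_, rfl⟩)
      calc toCC g * emb x * (toCC g)⁻¹ = toCC a0 * emb (q * x * q⁻¹) * (toCC a0)⁻¹ := by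
            rw [hg, map_mul, map_mul, map_inv]; group
        _ = emb (q * x * q⁻¹) := by rw [← hcomm, mul_inv_cancel_right]
    have hnK : g * (x : ↥Hc) * g⁻¹ ∈ K1 := by
      intro v
      rw [actL_mul, actL_mul, x.2, ← actL_mul, mul_inv_cancel, actL_one]
    have hval : (⟨g * (x : ↥Hc) * g⁻¹, hnK⟩ : ↥K1) = q * x * q⁻¹ := emb_injective (by
      rw [← hconj]
      show toCC (g * (x : ↥Hc) * g⁻¹) = _
      rw [map_mul, map_mul, map_inv]
      rfl)
    have hv := congrArg (fun y : ↥K1 => ((y : ↥Hc) : ↥Co0)) hval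
    simp only [Subgroup.coe_mul, Subgroup.coe_inv] at hv
    rcases center_cases hc with e | e
    · have e' : q * x * q⁻¹ = x := mul_inv_eq_one.1 e
      rw [show ((q : ↥Hc) : ↥Co0) * ((x : ↥Hc) : ↥Co0) * ((q : ↥Hc) : ↥Co0)⁻¹ = ((x : ↥Hc) : ↥Co0) from
        congrArg (fun y : ↥K1 => ((y : ↥Hc) : ↥Co0)) e'] at hv
      exact hne1 (mul_inv_eq_iff_eq_mul.1 hv)
    · have e' : q * x * q⁻¹ = zK * x := mul_inv_eq_iff_eq_mul.1 e
      rw [show ((q : ↥Hc) : ↥Co0) * ((x : ↥Hc) : ↥Co0) * ((q : ↥Hc) : ↥Co0)⁻¹ =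
          el [.mono zE] * ((x : ↥Hc) : ↥Co0) from
        congrArg (fun y : ↥K1 => ((y : ↥Hc) : ↥Co0)) e'] at hv
      exact hne2 (by rw [← mul_assoc]; exact mul_inv_eq_iff_eq_mul.1 hv)

theorem pCore_CC : Cfsg.pCore 2 ↥CC = QQ := by
  haveI : Fact (Nat.Prime 2) := ⟨Nat.prime_two⟩
  haveI := finite_co0
  haveI hs := isSimple_Omega8
  haveI : QQ.Normal := MonoidHom.normal_ker _
  refine le_antisymm ?_ (Lib.Cores.le_pCore inferInstance (IsPGroup.of_card card_QQ))
  have hr : ∀ c, rhoC c ∈ Omega (ZMod 2) (quadFormPlus 4 (ZMod 2)) := fun c => range_rhoC ▸ ⟨c, rfl⟩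
  let r : ↥CC →* ↥(Omega (ZMod 2) (quadFormPlus 4 (ZMod 2))) := rhoC.codRestrict _ hr
  have hrs : Function.Surjective r := fun y => by
    obtain ⟨c, hc⟩ : (y : ↥(isometryGroup (ZMod 2) (quadFormPlus 4 (ZMod 2)))) ∈ rhoC.range := range_rhoC.symm ▸ y.2
    exact ⟨c, Subtype.ext hc⟩
  have hN : ((Cfsg.pCore 2 ↥CC).map r).Normal :=
    Subgroup.Normal.map (inferInstance : (Cfsg.pCore 2 ↥CC).Normal) r hrs
  rcases Subgroup.Normal.eq_bot_or_eq_top hN with h | h
  · intro c hc
    have : r c ∈ (Cfsg.pCore 2 ↥CC).map r := Subgroup.mem_map_of_mem _ hc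
    rw [h, Subgroup.mem_bot] at this
    exact congrArg Subtype.val this
  · exfalso
    have hp := (Lib.Cores.pCore_isPGroup 2 ↥CC).map r
    rw [h] at hp
    obtain ⟨k, hk⟩ := IsPGroup.iff_card.1 hp
    have h1 : Nat.card ↥(Omega (ZMod 2) (quadFormPlus 4 (ZMod 2))) = 174182400 := by
      rw [← range_rho, card_range_rho]
    rw [Subgroup.card_top, h1] at hk
    have h3 : (3 : ℕ) ∣ 2 ^ k := hk ▸ by norm_num
    have := (Nat.prime_dvd_prime_iff_eq Nat.prime_three Nat.prime_two).1 (Nat.prime_three.dvd_of_dvd_pow h3)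
    omega

theorem gfs_CC : Cfsg.generalizedFittingSubgroup ↥CC = QQ := by
  haveI : Fact (Nat.Prime 2) := ⟨Nat.prime_two⟩
  haveI := finite_co0
  rw [← pCore_CC]
  exact Lib.LocalEven2.genFitting_eq_pCore_iff.2 (by rw [pCore_CC]; exact centralizer_QQ_le)

theorem quotient_iso [QQ.Normal] : Nonempty (↥CC ⧸ QQ ≃* ↥(Omega (ZMod 2) (quadFormPlus 4 (ZMod 2)))) :=
  ⟨(QuotientGroup.quotientKerEquivRange rhoC).trans (MulEquiv.subgroupCongr range_rhoC)⟩

/-- A conjugate of the involution different from it inside the extraspecial subgroup. -/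
theorem not_weakly_closed : ∃ g : Spor.Co1, (∃ hq : g * zInv * g⁻¹ ∈ CC, (⟨g * zInv * g⁻¹, hq⟩ : ↥CC) ∈ QQ) ∧
    g * zInv * g⁻¹ ≠ zInv := by
  have ho : setOf24 0x7b420 ∈ octads := setOf24_mem_octads (by decide +kernel) (by decide +kernel)
  obtain ⟨π, hπ⟩ : ∃ π : ↥M24, π • oct = setOf24 0x7b420 := exists_smul_octad oct_mem_octads ho
  obtain ⟨d, hd⟩ := exists_diag (c := setOf24 0x7b420) (by
    rw [supports_golayCode]; exact ⟨_, mem_codeList_of_inCode (by decide +kernel), rfl⟩)
  have hdd : ∀ v : ↥leechLattice, ((d • v : ↥leechLattice) : GolayPt → ℤ) = signedPerm 1 (setOf24 0x7b420) (v : GolayPt → ℤ) :=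
    fun v => funext fun q => by rw [hd]; simp [signedPerm, Equiv.Perm.one_symm]
  have hdH : d ∈ Hc := (cross_comm_iff hdd).2 (one_smul _ _)
  have hdK : (⟨d, hdH⟩ : ↥Hc) ∈ K1 := mem_K1_iff.2 ⟨1, _, one_mem _, by
    rw [supports_golayCode]; exact ⟨_, mem_codeList_of_inCode (by decide +kernel), rfl⟩, by decide +kernel, hdd⟩
  have hconj : permHom π * eps * (permHom π)⁻¹ = d := co0_ext fun v => funext fun q => by
    rw [mul_smul, mul_smul, permHom_apply, eps_apply, ← map_inv, permHom_apply, hd]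
    have hq : q ∈ setOf24 0x7b420 ↔ (π : Perm GolayPt).symm q ∈ oct := by
      rw [← hπ]
      exact mem_smul_finset_iff (π : Perm GolayPt) oct q
    simp only [Subgroup.coe_inv, Equiv.Perm.inv_def, Equiv.symm_symm, Equiv.apply_symm_apply]
    split_ifs with h1 h2 h2
    · rfl
    · exact absurd (hq.2 h1) h2
    · exact absurd (hq.1 h2) h1
    · rfl
  have e : mkQ1 (permHom π) * zInv * (mkQ1 (permHom π))⁻¹ = mkQ1 d := by
    rw [zInv, ← map_inv, ← map_mul, ← map_mul, hconj]
  refine ⟨mkQ1 (permHom π), ⟨?_, ?_⟩, ?_⟩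
  · rw [e]; exact mem_CC ⟨d, hdH⟩
  · have h1 : toCC ⟨d, hdH⟩ ∈ QQ := emb_range ▸ ⟨⟨_, hdK⟩, rfl⟩
    convert h1 using 1
    exact Subtype.ext e
  · rw [e]
    intro h
    obtain ⟨n, hnc, hn, hcases⟩ := MonsterType.exists_negation
    have hm : eps⁻¹ * d ∈ Subgroup.center ↥Co0 := QuotientGroup.eq.1 h.symm
    have h4 : enc.symm 4 ∉ oct ∧ enc.symm 4 ∉ setOf24 0x7b420 ∧ pt 0 ∉ setOf24 0x7b420 := by decide +kernel
    rcases hcases _ hm with e' | e'
    · have := congrFun (congrArg (fun g : ↥Co0 => ((g • eightAt (pt 0) : ↥leechLattice) : GolayPt → ℤ))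
        (inv_mul_eq_one.1 e')) (pt 0)
      rw [eps_apply, hd, if_pos (pt_mem 0), if_neg h4.2.2] at this
      simp [eightAt] at this
    · have := congrFun (congrArg (fun g : ↥Co0 => ((g • eightAt (enc.symm 4) : ↥leechLattice) : GolayPt → ℤ))
        (inv_mul_eq_iff_eq_mul.1 e')) (enc.symm 4)
      rw [hd, mul_smul, hn, eps_apply, if_neg h4.2.1, if_neg h4.1, AddSubgroup.coe_neg, Pi.neg_apply] at this
      simp [eightAt] at this

end Cfsg.Agent.Lib.Recognition.OctadCent
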