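import Cfsg.Agent.Lib.Recognition.Co1CentBase
import Cfsg.Agent.Lib.ThreeTransp.M24Octad

/-!
The monomial part of the centraliser of the sign change on the octad, and the kernel of its action
on the sublattice modulo 2.
-/

set_option autoImplicit false

namespace Cfsg.Agent.Lib.Recognition.OctadCent

open Cfsg Equiv Cfsg.Agent.Lib.Compute Cfsg.Agent.Lib.Leech
open Cfsg.Agent.Lib.ThreeTransp.M24Octad (fixO mem_fixO)
open scoped Matrix Pointwise

theorem oct_mem_octads : oct ∈ octads :=
  setOf24_mem_octads (by decide +kernel) (by decide +kernel)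

theorem cls_of_red {g : ↥Hc} {v : ↥Lm} (h : red (actL g v) = red v) :
    cls ((g : ↥Co0) • (v : ↥leechLattice)) = cls (v : ↥leechLattice) := by
  obtain ⟨w, hw⟩ := red_eq_zero.1 (show red (actL g v - v) = 0 by rw [map_sub, h, sub_self])
  have he := congrArg (fun u : ↥Lm => ((u : ↥leechLattice) : GolayPt → ℤ)) hw
  refine cls_eq_iff.mpr ⟨((w : ↥leechLattice) : GolayPt → ℤ), (w : ↥leechLattice).2, ?_⟩
  simp only [AddSubgroup.coe_sub, AddSubgroup.coe_add] at he
  rw [two_nsmul]
  exact he

theorem eightAt_mem_Lm {i : GolayPt} (hi : i ∈ oct) : eightAt i ∈ Lm := fun q hq => by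
  show (Pi.single i 8 : GolayPt → ℤ) q = 0
  exact Pi.single_eq_of_ne (fun e : q = i => hq (by rw [e]; exact hi)) _

/-- Fixing the class of one frame vector puts an element in the frame stabiliser. -/
theorem mem_cross_of_red {g : ↥Hc} {i : GolayPt} (hi : i ∈ oct)
    (h : red (actL g ⟨eightAt i, eightAt_mem_Lm hi⟩) = red ⟨eightAt i, eightAt_mem_Lm hi⟩) :
    (g : ↥Co0) ∈ crossGrp := by
  show (g : ↥Co0) • crossSet (cls (eightAt none)) = _
  rw [← eightAt_congr i none, smul_crossSet, cls_of_red h]

/-- A monomial element commutes with the sign change exactly when it preserves the octad. -/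
theorem cross_comm_iff {g : ↥Co0} {π : Perm GolayPt} {c : Finset GolayPt}
    (h : ∀ v : ↥leechLattice, ((g • v : ↥leechLattice) : GolayPt → ℤ) = signedPerm π c (v : GolayPt → ℤ)) :
    g ∈ Hc ↔ π • oct = oct := by
  constructor
  · intro hg
    refine Finset.eq_of_subset_of_card_le ?_ (by rw [Finset.card_smul_finset])
    intro q hq
    obtain ⟨i, hi, rfl⟩ := Finset.mem_smul_finset.1 hq
    have hm : g • eightAt i ∈ Lm := smul_Lm ⟨g, hg⟩ (eightAt_mem_Lm hi)
    by_contra hne
    have h1 := hm _ hne
    rw [h, show ((eightAt i : ↥leechLattice) : GolayPt → ℤ) = Pi.single i 8 from rfl, signedPerm_single,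
      Perm.smul_def, Pi.single_eq_same] at h1
    split_ifs at h1 <;> omega
  · intro hπ
    refine Subgroup.mem_centralizer_singleton_iff.2 (co0_ext fun v => funext fun q => ?_)
    have hq : q ∈ oct ↔ π.symm q ∈ oct := by
      conv_lhs => rw [← hπ]
      exact mem_smul_finset_iff π oct q
    rw [mul_smul, mul_smul, h, eps_apply, h]
    simp only [signedPerm, eps_apply]
    by_cases h1 : q ∈ oct
    · simp only [if_pos h1, if_pos (hq.1 h1)]
      split_ifs <;> ring
    · simp only [if_neg h1, if_neg (fun e => h1 (hq.2 e))]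

/-- Constant on the octad. -/
def ConstOn (c : Finset GolayPt) : Prop := ∀ i ∈ oct, ∀ j ∈ oct, (i ∈ c ↔ j ∈ c)

theorem pair_mem (a b : GolayPt) : (Pi.single a 4 + Pi.single b 4 : GolayPt → ℤ) ∈ leechLattice := by
  rw [show (Pi.single a 4 + Pi.single b 4 : GolayPt → ℤ) = ThreeTransp.pairFun a b from funext fun q => by
    simp only [Pi.add_apply, Pi.single_apply, ThreeTransp.pairFun]]
  exact ThreeTransp.pairFun_mem a b

theorem mem_ker_iff {g : ↥Hc} : g ∈ rho.ker ↔ ∃ π : Perm GolayPt, ∃ c : Finset GolayPt,
    π ∈ fixO oct ∧ c ∈ supports (golayCode : Set (GolayPt → ZMod 2)) ∧ ConstOn c ∧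
    ∀ v : ↥leechLattice, (((g : ↥Co0) • v : ↥leechLattice) : GolayPt → ℤ) = signedPerm π c (v : GolayPt → ℤ) := by
  constructor
  · intro hg
    have hred := mem_ker_rho.1 hg
    obtain ⟨⟨π, hπ⟩, c, hc, happ⟩ := exists_frame_crossGrp (mem_cross_of_red (pt_mem 0) (hred _))
    have key : ∀ a ∈ oct, ∀ b ∈ oct, a ≠ b →
        (π a = a ∨ π a = b) ∧ (π a = a → π b = b → (a ∈ c ↔ b ∈ c)) := by
      intro a ha b hb hab
      let p : ↥Lm := ⟨⟨_, pair_mem a b⟩, fun q hq => by
        show (Pi.single a 4 + Pi.single b 4 : GolayPt → ℤ) q = 0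
        rw [Pi.add_apply, Pi.single_eq_of_ne (fun e : q = a => hq (by rw [e]; exact ha)),
          Pi.single_eq_of_ne (fun e : q = b => hq (by rw [e]; exact hb)), add_zero]⟩
      have hn : sqNorm ((p : ↥leechLattice) : GolayPt → ℤ) = 32 := by
        show sqNorm (Pi.single a 4 + Pi.single b 4 : GolayPt → ℤ) = 32
        have e : ∀ q, (Pi.single a 4 + Pi.single b 4 : GolayPt → ℤ) q ^ 2 =
            (Pi.single a 16 : GolayPt → ℤ) q + (Pi.single b 16 : GolayPt → ℤ) q := by
          intro q
          simp only [Pi.add_apply, Pi.single_apply]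
          split_ifs with h1 h2 <;> try norm_num
          exact absurd (h1.symm.trans h2) hab
        simp only [sqNorm, e, Finset.sum_add_distrib, Finset.sum_pi_single', Finset.mem_univ, if_true]
        norm_num
      have hpm := MonsterType.eq_or_neg (v := (p : ↥leechLattice)) (w := (g : ↥Co0) • (p : ↥leechLattice))
        (by rw [hn]; norm_num) (co0_sqNorm _ _) (cls_of_red (hred p))
      have him : (((g : ↥Co0) • (p : ↥leechLattice) : ↥leechLattice) : GolayPt → ℤ) =
          Pi.single (π a) (if π a ∈ c then -4 else 4) + Pi.single (π b) (if π b ∈ c then -4 else 4) := by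
        rw [happ]
        show signedPerm π c (Pi.single a 4 + Pi.single b 4) = _
        rw [← signedPerm_single, ← signedPerm_single]
        funext q
        simp only [signedPerm, Pi.add_apply]
        split_ifs <;> ring
      have hne : π a ≠ π b := fun e => hab (π.injective e)
      constructor
      · by_contra hcon
        push Not at hcon
        rcases hpm with e | e
        all_goals
          have h1 := congrFun (congrArg Subtype.val e) (π a)
          rw [him] at h1
          simp only [Pi.add_apply, Pi.single_eq_same, Pi.single_eq_of_ne hne, AddSubgroup.coe_neg,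
            Pi.neg_apply, p, Pi.single_eq_of_ne hcon.1, Pi.single_eq_of_ne hcon.2] at h1
          split_ifs at h1 <;> omega
      · intro ea eb
        rcases hpm with e | e
        all_goals
          have h1 := congrFun (congrArg Subtype.val e) a
          have h2 := congrFun (congrArg Subtype.val e) b
          rw [him, ea, eb] at h1 h2
          simp only [Pi.add_apply, Pi.single_eq_same, Pi.single_eq_of_ne hab, Pi.single_eq_of_ne hab.symm,
            AddSubgroup.coe_neg, Pi.neg_apply, p] at h1 h2
          by_cases hca : a ∈ c <;> by_cases hcb : b ∈ c <;> simp [hca, hcb] at h1 h2 ⊢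
    have hfix : ∀ a ∈ oct, π a = a := by
      intro a ha
      obtain ⟨j, rfl⟩ := exists_pt a ha
      have n1 : pt j ≠ pt (j + 1) := fun e => by
        have := pt_injective e
        revert this; revert j; decide
      have n2 : pt j ≠ pt (j + 2) := fun e => by
        have := pt_injective e
        revert this; revert j; decide
      rcases (key _ ha _ (pt_mem _) n1).1 with e | e
      · exact e
      · rcases (key _ ha _ (pt_mem _) n2).1 with e' | e'
        · exact e'
        · exfalso
          have := pt_injective (e.symm.trans e')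
          exact (by decide : ∀ j : Fin 8, j + 1 ≠ j + 2) j this
    refine ⟨π, c, mem_fixO.2 ⟨hπ, hfix⟩, hc, fun i hi j hj => ?_, happ⟩
    by_cases hij : i = j
    · rw [hij]
    · exact (key i hi j hj hij).2 (hfix i hi) (hfix j hj)
  · rintro ⟨π, c, hπ, -, hc, happ⟩
    refine mem_ker_rho.2 fun v => ?_
    have hs : ∀ q ∈ oct, π.symm q = q := fun q hq => by
      rw [Equiv.symm_apply_eq]
      exact ((mem_fixO.1 hπ).2 q hq).symm
    have hout : ∀ q, q ∉ oct → ((v : ↥leechLattice) : GolayPt → ℤ) (π.symm q) = 0 := fun q hq =>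
      v.2 _ fun e => hq (by
        have := (mem_fixO.1 hπ).2 _ e
        rw [Equiv.apply_symm_apply] at this
        rw [this]; exact e)
    by_cases h0 : pt 0 ∈ c
    · have : actL g v = -v := by
        refine Subtype.ext (Subtype.ext (funext fun q => ?_))
        show (((g : ↥Co0) • (v : ↥leechLattice) : ↥leechLattice) : GolayPt → ℤ) q = -((v : ↥leechLattice) : GolayPt → ℤ) q
        rw [happ, signedPerm]
        by_cases hq : q ∈ oct
        · rw [hs q hq, if_pos ((hc _ (pt_mem 0) q hq).1 h0)]
        · rw [hout q hq, v.2 q hq]; simp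
      rw [this, map_neg]
      exact funext fun k => ZModModule.neg_eq_self _
    · have : actL g v = v := by
        refine Subtype.ext (Subtype.ext (funext fun q => ?_))
        show (((g : ↥Co0) • (v : ↥leechLattice) : ↥leechLattice) : GolayPt → ℤ) q = ((v : ↥leechLattice) : GolayPt → ℤ) q
        rw [happ, signedPerm]
        by_cases hq : q ∈ oct
        · rw [hs q hq, if_neg fun e => h0 ((hc _ (pt_mem 0) q hq).2 e)]
        · rw [hout q hq, v.2 q hq]; simp
      rw [this]

/-- The kernel on the nose: the elements fixing the sublattice pointwise. -/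
noncomputable def K1 : Subgroup ↥Hc where
  carrier := {g | ∀ v : ↥Lm, actL g v = v}
  mul_mem' := fun {a b} ha hb v => by rw [actL_mul, hb v, ha v]
  one_mem' := actL_one
  inv_mem' := fun {a} ha v => by
    conv_lhs => rw [← ha v]
    rw [← actL_mul, inv_mul_cancel, actL_one]

theorem K1_le_ker : K1 ≤ rho.ker := fun _ hg => mem_ker_rho.2 fun v => by rw [hg v]

theorem mem_K1_iff {g : ↥Hc} : g ∈ K1 ↔ ∃ π : Perm GolayPt, ∃ c : Finset GolayPt,
    π ∈ fixO oct ∧ c ∈ supports (golayCode : Set (GolayPt → ZMod 2)) ∧ (∀ i ∈ oct, i ∉ c) ∧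
    ∀ v : ↥leechLattice, (((g : ↥Co0) • v : ↥leechLattice) : GolayPt → ℤ) = signedPerm π c (v : GolayPt → ℤ) := by
  constructor
  · intro hg
    obtain ⟨π, c, hπ, hc, -, happ⟩ := mem_ker_iff.1 (K1_le_ker hg)
    refine ⟨π, c, hπ, hc, fun i hi hic => ?_, happ⟩
    have h1 := congrFun (congrArg Subtype.val (congrArg Subtype.val (hg ⟨eightAt i, eightAt_mem_Lm hi⟩))) i
    change (((g : ↥Co0) • eightAt i : ↥leechLattice) : GolayPt → ℤ) i = _ at h1
    rw [happ, show ((eightAt i : ↥leechLattice) : GolayPt → ℤ) = Pi.single i 8 from rfl,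
      signedPerm_single, (mem_fixO.1 hπ).2 i hi, Pi.single_eq_same, if_pos hic] at h1
    simp [eightAt] at h1
  · rintro ⟨π, c, hπ, -, hc, happ⟩ v
    refine Subtype.ext (Subtype.ext (funext fun q => ?_))
    show (((g : ↥Co0) • (v : ↥leechLattice) : ↥leechLattice) : GolayPt → ℤ) q = ((v : ↥leechLattice) : GolayPt → ℤ) q
    rw [happ, signedPerm]
    by_cases hq : q ∈ oct
    · have e : π.symm q = q := by
        rw [Equiv.symm_apply_eq]; exact ((mem_fixO.1 hπ).2 q hq).symm
      rw [e, if_neg (hc q hq)]
    · have : π.symm q ∉ oct := fun e => hq (by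
        have := (mem_fixO.1 hπ).2 _ e
        rw [Equiv.apply_symm_apply] at this
        rw [this]; exact e)
      rw [v.2 q hq, v.2 _ this]; simp

/-- The translations of the complement. -/
def fixList : List ℕ :=
    [0x170016001500140013001200110010000f000e000d000c000b000a0009000800070006000500040003000200010000,
    0x1500160017000e000700110012000a000c00140005000f000b00100009000400130006000d00080003000200010000,
    0x140016000e001700040005000d000c000a001500110010000b000f0009000700080006001200130003000200010000,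
    0xe0016001400150008000d0005000f001000170012000a000b000c0009001300040006001100070003000200010000,
    0x130016000700040017000a0010001100050008000c000d000b00120009000e00150006000f00140003000200010000,
    0x700160013000800150010000a0012000d0004000f0005000b00110009001400170006000c000e0003000200010000,
    0x40016000800130014000f000c000d0012000700100011000b000500090015000e0006000a00170003000200010000,
    0x8001600040007000e000c000f000500110013000a0012000b000d0009001700140006001000150003000200010000,
    0x12001600110005000a0017001500070004000d000e0008000b00130009000c001000060014000f0003000200010000,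
    0x1100160012000d00100015001700130008000500140004000b00070009000f000a0006000e000c0003000200010000,
    0x50016000d0012000f0014000e00080013001100150007000b000400090010000c00060017000a0003000200010000,
    0xd001600050011000c000e001400040007001200170013000b00080009000a000f0006001500100003000200010000,
    0xa00160010000f00120013000700150014000c0008000e000b00170009000d00110006000400050003000200010000,
    0x100016000a000c0011000700130017000e000f00040014000b001500090005001200060008000d0003000200010000,
    0xf0016000c000a000500040008000e0017001000070015000b001400090011000d0006001300120003000200010000,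
    0xc0016000f0010000d0008000400140015000a00130017000b000e0009001200050006000700110003000200010000]

/-- The masks avoiding the octad. -/
def maskList : List ℕ := codeList.filter fun m => m &&& octM == 0

/-- The masks constant on the octad. -/
def constList : List ℕ := codeList.filter fun m => m &&& octM == 0 || m &&& octM == octM

theorem list_lengths : fixList.length = 16 ∧ maskList.length = 32 ∧ constList.length = 64 ∧
    maskList.Nodup ∧ constList.Nodup ∧ (fixList.map fun P => app P 4).Nodup := by decide +kernel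

theorem fix_ok : (fixList.all fun P => genGood (P, P, 0) &&
    (List.finRange 8).all fun j => app P (idx j) == (idx j : ℕ)) = true := by decide +kernel

/-- The translations as permutations. -/
noncomputable def fixPerm (P : ℕ) : Perm GolayPt := toGP (toPerm 24 P)

theorem fixPerm_mem {P : ℕ} (hP : P ∈ fixList) : fixPerm P ∈ fixO oct := by
  have h := List.all_eq_true.1 fix_ok P hP
  simp only [Bool.and_eq_true, List.all_eq_true, List.mem_finRange, forall_true_left, beq_iff_eq,
    genGood] at h
  obtain ⟨⟨⟨⟨h1, -⟩, h2⟩, -⟩, h3⟩ := h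
  have hr := repr_toPerm_of_genOk h1
  refine mem_fixO.2 ⟨toGP_mem_M24_of_presOk hr h2, fun q hq => ?_⟩
  obtain ⟨j, rfl⟩ := exists_pt q hq
  apply enc.injective
  apply Fin.ext
  rw [fixPerm, enc_toGP, hr, pt, Equiv.apply_symm_apply, h3 j]

theorem fixPerm_four {P : ℕ} (hP : P ∈ fixList) : (enc (fixPerm P (enc.symm 4)) : ℕ) = app P 4 := by
  have h := List.all_eq_true.1 fix_ok P hP
  simp only [Bool.and_eq_true, genGood] at h
  rw [fixPerm, enc_toGP, repr_toPerm_of_genOk h.1.1.1.1, Equiv.apply_symm_apply]
  rfl

theorem fixO_eq : ∀ π ∈ fixO oct, ∃ P ∈ fixList, π = fixPerm P := by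
  classical
  haveI : Fintype ↥(fixO oct) := Fintype.ofFinite _
  let f : {P // P ∈ fixList.toFinset} → ↥(fixO oct) := fun P => ⟨fixPerm P, fixPerm_mem (List.mem_toFinset.1 P.2)⟩
  have hinj : Function.Injective f := fun P R h => by
    have e : app P.1 4 = app R.1 4 := by
      have h' : fixPerm P.1 = fixPerm R.1 := congrArg Subtype.val h
      rw [← fixPerm_four (List.mem_toFinset.1 P.2), ← fixPerm_four (List.mem_toFinset.1 R.2), h']
    exact Subtype.ext (List.inj_on_of_nodup_map list_lengths.2.2.2.2.2 (List.mem_toFinset.1 P.2)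
      (List.mem_toFinset.1 R.2) e)
  have hbij := (Fintype.bijective_iff_injective_and_card f).2 ⟨hinj, by
    rw [Fintype.card_coe, List.toFinset_card_of_nodup (List.Nodup.of_map _ list_lengths.2.2.2.2.2),
      list_lengths.1, ← Nat.card_eq_fintype_card]
    exact (Cfsg.Agent.S0381.result oct oct_mem_octads).1.symm⟩
  intro π hπ
  obtain ⟨P, hP⟩ := hbij.2 ⟨π, hπ⟩
  exact ⟨P.1, List.mem_toFinset.1 P.2, (congrArg Subtype.val hP).symm⟩

theorem mem_maskList {m : ℕ} : m ∈ maskList ↔ m ∈ codeList ∧ ∀ i ∈ oct, i ∉ setOf24 m := by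
  rw [maskList, List.mem_filter, beq_iff_eq]
  refine and_congr_right fun _ => ⟨fun h i hi hm => ?_, fun h => Nat.eq_of_testBit_eq fun k => ?_⟩
  · rw [oct, mem_setOf24] at hi
    have := congrArg (fun x => Nat.testBit x (enc i : ℕ)) h
    simp [Nat.testBit_and, mem_setOf24.1 hm, hi] at this
  · rw [Nat.testBit_and, Nat.zero_testBit]
    by_cases hk : k < 24
    · by_cases ho : octM.testBit k = true
      · have := h (enc.symm ⟨k, hk⟩) (by rw [oct, mem_setOf24, Equiv.apply_symm_apply]; exact ho)
        simp [mem_setOf24] at this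
        simp [this]
      · simp [ho]
    · rw [show octM.testBit k = false from Nat.testBit_lt_two_pow
        (lt_of_lt_of_le (by norm_num [octM] : octM < 2 ^ 24) (Nat.pow_le_pow_right (by norm_num) (by omega))),
        Bool.and_false]

theorem mem_constList {m : ℕ} : m ∈ constList ↔ m ∈ codeList ∧ ConstOn (setOf24 m) := by
  have key : ∀ j : Fin 8, octM.testBit (idx j) = true := by decide +kernel
  rw [constList, List.mem_filter, Bool.or_eq_true, beq_iff_eq, beq_iff_eq]
  refine and_congr_right fun _ => ⟨fun h i hi j hj => ?_, fun h => ?_⟩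
  · rw [oct, mem_setOf24] at hi hj
    rw [mem_setOf24, mem_setOf24]
    rcases h with h | h
    all_goals
      have a := congrArg (fun x => Nat.testBit x (enc i : ℕ)) h
      have b := congrArg (fun x => Nat.testBit x (enc j : ℕ)) h
      simp [Nat.testBit_and, hi, hj] at a b
      simp [a, b]
  · by_cases h0 : m.testBit (idx 0) = true
    · right
      refine Nat.eq_of_testBit_eq fun k => ?_
      rw [Nat.testBit_and]
      by_cases ho : octM.testBit k = true
      · have hk : k < 24 := by
          by_contra hk
          rw [Nat.testBit_lt_two_pow (lt_of_lt_of_le (by norm_num [octM] : octM < 2 ^ 24)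
            (Nat.pow_le_pow_right (by norm_num) (by omega)))] at ho
          exact Bool.noConfusion ho
        have := (h (pt 0) (pt_mem 0) (enc.symm ⟨k, hk⟩) (by rw [oct, mem_setOf24, Equiv.apply_symm_apply]; exact ho)).1
          (by rw [mem_setOf24, pt, Equiv.apply_symm_apply]; exact h0)
        rw [mem_setOf24, Equiv.apply_symm_apply] at this
        simp [this, ho]
      · simp [ho]
    · left
      refine Nat.eq_of_testBit_eq fun k => ?_
      rw [Nat.testBit_and, Nat.zero_testBit]
      by_cases ho : octM.testBit k = true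
      · have hk : k < 24 := by
          by_contra hk
          rw [Nat.testBit_lt_two_pow (lt_of_lt_of_le (by norm_num [octM] : octM < 2 ^ 24)
            (Nat.pow_le_pow_right (by norm_num) (by omega)))] at ho
          exact Bool.noConfusion ho
        have := mt (h (enc.symm ⟨k, hk⟩) (by rw [oct, mem_setOf24, Equiv.apply_symm_apply]; exact ho) (pt 0) (pt_mem 0)).1
          (by rw [mem_setOf24, pt, Equiv.apply_symm_apply]; exact h0)
        rw [mem_setOf24, Equiv.apply_symm_apply] at this
        simp [this]
      · simp [ho]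

theorem card_supports_sat (L : List ℕ) (hnd : L.Nodup) (p : Finset GolayPt → Prop)
    (hL : ∀ m, m ∈ L ↔ m ∈ codeList ∧ p (setOf24 m)) :
    Nat.card {c : Finset GolayPt // c ∈ supports (golayCode : Set (GolayPt → ZMod 2)) ∧ p c} = L.length := by
  have e : {c : Finset GolayPt | c ∈ supports (golayCode : Set (GolayPt → ZMod 2)) ∧ p c}
      = setOf24 '' (L.toFinset : Set ℕ) := by
    rw [supports_golayCode]
    ext c
    constructor
    · rintro ⟨⟨m, hm, rfl⟩, hp⟩
      exact ⟨m, List.mem_toFinset.2 ((hL m).2 ⟨hm, hp⟩), rfl⟩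
    · rintro ⟨m, hm, rfl⟩
      obtain ⟨h1, h2⟩ := (hL m).1 (List.mem_toFinset.1 hm)
      exact ⟨⟨m, h1, rfl⟩, h2⟩
  show Nat.card ↥{c : Finset GolayPt | c ∈ supports (golayCode : Set (GolayPt → ZMod 2)) ∧ p c} = _
  rw [Nat.card_coe_set_eq, e, Set.ncard_image_of_injOn, Set.ncard_coe_finset,
    List.toFinset_card_of_nodup hnd]
  intro a ha b hb hab
  exact setOf24_injOn (lt_of_mem_codeList ((hL a).1 (List.mem_toFinset.1 ha)).1)
    (lt_of_mem_codeList ((hL b).1 (List.mem_toFinset.1 hb)).1) hab

theorem card_sub (p : Finset GolayPt → Prop) (S : Subgroup ↥Hc)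
    (hS : ∀ g : ↥Hc, g ∈ S ↔ ∃ π : Perm GolayPt, ∃ c : Finset GolayPt,
      π ∈ fixO oct ∧ c ∈ supports (golayCode : Set (GolayPt → ZMod 2)) ∧ p c ∧
      ∀ v : ↥leechLattice, (((g : ↥Co0) • v : ↥leechLattice) : GolayPt → ℤ) = signedPerm π c (v : GolayPt → ℤ)) :
    Nat.card ↥S = 16 * Nat.card {c : Finset GolayPt // c ∈ supports (golayCode : Set (GolayPt → ZMod 2)) ∧ p c} := by
  have hex : ∀ x : ↥(fixO oct) × {c : Finset GolayPt // c ∈ supports (golayCode : Set (GolayPt → ZMod 2)) ∧ p c},
      ∃ g : ↥S, ∀ v : ↥leechLattice, ((((g : ↥Hc) : ↥Co0) • v : ↥leechLattice) : GolayPt → ℤ)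
        = signedPerm (x.1 : Perm GolayPt) x.2.1 (v : GolayPt → ℤ) := by
    intro x
    obtain ⟨g, hg⟩ := exists_mono _ (mem_fixO.1 x.1.2).1 _ x.2.2.1
    have hH : g ∈ Hc := (cross_comm_iff hg).2
      (ThreeTransp.M24Octad.stab_of_fix (mem_fixO.1 x.1.2).2)
    exact ⟨⟨⟨g, hH⟩, (hS _).2 ⟨_, _, x.1.2, x.2.2.1, x.2.2.2, hg⟩⟩, hg⟩
  choose F hF using hex
  rw [← (Cfsg.Agent.S0381.result oct oct_mem_octads).1]
  show _ = Nat.card ↥(fixO oct) * _
  rw [← Nat.card_prod]
  refine (Nat.card_eq_of_bijective F ⟨fun x y h => ?_, fun g => ?_⟩).symm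
  · have hsame : ∀ i, (Pi.single ((x.1 : Perm GolayPt) i) (if (x.1 : Perm GolayPt) i ∈ x.2.1 then -8 else 8) : GolayPt → ℤ)
        = Pi.single ((y.1 : Perm GolayPt) i) (if (y.1 : Perm GolayPt) i ∈ y.2.1 then -8 else 8) := by
      intro i
      have h1 := hF x (eightAt i)
      rw [h, hF y (eightAt i)] at h1
      simp only [show ((eightAt i : ↥leechLattice) : GolayPt → ℤ) = Pi.single i 8 from rfl,
        signedPerm_single] at h1
      exact h1.symm
    have hπ : ∀ i, (x.1 : Perm GolayPt) i = (y.1 : Perm GolayPt) i := by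
      intro i
      by_contra hne
      have h1 := congrFun (hsame i) ((x.1 : Perm GolayPt) i)
      rw [Pi.single_eq_same, Pi.single_eq_of_ne hne] at h1
      split_ifs at h1 <;> omega
    refine Prod.ext (Subtype.ext (Equiv.ext hπ)) (Subtype.ext (Finset.ext fun q => ?_))
    obtain ⟨i, rfl⟩ := (x.1 : Perm GolayPt).surjective q
    have h1 := congrFun (hsame i) ((x.1 : Perm GolayPt) i)
    rw [← hπ i, Pi.single_eq_same, Pi.single_eq_same] at h1
    by_cases a : (x.1 : Perm GolayPt) i ∈ x.2.1 <;> by_cases b : (x.1 : Perm GolayPt) i ∈ y.2.1 <;>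
      simp [a, b] at h1 ⊢
  · obtain ⟨π, c, hπ, hc, hp, happ⟩ := (hS _).1 g.2
    exact ⟨(⟨π, hπ⟩, ⟨c, hc, hp⟩), Subtype.ext (Subtype.ext (co0_ext fun v => by rw [hF, happ]))⟩

theorem card_ker : Nat.card ↥rho.ker = 1024 := by
  rw [card_sub ConstOn rho.ker fun g => mem_ker_iff,
    card_supports_sat constList list_lengths.2.2.2.2.1 _ fun m => mem_constList, list_lengths.2.2.1]

theorem card_K1 : Nat.card ↥K1 = 512 := by
  rw [card_sub (fun c => ∀ i ∈ oct, i ∉ c) K1 fun g => mem_K1_iff,
    card_supports_sat maskList list_lengths.2.2.2.1 _ fun m => mem_maskList, list_lengths.2.1]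

end Cfsg.Agent.Lib.Recognition.OctadCent
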