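import Mathlib.GroupTheory.GroupAction.Quotient
import Mathlib.GroupTheory.GroupAction.Blocks
import Mathlib.GroupTheory.GroupAction.Primitive
import Mathlib.GroupTheory.Index
import Mathlib.GroupTheory.QuotientGroup.Basic
import Mathlib.Tactic

/-!
The subgroup generated by the derangements of a finite transitive action.
-/

set_option autoImplicit false
set_option linter.style.haveILetI false

open MulAction

namespace Cfsg.Agent.Lib.Recognition

/-- The subgroup generated by the fixed-point-free elements. -/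
abbrev derangementSubgroup (G Ω : Type*) [Group G] [MulAction G Ω] : Subgroup G :=
  Subgroup.closure {g : G | ∀ ω : Ω, g • ω ≠ ω}

variable {G Ω : Type*} [Group G] [MulAction G Ω]

instance derangementSubgroup_normal : (derangementSubgroup G Ω).Normal := by
  refine ⟨fun n hn g => ?_⟩
  induction hn using Subgroup.closure_induction with
  | mem x hx =>
    refine Subgroup.subset_closure fun ω h => hx (g⁻¹ • ω) ?_
    rw [mul_smul, mul_smul, smul_eq_iff_eq_inv_smul] at h
    exact h
  | one => simp
  | mul x y _ _ hx hy =>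
    have : g * (x * y) * g⁻¹ = (g * x * g⁻¹) * (g * y * g⁻¹) := by group
    rw [this]; exact mul_mem hx hy
  | inv x _ hx =>
    have : g * x⁻¹ * g⁻¹ = (g * x * g⁻¹)⁻¹ := by group
    rw [this]; exact inv_mem hx

variable [Finite G] [Finite Ω]

omit [Finite G] in
theorem one_le_fix_of_notMem {g : G} (hg : g ∉ derangementSubgroup G Ω) :
    1 ≤ Nat.card (fixedBy Ω g) := by
  by_contra h
  refine hg (Subgroup.subset_closure fun ω hω => h ?_)
  exact Nat.one_le_iff_ne_zero.2 (Nat.card_ne_zero.2 ⟨⟨⟨ω, hω⟩⟩, inferInstance⟩)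

/-- Burnside's lemma with `Nat.card`. -/
theorem sum_natCard_fixedBy (G X : Type*) [Group G] [Fintype G] [MulAction G X] [Finite X] :
    ∑ g : G, Nat.card (fixedBy X g) = Nat.card (orbitRel.Quotient G X) * Fintype.card G := by
  classical
  haveI := Fintype.ofFinite X
  haveI := Fintype.ofFinite (orbitRel.Quotient G X)
  simp only [Nat.card_eq_fintype_card]
  exact sum_card_fixedBy_eq_card_orbits_mul_card_group G X

/-- The derangement subgroup is transitive, and outside it every element fixes exactly one point. -/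
theorem derangementSubgroup_spec [IsPretransitive G Ω] [Nonempty Ω] :
    IsPretransitive (derangementSubgroup G Ω) Ω ∧
      ∀ g : G, g ∉ derangementSubgroup G Ω → Nat.card (fixedBy Ω g) = 1 := by
  classical
  haveI := Fintype.ofFinite G
  set D := derangementSubgroup G Ω with hD
  have hG := sum_natCard_fixedBy G Ω
  have h1 : Nat.card (orbitRel.Quotient G Ω) = 1 := by
    have : Subsingleton (orbitRel.Quotient G Ω) := pretransitive_iff_subsingleton_quotient G Ω |>.1 ‹_›
    haveI : Nonempty (orbitRel.Quotient G Ω) := ⟨Quotient.mk'' (Classical.arbitrary Ω)⟩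
    exact Nat.card_eq_one_iff_unique.2 ⟨inferInstance, inferInstance⟩
  rw [h1, one_mul] at hG
  have hDs := sum_natCard_fixedBy D Ω
  have hr : 1 ≤ Nat.card (orbitRel.Quotient D Ω) :=
    Nat.one_le_iff_ne_zero.2 (Nat.card_ne_zero.2 ⟨⟨Quotient.mk'' (Classical.arbitrary Ω)⟩, inferInstance⟩)
  rw [← Finset.sum_add_sum_compl (Finset.univ.filter (· ∈ D))] at hG
  have e1 : ∑ g ∈ Finset.univ.filter (· ∈ D), Nat.card (fixedBy Ω g)
      = ∑ d : D, Nat.card (fixedBy Ω d) := by
    rw [Finset.sum_subtype (p := (· ∈ D)) _ (by simp)]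
    refine Finset.sum_congr rfl fun d _ => ?_
    rfl
  rw [e1, hDs] at hG
  set C := (Finset.univ.filter (· ∈ D))ᶜ with hC
  have hCge : ∀ g ∈ C, 1 ≤ Nat.card (fixedBy Ω g) := by
    intro g hg
    refine one_le_fix_of_notMem (Ω := Ω) ?_
    simpa [hC] using hg
  have hcard : C.card + Fintype.card D = Fintype.card G := by
    rw [hC, Finset.card_compl, Fintype.card_subtype]
    have := Finset.card_filter_le (Finset.univ : Finset G) (· ∈ D)
    simp only [Finset.card_univ] at this
    omega
  have hCsum : C.card ≤ ∑ g ∈ C, Nat.card (fixedBy Ω g) := by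
    simpa using Finset.sum_le_sum hCge
  have hDpos : 1 ≤ Fintype.card D := Fintype.card_pos
  have hr1 : Nat.card (orbitRel.Quotient D Ω) = 1 := by
    by_contra hne
    have h2 : 2 * Fintype.card D ≤ Nat.card (orbitRel.Quotient D Ω) * Fintype.card D :=
      Nat.mul_le_mul_right _ (by omega)
    omega
  refine ⟨?_, ?_⟩
  · rw [pretransitive_iff_subsingleton_quotient]
    exact (Nat.card_eq_one_iff_unique.1 hr1).1
  · intro g hg
    rw [hr1, one_mul] at hG
    have : ∑ g ∈ C, Nat.card (fixedBy Ω g) = C.card := by omega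
    by_contra hne
    have hgC : g ∈ C := by simpa [hC] using hg
    have : ∑ g ∈ C, (1:ℕ) < ∑ g ∈ C, Nat.card (fixedBy Ω g) :=
      Finset.sum_lt_sum hCge ⟨g, hgC, by have := hCge g hgC; omega⟩
    simp only [Finset.sum_const, smul_eq_mul, mul_one] at this
    omega

/-- The ranks of a transitive group and of its derangement subgroup. -/
theorem derangementSubgroup_rank [IsPretransitive G Ω] [Nonempty Ω] :
    Nat.card (orbitRel.Quotient (derangementSubgroup G Ω) (Ω × Ω)) - 1 =
      (Nat.card (orbitRel.Quotient G (Ω × Ω)) - 1) * (derangementSubgroup G Ω).index := by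
  classical
  haveI := Fintype.ofFinite G
  set D := derangementSubgroup G Ω with hD
  obtain ⟨-, h1⟩ := derangementSubgroup_spec (G := G) (Ω := Ω)
  have hsq : ∀ g : G, Nat.card (fixedBy (Ω × Ω) g) = Nat.card (fixedBy Ω g) * Nat.card (fixedBy Ω g) := by
    intro g
    rw [← Nat.card_prod]
    exact Nat.card_congr
      { toFun := fun x => (⟨x.1.1, congrArg Prod.fst x.2⟩, ⟨x.1.2, congrArg Prod.snd x.2⟩)
        invFun := fun y => ⟨(y.1.1, y.2.1), Prod.ext y.1.2 y.2.2⟩
        left_inv := fun _ => rfl
        right_inv := fun _ => rfl }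
  have hG := sum_natCard_fixedBy G (Ω × Ω)
  have hDs := sum_natCard_fixedBy D (Ω × Ω)
  rw [← Finset.sum_add_sum_compl (Finset.univ.filter (· ∈ D))] at hG
  have e1 : ∑ g ∈ Finset.univ.filter (· ∈ D), Nat.card (fixedBy (Ω × Ω) g)
      = ∑ d : D, Nat.card (fixedBy (Ω × Ω) d) := by
    rw [Finset.sum_subtype (p := (· ∈ D)) _ (by simp)]
    refine Finset.sum_congr rfl fun d _ => ?_
    rfl
  rw [e1, hDs] at hG
  set C := (Finset.univ.filter (· ∈ D))ᶜ with hC
  have hCs : ∑ g ∈ C, Nat.card (fixedBy (Ω × Ω) g) = C.card := by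
    rw [Finset.card_eq_sum_ones]
    refine Finset.sum_congr rfl fun g hg => ?_
    rw [hsq, h1 g (by simpa [hC] using hg)]
  rw [hCs] at hG
  have hcard : C.card + Fintype.card D = Fintype.card G := by
    rw [hC, Finset.card_compl, Fintype.card_subtype]
    have := Finset.card_filter_le (Finset.univ : Finset G) (· ∈ D)
    simp only [Finset.card_univ] at this
    omega
  have hidx : Fintype.card D * D.index = Fintype.card G := by
    have := D.card_mul_index
    simpa [Nat.card_eq_fintype_card] using this
  have hDpos : 1 ≤ Fintype.card D := Fintype.card_pos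
  have hpos : 1 ≤ Nat.card (orbitRel.Quotient G (Ω × Ω)) :=
    Nat.one_le_iff_ne_zero.2 (Nat.card_ne_zero.2
      ⟨⟨Quotient.mk'' (Classical.arbitrary (Ω × Ω))⟩, inferInstance⟩)
  have hpos' : 1 ≤ Nat.card (orbitRel.Quotient D (Ω × Ω)) :=
    Nat.one_le_iff_ne_zero.2 (Nat.card_ne_zero.2
      ⟨⟨Quotient.mk'' (Classical.arbitrary (Ω × Ω))⟩, inferInstance⟩)
  obtain ⟨a, ha⟩ := Nat.exists_eq_add_of_le hpos'
  obtain ⟨b, hb⟩ := Nat.exists_eq_add_of_le hpos
  rw [ha, hb] at hG ⊢
  simp only [Nat.add_sub_cancel_left]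
  have h : a * Fintype.card D = (b * D.index) * Fintype.card D := by nlinarith
  exact Nat.eq_of_mul_eq_mul_right hDpos h

/-- An invariant set containing `α` has size congruent to `1` modulo the index of the derangement
subgroup. -/
theorem derangementSubgroup_index_dvd [IsPretransitive G Ω] (α : Ω) (S : Set Ω) (hα : α ∈ S)
    (hS : ∀ g ∈ stabilizer G α, ∀ x ∈ S, g • x ∈ S) :
    (derangementSubgroup G Ω).index ∣ S.ncard - 1 := by
  classical
  haveI : Nonempty Ω := ⟨α⟩
  set D := derangementSubgroup G Ω with hD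
  obtain ⟨htr, h1⟩ := derangementSubgroup_spec (G := G) (Ω := Ω)
  set H := stabilizer G α with hH
  have hsup : H ⊔ D = ⊤ := by
    rw [eq_top_iff]
    intro g _
    obtain ⟨d, hd⟩ := htr.exists_smul_eq α (g • α)
    have hmem : (d : G)⁻¹ * g ∈ H := by
      rw [hH, mem_stabilizer_iff, mul_smul, ← hd]
      exact inv_smul_smul (d : G) α
    have : g = (d : G) * ((d : G)⁻¹ * g) := by group
    rw [this]
    exact mul_mem (Subgroup.mem_sup_right d.2) (Subgroup.mem_sup_left hmem)
  have hidx : (D.subgroupOf H).index = D.index := by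
    change D.relIndex H = D.index
    rw [← Subgroup.relIndex_sup_right, hsup, Subgroup.relIndex_top_right]
  let T : SubMulAction H Ω :=
    { carrier := S \ {α}
      smul_mem' := fun g x hx => ⟨hS g g.2 x hx.1, fun h => hx.2 (by
        have h' : (g : G) • x = (g : G) • α := by
          rw [show (g : G) • α = α from g.2]; exact h
        exact MulAction.injective _ h')⟩ }
  haveI : Finite (orbitRel.Quotient H T) := Quotient.finite _
  haveI := Fintype.ofFinite (orbitRel.Quotient H T)
  have hc : Nat.card T = ∑ o : orbitRel.Quotient H T, Nat.card (orbit H o.out) := by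
    rw [Nat.card_congr (selfEquivSigmaOrbits H T), Nat.card_sigma]
  have hT : Nat.card T = S.ncard - 1 := by
    rw [← Set.ncard_sdiff_singleton_of_mem hα]
    rfl
  rw [← hT, hc]
  refine Finset.dvd_sum fun o _ => ?_
  rw [show Nat.card (orbit H o.out) = (stabilizer H o.out).index from (index_stabilizer H _).symm,
    ← hidx]
  refine Subgroup.index_dvd_of_le fun h hh => ?_
  rw [Subgroup.mem_subgroupOf]
  by_contra hn
  have hfix : (h : G) • (o.out : Ω) = (o.out : Ω) := congrArg Subtype.val hh
  have h0 := h1 _ hn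
  haveI : Subsingleton (fixedBy Ω (h : G)) := (Nat.card_eq_one_iff_unique.1 h0).1
  have := Subsingleton.elim (⟨o.out, hfix⟩ : fixedBy Ω (h : G)) ⟨α, h.2⟩
  exact o.out.2.2 (by simpa using congrArg Subtype.val this)

end Cfsg.Agent.Lib.Recognition
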