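import Cfsg.Agent.Lib.Recognition.TenSpectrum

/-!
`2⁶ ⋊ A₈` has the spectrum of `S₈`.
-/

set_option autoImplicit false

namespace Cfsg.Agent.Lib.Recognition.EightModel

open Cfsg.Agent.Lib.AltOrders Equiv

/-- The acting group. -/
abbrev A := alternatingGroup (Fin 8)

/-- Even functions. -/
def even8 : AddSubgroup (Fin 8 → ZMod 2) where
  carrier := {v | ∑ i, v i = 0}
  add_mem' := fun {a b} ha hb => by
    show ∑ i, (a + b) i = 0
    simp only [Pi.add_apply, Finset.sum_add_distrib]
    rw [show ∑ i, a i = 0 from ha, show ∑ i, b i = 0 from hb, add_zero]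
  zero_mem' := by simp
  neg_mem' := fun {a} ha => by
    show ∑ i, (-a) i = 0
    simp only [Pi.neg_apply, Finset.sum_neg_distrib]
    rw [show ∑ i, a i = 0 from ha, neg_zero]

/-- Pairwise sums. -/
def pairs : (Fin 8 → ZMod 2) →+ (Fin 8 × Fin 8 → ZMod 2) where
  toFun v ij := v ij.1 + v ij.2
  map_zero' := by ext; simp
  map_add' v w := by ext ij; simp only [Pi.add_apply]; ring

/-- The module: even functions modulo constants. -/
def modV : AddSubgroup (Fin 8 × Fin 8 → ZMod 2) := even8.map pairs

/-- The action of one permutation. -/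
def act (h : A) (f : modV) : modV :=
  ⟨fun ij => (f : Fin 8 × Fin 8 → ZMod 2) ((h : Perm (Fin 8)).symm ij.1, (h : Perm (Fin 8)).symm ij.2), by
    obtain ⟨v, hv, e⟩ := f.2
    refine ⟨fun i => v ((h : Perm (Fin 8)).symm i), ?_, funext fun ij => ?_⟩
    · show ∑ i, v ((h : Perm (Fin 8)).symm i) = 0
      rw [Equiv.sum_comp (h : Perm (Fin 8)).symm v]; exact hv
    · rw [← e]; rfl⟩

theorem act_one (f : modV) : act 1 f = f := Subtype.ext rfl

theorem act_mul (a b : A) (f : modV) : act (a * b) f = act a (act b f) := Subtype.ext rfl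

theorem act_add (h : A) (f g : modV) : act h (f + g) = act h f + act h g := Subtype.ext rfl

/-- The action as automorphisms. -/
def actHom : A →* MulAut (Multiplicative modV) where
  toFun h :=
    { toFun := fun v => Multiplicative.ofAdd (act h v.toAdd)
      invFun := fun v => Multiplicative.ofAdd (act h⁻¹ v.toAdd)
      left_inv := fun v => Multiplicative.toAdd.injective (show act h⁻¹ (act h v.toAdd) = v.toAdd by rw [← act_mul, inv_mul_cancel, act_one])
      right_inv := fun v => Multiplicative.toAdd.injective (show act h (act h⁻¹ v.toAdd) = v.toAdd by rw [← act_mul, mul_inv_cancel, act_one])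
      map_mul' := fun v w => Multiplicative.toAdd.injective (act_add h v.toAdd w.toAdd) }
  map_one' := MulEquiv.ext fun v => Multiplicative.toAdd.injective (act_one _)
  map_mul' a b := MulEquiv.ext fun v => Multiplicative.toAdd.injective (act_mul a b _)

/-- The semidirect product. -/
abbrev G := SemidirectProduct (Multiplicative modV) A actHom

instance : Finite G := Finite.of_equiv _ SemidirectProduct.equivProd.symm

theorem exponent_module (v : Multiplicative modV) : v ^ 2 = 1 := by
  apply Multiplicative.toAdd.injective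
  rw [toAdd_pow, toAdd_one]
  refine Subtype.ext (funext fun ij => ?_)
  show (2 : ℕ) • (v.toAdd : Fin 8 × Fin 8 → ZMod 2) ij = 0
  rw [nsmul_eq_mul, show ((2 : ℕ) : ZMod 2) = 0 from by decide, zero_mul]

theorem fixed_left (g : G) {m : ℕ} (hm : g.right ^ m = 1) :
    act g.right (g ^ m).left.toAdd = (g ^ m).left.toAdd := by
  have hr : (g ^ m).right = 1 := by
    have h : SemidirectProduct.rightHom (g ^ m) = 1 := by rw [map_pow]; exact hm
    exact h
  have hc : (g * g ^ m).left = (g ^ m * g).left := by rw [← pow_succ', ← pow_succ]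
  rw [SemidirectProduct.mul_left, SemidirectProduct.mul_left, hr, map_one, MulAut.one_apply, mul_comm (g ^ m).left] at hc
  exact congrArg Multiplicative.toAdd (mul_left_cancel hc)

/-- A `7`-cycle. -/
def c7 : Perm (Fin 8) := List.formPerm [0, 1, 2, 3, 4, 5, 6]

/-- A product of a `5`-cycle and a `3`-cycle. -/
def c15 : Perm (Fin 8) := List.formPerm [0, 1, 2, 3, 4] * List.formPerm [5, 6, 7]

theorem fix_c7 : ∀ v : Fin 8 → ZMod 2, (∑ i, v i = 0) →
    (∀ i j, v (c7 i) + v (c7 j) = v i + v j) → ∀ i j, v i + v j = 0 := by decide +kernel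

theorem fix_c15 : ∀ v : Fin 8 → ZMod 2, (∑ i, v i = 0) →
    (∀ i j, v (c15 i) + v (c15 j) = v i + v j) → ∀ i j, v i + v j = 0 := by decide +kernel

theorem fixed_zero {a : A} (σ : Perm (Fin 8))
    (hfix : ∀ v : Fin 8 → ZMod 2, (∑ i, v i = 0) →
      (∀ i j, v (σ i) + v (σ j) = v i + v j) → ∀ i j, v i + v j = 0)
    (hc : IsConj σ (a : Perm (Fin 8))) {f : modV} (hf : act a f = f) : f = 0 := by
  obtain ⟨c, hc⟩ := isConj_iff.mp hc
  obtain ⟨v, hv, e⟩ := f.2
  have hfx : ∀ i j, v i + v j = v ((a : Perm (Fin 8)) i) + v ((a : Perm (Fin 8)) j) := by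
    intro i j
    have h := congrFun (congrArg Subtype.val hf) ((a : Perm (Fin 8)) i, (a : Perm (Fin 8)) j)
    simp only [act, Equiv.symm_apply_apply] at h
    rw [← e] at h
    exact h
  have key := hfix (fun i => v (c i)) (by rw [Equiv.sum_comp c v]; exact hv) fun i j => by
    have h := hfx (c i) (c j)
    rw [← hc] at h
    simp only [Perm.mul_apply, Perm.inv_def, Equiv.symm_apply_apply] at h
    exact h.symm
  refine Subtype.ext (funext fun ij => ?_)
  rw [← e]
  simpa [pairs] using key (c.symm ij.1) (c.symm ij.2)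

theorem reach_alt_eight : ∀ x ∈ reachPairs 8, x.2 = 0 → x.1 ∈ ({1, 2, 3, 4, 5, 6, 7, 15} : Finset ℕ) := by
  decide +kernel

theorem fixed_seven {a : A} (h : orderOf a = 7 ∨ orderOf a = 15) {f : modV} (hf : act a f = f) : f = 0 := by
  obtain ⟨h1, h2, h3, -⟩ := cycleType_spec a
  set s := (a : Perm (Fin 8)).cycleType with hs
  rcases h with h | h
  · refine fixed_zero c7 fix_c7 ?_ hf
    rw [Perm.isConj_iff_cycleType_eq, show c7.cycleType = {7} by decide +kernel]
    rw [h1] at h
    have hdvd : ∀ x ∈ s, x = 7 := fun x hx => by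
      have hd : x ∣ 7 := h ▸ Multiset.dvd_lcm hx
      have := h3 x hx
      rcases (Nat.dvd_prime (by norm_num)).mp hd with e | e <;> omega
    have hrep := Multiset.eq_replicate_card.mpr hdvd
    rw [hrep, Multiset.sum_replicate, smul_eq_mul] at h2
    rcases (show Multiset.card s = 0 ∨ Multiset.card s = 1 by omega) with e | e
    · rw [Multiset.card_eq_zero.mp e] at h
      simp at h
    · rw [← hs, hrep, e]; rfl
  · refine fixed_zero c15 fix_c15 ?_ hf
    rw [Perm.isConj_iff_cycleType_eq, show c15.cycleType = {5, 3} by decide +kernel]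
    rw [h1] at h
    have hdvd : ∀ x ∈ s, x = 5 ∨ x = 3 := fun x hx => by
      have hd : x ∣ 15 := h ▸ Multiset.dvd_lcm hx
      have h1 := h3 x hx
      have hx15 := Nat.mem_divisors.mpr ⟨hd, by norm_num⟩
      rw [show Nat.divisors 15 = {1, 3, 5, 15} from by decide] at hx15
      simp only [Finset.mem_insert, Finset.mem_singleton] at hx15
      have : x ≤ 8 := le_trans (Multiset.single_le_sum (fun _ _ => Nat.zero_le _) x hx) h2
      omega
    have h5 : 5 ∈ s := by
      by_contra hne
      have : s.lcm ∣ 3 := Multiset.lcm_dvd.mpr fun x hx => by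
        rcases hdvd x hx with rfl | rfl
        · exact absurd hx hne
        · rfl
      rw [h] at this; norm_num at this
    have h3' : 3 ∈ s := by
      by_contra hne
      have : s.lcm ∣ 5 := Multiset.lcm_dvd.mpr fun x hx => by
        rcases hdvd x hx with rfl | rfl
        · rfl
        · exact absurd hx hne
      rw [h] at this; norm_num at this
    obtain ⟨t, ht⟩ := Multiset.exists_cons_of_mem h5
    have h3t : 3 ∈ t := by rw [ht] at h3'; simpa using h3'
    obtain ⟨r, hr⟩ := Multiset.exists_cons_of_mem h3t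
    subst hr
    have hr0 : r = 0 := by
      refine Multiset.eq_zero_of_forall_notMem fun x hx => ?_
      rw [ht, Multiset.sum_cons, Multiset.sum_cons] at h2
      have := Multiset.single_le_sum (fun _ _ => Nat.zero_le _) x hx
      have := h3 x (by rw [ht]; simp [hx])
      omega
    rw [← hs, ht, hr0]; rfl

/-- An element of the module. -/
def mkV (v : Fin 8 → ZMod 2) (hv : ∑ i, v i = 0) : modV := ⟨pairs v, v, hv, rfl⟩

theorem lift_order (g : G) {m : ℕ} (hm : orderOf g.right = m) (ij : Fin 8 × Fin 8)
    (h : ((g ^ m).left.toAdd : Fin 8 × Fin 8 → ZMod 2) ij ≠ 0) : orderOf g = m * 2 := by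
  have hne : g ^ m ≠ 1 := fun e => h (by rw [e]; rfl)
  have h2 : g ^ (m * 2) = 1 := by
    have hr : (g ^ m).right = 1 := by
      have : SemidirectProduct.rightHom (g ^ m) = 1 := by rw [map_pow, ← hm]; exact pow_orderOf_eq_one g.right
      exact this
    rw [pow_mul, ← SemidirectProduct.inl_left_mul_inr_right (g ^ m), hr, map_one, mul_one, ← map_pow,
      exponent_module, map_one]
  obtain ⟨c, hc⟩ : m ∣ orderOf g := hm ▸ orderOf_map_dvd SemidirectProduct.rightHom g
  have hm0 : 0 < m := hm ▸ orderOf_pos _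
  have hc2 : c ∣ 2 := Nat.dvd_of_mul_dvd_mul_left hm0 (hc ▸ orderOf_dvd_of_pow_eq_one h2)
  rcases (Nat.dvd_prime Nat.prime_two).1 hc2 with rfl | rfl
  · rw [mul_one] at hc; exact absurd (hc ▸ pow_orderOf_eq_one g) hne
  · exact hc

/-- An element over a `4`-cycle. -/
def g8 : G := ⟨Multiplicative.ofAdd (mkV (Pi.single 0 1 + Pi.single 6 1) (by decide)),
  ⟨List.formPerm [0, 1, 2, 3] * List.formPerm [4, 5], by rw [Perm.mem_alternatingGroup]; decide +kernel⟩⟩

/-- An element over a `5`-cycle. -/
def g10 : G := ⟨Multiplicative.ofAdd (mkV (Pi.single 0 1 + Pi.single 5 1) (by decide)),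
  ⟨List.formPerm [0, 1, 2, 3, 4], by rw [Perm.mem_alternatingGroup]; decide +kernel⟩⟩

/-- An element over a permutation of order six. -/
def g12 : G := ⟨Multiplicative.ofAdd (mkV (Pi.single 3 1 + Pi.single 7 1) (by decide)),
  ⟨List.formPerm [0, 1, 2] * List.formPerm [3, 4] * List.formPerm [5, 6], by
    rw [Perm.mem_alternatingGroup]; decide +kernel⟩⟩

theorem spectrum : Set.range (orderOf : G → ℕ) = (({1, 2, 3, 4, 5, 6, 7, 8, 10, 12, 15} : Finset ℕ) : Set ℕ) := by
  ext n
  constructor
  · rintro ⟨g, rfl⟩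
    obtain ⟨h1, h2, h3, h4⟩ := cycleType_spec g.right
    have hm := reach_alt_eight _ (mem_reachPairs _ 8 h2 h3) (Nat.even_iff.1 h4)
    rw [← h1] at hm
    set m := orderOf g.right with hmdef
    have hgm : g.right ^ m = 1 := pow_orderOf_eq_one _
    have hdvd : m ∣ orderOf g := orderOf_map_dvd SemidirectProduct.rightHom g
    have hr : (g ^ m).right = 1 := by
      have : SemidirectProduct.rightHom (g ^ m) = 1 := by rw [map_pow]; exact hgm
      exact this
    have hg2 : g ^ (m * 2) = 1 := by
      rw [pow_mul, ← SemidirectProduct.inl_left_mul_inr_right (g ^ m), hr, map_one, mul_one, ← map_pow,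
        exponent_module, map_one]
    obtain ⟨c, hc⟩ := hdvd
    have hm0 : 0 < m := orderOf_pos _
    have hc2 : c ∣ 2 := Nat.dvd_of_mul_dvd_mul_left hm0 (hc ▸ orderOf_dvd_of_pow_eq_one hg2)
    simp only [Finset.mem_insert, Finset.mem_singleton] at hm
    rcases (Nat.dvd_prime Nat.prime_two).1 hc2 with rfl | rfl
    · rw [hc, mul_one]
      rcases hm with e | e | e | e | e | e | e | e <;> rw [e] <;> decide
    · by_cases h7 : m = 7 ∨ m = 15
      · exfalso
        have h0 := fixed_seven h7 (fixed_left g hgm)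
        have hone : g ^ m = 1 := by
          rw [← SemidirectProduct.inl_left_mul_inr_right (g ^ m), hr, map_one, mul_one,
            show (g ^ m).left = 1 from Multiplicative.toAdd.injective h0, map_one]
        have := Nat.le_of_dvd hm0 (orderOf_dvd_of_pow_eq_one hone)
        omega
      · rw [hc]
        push Not at h7
        rcases hm with e | e | e | e | e | e | e | e <;>
          first | omega | (rw [e]; decide)
  · intro hn
    have o8 : orderOf g8 = 4 * 2 := by
      refine lift_order g8 ?_ (0, 4) (by decide +kernel)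
      rw [← Subgroup.orderOf_coe]
      exact orderOf_eq_prime_pow (p := 2) (n := 1) (by decide +kernel) (by decide +kernel)
    have o10 : orderOf g10 = 5 * 2 := by
      refine lift_order g10 ?_ (0, 6) (by decide +kernel)
      rw [← Subgroup.orderOf_coe]
      haveI : Fact (Nat.Prime 5) := ⟨by norm_num⟩
      exact orderOf_eq_prime (by decide +kernel) (by decide +kernel)
    have o12 : orderOf g12 = 6 * 2 := by
      refine lift_order g12 ?_ (3, 0) (by decide +kernel)
      rw [← Subgroup.orderOf_coe, orderOf_eq_iff (by norm_num)]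
      exact ⟨by decide +kernel, fun k hk hk0 => by interval_cases k <;> decide +kernel⟩
    have hinr : ∀ x : A, orderOf x ∈ Set.range (orderOf : G → ℕ) := fun x =>
      ⟨SemidirectProduct.inr x, orderOf_injective _ SemidirectProduct.inr_injective x⟩
    have hdiv : ∀ (x : G) (d : ℕ), d ∣ orderOf x → d ∈ Set.range (orderOf : G → ℕ) := fun x d hd =>
      ⟨x ^ (orderOf x / d), orderOf_pow_orderOf_div (orderOf_pos x).ne' hd⟩
    have key : ∀ (l : List ℕ) (hl : l.sum ≤ 8 ∧ (∀ a ∈ l, 2 ≤ a) ∧ (l.sum + l.length) % 2 = 0) (v : ℕ),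
        (l : Multiset ℕ).lcm = v → v ∈ Set.range (orderOf : G → ℕ) := by
      rintro l ⟨h1, h2, h3⟩ v rfl
      obtain ⟨g, hg⟩ := exists_orderOf_eq (n := 8) (l : Multiset ℕ) (by simpa using h1) (by simpa using h2)
        (Nat.even_iff.2 (by simpa using h3))
      exact hg ▸ hinr g
    simp only [Finset.coe_insert, Finset.coe_singleton, Set.mem_insert_iff, Set.mem_singleton_iff] at hn
    rcases hn with rfl | rfl | rfl | rfl | rfl | rfl | rfl | rfl | rfl | rfl | rfl
    · exact ⟨1, orderOf_one⟩
    · exact hdiv g8 2 (by rw [o8]; decide)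
    · exact key [3] (by decide) _ (by decide +kernel)
    · exact hdiv g8 4 (by rw [o8]; decide)
    · exact key [5] (by decide) _ (by decide +kernel)
    · exact hdiv g12 6 (by rw [o12]; decide)
    · exact key [7] (by decide) _ (by decide +kernel)
    · exact ⟨g8, o8⟩
    · exact ⟨g10, o10⟩
    · exact ⟨g12, o12⟩
    · exact key [5, 3] (by decide) _ (by decide +kernel)

/-- The module as a subgroup. -/
def vPart : Subgroup G := (SemidirectProduct.inl : Multiplicative modV →* G).range

instance : vPart.Normal := by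
  rw [show vPart = (SemidirectProduct.rightHom : G →* A).ker from SemidirectProduct.range_inl_eq_ker_rightHom]
  infer_instance

theorem vPart_exponent : ∀ v ∈ vPart, v ^ 2 = 1 := by
  rintro _ ⟨v, rfl⟩
  rw [← map_pow, exponent_module, map_one]

theorem vPart_ne_bot : vPart ≠ ⊥ := by
  intro h
  have hm : SemidirectProduct.inl (φ := actHom) g8.left ∈ vPart := ⟨_, rfl⟩
  rw [h, Subgroup.mem_bot] at hm
  have h0 : ((SemidirectProduct.inl (φ := actHom) g8.left).left.toAdd : Fin 8 × Fin 8 → ZMod 2) (0, 1) = 0 := by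
    rw [hm]; rfl
  exact absurd h0 (by decide +kernel)

end Cfsg.Agent.Lib.Recognition.EightModel
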