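import Mathlib.GroupTheory.GroupAction.Primitive
import Mathlib.GroupTheory.GroupAction.Quotient
import Mathlib.GroupTheory.GroupAction.Blocks
import Mathlib.Tactic

/-!
Extremely primitive groups: the point stabilizer is faithful on each nontrivial suborbit.
-/

set_option autoImplicit false
set_option linter.style.haveILetI false

open MulAction
open scoped Pointwise

namespace Cfsg.Agent.Lib.Recognition

variable {G Ω : Type*} [Group G] [Finite G] [MulAction G Ω] [Finite Ω]

/-- The subdegree of the pair `a, b`. -/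
noncomputable def subdeg (G : Type*) [Group G] {Ω : Type*} [MulAction G Ω] (a b : Ω) : ℕ :=
  (orbit (stabilizer G a) b).ncard

omit [Finite G] in
theorem subdeg_smul (g : G) (a b : Ω) : subdeg G (g • a) (g • b) = subdeg G a b := by
  unfold subdeg
  have : orbit (stabilizer G (g • a)) (g • b) = (fun x => g • x) '' orbit (stabilizer G a) b := by
    ext x
    constructor
    · rintro ⟨⟨k, hk⟩, rfl⟩
      rw [mem_stabilizer_iff] at hk
      refine ⟨(g⁻¹ * k * g) • b, ⟨⟨g⁻¹ * k * g, ?_⟩, rfl⟩, ?_⟩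
      · rw [mem_stabilizer_iff, mul_smul, mul_smul, hk, inv_smul_smul]
      · show g • (g⁻¹ * k * g) • b = k • g • b
        rw [← mul_smul, ← mul_smul]; group
    · rintro ⟨_, ⟨⟨k, hk⟩, rfl⟩, rfl⟩
      rw [mem_stabilizer_iff] at hk
      refine ⟨⟨g * k * g⁻¹, ?_⟩, ?_⟩
      · rw [mem_stabilizer_iff, mul_smul, mul_smul, inv_smul_smul, hk]
      · show (g * k * g⁻¹) • g • b = g • k • b
        rw [← mul_smul, ← mul_smul]; group
  rw [this, Set.ncard_image_of_injective _ (MulAction.injective g)]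

theorem subdeg_symm [IsPretransitive G Ω] (a b : Ω) : subdeg G a b = subdeg G b a := by
  classical
  have key : ∀ x y : Ω, subdeg G x y * Nat.card ↥(stabilizer G x ⊓ stabilizer G y) = Nat.card (stabilizer G x) := by
    intro x y
    unfold subdeg
    have e : Nat.card (stabilizer (stabilizer G x) y) = Nat.card ↥(stabilizer G x ⊓ stabilizer G y) :=
      Nat.card_congr
        { toFun := fun k => ⟨k.1.1, k.1.2, k.2⟩
          invFun := fun k => ⟨⟨k.1, k.2.1⟩, k.2.2⟩
          left_inv := fun _ => rfl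
          right_inv := fun _ => rfl }
    rw [← index_stabilizer, ← e, mul_comm, Subgroup.card_mul_index]
  have h1 := key a b
  have h2 := key b a
  rw [inf_comm] at h2
  have h3 : Nat.card (stabilizer G a) = Nat.card (stabilizer G b) := by
    obtain ⟨g, rfl⟩ := MulAction.exists_smul_eq G a b
    exact Nat.card_congr (stabilizerEquivStabilizer rfl).toEquiv
  rw [h3, ← h2] at h1
  exact Nat.eq_of_mul_eq_mul_right Nat.card_pos h1

/-- In an extremely primitive group with nontrivial point stabilizers, an element of a point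
stabilizer fixing a nontrivial suborbit pointwise is trivial. -/
theorem eq_one_of_fixes_suborbit [FaithfulSMul G Ω] (hprim : IsPreprimitive G Ω)
    (hH : ∀ α : Ω, stabilizer G α ≠ ⊥)
    (hep : ∀ (α : Ω) (ω : Ω), IsPreprimitive (stabilizer G α) (orbit (stabilizer G α) ω))
    {α ω : Ω} (hω : ω ≠ α) {g : G} (hg : g ∈ stabilizer G α)
    (hfix : ∀ x ∈ orbit (stabilizer G α) ω, g • x = x) : g = 1 := by
  classical
  haveI := hprim
  haveI : Nontrivial Ω := ⟨ω, α, hω⟩
  haveI := Fintype.ofFinite Ω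
  let H := stabilizer G α
  let K : Subgroup H :=
    { carrier := {k | ∀ x ∈ orbit H ω, k • x = x}
      one_mem' := fun x _ => one_smul _ x
      mul_mem' := fun {a b} ha hb x hx => by rw [mul_smul, hb x hx, ha x hx]
      inv_mem' := fun {a} ha x hx => by rw [inv_smul_eq_iff, ha x hx] }
  haveI hKn : K.Normal := ⟨fun k hk c x hx => by
    have h1 : c⁻¹ • x ∈ orbit H ω := by
      obtain ⟨d, rfl⟩ := hx
      exact ⟨c⁻¹ * d, mul_smul _ _ _⟩
    rw [mul_smul, mul_smul, hk _ h1, smul_inv_smul]⟩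
  by_contra hne
  have hgK : (⟨g, hg⟩ : H) ∈ K := hfix
  -- points moved by `K`
  have htr : ∀ z : Ω, (∃ k ∈ K, k • z ≠ z) → ∀ y ∈ orbit H z, ∃ k ∈ K, k • z = y := by
    rintro z ⟨k, hk, hkz⟩ y hy
    haveI := hep α z
    haveI : IsPretransitive K (orbit H z) := by
      refine IsQuasiPreprimitive.isPretransitive_of_normal (G := H) fun h => hkz ?_
      have hz : (⟨z, mem_orbit_self z⟩ : orbit H z) ∈ fixedPoints K (orbit H z) := by rw [h]; trivial
      exact congrArg Subtype.val (hz ⟨k, hk⟩)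
    obtain ⟨⟨c, hc⟩, hcy⟩ := MulAction.exists_smul_eq K (⟨z, mem_orbit_self z⟩ : orbit H z) ⟨y, hy⟩
    exact ⟨c, hc, congrArg Subtype.val hcy⟩
  let moved : Finset Ω := Finset.univ.filter fun z => ∃ k ∈ K, k • z ≠ z
  have hmne : moved.Nonempty := by
    by_contra h
    rw [Finset.not_nonempty_iff_eq_empty] at h
    apply hne
    refine eq_of_smul_eq_smul (α := Ω) fun z => ?_
    rw [one_smul]
    by_contra hz
    have : z ∈ moved := Finset.mem_filter.2 ⟨Finset.mem_univ z, ⟨g, hg⟩, hgK, hz⟩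
    rw [h] at this
    exact absurd this (Finset.notMem_empty z)
  obtain ⟨z₀, hz₀, hmax⟩ := moved.exists_max_image (fun z => subdeg G α z) hmne
  set m := subdeg G α z₀ with hm
  have hne' : ∀ x : Ω, x ≠ α → stabilizer G x ≠ H := by
    intro x hx hxH
    have hcoat := (isCoatom_stabilizer_iff_preprimitive (G := G) α).2 hprim
    obtain ⟨c, hc⟩ := MulAction.exists_smul_eq G α x
    have hcN : ∀ h ∈ H, c * h * c⁻¹ ∈ H := by
      intro h hh
      rw [← hxH, mem_stabilizer_iff, mul_smul, mul_smul]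
      have e : c⁻¹ • x = α := by rw [← hc, inv_smul_smul]
      rw [e, show h • α = α from hh, hc]
    have hcH : c ∈ Subgroup.normalizer (H : Set G) :=
      Subgroup.mem_normalizer_fintype (S := (H : Set G)) (x := c) hcN
    have htop : Subgroup.normalizer (H : Set G) = ⊤ := by
      refine hcoat.2 _ (lt_of_le_of_ne Subgroup.le_normalizer fun h => hx ?_)
      rw [← hc]
      have h' : c ∈ H := h.ge hcH
      exact h'
    haveI : H.Normal := Subgroup.normalizer_eq_top_iff.1 htop
    apply hH α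
    rw [Subgroup.eq_bot_iff_forall]
    intro h hh
    refine eq_of_smul_eq_smul (α := Ω) fun y => ?_
    obtain ⟨d, rfl⟩ := MulAction.exists_smul_eq G α y
    have h4 : d⁻¹ * h * d⁻¹⁻¹ ∈ H := ‹H.Normal›.conj_mem h hh d⁻¹
    rw [inv_inv, mem_stabilizer_iff, mul_smul, mul_smul, inv_smul_eq_iff] at h4
    rw [one_smul]; exact h4
  -- a fixed point other than α sees z₀ at larger distance
  have hbig : ∀ x : Ω, x ≠ α → (∀ k ∈ K, k • x = x) → ∀ z ∈ moved, subdeg G α z = m → m < subdeg G x z := by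
    intro x hx hxK z hz hzm
    obtain ⟨-, hzmv⟩ := Finset.mem_filter.1 hz
    have hsub : orbit H z ⊆ orbit (stabilizer G x) z := by
      intro y hy
      obtain ⟨k, hk, rfl⟩ := htr z hzmv y hy
      exact ⟨⟨(k : G), hxK k hk⟩, rfl⟩
    refine lt_of_le_of_ne (hzm ▸ Set.ncard_le_ncard hsub) fun heq => ?_
    have hS : orbit H z = orbit (stabilizer G x) z :=
      Set.eq_of_subset_of_ncard_le hsub (by rw [show (orbit (stabilizer G x) z).ncard = m from heq.symm, ← hzm]; rfl)
    -- the orbit is invariant under both stabilizers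
    have hinvH : H ≤ stabilizer G (orbit H z) := by
      intro h hh
      rw [mem_stabilizer_iff]
      exact MulAction.smul_orbit (⟨h, hh⟩ : H) z
    have hinvX : stabilizer G x ≤ stabilizer G (orbit H z) := by
      intro h hh
      rw [mem_stabilizer_iff, hS]
      exact MulAction.smul_orbit (⟨h, hh⟩ : stabilizer G x) z
    have hcoat := (isCoatom_stabilizer_iff_preprimitive (G := G) α).2 hprim
    have hcoatx := (isCoatom_stabilizer_iff_preprimitive (G := G) x).2 hprim
    have hle : H ⊔ stabilizer G x = ⊤ := by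
      refine hcoat.2 _ (lt_of_le_of_ne le_sup_left fun h => ?_)
      have h1 : stabilizer G x ≤ H := le_trans le_sup_right h.ge
      exact hne' x hx (hcoatx.le_iff_eq hcoat.1 |>.1 h1).symm
    have hall : stabilizer G (orbit H z) = ⊤ := top_le_iff.1 (hle ▸ sup_le hinvH hinvX)
    obtain ⟨c, hc⟩ := MulAction.exists_smul_eq G z α
    have hα : α ∈ orbit H z := by
      have h4 : c • z ∈ c • orbit H z := Set.smul_mem_smul_set (mem_orbit_self z)
      rwa [mem_stabilizer_iff.1 (hall ▸ Subgroup.mem_top c), hc] at h4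
    obtain ⟨k, hk, hkz⟩ := hzmv
    obtain ⟨h, hh⟩ := hα
    have : z = α := by
      have h1 : h • α = α := h.2
      exact MulAction.injective h (hh.trans h1.symm)
    exact hkz (this ▸ k.2)
  let U : Ω → Set Ω := fun a => {b | b ≠ a ∧ m < subdeg G a b}
  have hUsmul : ∀ (c : G) (a : Ω), U (c • a) = c • U a := by
    intro c a
    ext b
    simp only [U, Set.mem_smul_set_iff_inv_smul_mem, Set.mem_ofPred_eq]
    have : subdeg G a (c⁻¹ • b) = subdeg G (c • a) b := by
      rw [← subdeg_smul c a (c⁻¹ • b), smul_inv_smul]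
    rw [this, Ne, Ne, inv_smul_eq_iff]
  have hUF : ∀ x ∈ U α, ∀ k ∈ K, k • x = x := by
    intro x hx k hk
    by_contra h
    exact absurd (hmax x (Finset.mem_filter.2 ⟨Finset.mem_univ x, k, hk, h⟩)) (not_le.2 hx.2)
  have hsubU : U α ⊆ U z₀ := by
    intro x hx
    have h1 := hbig x hx.1 (hUF x hx) z₀ hz₀ rfl
    refine ⟨?_, subdeg_symm (G := G) x z₀ ▸ h1⟩
    rintro rfl
    obtain ⟨-, k, hk, hkz⟩ := Finset.mem_filter.1 hz₀
    exact hkz (hUF _ hx k hk)
  obtain ⟨c, hc⟩ := MulAction.exists_smul_eq G α z₀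
  have hUeq : U α = U z₀ := by
    refine Set.eq_of_subset_of_ncard_le hsubU ?_
    rw [← hc, hUsmul, Set.ncard_smul_set]
  let B : Set Ω := {a | U a = U α}
  have hB : IsBlock G B := by
    rw [isBlock_iff_smul_eq_smul_of_nonempty]
    intro g₁ g₂ hne
    obtain ⟨y, ⟨a, ha, rfl⟩, ⟨b, hb, hab⟩⟩ := hne
    have hU : g₁ • U α = g₂ • U α := by
      have e1 : U (g₁ • a) = g₁ • U α := by rw [hUsmul, show U a = U α from ha]
      have e2 : U (g₂ • b) = g₂ • U α := by rw [hUsmul, show U b = U α from hb]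
      rw [← e1, ← e2]; exact congrArg U hab.symm
    ext y
    simp only [B, Set.mem_smul_set_iff_inv_smul_mem, Set.mem_ofPred_eq, hUsmul]
    constructor <;> intro h
    · rw [inv_smul_eq_iff] at h ⊢; rw [h, hU]
    · rw [inv_smul_eq_iff] at h ⊢; rw [h, hU]
  have hz₀α : z₀ ≠ α := by
    obtain ⟨-, k, hk, hkz⟩ := Finset.mem_filter.1 hz₀
    exact fun h => hkz (h ▸ k.2)
  have hBu : B = Set.univ := by
    rcases hprim.isTrivialBlock_of_isBlock hB with h | h
    · exact absurd (h (show z₀ ∈ B from hUeq.symm) (show α ∈ B from rfl)) hz₀α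
    · exact h
  have hconst : ∀ a, U a = U α := fun a => show a ∈ B from hBu ▸ Set.mem_univ a
  have hUe : ∀ b, b ∉ U α := by
    intro b hb
    rw [← hconst b] at hb
    exact hb.1 rfl
  have hωF : ∀ k ∈ K, k • ω = ω := fun k hk => hk ω (mem_orbit_self ω)
  have h1 := hbig ω hω hωF z₀ hz₀ rfl
  have h2 : z₀ ≠ ω := by
    rintro rfl
    obtain ⟨-, k, hk, hkz⟩ := Finset.mem_filter.1 hz₀
    exact hkz (hωF k hk)
  exact hUe z₀ (hconst ω ▸ (⟨h2, h1⟩ : z₀ ∈ U ω))

end Cfsg.Agent.Lib.Recognition
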