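import Mathlib

/-!
Extensions of an elementary abelian 2-group by a group whose elements of odd prime order act without fixed points.
-/

set_option autoImplicit false
set_option linter.style.haveILetI false

namespace Cfsg.Agent.Lib.Recognition

/-- The prime graph edges of the extension are those of the acting group. -/
theorem semidirect_orderOf_iff_of_fpf {V S : Type*} [CommGroup V] [Group S] (φ : S →* MulAut V)
    (h2 : ∀ v : V, v * v = 1)
    (hfpf : ∀ s : S, (orderOf s).Prime → Odd (orderOf s) → ∀ v : V, φ s v = v → v = 1)
    (p q : ℕ) (hp : p.Prime) (hq : q.Prime) (hpq : p ≠ q) :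
    (∃ g : SemidirectProduct V S φ, orderOf g = p * q) ↔ ∃ s : S, orderOf s = p * q := by
  constructor
  · rintro ⟨g, hg⟩
    refine ⟨g.right, ?_⟩
    set d := orderOf g.right with hd
    have hd1 : d ∣ p * q := hg ▸ orderOf_map_dvd SemidirectProduct.rightHom g
    have hker : (g ^ d).right = 1 := by
      have : SemidirectProduct.rightHom (g ^ d) = 1 := by rw [map_pow]; exact pow_orderOf_eq_one g.right
      exact this
    have h2d : p * q ∣ d * 2 := by
      rw [← hg]
      apply orderOf_dvd_of_pow_eq_one
      rw [pow_mul, sq]
      ext1
      · rw [SemidirectProduct.mul_left, hker, map_one, MulAut.one_apply, SemidirectProduct.one_left]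
        exact h2 _
      · rw [SemidirectProduct.mul_right, hker, mul_one, SemidirectProduct.one_right]
    have main : ∀ a b : ℕ, a.Prime → b.Prime → a ≠ b → orderOf g = a * b → b ≠ 2 → d ∣ a * b → a * b ∣ d * 2 → d = a * b := by
      intro a b ha hb hab hgab hb2 hdab habd
      have hbd : b ∣ d := (hb.dvd_mul.1 ((dvd_mul_left b a).trans habd)).resolve_right fun h =>
        hb2 ((Nat.prime_dvd_prime_iff_eq hb Nat.prime_two).1 h)
      rcases ha.eq_two_or_odd' with rfl | hao
      · obtain ⟨e, he⟩ := hbd
        have he2 : e ∣ 2 := by
          rw [he, mul_comm 2 b] at hdab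
          exact Nat.dvd_of_mul_dvd_mul_left hb.pos hdab
        rcases (Nat.dvd_prime Nat.prime_two).1 he2 with rfl | rfl
        · exfalso
          rw [mul_one] at he
          have hfix : φ g.right (g ^ d).left = (g ^ d).left := by
            have hc : (g * g ^ d).left = (g ^ d * g).left := by rw [← pow_succ', ← pow_succ]
            rw [SemidirectProduct.mul_left, SemidirectProduct.mul_left, hker, map_one, MulAut.one_apply, mul_comm (g ^ d).left] at hc
            exact mul_left_cancel hc
          have h0 : (g ^ d).left = 1 :=
            hfpf g.right ((hd.symm.trans he).symm ▸ hb) ((hd.symm.trans he).symm ▸ hb.odd_of_ne_two hb2) _ hfix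
          have h1 : g ^ d = 1 := SemidirectProduct.ext h0 hker
          have h3 := orderOf_dvd_of_pow_eq_one h1
          rw [hgab, he] at h3
          have := Nat.le_of_dvd hb.pos h3
          have := hb.pos
          omega
        · rw [he, mul_comm]
      · have had : a ∣ d := (ha.dvd_mul.1 ((dvd_mul_right a b).trans habd)).resolve_right fun h => by
          rw [(Nat.prime_dvd_prime_iff_eq ha Nat.prime_two).1 h] at hao
          exact absurd hao (by decide)
        exact Nat.dvd_antisymm hdab (((Nat.coprime_primes ha hb).2 hab).mul_dvd_of_dvd_of_dvd had hbd)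
    by_cases hq2 : q = 2
    · rw [mul_comm p q] at hd1 h2d hg ⊢
      exact main q p hq hp hpq.symm hg (fun h => hpq (h.trans hq2.symm)) hd1 h2d
    · exact main p q hp hq hpq hg hq2 hd1 h2d
  · rintro ⟨s, hs⟩
    exact ⟨SemidirectProduct.inr s, by rw [orderOf_injective _ SemidirectProduct.inr_injective, hs]⟩

end Cfsg.Agent.Lib.Recognition
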