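import Mathlib

/-!
Large groups with the spectrum of a fourth power of a group with spectrum like that of the first Janko group.
-/

set_option autoImplicit false
set_option linter.style.haveILetI false

namespace Cfsg.Agent.Lib.Recognition

/-- Inversion action of `ℤˣ` on an abelian group. -/
def signAut (A : Type*) [CommGroup A] : ℤˣ →* MulAut A where
  toFun u :=
    { toFun := fun x => x ^ (u : ℤ)
      invFun := fun x => x ^ (u : ℤ)
      left_inv := fun x => by show (x ^ (u : ℤ)) ^ (u : ℤ) = x; rw [← zpow_mul, ← Units.val_mul, Int.units_mul_self, Units.val_one, zpow_one]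
      right_inv := fun x => by show (x ^ (u : ℤ)) ^ (u : ℤ) = x; rw [← zpow_mul, ← Units.val_mul, Int.units_mul_self, Units.val_one, zpow_one]
      map_mul' := fun x y => mul_zpow x y _ }
  map_one' := MulEquiv.ext fun x => zpow_one x
  map_mul' u v := MulEquiv.ext fun x => by
    show x ^ ((u * v : ℤˣ) : ℤ) = (x ^ (v : ℤ)) ^ (u : ℤ)
    rw [← zpow_mul, Units.val_mul, mul_comm]

/-- A generalized dihedral group. -/
abbrev Dih3 (k : ℕ) := SemidirectProduct (Multiplicative (Fin k → ZMod 3)) ℤˣ (signAut (Multiplicative (Fin k → ZMod 3)))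

theorem dih3_orderOf (k : ℕ) (g : Dih3 k) : orderOf g ∣ 2 ∨ orderOf g ∣ 3 := by
  rcases Int.units_eq_one_or g.right with h | h
  · right
    apply orderOf_dvd_of_pow_eq_one
    have : g = SemidirectProduct.inl g.left := SemidirectProduct.ext rfl h
    have hp : g.left ^ 3 = 1 := ?_
    · rw [this, ← map_pow, hp, map_one]
    apply Multiplicative.toAdd.injective
    funext i
    show 3 • g.left.toAdd i = 0
    rw [nsmul_eq_mul, show ((3 : ℕ) : ZMod 3) = 0 from ZMod.natCast_self 3, zero_mul]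
  · left
    apply orderOf_dvd_of_pow_eq_one
    rw [sq]
    refine SemidirectProduct.ext ?_ ?_
    · rw [SemidirectProduct.mul_left, h, SemidirectProduct.one_left]
      show g.left * g.left ^ (((-1 : ℤˣ)) : ℤ) = 1
      rw [Units.val_neg, Units.val_one, zpow_neg_one, mul_inv_cancel]
    · rw [SemidirectProduct.mul_right, h, SemidirectProduct.one_right]
      simp

/-- A large group with the spectrum of `J × J × J × J`. -/
theorem exists_large_fourfold {J : Type*} [Group J] [Finite J]
    (hb : ∀ g : J, orderOf g ∣ 6 ∨ orderOf g ∣ 10 ∨ orderOf g ∣ 15 ∨ orderOf g ∣ 7 ∨ orderOf g ∣ 11 ∨ orderOf g ∣ 19)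
    (h : (∃ g : J, orderOf g = 6) ∧ (∃ g : J, orderOf g = 10) ∧ ∃ g : J, orderOf g = 15) (N : ℕ) :
    ∃ (H : Type) (_ : Group H) (_ : Fintype H), N < Fintype.card H ∧
      Set.range (orderOf : H → ℕ) = Set.range (orderOf : J × J × J × J → ℕ) := by
  classical
  haveI : Small.{0} J := inferInstance
  let J' := Shrink.{0} J
  haveI : Finite J' := Finite.of_equiv J (equivShrink J)
  let e : J' ≃* J := Shrink.mulEquiv
  let X := Dih3 (N + 1) × DihedralGroup 5
  haveI : Finite (Dih3 (N + 1)) := Finite.of_equiv _ SemidirectProduct.equivProd.symm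
  letI : Fintype (X × J' × J' × J') := Fintype.ofFinite _
  refine ⟨X × J' × J' × J', inferInstance, inferInstance, ?_, ?_⟩
  · rw [← Nat.card_eq_fintype_card, Nat.card_prod, Nat.card_prod, SemidirectProduct.card,
      Nat.card_congr Multiplicative.toAdd, Nat.card_fun, Nat.card_zmod, Nat.card_fin]
    have h1 : N < 3 ^ (N + 1) := (Nat.lt_succ_self N).trans (Nat.lt_pow_self (by norm_num))
    refine lt_of_lt_of_le h1 (le_trans (Nat.le_mul_of_pos_right _ ?_) (le_trans (Nat.le_mul_of_pos_right _ ?_) (Nat.le_mul_of_pos_right _ ?_)))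
    · exact Nat.card_pos
    · exact Nat.card_pos
    · exact Nat.card_pos
  have hJd : ∀ d, (d ∣ 6 ∨ d ∣ 10 ∨ d ∣ 15) → ∃ g : J, orderOf g = d := by
    intro d hd
    have key : ∀ n, (∃ g : J, orderOf g = n) → d ∣ n → 0 < n → ∃ g : J, orderOf g = d := by
      rintro n ⟨g, hg⟩ hdn hn
      exact ⟨g ^ (n / d), by
        rw [← hg]
        rw [orderOf_pow_orderOf_div (orderOf_pos g).ne' (hg ▸ hdn)]⟩
    rcases hd with hd | hd | hd
    exacts [key 6 h.1 hd (by norm_num), key 10 h.2.1 hd (by norm_num), key 15 h.2.2 hd (by norm_num)]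
  have hXsub : ∀ x : X, orderOf x ∣ 6 ∨ orderOf x ∣ 10 ∨ orderOf x ∣ 15 := by
    rintro ⟨a, b⟩
    rw [Prod.orderOf_mk]
    have hb5 : orderOf b ∣ 2 ∨ orderOf b ∣ 5 := by
      cases b with
      | r i => exact Or.inr (orderOf_dvd_of_pow_eq_one (by revert i; decide))
      | sr i => exact Or.inl (by rw [DihedralGroup.orderOf_sr])
    rcases dih3_orderOf _ a with ha | ha <;> rcases hb5 with hb' | hb'
    · exact Or.inl ((Nat.lcm_dvd ha hb').trans (by norm_num))
    · exact Or.inr (Or.inl (Nat.lcm_dvd (ha.trans (by norm_num)) (hb'.trans (by norm_num))))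
    · exact Or.inl (Nat.lcm_dvd (ha.trans (by norm_num)) (hb'.trans (by norm_num)))
    · exact Or.inr (Or.inr (Nat.lcm_dvd (ha.trans (by norm_num)) (hb'.trans (by norm_num))))
  have hXsup : ∀ d, (d ∣ 6 ∨ d ∣ 10 ∨ d ∣ 15) → ∃ x : X, orderOf x = d := by
    intro d hd
    let a3 : Dih3 (N + 1) := SemidirectProduct.inl (Multiplicative.ofAdd fun _ => (1 : ZMod 3))
    let a2 : Dih3 (N + 1) := SemidirectProduct.inr (-1)
    have h3 : orderOf a3 = 3 := by
      have h30 : (3 • (1 : ZMod 3)) = 0 ∧ (1 : ZMod 3) ≠ 0 := by decide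
      haveI : Fact (Nat.Prime 3) := ⟨Nat.prime_three⟩
      rw [orderOf_injective _ SemidirectProduct.inl_injective]
      refine orderOf_eq_prime ?_ ?_
      · apply Multiplicative.toAdd.injective
        funext i
        show 3 • (1 : ZMod 3) = 0
        exact h30.1
      · intro h
        have := congrFun (congrArg Multiplicative.toAdd h) 0
        exact absurd this h30.2
    have h2 : orderOf a2 = 2 := by
      haveI : Fact (Nat.Prime 2) := ⟨Nat.prime_two⟩
      rw [orderOf_injective _ SemidirectProduct.inr_injective]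
      exact orderOf_eq_prime (by simp) (by decide)
    have h5 : orderOf (DihedralGroup.r 1 : DihedralGroup 5) = 5 := DihedralGroup.orderOf_r_one
    have h2' : orderOf (DihedralGroup.sr 0 : DihedralGroup 5) = 2 := DihedralGroup.orderOf_sr 0
    have key : ∀ x : X, d ∣ orderOf x → ∃ y : X, orderOf y = d := fun x hdn =>
      ⟨x ^ (orderOf x / d), orderOf_pow_orderOf_div (orderOf_pos x).ne' hdn⟩
    rcases hd with hd | hd | hd
    · refine key (a3, DihedralGroup.sr 0) ?_
      rw [Prod.orderOf_mk, h3, h2']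
      exact hd
    · refine key (a2, DihedralGroup.r 1) ?_
      rw [Prod.orderOf_mk, h2, h5]
      exact hd
    · refine key (a3, DihedralGroup.r 1) ?_
      rw [Prod.orderOf_mk, h3, h5]
      exact hd
  ext n
  constructor
  · rintro ⟨⟨x, a, b, c⟩, rfl⟩
    obtain ⟨g, hg⟩ := hJd _ (hXsub x)
    refine ⟨(g, e a, e b, e c), ?_⟩
    simp only [Prod.orderOf_mk, hg, MulEquiv.orderOf_eq]
  · rintro ⟨⟨a, b, c, d⟩, rfl⟩
    have hsmall : ∀ p q r s : J, (orderOf p ∣ 6 ∨ orderOf p ∣ 10 ∨ orderOf p ∣ 15) →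
        ∃ y : X × J' × J' × J', orderOf y = orderOf (p, q, r, s) := fun p q r s hp => by
      obtain ⟨x, hx⟩ := hXsup _ hp
      exact ⟨(x, e.symm q, e.symm r, e.symm s), by simp only [Prod.orderOf_mk, hx, MulEquiv.orderOf_eq]⟩
    by_cases ha : orderOf a ∣ 6 ∨ orderOf a ∣ 10 ∨ orderOf a ∣ 15
    · exact hsmall a b c d ha
    by_cases hb' : orderOf b ∣ 6 ∨ orderOf b ∣ 10 ∨ orderOf b ∣ 15
    · obtain ⟨y, hy⟩ := hsmall b a c d hb'
      exact ⟨y, hy.trans (by simp only [Prod.orderOf_mk]; ac_rfl)⟩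
    by_cases hc : orderOf c ∣ 6 ∨ orderOf c ∣ 10 ∨ orderOf c ∣ 15
    · obtain ⟨y, hy⟩ := hsmall c a b d hc
      exact ⟨y, hy.trans (by simp only [Prod.orderOf_mk]; ac_rfl)⟩
    by_cases hd : orderOf d ∣ 6 ∨ orderOf d ∣ 10 ∨ orderOf d ∣ 15
    · obtain ⟨y, hy⟩ := hsmall d a b c hd
      exact ⟨y, hy.trans (by simp only [Prod.orderOf_mk]; ac_rfl)⟩
    have hbig : ∀ g : J, ¬ (orderOf g ∣ 6 ∨ orderOf g ∣ 10 ∨ orderOf g ∣ 15) → orderOf g ∈ ({7, 11, 19} : Finset ℕ) := by
      intro g hg
      have hne : orderOf g ≠ 1 := fun h1 => hg (Or.inl (h1 ▸ one_dvd 6))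
      rcases hb g with h | h | h | h | h | h
      · exact absurd (Or.inl h) hg
      · exact absurd (Or.inr (Or.inl h)) hg
      · exact absurd (Or.inr (Or.inr h)) hg
      all_goals
        have := ((Nat.dvd_prime (by norm_num)).1 h).resolve_left hne
        simp [this]
    have m1 := hbig a ha
    have m2 := hbig b hb'
    have m3 := hbig c hc
    have m4 := hbig d hd
    simp only [Finset.mem_insert, Finset.mem_singleton] at m1 m2 m3 m4
    have hrep : ∀ p q r s : J, orderOf p = orderOf q →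
        ∃ y : X × J' × J' × J', orderOf y = orderOf (p, q, r, s) := fun p q r s hpq =>
      ⟨(1, e.symm q, e.symm r, e.symm s), by
        simp only [Prod.orderOf_mk, MulEquiv.orderOf_eq, orderOf_one, Nat.lcm_one_left, hpq]
        rw [← Nat.lcm_assoc (orderOf q) (orderOf q), Nat.lcm_self]⟩
    have hfin : orderOf a = orderOf b ∨ orderOf a = orderOf c ∨ orderOf a = orderOf d ∨ orderOf b = orderOf c ∨
        orderOf b = orderOf d ∨ orderOf c = orderOf d := by omega
    rcases hfin with h' | h' | h' | h' | h' | h'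
    · exact hrep a b c d h'
    · obtain ⟨y, hy⟩ := hrep a c b d h'
      exact ⟨y, hy.trans (by simp only [Prod.orderOf_mk]; ac_rfl)⟩
    · obtain ⟨y, hy⟩ := hrep a d b c h'
      exact ⟨y, hy.trans (by simp only [Prod.orderOf_mk]; ac_rfl)⟩
    · obtain ⟨y, hy⟩ := hrep b c a d h'
      exact ⟨y, hy.trans (by simp only [Prod.orderOf_mk]; ac_rfl)⟩
    · obtain ⟨y, hy⟩ := hrep b d a c h'
      exact ⟨y, hy.trans (by simp only [Prod.orderOf_mk]; ac_rfl)⟩
    · obtain ⟨y, hy⟩ := hrep c d a b h'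
      exact ⟨y, hy.trans (by simp only [Prod.orderOf_mk]; ac_rfl)⟩

end Cfsg.Agent.Lib.Recognition
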