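import Mathlib

/-!
The minimal groups with element orders `{1, p, q}`, and their products.
-/

set_option autoImplicit false
set_option linter.style.haveILetI false

namespace Cfsg.Agent.Lib.Recognition

/-- A minimal group with element orders `{1, p, q}` and normal Sylow `p`-subgroup. -/
theorem exists_frobenius_pair {p q : ℕ} (hp : p.Prime) (hq : q.Prime) (hpq : p ≠ q) :
    ∃ (K : Type) (_ : Group K) (_ : Finite K) (d : ℕ), 0 < d ∧ Nat.card K = p ^ d * q ∧
      (∀ i : ℕ, p ^ i % q = 1 → d ∣ i) ∧
      (∀ g : K, orderOf g = 1 ∨ orderOf g = p ∨ orderOf g = q) ∧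
      (∃ g : K, orderOf g = p) ∧ (∃ g : K, orderOf g = q) ∧
      ∃ V : Subgroup K, V.Normal ∧ Nat.card V = p ^ d := by
  classical
  haveI := Fact.mk hp
  haveI := Fact.mk hq
  have hp0 : (p : ZMod q) ≠ 0 := fun h => by
    rw [ZMod.natCast_eq_zero_iff] at h
    exact hpq ((Nat.prime_dvd_prime_iff_eq hq hp).1 h).symm
  set u : (ZMod q)ˣ := Units.mk0 (p : ZMod q) hp0 with hu
  set d := orderOf u with hd
  have hdpos : 0 < d := orderOf_pos u
  have hmin : ∀ i : ℕ, p ^ i % q = 1 → d ∣ i := by
    intro i hi
    apply orderOf_dvd_of_pow_eq_one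
    apply Units.ext
    rw [Units.val_pow_eq_pow_val, Units.val_one, hu, Units.val_mk0, ← Nat.cast_pow, ← Nat.cast_one,
      ZMod.natCast_eq_natCast_iff', hi, Nat.mod_eq_of_lt hq.one_lt]
  let F := GaloisField p d
  have hF : Nat.card F = p ^ d := GaloisField.card p d hdpos.ne'
  haveI : Finite F := Nat.finite_of_card_ne_zero (by rw [hF]; exact pow_ne_zero _ hp.ne_zero)
  letI := Fintype.ofFinite F
  have hdvd : q ∣ Nat.card Fˣ := by
    rw [Nat.card_units, hF]
    have h1 : 1 ≤ p ^ d := Nat.one_le_pow _ _ hp.pos
    rw [← ZMod.natCast_eq_zero_iff, Nat.cast_sub h1, Nat.cast_pow, Nat.cast_one, sub_eq_zero]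
    have := congrArg Units.val (pow_orderOf_eq_one u)
    rw [Units.val_pow_eq_pow_val, Units.val_one] at this
    exact this
  obtain ⟨ζ, hζ⟩ := exists_prime_orderOf_dvd_card' (G := Fˣ) q hdvd
  let C := Subgroup.zpowers ζ
  have hCcard : Nat.card C = q := by rw [Nat.card_zpowers, hζ]
  let φ : C →* MulAut (Multiplicative F) :=
    { toFun := fun c =>
        { toFun := fun v => Multiplicative.ofAdd (((c : Fˣ) : F) * v.toAdd)
          invFun := fun v => Multiplicative.ofAdd ((((c : Fˣ)⁻¹ : Fˣ) : F) * v.toAdd)
          left_inv := fun v => by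
            apply Multiplicative.toAdd.injective
            show (((c : Fˣ)⁻¹ : Fˣ) : F) * (((c : Fˣ) : F) * v.toAdd) = v.toAdd
            rw [← mul_assoc, Units.inv_mul, one_mul]
          right_inv := fun v => by
            apply Multiplicative.toAdd.injective
            show ((c : Fˣ) : F) * ((((c : Fˣ)⁻¹ : Fˣ) : F) * v.toAdd) = v.toAdd
            rw [← mul_assoc, Units.mul_inv, one_mul]
          map_mul' := fun v w => by
            apply Multiplicative.toAdd.injective
            exact mul_add ((c : Fˣ) : F) v.toAdd w.toAdd }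
      map_one' := MulEquiv.ext fun v => Multiplicative.toAdd.injective (one_mul v.toAdd)
      map_mul' := fun c c' => MulEquiv.ext fun v => Multiplicative.toAdd.injective
        (mul_assoc ((c : Fˣ) : F) ((c' : Fˣ) : F) v.toAdd) }
  let K := SemidirectProduct (Multiplicative F) C φ
  haveI : Finite K := Finite.of_equiv _ SemidirectProduct.equivProd.symm
  have hVpow : ∀ v : Multiplicative F, v ^ p = 1 := fun v => by
    apply Multiplicative.toAdd.injective
    show p • v.toAdd = 0
    rw [nsmul_eq_mul, CharP.cast_eq_zero, zero_mul]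
  have hcard : Nat.card K = p ^ d * q := by
    rw [SemidirectProduct.card, Nat.card_congr Multiplicative.toAdd, hF, hCcard]
  have hinl : Nat.card (SemidirectProduct.inl : Multiplicative F →* K).range = p ^ d := by
    rw [Nat.card_congr (MonoidHom.ofInjective SemidirectProduct.inl_injective).toEquiv.symm,
      Nat.card_congr Multiplicative.toAdd, hF]
  refine ⟨K, inferInstance, inferInstance, d, hdpos, hcard, hmin, fun g => ?_, ?_, ?_,
    ⟨_, ?_, hinl⟩⟩
  · by_cases hg : g.right = 1
    · have hge : g = SemidirectProduct.inl g.left := SemidirectProduct.ext rfl hg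
      have : orderOf g ∣ p := orderOf_dvd_of_pow_eq_one (by rw [hge, ← map_pow, hVpow, map_one])
      rcases (Nat.dvd_prime hp).1 this with h | h
      · exact Or.inl h
      · exact Or.inr (Or.inl h)
    · right; right
      set c : F := ((g.right : Fˣ) : F) with hc
      have hc1 : c ≠ 1 := fun h => hg (Subtype.ext (Units.ext h))
      have hcq : c ^ q = 1 := by
        rw [hc, ← Units.val_pow_eq_pow_val, ← Subgroup.coe_pow,
          orderOf_dvd_iff_pow_eq_one.1 ((orderOf_dvd_natCard g.right).trans (dvd_of_eq hCcard))]
        rfl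
      have hleft : ∀ n : ℕ, (g ^ n).left.toAdd * (c - 1) = g.left.toAdd * (c ^ n - 1) := by
        intro n
        induction n with
        | zero =>
          rw [pow_zero, pow_zero, sub_self, mul_zero, SemidirectProduct.one_left]
          exact zero_mul _
        | succ n ih =>
          rw [pow_succ', SemidirectProduct.mul_left]
          show (g.left.toAdd + c * (g ^ n).left.toAdd) * (c - 1) = _
          rw [add_mul, mul_assoc, ih, pow_succ']
          ring
      have hgq : g ^ q = 1 := by
        refine SemidirectProduct.ext ?_ ?_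
        · rw [SemidirectProduct.one_left]
          apply Multiplicative.toAdd.injective
          have h := hleft q
          rw [hcq, sub_self, mul_zero, mul_eq_zero] at h
          exact h.resolve_right (sub_ne_zero.2 hc1)
        · rw [SemidirectProduct.one_right]
          have : SemidirectProduct.rightHom (g ^ q) = g.right ^ q := map_pow _ g q
          exact this.trans (orderOf_dvd_iff_pow_eq_one.1 ((orderOf_dvd_natCard g.right).trans (dvd_of_eq hCcard)))
      rcases (Nat.dvd_prime hq).1 (orderOf_dvd_of_pow_eq_one hgq) with h | h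
      · exact absurd (by rw [orderOf_eq_one_iff.1 h]; rfl) hg
      · exact h
  · exact exists_prime_orderOf_dvd_card' (G := K) p (hcard ▸ (dvd_pow_self p hdpos.ne').mul_right q)
  · exact exists_prime_orderOf_dvd_card' (G := K) q (hcard ▸ dvd_mul_left q _)
  · rw [SemidirectProduct.range_inl_eq_ker_rightHom]
    infer_instance

/-- In a group without elements of order `p * q` a normal `p`-subgroup has order 1 modulo `q` if `q` divides the group order. -/
theorem card_normal_pGroup_mod {K : Type*} [Group K] [Finite K] {p q : ℕ} (hp : p.Prime) (hq : q.Prime) (hpq : p ≠ q)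
    (P : Subgroup K) [P.Normal] (hP : IsPGroup p P) (hqK : q ∣ Nat.card K) (hno : ∀ x : K, orderOf x ≠ p * q) :
    Nat.card P % q = 1 := by
  classical
  haveI := Fact.mk hp
  haveI := Fact.mk hq
  obtain ⟨y, hy⟩ := exists_prime_orderOf_dvd_card' (G := K) q hqK
  have hQ : IsPGroup q (Subgroup.zpowers y) := IsPGroup.of_card (n := 1) (by rw [Nat.card_zpowers, hy, pow_one])
  letI : MulAction (Subgroup.zpowers y) P :=
    MulAction.compHom P ((MulAut.conjNormal : K →* MulAut P).comp (Subgroup.zpowers y).subtype)
  have hfix : MulAction.fixedPoints (Subgroup.zpowers y) P = {1} := by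
    ext x
    simp only [MulAction.mem_fixedPoints, Set.mem_singleton_iff]
    refine ⟨fun h => ?_, fun h c => by
      subst h
      exact map_one (MulAut.conjNormal (c : K) : MulAut P)⟩
    by_contra hx
    have hc : Commute y (x : K) := by
      have := congrArg Subtype.val (h ⟨y, Subgroup.mem_zpowers y⟩)
      exact mul_inv_eq_iff_eq_mul.1 ((MulAut.conjNormal_apply y x).symm.trans this)
    obtain ⟨k, hk⟩ := IsPGroup.iff_orderOf.1 hP x
    rcases k with _ | k
    · exact hx (orderOf_eq_one_iff.1 (by simpa using hk))
    have hx' : orderOf ((x : K) ^ p ^ k) = p := by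
      have hk' : orderOf (x : K) = p ^ (k + 1) := (Subgroup.orderOf_coe x).trans hk
      rw [orderOf_pow_of_dvd (pow_ne_zero _ hp.ne_zero) (by rw [hk']; exact pow_dvd_pow p k.le_succ), hk',
        pow_succ, Nat.mul_div_cancel_left _ (pow_pos hp.pos k)]
    apply hno ((x : K) ^ p ^ k * y)
    rw [(hc.symm.pow_left _).orderOf_mul_eq_mul_orderOf_of_coprime (by rw [hx', hy]; exact (Nat.coprime_primes hp hq).2 hpq),
      hx', hy]
  have h := hQ.card_modEq_card_fixedPoints P
  rw [hfix, Nat.card_eq_fintype_card (α := ({1} : Set P)), Fintype.card_unique, Nat.ModEq, Nat.mod_eq_of_lt hq.one_lt] at h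
  exact h

end Cfsg.Agent.Lib.Recognition
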