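import Cfsg.Agent.Lib.Compute.FusionSimple
import Cfsg.Agent.Lib.Fusion.Subsystem

/-!
Simplicity of the fusion system of a group when the Sylow normaliser lies in a local subgroup
generated by elements of prime power order.
-/

set_option autoImplicit false

namespace Cfsg.Agent.Lib.Recognition

open Cfsg Cfsg.FusionSystem Cfsg.Agent.Lib.Fusion Cfsg.Agent.Lib.Compute

variable {G : Type*} [Group G]

/-- The fusion system on a Sylow subgroup `S` without proper closed subgroups is simple when the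
normaliser of `S` lies in a subgroup `C` normalising `Q ≤ S`, generated by `p`-elements, and the
centraliser of `Q` in the normaliser of `S` lies in `S`. -/
theorem isSimple_of_central [Finite G] {p : ℕ} [Fact p.Prime] (S : Sylow p G)
    (hS0 : (S : Subgroup G) ≠ ⊥) (hcl : FusionClosedTrivial (S : Subgroup G))
    (C Q : Subgroup G) (hQ : Q ≤ S) (hNC : Subgroup.normalizer ((S : Subgroup G) : Set G) ≤ C)
    (hCQ : C ≤ Subgroup.normalizer (Q : Set G))
    (hgen : C ≤ Subgroup.closure {x : G | x ∈ C ∧ ∃ k, orderOf x ∣ p ^ k})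
    (hcent : ∀ g ∈ Subgroup.normalizer ((S : Subgroup G) : Set G),
      (∀ q ∈ Q, g * q = q * g) → g ∈ (S : Subgroup G)) :
    (groupFusionSystem (S : Subgroup G)).IsSimple p := by
  set F := groupFusionSystem (S : Subgroup G) with hFdef
  have hF : F.IsSaturated p := group_isSaturated S
  have hSp : IsPGroup p (S : Subgroup G) := S.2
  refine ⟨hF, hS0, fun T E hE => ?_⟩
  by_cases hT0 : T = ⊥
  · exact Or.inl hT0
  have hTc := hE.1.2.2.2.1
  have hTS : T = S := hcl T hTc.1 hT0 (stronglyClosed_closed hTc)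
  subst hTS
  have hsat : E.IsSaturated p := hE.1.1
  have hinv : E.IsInvariantIn F := hE.1.2.2
  have hSQ : (S : Subgroup G) ≤ Subgroup.normalizer (Q : Set G) :=
    (Subgroup.le_normalizer.trans hNC).trans hCQ
  have hNS : normalizerIn (S : Subgroup G) Q = S := inf_eq_left.mpr hSQ
  have hFN : ∀ D : FusionSystem (S : Subgroup G), D.IsFullyNormalized Q := fun D =>
    ⟨hQ, fun R _ => by rw [hNS]; exact Subgroup.card_le_of_le (normalizerIn_le _ R)⟩
  have haut : ∀ g : Subgroup.normalizer (Q : Set G), conjAut g.2 ∈ F.autGroup Q := fun g => by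
    rw [autGroup_group hQ, mem_autInducedBy]
    exact ⟨g, trivial, fun _ => rfl⟩
  let K : Subgroup G := ((E.autGroup Q).comap Q.normalizerMonoidHom).map
    (Subgroup.normalizer (Q : Set G)).subtype
  have hK : C ≤ K := by
    refine hgen.trans ((Subgroup.closure_le _).mpr ?_)
    rintro x ⟨hxC, k, hk⟩
    refine ⟨⟨x, hCQ hxC⟩, ?_, rfl⟩
    set x' : Subgroup.normalizer (Q : Set G) := ⟨x, hCQ hxC⟩ with hx'
    have hd : orderOf (Q.normalizerMonoidHom x') ∣ p ^ k :=
      (orderOf_map_dvd _ x').trans (by rwa [← Subgroup.orderOf_coe x'])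
    obtain ⟨j, -, hj⟩ := (Nat.dvd_prime_pow (Fact.out : p.Prime)).mp hd
    have hmem : Q.normalizerMonoidHom x' ∈ F.autGroup Q := by
      rw [autGroup_group hQ, mem_autInducedBy]
      exact ⟨x, trivial, fun _ => rfl⟩
    exact IsInvariantIn.mem_of_pow hSp hF hinv (hFN F) hmem hj
  have htop : ∀ g ∈ Subgroup.normalizer ((S : Subgroup G) : Set G),
      conjHom (S : Subgroup G) g ∈ E.Hom S := by
    intro g hg
    obtain ⟨g', hg', rfl⟩ := hK (hNC hg)
    set φ := autHom (Q.normalizerMonoidHom g') with hφdef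
    have hφ : φ ∈ E.Hom Q := autHom_mem E hQ hg'
    have hφx : ∀ x : Q, φ x = g' * (x : G) * (g' : G)⁻¹ := fun _ => rfl
    obtain ⟨ψ, hψ, hext, -⟩ := IsReceptive.extend
      (IsSaturated.automized_receptive hSp hsat (hFN E)).2 hφ (range_autHom _)
    have hle : (S : Subgroup G) ≤ extender (S : Subgroup G) Q φ := by
      intro s hs
      refine mem_extender.mpr ⟨hs, hSQ hs, g' * s * (g' : G)⁻¹,
        (Subgroup.mem_normalizer_iff.mp hg s).mp hs, fun x hx => ?_⟩
      rw [hφx, hφx]
      group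
    have hψ' := restr_mem E hψ hle
    obtain ⟨-, hval, h, hh⟩ := hinv.1 _ hψ'
    have hhN : h ∈ Subgroup.normalizer ((S : Subgroup G) : Set G) :=
      mem_normalizer_of_finite fun y hy => by rw [← hh ⟨y, hy⟩]; exact hval _
    have hs : h⁻¹ * g' ∈ (S : Subgroup G) := by
      refine hcent _ (mul_mem (inv_mem hhN) hg) fun q hq => ?_
      have e : h * q * h⁻¹ = g' * q * (g' : G)⁻¹ := by
        rw [← hh ⟨q, hQ hq⟩, ← hφx ⟨q, hq⟩]
        exact hext q hq _
      calc h⁻¹ * g' * q = h⁻¹ * (g' * q * (g' : G)⁻¹) * g' := by group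
        _ = h⁻¹ * (h * q * h⁻¹) * g' := by rw [e]
        _ = q * (h⁻¹ * g') := by group
    have hc := E.conj_mem (P := (S : Subgroup G)) le_rfl hs
    have hin : ∀ x, conjHom (S : Subgroup G) (h⁻¹ * g') x ∈ (S : Subgroup G) :=
      fun x => mul_mem (mul_mem hs x.2) (inv_mem hs)
    refine mem_of_comp E hc hψ' hin fun x => ?_
    refine Eq.trans ?_ (hh ⟨_, hin x⟩).symm
    show (g' : G) * (x : G) * (g' : G)⁻¹ = h * (h⁻¹ * g' * x * (h⁻¹ * g' : G)⁻¹) * h⁻¹
    group
  refine Or.inr ⟨rfl, fun P => Set.Subset.antisymm (hinv.1 P) ?_⟩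
  refine le_of_frattini hinv (fun α hα => ?_) P
  have hα' := hα
  rw [autGroup_group le_rfl, mem_autInducedBy] at hα'
  obtain ⟨g, -, hgα⟩ := hα'
  have hgN : g ∈ Subgroup.normalizer ((S : Subgroup G) : Set G) :=
    mem_normalizer_of_finite fun y hy => by rw [← hgα ⟨y, hy⟩]; exact (α _).2
  refine mem_autGroup_of_hom E ?_
  have e : autHom α = conjHom (S : Subgroup G) g := MonoidHom.ext hgα
  exact e ▸ htop g hgN

/-- Transfer of the hypotheses of `isSimple_of_central` to every Sylow subgroup of an isomorphic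
group. -/
theorem isSimple_of_central_equiv {H : Type*} [Group H] [Finite H] [Finite G] {p : ℕ} [Fact p.Prime]
    (e : G ≃* H) (S₀ : Sylow p G) (hS0 : (S₀ : Subgroup G) ≠ ⊥)
    (hcl : FusionClosedTrivial (S₀ : Subgroup G))
    (C Q : Subgroup G) (hQ : Q ≤ S₀) (hNC : Subgroup.normalizer ((S₀ : Subgroup G) : Set G) ≤ C)
    (hCQ : C ≤ Subgroup.normalizer (Q : Set G))
    (hgen : C ≤ Subgroup.closure {x : G | x ∈ C ∧ ∃ k, orderOf x ∣ p ^ k})
    (hcent : ∀ g ∈ Subgroup.normalizer ((S₀ : Subgroup G) : Set G),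
      (∀ q ∈ Q, g * q = q * g) → g ∈ (S₀ : Subgroup G))
    (S : Sylow p H) : (groupFusionSystem (S : Subgroup H)).IsSimple p := by
  obtain ⟨h, hh⟩ := MulAction.exists_smul_eq H
    (S₀.mapSurjective (f := e.toMonoidHom) e.surjective) S
  let f : G ≃* H := e.trans (MulAut.conj h)
  have key : (S : Subgroup H) = (S₀ : Subgroup G).map f.toMonoidHom := by
    rw [← hh]
    exact Subgroup.map_map _ _ _
  have hnorm : ∀ A : Subgroup G, Subgroup.normalizer ((A.map f.toMonoidHom : Subgroup H) : Set H)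
      = (Subgroup.normalizer (A : Set G)).map f.toMonoidHom := fun A =>
    (Subgroup.map_equiv_normalizer_eq A f).symm
  refine isSimple_of_central S ?_ ?_ (C.map f.toMonoidHom) (Q.map f.toMonoidHom) ?_ ?_ ?_ ?_ ?_
  · rw [key, Ne, Subgroup.map_eq_bot_iff_of_injective _ f.injective]; exact hS0
  · rw [key]; exact closedTrivial_map hcl f
  · rw [key]; exact Subgroup.map_mono hQ
  · rw [key, hnorm]; exact Subgroup.map_mono hNC
  · rw [hnorm]; exact Subgroup.map_mono hCQ
  · refine (Subgroup.map_mono hgen).trans ?_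
    rw [MonoidHom.map_closure]
    refine Subgroup.closure_mono ?_
    rintro _ ⟨x, ⟨hx, k, hk⟩, rfl⟩
    exact ⟨Subgroup.mem_map_of_mem _ hx, k, (orderOf_map_dvd _ x).trans hk⟩
  · rw [key, hnorm]
    rintro _ ⟨g, hg, rfl⟩ hc
    refine Subgroup.mem_map_of_mem _ (hcent g hg fun q hq => f.injective ?_)
    rw [map_mul, map_mul]
    exact hc _ (Subgroup.mem_map_of_mem _ hq)

end Cfsg.Agent.Lib.Recognition
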