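import Cfsg.Agent.Lib.Recognition.G23Tables

/-!
# Elements of small order in the commutants of the elements of orders 7 and 13
-/

set_option autoImplicit false

namespace Cfsg.Agent.Lib.Recognition.G23

open scoped Matrix

/-- A polynomial in a tabulated element. -/
def polyMat (L : List ℕ) (d : List ℕ) : M7 := ∑ i : Fin 7, ((d.getD i.val 0 : ℕ) : ZMod 3) • powMat L i.val

/-- Evaluate the argument first. -/
def strictly (n : ℕ) (f : ℕ → ℕ) : ℕ :=
  match n with
  | 0 => f 0
  | m + 1 => f (m + 1)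

theorem strictly_eq (n : ℕ) (f : ℕ → ℕ) : strictly n f = f n := by cases n <;> rfl

/-- A digit as a natural number. -/
def dN (n i : ℕ) : ℕ := n / 3 ^ i % 3

/-- An entry as a natural number. -/
def eN (c i j : ℕ) : ℕ := (c >>> (2 * (7 * i + j))) % 4

/-- A row times a vector. -/
def dotN (c i n : ℕ) : ℕ :=
  (eN c i 0 * dN n 0 + eN c i 1 * dN n 1 + eN c i 2 * dN n 2 + eN c i 3 * dN n 3 +
    eN c i 4 * dN n 4 + eN c i 5 * dN n 5 + eN c i 6 * dN n 6) % 3

/-- The code from seven digits. -/
def encN (f : ℕ → ℕ) : ℕ :=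
  f 0 + 3 * f 1 + 9 * f 2 + 27 * f 3 + 81 * f 4 + 243 * f 5 + 729 * f 6

/-- A matrix code applied to a vector code. -/
def appN (c n : ℕ) : ℕ := strictly n fun m => encN fun i => dotN c i m

/-- One summand of a candidate image. -/
def candStep (c d v acc : ℕ) : ℕ :=
  strictly d fun d' => strictly acc fun a => strictly (appN c v) fun w =>
    encN fun j => (dN a j + d' * dN w j) % 3

/-- The candidate image. -/
def candN (L : List ℕ) (binv v n : ℕ) : ℕ :=
  strictly (appN binv n) fun d =>
    candStep (L.getD 6 0) (dN d 6) v (candStep (L.getD 5 0) (dN d 5) v (candStep (L.getD 4 0) (dN d 4) v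
      (candStep (L.getD 3 0) (dN d 3) v (candStep (L.getD 2 0) (dN d 2) v (candStep (L.getD 1 0) (dN d 1) v
        (candStep (L.getD 0 0) (dN d 0) v 0))))))

theorem dN_lt (n i : ℕ) : dN n i < 3 := Nat.mod_lt _ (by norm_num)

theorem dig_eq (n : ℕ) (i : Fin 7) : dig n i = ((dN n i.val : ℕ) : ZMod 3) := rfl

theorem decMat_eq (c : ℕ) (i j : Fin 7) : decMat c i j = ((eN c i.val j.val : ℕ) : ZMod 3) := rfl

theorem enc_natCast (f : ℕ → ℕ) (h : ∀ i, f i < 3) :
    enc (fun i : Fin 7 => ((f i.val : ℕ) : ZMod 3)) = encN f := by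
  simp [enc, encN, ZMod.val_natCast_of_lt (h _)]

theorem appN_eq (c n : ℕ) : appN c n = app7 (decMat c) n := by
  rw [appN, strictly_eq, app7, ← enc_natCast (fun i => dotN c i n) fun i => Nat.mod_lt _ (by norm_num)]
  congr 1
  funext i
  rw [dotN, ZMod.natCast_mod]
  simp only [Matrix.mulVec, dotProduct, Fin.sum_univ_seven, dig_eq, decMat_eq]
  push_cast
  rfl

theorem candStep_eq (c d v : ℕ) (g : Fin 7 → ZMod 3) :
    candStep c d v (enc g) = enc (fun j => g j + (d : ZMod 3) * (decMat c *ᵥ dig v) j) := by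
  rw [candStep, strictly_eq, strictly_eq, strictly_eq,
    ← enc_natCast _ fun j => Nat.mod_lt _ (by norm_num : 0 < 3)]
  congr 1
  funext j
  rw [ZMod.natCast_mod]
  push_cast
  rw [← dig_eq, ← dig_eq, dig_enc, appN_eq, app7, dig_enc]

theorem candN_eq (L : List ℕ) (binv v n : ℕ) : candN L binv v n = cand L binv v n := by
  have h0 : (0 : ℕ) = enc (fun _ : Fin 7 => (0 : ZMod 3)) := by simp [enc]
  rw [candN, strictly_eq]
  conv_lhs => arg 4; arg 4; arg 4; arg 4; arg 4; arg 4; arg 4; rw [h0]
  simp only [candStep_eq, cand]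
  congr 1
  funext j
  rw [Fin.sum_univ_seven, appN_eq, app7]
  simp only [powMat, ← dig_eq, zero_add]
  have e : ∀ m : Fin 7, ((dN (enc (decMat binv *ᵥ dig n)) m.val : ℕ) : ZMod 3) = (decMat binv *ᵥ dig n) m :=
    fun m => by rw [← dig_eq, dig_enc]
  rw [← e 0, ← e 1, ← e 2, ← e 3, ← e 4, ← e 5, ← e 6]
  rfl

/-- The negative of a code. -/
def negCode (n : ℕ) : ℕ := enc (fun i => - dig n i)

/-- The sum of two codes. -/
def addCode (m n : ℕ) : ℕ := enc (fun i => dig m i + dig n i)

theorem comp_B : ∀ k : Fin 2, ∀ v : Fin 2187,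
    appN (idemMatB.getD k.val 0) v.val = v.val → ∀ q : Fin 2,
      iterC (candN powsB binvB v.val) (q.val + 2) seedB = partsB.getD k.val 0 →
      v.val = partsB.getD k.val 0 ∨ v.val = negCode (partsB.getD k.val 0) := by decide +kernel

theorem comp_C : ∀ k : Fin 3, ∀ v : Fin 2187,
    appN (idemMatC.getD k.val 0) v.val = v.val → ∀ q : Fin 3,
      iterC (candN powsC binvC v.val) (([2, 3, 7] : List ℕ).getD q.val 0) seedC = partsC.getD k.val 0 →
      v.val = partsC.getD k.val 0 ∨ v.val = negCode (partsC.getD k.val 0) := by decide +kernel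

/-- The choices of signs at a component. -/
def signed (L : List ℕ) (k : ℕ) : List ℕ := [L.getD k 0, negCode (L.getD k 0)]

theorem bad_B : ∀ a ∈ signed partsB 0, ∀ b ∈ signed partsB 1,
    addCode a b = seedB ∨ BadV powsB binvB (addCode a b) := by
  unfold BadV
  decide +kernel

theorem bad_C : ∀ a ∈ signed partsC 0, ∀ b ∈ signed partsC 1, ∀ c ∈ signed partsC 2,
    addCode (addCode a b) c = seedC ∨ BadV powsC binvC (addCode (addCode a b) c) := by
  unfold BadV
  decide +kernel

theorem idem_B : ∀ k : Fin 2,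
    app7 (decMat (idemMatB.getD k.val 0)) seedB = partsB.getD k.val 0 ∧
    app7 (decMat (idemMatB.getD k.val 0)) (partsB.getD k.val 0) = partsB.getD k.val 0 := by
  decide +kernel

theorem idem_C : ∀ k : Fin 3,
    app7 (decMat (idemMatC.getD k.val 0)) seedC = partsC.getD k.val 0 ∧
    app7 (decMat (idemMatC.getD k.val 0)) (partsC.getD k.val 0) = partsC.getD k.val 0 := by
  decide +kernel

/-- An entry of the sum of the idempotents. -/
def idemSumB (i j : Fin 7) : ZMod 3 :=
  (decMat (idemMatB.getD 0 0) + decMat (idemMatB.getD 1 0)) i j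

/-- An entry of the sum of the idempotents. -/
def idemSumC (i j : Fin 7) : ZMod 3 :=
  (decMat (idemMatC.getD 0 0) + decMat (idemMatC.getD 1 0) + decMat (idemMatC.getD 2 0)) i j

/-- An entry of the square of an idempotent. -/
def idemSqEnt (L : List ℕ) (k : ℕ) (i j : Fin 7) : ZMod 3 :=
  (decMat (L.getD k 0) * decMat (L.getD k 0)) i j

/-- An entry of an idempotent. -/
def idemEnt (L : List ℕ) (k : ℕ) (i j : Fin 7) : ZMod 3 := decMat (L.getD k 0) i j

/-- An entry of a polynomial. -/
def polyEnt (L : List ℕ) (d : List ℕ) (i j : Fin 7) : ZMod 3 := polyMat L d i j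

theorem idem_sum_B : ∀ i j : Fin 7, idemSumB i j = (if i = j then (1 : ZMod 3) else 0) := by
  decide +kernel

theorem idem_sum_C : ∀ i j : Fin 7, idemSumC i j = (if i = j then (1 : ZMod 3) else 0) := by
  decide +kernel

theorem idem_sq_B : ∀ k : Fin 2, ∀ i j : Fin 7,
    idemSqEnt idemMatB k.val i j = idemEnt idemMatB k.val i j ∧
    polyEnt powsB (idemB.getD k.val []) i j = idemEnt idemMatB k.val i j := by
  decide +kernel

theorem idem_sq_C : ∀ k : Fin 3, ∀ i j : Fin 7,
    idemSqEnt idemMatC k.val i j = idemEnt idemMatC k.val i j ∧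
    polyEnt powsC (idemC.getD k.val []) i j = idemEnt idemMatC k.val i j := by
  decide +kernel

end Cfsg.Agent.Lib.Recognition.G23
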