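/-!
# The seven-dimensional module of G2(3): tables
-/

set_option autoImplicit false

namespace Cfsg.Agent.Lib.Recognition.G23

def rootTab : List Nat := [0x1000100010001000100010001, 0x1000100010001020101010001, 0x1000100010001010102010001, 0x1000100010001000100010001, 0x1000100010081000100410001, 0x1000100010041000100810001, 0x1000100010001000100010001, 0x1000100010021001108015001, 0x100010001001100210801a001, 0x1000100010001000100010001, 0x1000100210001008120110801, 0x1000100110001008110210401, 0x1000100010001000100010001, 0x1000500010009080100090201, 0x1000900010009040100050101, 0x1000100010001000100010001, 0x1000100050001000900010001, 0x1000100090001000500010001, 0x1000100010001000100010001, 0x1000140010001800100010001, 0x1000180010001400100010001, 0x1000100010001000100010001, 0x1400100018101000180010041, 0x1800100018201000140010081, 0x1000100010001000100010001, 0x1200108410001100100010011, 0x1100108810001200100010021, 0x1000100010001000100010001, 0x100a120011001000100010009, 0x1009110012001000100010005, 0x1000100010001000100010001, 0x1080100010401000100010001, 0x1040100010801000100010001, 0x1000100010001000100010001, 0x1020101010001000100010001, 0x1010102010001000100010001]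

def wordA : List (Nat × Nat) := [(5, 1), (6, 2)]

def wordB : List (Nat × Nat) := [(1, 2), (5, 1), (4, 1), (9, 1)]

def wordC : List (Nat × Nat) := [(0, 2), (10, 2), (6, 1)]

def triNum : Nat := 0x800400004008000000000200000008100004000000100000008000200004000400000004000800000008000800004000400000000008000008200100000000000004000004008008004004008000000

def powsB : List Nat := [0x1000100010001000100010001, 0x100a522959a49841a9a964229, 0x2684a0442556845950a968158, 0xa1160464869922125a510a58, 0x164120591825826169aa40868, 0x2045554944a9a2aa2494a12a0, 0x28a969059a099060508552a55, 0x1000100010001000100010001]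

def seedB : Nat := 243

def binvB : Nat := 0x1289024a05204980514812589

def powsC : List Nat := [0x1000100010001000100010001, 0x1060140010801810402810001, 0x50182060480810901020001, 0x10a0240020841420402820001, 0x80202040080420000800001, 0x90002050000420900810001, 0x1010142060841000a02420001, 0x20a0201090042420500410001, 0x1020141080881000402000001, 0x20040000880000602800001, 0x2080042050882420202410001, 0x2060181080402810501800001, 0x1080082050481420101010001, 0x1000100010001000100010001]

def seedC : Nat := 973

def binvC : Nat := 0x110245a94550450a41a199586

def idemB : List (List Nat) := [[0, 2, 2, 2, 2, 2, 2], [1, 1, 1, 1, 1, 1, 1]]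

def idemMatB : List Nat := [0x100022805a001008600010001, 0x214085000004a00000000]

def partsB : List Nat := [585, 657]

def idemC : List (List Nat) := [[1, 2, 0, 0, 1, 1, 1], [1, 2, 2, 0, 1, 0, 0], [2, 2, 1, 0, 1, 2, 2]]

def idemMatC : List Nat := [0x1000000000001000100000000, 0x100010000000000010000, 0x1]

def partsC : List Nat := [729, 243, 1]

end Cfsg.Agent.Lib.Recognition.G23
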