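import Cfsg.Agent.Lib.Recognition.G23Cand
import Cfsg.Agent.Lib.Recognition.G23Data
import Cfsg.Agent.Lib.Chev.StData
import Cfsg.Agent.Lib.Chev.Simple
import Cfsg.Agent.Lib.Chev.Order

/-!
# Prime graph of G2(3): no elements of orders 14, 21, 26, 39, 91
-/

set_option autoImplicit false

namespace Cfsg.Agent.Lib.Recognition.G23

open Cfsg.Lie
open scoped Matrix MatrixGroups

/-- The group. -/
abbrev G23 : Type := ↥(chevG2.group (ZMod 3))

/-- The matrix on the seven-dimensional submodule. -/
def red (g : GL chevG2.Idx (ZMod 3)) : M7 := proj * ((g : Matrix chevG2.Idx chevG2.Idx (ZMod 3)) * incl)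

/-- Elements leaving the submodule invariant. -/
def stab : Submonoid (GL chevG2.Idx (ZMod 3)) where
  carrier := {g | (g : Matrix chevG2.Idx chevG2.Idx (ZMod 3)) * incl = incl * red g}
  one_mem' := by simp [red, proj_incl]
  mul_mem' {g h} hg hh := by
    show ((g * h : GL chevG2.Idx (ZMod 3)) : Matrix chevG2.Idx chevG2.Idx (ZMod 3)) * incl = _
    have e : ((g * h : GL chevG2.Idx (ZMod 3)) : Matrix chevG2.Idx chevG2.Idx (ZMod 3)) * incl
        = incl * (red g * red h) := by
      rw [Units.val_mul, Matrix.mul_assoc, hh, ← Matrix.mul_assoc, hg, Matrix.mul_assoc]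
    rw [red, e, ← Matrix.mul_assoc proj, proj_incl, Matrix.one_mul]

theorem red_mul {g h : GL chevG2.Idx (ZMod 3)} (hg : g ∈ stab) (hh : h ∈ stab) :
    red (g * h) = red g * red h := by
  have e : ((g * h : GL chevG2.Idx (ZMod 3)) : Matrix chevG2.Idx chevG2.Idx (ZMod 3)) * incl
      = incl * (red g * red h) := by
    rw [Units.val_mul, Matrix.mul_assoc, hh, ← Matrix.mul_assoc, hg, Matrix.mul_assoc]
  rw [red, e, ← Matrix.mul_assoc proj, proj_incl, Matrix.one_mul]

theorem gen_mat {g : GL chevG2.Idx (ZMod 3)} {r : Fin chevG2.nroots} {t : ZMod 3}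
    (h : (g : Matrix chevG2.Idx chevG2.Idx (ZMod 3)) = chevG2.xMat (ZMod 3) r t) :
    g ∈ stab ∧ red g = rootMat r.val t := by
  have e : (g : Matrix chevG2.Idx chevG2.Idx (ZMod 3)) * incl = incl * rootMat r.val t := by
    rw [h]; ext i j; exact x_incl r t i j
  have hr : red g = rootMat r.val t := by
    rw [red, e, ← Matrix.mul_assoc, proj_incl, Matrix.one_mul]
  exact ⟨show _ = _ by rw [hr]; exact e, hr⟩

/-- Invariance of the form. -/
def Inv (A : M7) : Prop := ∀ u : Fin 7 → ZMod 3, Aᵀ * sliceAt (A *ᵥ u) * A = sliceAt u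

theorem sliceAt_smul_sum (u : Fin 7 → ZMod 3) (A : M7) :
    sliceAt (A *ᵥ u) = ∑ i : Fin 7, u i • sliceAt (fun a => A a i) := by
  simp only [sliceAt, Matrix.mulVec, dotProduct, Finset.sum_smul, Finset.smul_sum, smul_smul]
  rw [Finset.sum_comm]
  exact Finset.sum_congr rfl fun i _ => Finset.sum_congr rfl fun a _ => by rw [mul_comm]

theorem inv_of_basis {A : M7}
    (h : ∀ i b c : Fin 7, (Aᵀ * sliceAt (fun a => A a i) * A) b c = tri i b c) : Inv A := by
  intro u
  rw [sliceAt_smul_sum, Matrix.mul_sum, Matrix.sum_mul]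
  refine Finset.sum_congr rfl fun i _ => ?_
  rw [Matrix.mul_smul, Matrix.smul_mul]
  congr 1
  ext b c
  exact h i b c

theorem inv_basis {A : M7} (h : Inv A) (i b c : Fin 7) :
    (Aᵀ * sliceAt (fun a => A a i) * A) b c = tri i b c := by
  have := congrFun (congrFun (h (Pi.single i 1)) b) c
  rw [Matrix.mulVec_single_one] at this
  refine this.trans ?_
  simp only [sliceAt, Pi.single_apply, ite_smul, one_smul, zero_smul, Finset.sum_ite_eq',
    Finset.mem_univ, if_true]
  rfl

theorem inv_mul {A B : M7} (hA : Inv A) (hB : Inv B) : Inv (A * B) := by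
  intro u
  rw [← Matrix.mulVec_mulVec, Matrix.transpose_mul]
  calc Bᵀ * Aᵀ * sliceAt (A *ᵥ B *ᵥ u) * (A * B)
      = Bᵀ * (Aᵀ * sliceAt (A *ᵥ B *ᵥ u) * A) * B := by simp only [Matrix.mul_assoc]
    _ = sliceAt u := by rw [hA, hB]

theorem inv_one : Inv 1 := fun u => by simp

theorem inv_root (r : Fin chevG2.nroots) (t : ZMod 3) : Inv (rootMat r.val t) := by
  have h1 : Inv (rootMat r.val 1) := inv_of_basis (root_inv_one r)
  have ht : t = 0 ∨ t = 1 ∨ t = 2 := by revert t; decide
  rcases ht with rfl | rfl | rfl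
  · have e : rootMat r.val 0 = 1 := by
      ext i j; rw [Matrix.one_apply]; exact root_pow_zero r i j
    rw [e]; exact inv_one
  · exact h1
  · have e : rootMat r.val 2 = rootMat r.val 1 * rootMat r.val 1 := by
      ext i j; exact root_pow_two r i j
    rw [e]; exact inv_mul h1 h1

theorem group_facts {g : GL chevG2.Idx (ZMod 3)} (hg : g ∈ chevG2.group (ZMod 3)) :
    g ∈ stab ∧ Inv (red g) := by
  have hg' : g ∈ (chevG2.group (ZMod 3)).toSubmonoid := hg
  rw [ChevalleyDatum.group, Subgroup.closure_toSubmonoid] at hg'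
  clear hg
  induction hg' using Submonoid.closure_induction with
  | mem x hx =>
    rcases hx with ⟨r, t, h⟩ | hx
    · obtain ⟨h1, h2⟩ := gen_mat h
      exact ⟨h1, h2 ▸ inv_root r t⟩
    · obtain ⟨r, t, h⟩ := hx
      have e : (x : Matrix chevG2.Idx chevG2.Idx (ZMod 3)) = chevG2.xMat (ZMod 3) r (-t) := by
        have hx1 : (x : Matrix chevG2.Idx chevG2.Idx (ZMod 3)) * chevG2.xMat (ZMod 3) r t = 1 := by
          rw [← h, Units.mul_inv]
        have h2 : chevG2.xMat (ZMod 3) r t * chevG2.xMat (ZMod 3) r (-t) = 1 := by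
          ext i j; rw [Matrix.one_apply]; exact x_inv r t i j
        exact left_inv_eq_right_inv hx1 h2
      obtain ⟨h1, h2⟩ := gen_mat e
      exact ⟨h1, h2 ▸ inv_root r (-t)⟩
  | one =>
    exact ⟨one_mem _, by rw [show red (1 : GL chevG2.Idx (ZMod 3)) = 1 by simp [red, proj_incl]]; exact inv_one⟩
  | mul a b _ _ ha hb => exact ⟨mul_mem ha.1 hb.1, red_mul ha.1 hb.1 ▸ inv_mul ha.2 hb.2⟩

/-- The representation of degree seven. -/
def rep : G23 →* M7 where
  toFun g := red g.1
  map_one' := by simp [red, proj_incl]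
  map_mul' g h := red_mul (group_facts g.2).1 (group_facts h.2).1

theorem rep_inv (g : G23) : Inv (rep g) := (group_facts g.2).2

/-- A root element. -/
def rootElt (r : Fin chevG2.nroots) (t : ZMod 3) : G23 :=
  ⟨⟨chevG2.xMat (ZMod 3) r t, chevG2.xMat (ZMod 3) r (-t),
    by ext i j; rw [Matrix.one_apply]; exact x_inv r t i j,
    by
      ext i j; rw [Matrix.one_apply]
      have := x_inv r (-t) i j
      rwa [neg_neg] at this⟩,
    Subgroup.subset_closure ⟨r, t, rfl⟩⟩

theorem rep_rootElt (r : Fin chevG2.nroots) (t : ZMod 3) : rep (rootElt r t) = rootMat r.val t :=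
  (gen_mat (g := (rootElt r t).1) rfl).2

/-- A root index. -/
def rix (n : ℕ) : Fin chevG2.nroots :=
  ⟨n % 12, Nat.mod_lt _ (by norm_num : 0 < 12)⟩

/-- The element of a word. -/
def wordElt (w : List (ℕ × ℕ)) : G23 :=
  (w.map fun p => rootElt (rix p.1) (p.2 : ZMod 3)).prod

theorem rep_wordElt (w : List (ℕ × ℕ)) :
    rep (wordElt w) = (w.map fun p => rootMat (rix p.1).val (p.2 : ZMod 3)).prod := by
  have key : ∀ p ∈ w, (rep ∘ fun p : ℕ × ℕ => rootElt (rix p.1) (p.2 : ZMod 3)) p
      = (fun p : ℕ × ℕ => rootMat (rix p.1).val (p.2 : ZMod 3)) p :=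
    fun p _ => rep_rootElt (rix p.1) (p.2 : ZMod 3)
  rw [wordElt, map_list_prod, List.map_map, List.map_congr_left key]

theorem rep_injective : Function.Injective rep := by
  have hperf : commutator G23 = ⊤ :=
    Cfsg.Agent.Lib.Chev.perfect_group (D := chevG2) (by simp) fun _ => ⟨2, by decide, by decide⟩
  haveI := (Cfsg.Agent.Lib.Chev.goodG2.simple (F := ZMod 3) Cfsg.Agent.Lib.Chev.connG2 hperf).1
  rw [← MonoidHom.ker_eq_bot_iff]
  rcases (MonoidHom.normal_ker rep).eq_bot_or_eq_top with h | h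
  · exact h
  exfalso
  have h1 : rootElt ⟨6, by decide +kernel⟩ 1 ∈ rep.ker := h ▸ Subgroup.mem_top _
  rw [MonoidHom.mem_ker, rep_rootElt] at h1
  have h2 : ∀ i j : Fin 7, ent 6 1 i j = (if i = j then (1 : ZMod 3) else 0) := by
    intro i j
    show rootMat 6 1 i j = _
    rw [h1, Matrix.one_apply]
  exact absurd h2 (by decide +kernel)

theorem card_G23 : Nat.card G23 = 4245696 := by
  have hr : chevG2.rank = 2 := rfl
  have hn : chevG2.nroots / 2 = 6 := rfl
  have h := Cfsg.Agent.Lib.Chev.Good.card_eq (F := ZMod 3) Cfsg.Agent.Lib.Chev.goodG2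
    Cfsg.Agent.Lib.Chev.smithG2 Cfsg.Agent.Lib.Chev.poinG2 (c := 1)
    (by rw [hr]; simp [Finset.prod_range_succ, ZMod.card])
  rw [hn, ZMod.card] at h
  norm_num at h
  exact h

/-! ### Powers of the chosen elements -/

/-- An entry of a product of consecutive powers. -/
def stepEnt (L : List ℕ) (k : ℕ) (i j : Fin 7) : ZMod 3 := (powMat L k * powMat L 1) i j

/-- An entry of a power. -/
def powEnt (L : List ℕ) (k : ℕ) (i j : Fin 7) : ZMod 3 := powMat L k i j

/-- An entry of a word product. -/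
def wordEnt (w : List (ℕ × ℕ)) (i j : Fin 7) : ZMod 3 :=
  ((w.map fun p => rootMat (rix p.1).val (p.2 : ZMod 3)).prod) i j

theorem pow_tables : (∀ k : Fin 7, ∀ i j : Fin 7, stepEnt powsB k.val i j = powEnt powsB (k.val + 1) i j) ∧
    (∀ k : Fin 13, ∀ i j : Fin 7, stepEnt powsC k.val i j = powEnt powsC (k.val + 1) i j) := by
  decide +kernel

theorem pow_ends : (∀ i j : Fin 7, powEnt powsB 0 i j = (if i = j then (1 : ZMod 3) else 0)) ∧
    (∀ i j : Fin 7, powEnt powsC 0 i j = (if i = j then (1 : ZMod 3) else 0)) ∧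
    (∀ i j : Fin 7, powEnt powsB 7 i j = (if i = j then (1 : ZMod 3) else 0)) ∧
    (∀ i j : Fin 7, powEnt powsC 13 i j = (if i = j then (1 : ZMod 3) else 0)) ∧
    (∀ i j : Fin 7, powEnt powsB 1 i j = wordEnt wordB i j) ∧
    (∀ i j : Fin 7, powEnt powsC 1 i j = wordEnt wordC i j) := by
  decide +kernel

theorem powMat_eq {L : List ℕ} {n : ℕ} {x : G23} (h0 : powMat L 0 = 1) (h1 : powMat L 1 = rep x)
    (hs : ∀ k < n, powMat L k * powMat L 1 = powMat L (k + 1)) : ∀ k ≤ n, powMat L k = rep (x ^ k) := by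
  intro k
  induction k with
  | zero => intro _; rw [pow_zero, map_one, h0]
  | succ k ih => intro hk; rw [← hs k (by omega), ih (by omega), h1, pow_succ, map_mul]

/-- The element of order seven. -/
def eB : G23 := wordElt wordB
/-- The element of order thirteen. -/
def eC : G23 := wordElt wordC
/-- The element of order six. -/
def eA : G23 := wordElt wordA

theorem eB_pows : ∀ k ≤ 7, powMat powsB k = rep (eB ^ k) :=
  powMat_eq (by ext i j; rw [Matrix.one_apply]; exact pow_ends.1 i j)
    (by rw [eB, rep_wordElt]; ext i j; exact pow_ends.2.2.2.2.1 i j)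
    fun k hk => by ext i j; exact pow_tables.1 ⟨k, hk⟩ i j

theorem eC_pows : ∀ k ≤ 13, powMat powsC k = rep (eC ^ k) :=
  powMat_eq (by ext i j; rw [Matrix.one_apply]; exact pow_ends.2.1 i j)
    (by rw [eC, rep_wordElt]; ext i j; exact pow_ends.2.2.2.2.2 i j)
    fun k hk => by ext i j; exact pow_tables.2 ⟨k, hk⟩ i j

theorem eB_order : orderOf eB = 7 := by
  haveI : Fact (Nat.Prime 7) := ⟨by norm_num⟩
  refine orderOf_eq_prime (rep_injective ?_) fun h => ?_
  · rw [← eB_pows 7 le_rfl, map_one]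
    ext i j; rw [Matrix.one_apply]; exact pow_ends.2.2.1 i j
  · have h1 := eB_pows 1 (by norm_num)
    rw [pow_one, h, map_one] at h1
    have h2 : ∀ i j : Fin 7, powEnt powsB 1 i j = (if i = j then (1 : ZMod 3) else 0) := fun i j => by
      show powMat powsB 1 i j = _
      rw [h1, Matrix.one_apply]
    exact absurd h2 (by decide +kernel)

theorem eC_order : orderOf eC = 13 := by
  haveI : Fact (Nat.Prime 13) := ⟨by norm_num⟩
  refine orderOf_eq_prime (rep_injective ?_) fun h => ?_
  · rw [← eC_pows 13 le_rfl, map_one]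
    ext i j; rw [Matrix.one_apply]; exact pow_ends.2.2.2.1 i j
  · have h1 := eC_pows 1 (by norm_num)
    rw [pow_one, h, map_one] at h1
    have h2 : ∀ i j : Fin 7, powEnt powsC 1 i j = (if i = j then (1 : ZMod 3) else 0) := fun i j => by
      show powMat powsC 1 i j = _
      rw [h1, Matrix.one_apply]
    exact absurd h2 (by decide +kernel)

/-- An entry of a power of the word of order six. -/
def sixEnt (k : ℕ) (i j : Fin 7) : ZMod 3 :=
  (((wordA.map fun p => rootMat (rix p.1).val (p.2 : ZMod 3)).prod) ^ k) i j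

theorem six_table : (∀ i j : Fin 7, sixEnt 6 i j = (if i = j then (1 : ZMod 3) else 0)) ∧
    (¬ ∀ i j : Fin 7, sixEnt 2 i j = (if i = j then (1 : ZMod 3) else 0)) ∧
    (¬ ∀ i j : Fin 7, sixEnt 3 i j = (if i = j then (1 : ZMod 3) else 0)) := by
  decide +kernel

theorem eA_order : orderOf eA = 6 := by
  have hk : ∀ k, rep (eA ^ k) = 1 ↔ ∀ i j : Fin 7, sixEnt k i j = (if i = j then (1 : ZMod 3) else 0) := by
    intro k
    rw [map_pow, eA, rep_wordElt, ← Matrix.ext_iff]
    simp only [Matrix.one_apply, sixEnt]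
  refine orderOf_eq_of_pow_and_pow_div_prime (by norm_num) (rep_injective ?_) fun p hp hd h => ?_
  · rw [map_one, hk]; exact six_table.1
  · have hp' : p = 2 ∨ p = 3 := by
      have key : ∀ m ≤ 6, m ∣ 6 → Nat.Prime m → m = 2 ∨ m = 3 := by decide +kernel
      exact key p (Nat.le_of_dvd (by norm_num) hd) hd hp
    have h' : rep (eA ^ (6 / p)) = 1 := by rw [h, map_one]
    rw [hk] at h'
    rcases hp' with rfl | rfl
    · exact six_table.2.2 h'
    · exact six_table.2.1 h'

/-! ### Commutants -/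

theorem enc_dig_all : ∀ n : Fin 2187, enc (dig n.val) = n.val := by decide +kernel

theorem enc_dig (n : ℕ) (hn : n < 2187) : n = enc (dig n) := (enc_dig_all ⟨n, hn⟩).symm

/-- A matrix commuting with a tabulated element is its candidate matrix. -/
theorem eq_candMat {L : List ℕ} {binv seed : ℕ} {A : M7}
    (hb : ∀ i j : Fin 7, ((Matrix.of fun j i : Fin 7 => (powMat L i.val *ᵥ dig seed) j) * decMat binv) i j
      = if i = j then 1 else 0)
    (hc : ∀ i : Fin 7, Commute A (powMat L i.val)) :
    A = candMat L binv (app7 A seed) := by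
  have hb' : (Matrix.of fun j i : Fin 7 => (powMat L i.val *ᵥ dig seed) j) * decMat binv = 1 := by
    ext i j; rw [Matrix.one_apply]; exact hb i j
  conv_lhs => rw [← Matrix.mul_one A, ← hb']
  rw [candMat, ← Matrix.mul_assoc]
  congr 1
  ext j i
  rw [Matrix.of_apply, app7, dig_enc, Matrix.mulVec_mulVec, ← (hc i).eq, ← Matrix.mulVec_mulVec]
  rfl

theorem iterC_cand {L : List ℕ} {binv v : ℕ} {A : M7} (hA : A = candMat L binv v) :
    ∀ (q n : ℕ), n < 2187 → iterC (candN L binv v) q n = app7 (A ^ q) n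
  | 0, n, hn => by
    show n = app7 (A ^ 0) n
    rw [pow_zero, app7, Matrix.one_mulVec]
    exact enc_dig n hn
  | q + 1, n, hn => by
    show iterC (candN L binv v) q (candN L binv v n) = _
    have e : candN L binv v n = app7 A n := by rw [candN_eq, cand_eq, hA]
    rw [e, iterC_cand hA q (app7 A n) (enc_lt _), app7, app7, dig_enc, Matrix.mulVec_mulVec, ← pow_succ]
    rfl

/-- The component of an element at an idempotent. -/
theorem component {L : List ℕ} {binv seed E part : ℕ} {A : M7} {q : ℕ} (hq : 0 < q)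
    (hb : ∀ i j : Fin 7, ((Matrix.of fun j i : Fin 7 => (powMat L i.val *ᵥ dig seed) j) * decMat binv) i j
      = if i = j then 1 else 0)
    (hc : ∀ i : Fin 7, Commute A (powMat L i.val)) (hcE : Commute A (decMat E))
    (hE2 : decMat E * decMat E = decMat E)
    (hE : ∀ i : Fin 7, Commute (decMat E) (powMat L i.val)) (hseed : seed < 2187)
    (hp : app7 (decMat E) seed = part) (hAq : A ^ q = 1)
    (check : ∀ v : Fin 2187, appN E v.val = v.val →
      iterC (candN L binv v.val) q seed = part → v.val = part ∨ v.val = negCode part) :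
    app7 (decMat E) (app7 A seed) = part ∨ app7 (decMat E) (app7 A seed) = negCode part := by
  set v := app7 (decMat E) (app7 A seed) with hv
  have hv' : v = app7 (decMat E * A) seed := by
    rw [hv, app7, app7, dig_enc, Matrix.mulVec_mulVec]; rfl
  have hfix : appN E v = v := by
    rw [appN_eq, hv', app7, app7, dig_enc, Matrix.mulVec_mulVec, ← Matrix.mul_assoc, hE2]
  have hit : iterC (candN L binv v) q seed = part := by
    have hM := eq_candMat (binv := binv) hb (fun i => (hE i).mul_left (hc i))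
    rw [hv', iterC_cand hM q seed hseed, hcE.symm.mul_pow, hAq, Matrix.mul_one]
    obtain ⟨m, rfl⟩ : ∃ m, q = m + 1 := ⟨q - 1, by omega⟩
    have : decMat E ^ (m + 1) = decMat E := by
      clear * - hE2
      induction m with
      | zero => rw [pow_one]
      | succ m ih => rw [pow_succ, ih, hE2]
    rw [this]; exact hp
  exact check ⟨v, enc_lt _⟩ hfix hit

theorem addCode_app (A B : M7) (n : ℕ) : addCode (app7 A n) (app7 B n) = app7 (A + B) n := by
  simp only [addCode, app7, dig_enc, Matrix.add_mulVec]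
  rfl

theorem poly_commute {L d : List ℕ} {A : M7} (hc : ∀ i : Fin 7, Commute A (powMat L i.val)) :
    Commute A (polyMat L d) :=
  Commute.sum_right _ _ _ fun i _ => (hc i).smul_right _

theorem pows_commute {L : List ℕ} {n : ℕ} {x : G23} (h : ∀ k ≤ n, powMat L k = rep (x ^ k))
    (hn : 6 ≤ n) {y : G23} (hy : Commute y x) (i : Fin 7) : Commute (rep y) (powMat L i.val) := by
  rw [h i.val (by omega)]
  exact (hy.pow_right _).map rep

theorem pows_comm_pows {L : List ℕ} {n : ℕ} {x : G23} (h : ∀ k ≤ n, powMat L k = rep (x ^ k))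
    (hn : 6 ≤ n) (i j : Fin 7) : Commute (powMat L i.val) (powMat L j.val) := by
  rw [h i.val (by omega), h j.val (by omega)]
  exact (Commute.pow_pow (Commute.refl x) _ _).map rep

theorem not_bad {L : List ℕ} {binv v : ℕ} {A : M7} (hA : Inv A) (hv : A = candMat L binv v) :
    ¬ BadV L binv v := fun ⟨i, b, c, h⟩ => h (hv ▸ inv_basis hA i b c)

theorem idemB_facts (k : Fin 2) : decMat (idemMatB.getD k.val 0) * decMat (idemMatB.getD k.val 0)
      = decMat (idemMatB.getD k.val 0) ∧
    polyMat powsB (idemB.getD k.val []) = decMat (idemMatB.getD k.val 0) :=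
  ⟨by ext i j; exact (idem_sq_B k i j).1, by ext i j; exact (idem_sq_B k i j).2⟩

theorem idemC_facts (k : Fin 3) : decMat (idemMatC.getD k.val 0) * decMat (idemMatC.getD k.val 0)
      = decMat (idemMatC.getD k.val 0) ∧
    polyMat powsC (idemC.getD k.val []) = decMat (idemMatC.getD k.val 0) :=
  ⟨by ext i j; exact (idem_sq_C k i j).1, by ext i j; exact (idem_sq_C k i j).2⟩

theorem centralizer_B {y : G23} (hy : Commute y eB) {q : ℕ} (hq : q = 2 ∨ q = 3) (hyq : y ^ q = 1) :
    y = 1 := by
  have hc := pows_commute eB_pows (by norm_num) hy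
  have hX := pows_commute eB_pows (by norm_num) (Commute.refl eB)
  obtain ⟨q', hq'⟩ : ∃ q' : Fin 2, q'.val + 2 = q := by
    rcases hq with rfl | rfl
    exacts [⟨0, rfl⟩, ⟨1, rfl⟩]
  have hAq : rep y ^ q = 1 := by rw [← map_pow, hyq, map_one]
  have hk : ∀ k : Fin 2, app7 (decMat (idemMatB.getD k.val 0)) (app7 (rep y) seedB) ∈ signed partsB k.val := by
    intro k
    have := component (binv := binvB) (q := q) (by omega) inv_seed_B hc
      ((idemB_facts k).2 ▸ poly_commute hc) (idemB_facts k).1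
      (fun i => ((idemB_facts k).2 ▸ poly_commute (fun j => pows_comm_pows eB_pows (by norm_num) i j)).symm)
      (by decide +kernel) (idem_B k).1 hAq
      (fun v h1 h2 => comp_B k v h1 q' (by rw [hq']; exact h2))
    simpa [signed] using this
  have hsum : addCode (app7 (decMat (idemMatB.getD 0 0)) (app7 (rep y) seedB))
      (app7 (decMat (idemMatB.getD 1 0)) (app7 (rep y) seedB)) = app7 (rep y) seedB := by
    rw [addCode_app]
    have : decMat (idemMatB.getD 0 0) + decMat (idemMatB.getD 1 0) = 1 := by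
      ext i j; rw [Matrix.one_apply]; exact idem_sum_B i j
    rw [this]
    show enc ((1 : M7) *ᵥ dig (enc (rep y *ᵥ dig seedB))) = _
    rw [Matrix.one_mulVec, dig_enc]; rfl
  have hA := eq_candMat (binv := binvB) inv_seed_B hc
  have k0 : app7 (decMat (idemMatB.getD 0 0)) (app7 (rep y) seedB) ∈ signed partsB 0 := hk 0
  have k1 : app7 (decMat (idemMatB.getD 1 0)) (app7 (rep y) seedB) ∈ signed partsB 1 := hk 1
  rcases bad_B _ k0 _ k1 with h | h
  · apply rep_injective
    rw [map_one, hA]
    rw [hsum] at h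
    rw [h, candMat]
    ext i j; rw [Matrix.one_apply]; exact inv_seed_B i j
  · rw [hsum] at h
    exact absurd h (not_bad (rep_inv y) hA)

theorem centralizer_C {y : G23} (hy : Commute y eC) {q : ℕ} (hq : q = 2 ∨ q = 3 ∨ q = 7)
    (hyq : y ^ q = 1) : y = 1 := by
  have hc := pows_commute eC_pows (by norm_num) hy
  obtain ⟨q', hq'⟩ : ∃ q' : Fin 3, ([2, 3, 7] : List ℕ).getD q'.val 0 = q := by
    rcases hq with rfl | rfl | rfl
    exacts [⟨0, rfl⟩, ⟨1, rfl⟩, ⟨2, rfl⟩]
  have hAq : rep y ^ q = 1 := by rw [← map_pow, hyq, map_one]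
  have hk : ∀ k : Fin 3, app7 (decMat (idemMatC.getD k.val 0)) (app7 (rep y) seedC) ∈ signed partsC k.val := by
    intro k
    have := component (binv := binvC) (q := q) (by omega) inv_seed_C hc
      ((idemC_facts k).2 ▸ poly_commute hc) (idemC_facts k).1
      (fun i => ((idemC_facts k).2 ▸ poly_commute (fun j => pows_comm_pows eC_pows (by norm_num) i j)).symm)
      (by decide +kernel) (idem_C k).1 hAq
      (fun v h1 h2 => comp_C k v h1 q' (by rw [hq']; exact h2))
    simpa [signed] using this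
  have hsum : addCode (addCode (app7 (decMat (idemMatC.getD 0 0)) (app7 (rep y) seedC))
      (app7 (decMat (idemMatC.getD 1 0)) (app7 (rep y) seedC)))
      (app7 (decMat (idemMatC.getD 2 0)) (app7 (rep y) seedC)) = app7 (rep y) seedC := by
    rw [addCode_app, addCode_app]
    have : decMat (idemMatC.getD 0 0) + decMat (idemMatC.getD 1 0) + decMat (idemMatC.getD 2 0) = 1 := by
      ext i j; rw [Matrix.one_apply]; exact idem_sum_C i j
    rw [this]
    show enc ((1 : M7) *ᵥ dig (enc (rep y *ᵥ dig seedC))) = _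
    rw [Matrix.one_mulVec, dig_enc]; rfl
  have hA := eq_candMat (binv := binvC) inv_seed_C hc
  have k0 : app7 (decMat (idemMatC.getD 0 0)) (app7 (rep y) seedC) ∈ signed partsC 0 := hk 0
  have k1 : app7 (decMat (idemMatC.getD 1 0)) (app7 (rep y) seedC) ∈ signed partsC 1 := hk 1
  have k2 : app7 (decMat (idemMatC.getD 2 0)) (app7 (rep y) seedC) ∈ signed partsC 2 := hk 2
  rcases bad_C _ k0 _ k1 _ k2 with h | h
  · apply rep_injective
    rw [map_one, hA]
    rw [hsum] at h
    rw [h, candMat]
    ext i j; rw [Matrix.one_apply]; exact inv_seed_C i j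
  · rw [hsum] at h
    exact absurd h (not_bad (rep_inv y) hA)

end Cfsg.Agent.Lib.Recognition.G23
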