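import Cfsg.Prelude.Def_ChevG2
import Cfsg.Prelude.Def_ChevWords
import Cfsg.Agent.Lib.Recognition.G23Data

/-!
# The seven-dimensional module of G2(3) inside the adjoint module
-/

set_option autoImplicit false

namespace Cfsg.Agent.Lib.Recognition.G23

open Cfsg.Lie
open scoped Matrix

/-- Matrices of degree seven. -/
abbrev M7 : Type := Matrix (Fin 7) (Fin 7) (ZMod 3)

/-- Matrix from a code. -/
def decMat (c : ℕ) : M7 := fun i j => (((c >>> (2 * (7 * i.val + j.val))) % 4 : ℕ) : ZMod 3)

/-- The matrix of a root element. -/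
def rootMat (r : ℕ) (t : ZMod 3) : M7 := decMat (rootTab.getD (3 * r + t.val) 0)

/-- The position of a coordinate. -/
def place : Fin 7 → chevG2.Idx :=
  ![Sum.inl ⟨0, by decide +kernel⟩, Sum.inr ⟨2, by decide +kernel⟩, Sum.inr ⟨3, by decide +kernel⟩,
    Sum.inr ⟨4, by decide +kernel⟩, Sum.inr ⟨7, by decide +kernel⟩, Sum.inr ⟨8, by decide +kernel⟩,
    Sum.inr ⟨9, by decide +kernel⟩]

/-- The inclusion. -/
def incl : Matrix chevG2.Idx (Fin 7) (ZMod 3) := fun i j => if i = place j then 1 else 0

/-- The projection. -/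
def proj : Matrix (Fin 7) chevG2.Idx (ZMod 3) := fun j i => if i = place j then 1 else 0

theorem proj_incl : proj * incl = 1 := by
  ext i j
  rw [Matrix.one_apply]
  revert i j
  decide +kernel

theorem x_incl : ∀ (r : Fin chevG2.nroots) (t : ZMod 3) (i : chevG2.Idx) (j : Fin 7),
    (chevG2.xMat (ZMod 3) r t * incl) i j = (incl * rootMat r.val t) i j := by decide +kernel

theorem x_inv : ∀ (r : Fin chevG2.nroots) (t : ZMod 3) (i j : chevG2.Idx),
    (chevG2.xMat (ZMod 3) r t * chevG2.xMat (ZMod 3) r (-t)) i j = if i = j then 1 else 0 := by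
  decide +kernel

/-- The trilinear alternating form as an array. -/
def tri (a b c : Fin 7) : ZMod 3 :=
  (((triNum >>> (2 * (49 * a.val + 7 * b.val + c.val))) % 4 : ℕ) : ZMod 3)

/-- The matrix of the form at a basis vector. -/
def slice (a : Fin 7) : M7 := fun b c => tri a b c

/-- The slice at a vector. -/
def sliceAt (u : Fin 7 → ZMod 3) : M7 := ∑ a : Fin 7, u a • slice a

/-- Invariance tested on the basis. -/
def InvB (A : M7) : Prop := ∀ i b c : Fin 7, (Aᵀ * sliceAt (fun a => A a i) * A) b c = tri i b c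

theorem root_inv_one : ∀ (r : Fin chevG2.nroots), ∀ i b c : Fin 7,
    ((rootMat r.val 1)ᵀ * sliceAt (fun a => rootMat r.val 1 a i) * rootMat r.val 1) b c = tri i b c := by
  decide +kernel

/-- An entry of a root matrix. -/
def ent (r : ℕ) (t : ZMod 3) (i j : Fin 7) : ZMod 3 := rootMat r t i j

/-- An entry of the square of a root matrix. -/
def entSq (r : ℕ) (i j : Fin 7) : ZMod 3 := (rootMat r 1 * rootMat r 1) i j

theorem root_pow_zero : ∀ (r : Fin chevG2.nroots) (i j : Fin 7),
    ent r.val 0 i j = (if i = j then (1 : ZMod 3) else 0) := by decide +kernel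

theorem root_pow_two : ∀ (r : Fin chevG2.nroots) (i j : Fin 7),
    ent r.val 2 i j = entSq r.val i j := by decide +kernel

/-! ### Vectors as codes -/

/-- A digit. -/
def dig (n : ℕ) (i : Fin 7) : ZMod 3 := ((n / 3 ^ i.val % 3 : ℕ) : ZMod 3)

/-- The code. -/
def enc (f : Fin 7 → ZMod 3) : ℕ :=
  (f 0).val + 3 * (f 1).val + 9 * (f 2).val + 27 * (f 3).val + 81 * (f 4).val + 243 * (f 5).val +
    729 * (f 6).val

theorem enc_lt (f : Fin 7 → ZMod 3) : enc f < 2187 := by
  have h : ∀ i, (f i).val < 3 := fun i => ZMod.val_lt (f i)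
  have := h 0; have := h 1; have := h 2; have := h 3; have := h 4; have := h 5; have := h 6
  simp only [enc]; omega

theorem dig_enc_all : ∀ a b c d e g h : ZMod 3, ∀ i : Fin 7,
    dig (enc ![a, b, c, d, e, g, h]) i = ![a, b, c, d, e, g, h] i := by decide +kernel

theorem dig_enc (f : Fin 7 → ZMod 3) : dig (enc f) = f := by
  have e : f = ![f 0, f 1, f 2, f 3, f 4, f 5, f 6] := by funext i; fin_cases i <;> rfl
  funext i
  conv_lhs => rw [e]
  rw [dig_enc_all]
  exact (congrFun e i).symm

/-- The image of a vector code under a matrix code. -/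
def app7 (A : M7) (n : ℕ) : ℕ := enc (A *ᵥ dig n)

theorem app7_enc (A : M7) (v : Fin 7 → ZMod 3) : app7 A (enc v) = enc (A *ᵥ v) := by
  rw [app7, dig_enc]

/-- The power of an element in a table. -/
def powMat (L : List ℕ) (i : ℕ) : M7 := decMat (L.getD i 0)

/-- The candidate map determined by the image `v` of the seed. -/
def cand (L : List ℕ) (binv v n : ℕ) : ℕ :=
  enc (fun j => ∑ i : Fin 7, (decMat binv *ᵥ dig n) i * (powMat L i.val *ᵥ dig v) j)

/-- Iteration. -/
def iterC (f : ℕ → ℕ) : ℕ → ℕ → ℕ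
  | 0, n => n
  | k + 1, n => iterC f k (f n)

/-- The candidate matrix. -/
def candMat (L : List ℕ) (binv v : ℕ) : M7 :=
  (Matrix.of fun j i : Fin 7 => (powMat L i.val *ᵥ dig v) j) * decMat binv

theorem cand_eq (L : List ℕ) (binv v n : ℕ) : cand L binv v n = app7 (candMat L binv v) n := by
  rw [cand, app7, candMat, ← Matrix.mulVec_mulVec]
  congr 1
  funext j
  simp only [Matrix.mulVec, dotProduct, Matrix.of_apply]
  exact Finset.sum_congr rfl fun i _ => mul_comm _ _

theorem inv_seed_B : ∀ i j : Fin 7,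
    ((Matrix.of fun j i : Fin 7 => (powMat powsB i.val *ᵥ dig seedB) j) * decMat binvB) i j
      = if i = j then 1 else 0 := by decide +kernel

theorem inv_seed_C : ∀ i j : Fin 7,
    ((Matrix.of fun j i : Fin 7 => (powMat powsC i.val *ᵥ dig seedC) j) * decMat binvC) i j
      = if i = j then 1 else 0 := by decide +kernel

/-- A failure of invariance at the basis. -/
def BadV (L : List ℕ) (binv v : ℕ) : Prop :=
  ∃ i b c : Fin 7, ((candMat L binv v)ᵀ * sliceAt (fun a => candMat L binv v a i) * candMat L binv v) b c ≠ tri i b c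

end Cfsg.Agent.Lib.Recognition.G23
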