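/-!
# The six-dimensional module of G2(4) in characteristic 2: column tables and words
-/

set_option autoImplicit false

namespace Cfsg.Agent.Lib.Recognition.G24

/-- Multiplication of the field with four elements. -/
def mulTab : Nat := 2625168384

/-- Images of the twelve bits under the root elements. -/
def colTab : Nat := 0x800400200100080040020010408c04102301800400200100080040020010c08804302201800400200100080040020010808404202101800400200100080040020010008004002001800400200100080040420c100080040420c1800400200100080040c208100080040c20818004002001000800408204100080040820418004002001000800400200100080040020018004002001000800401203100480c4c028018004002001000800403202100c8084402c01800400200100080040220110088044802401800400200100080040020010008004002001800400200100480c40020010308204012031800400200100c80840020010108304032021800400200100880440020010208104022011800400200100080040020010008004002001800400600d000800400e009000800400600d800400e009000800400600d000800400e009800400a005000800400a005000800400a0058004002001000800400200100080040020018004002001001803400200100180340020018004002001003802400200100380240020018004002001002801400200100280140020018004002001000800400200100080040020018004002401c008004002401c0080040020018004002c018008004002c0180080040020018004002801400800400280140080040020018004002001000800400200100080040020019007002001000b0060020010009007002001b0060020010009007002001000b006002001a005002001000a005002001000a0050020018004002001000800400200100080040020018404c020c1080800400210130080040020018c048020410c08004002301200800400200188044020810408004002201100800400200180040020010008004002001000800400200180340221013008404c02001000800400200180140323012008c04802001000800400200180240122011008804402001000800400200180040020010008004002001000800400200181043020010008104302001000800400200183042020010008304202001000800400200182041020010008204102001000800400200180040020010008004002001000800400200180440c20110308004002001000800400200180c408203102080040020010008004002001808404202101080040020010008004002001800400200100080040020010008004002001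

/-- A word of order 6. -/
def wordA : List (Nat × Nat) := [(1, 2), (3, 2), (8, 3)]

/-- A word of order 10. -/
def wordB : List (Nat × Nat) := [(3, 1), (6, 1), (5, 2)]

/-- A word of order 7. -/
def wordC : List (Nat × Nat) := [(9, 1), (1, 1), (3, 1)]

/-- A word of order 13. -/
def wordD : List (Nat × Nat) := [(2, 3), (11, 3), (3, 1), (1, 1)]

end Cfsg.Agent.Lib.Recognition.G24
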