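import Cfsg.Agent.Lib.Recognition.G24Model
import Cfsg.Agent.Lib.Compute.Cert

/-!
# Group elements through packed columns, and lifting of certified groups

A packed number gives twelve columns.  When the Schreier products of a certificate hold for chosen
columns as well, the certified group maps homomorphically to the group of the module.
-/

set_option autoImplicit false

namespace Cfsg.Agent.Lib.Recognition.G24J2

open Cfsg.Agent.Lib.Recognition.G24 Cfsg.Agent.Lib.Compute Equiv

/-- A column of a packed map. -/
def colAt (P k : ℕ) : ℕ := (P >>> (12 * k)) % 4096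

/-- The identity map. -/
def idC : ℕ := 0x800400200100080040020010008004002001

/-- The composite of packed maps, the last one first. -/
def chainAct : List ℕ → ℕ → ℕ
  | [], n => n
  | P :: Ps, n => lin (colAt P) (chainAct Ps n)

/-- Two composites agree. -/
def sameChain (Ps Qs : List ℕ) : Bool :=
  (List.range 12).all fun k => chainAct Ps (1 <<< k) == chainAct Qs (1 <<< k)

theorem chainAct_eq : ∀ (Ps : List ℕ) {n : ℕ}, n < 4096 →
    chainAct Ps n = lin (fun k => chainAct Ps (1 <<< k)) n
  | [], _, h => (lin_id h).symm
  | P :: Ps, n, h => by
    show lin (colAt P) (chainAct Ps n) = _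
    rw [chainAct_eq Ps h, lin_comp]
    rfl

theorem chainAct_same {Ps Qs : List ℕ} (h : sameChain Ps Qs = true) {n : ℕ} (hn : n < 4096) :
    chainAct Ps n = chainAct Qs n := by
  simp only [sameChain, List.all_eq_true, List.mem_range, beq_iff_eq] at h
  rw [chainAct_eq Ps hn, chainAct_eq Qs hn, lin_congr h]

/-- The element moves every vector by the packed map. -/
def Acts (P : ℕ) (g : G24) : Prop := ∀ v : V12, (g • v).n.val = lin (colAt P) v.n.val

theorem Acts.chain : ∀ {Ps : List ℕ} {gs : List G24}, List.Forall₂ Acts Ps gs →
    ∀ v : V12, (gs.prod • v).n.val = chainAct Ps v.n.val := by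
  intro Ps gs h
  induction h with
  | nil => intro v; simp [chainAct]
  | cons hP _ ih =>
    intro v
    rw [List.prod_cons, mul_smul, hP, ih]
    rfl

theorem eq_of_act {g h : G24} (e : ∀ v : V12, (g • v).n.val = (h • v).n.val) : g = h :=
  rep_injective (Equiv.ext fun v => V12.eq_of_val (e v))

theorem prod_eq_of_sameChain {Ps Qs : List ℕ} {gs hs : List G24} (hP : List.Forall₂ Acts Ps gs)
    (hQ : List.Forall₂ Acts Qs hs) (h : sameChain Ps Qs = true) : gs.prod = hs.prod :=
  eq_of_act fun v => by rw [Acts.chain hP, Acts.chain hQ, chainAct_same h v.n.isLt]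

theorem acts_idC : Acts idC 1 := by
  intro v
  rw [one_smul]
  have h : ∀ k < 12, colAt idC k = 1 <<< k := by decide
  rw [lin_congr h, lin_id v.n.isLt]

/-- The element of a packed map. -/
noncomputable def el' (P : ℕ) : G24 := Classical.epsilon (Acts P)

theorem el_spec {P : ℕ} {g : G24} (h : Acts P g) : el' P = g :=
  eq_of_act fun v => by
    show ((Classical.epsilon (Acts P)) • v).n.val = _
    rw [Classical.epsilon_spec (p := Acts P) ⟨g, h⟩ v, h v]

theorem el_idC : el' idC = 1 := el_spec acts_idC

theorem acts_mul {A B C : ℕ} (h : sameChain [C] [A, B] = true) {a b : G24} (ha : Acts A a)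
    (hb : Acts B b) : Acts C (a * b) := fun v => by
  have := chainAct_same h v.n.isLt
  show _ = _
  rw [show lin (colAt C) v.n.val = chainAct [C] v.n.val from rfl, this,
    ← Acts.chain (List.Forall₂.cons ha (List.Forall₂.cons hb List.Forall₂.nil))]
  simp

theorem acts_inv {A C : ℕ} (h : sameChain [C, A] [] = true) {a : G24} (ha : Acts A a) :
    Acts C a⁻¹ := fun v => by
  have := chainAct_same h (a⁻¹ • v).n.isLt
  simp only [chainAct] at this
  rw [← this, ← ha, smul_inv_smul]

/-! ### straight-line programs -/

/-- All entries of a program. -/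
def slpAll (base : List ℕ) (steps : List (ℕ × ℕ × ℕ × Bool)) : List ℕ := base ++ steps.map Prod.fst

/-- The steps multiply or invert earlier entries. -/
def slpActOk (base : List ℕ) (steps : List (ℕ × ℕ × ℕ × Bool)) : Bool :=
  (List.range steps.length).all fun k =>
    match steps[k]? with
    | some (C, p, q, iv) => decide (p < base.length + k) && decide (q < base.length + k) &&
        (if iv then sameChain [C, (slpAll base steps).getD p idC] []
        else sameChain [C] [(slpAll base steps).getD p idC, (slpAll base steps).getD q idC])
    | none => false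

theorem slpAct_spec {base : List ℕ} {steps : List (ℕ × ℕ × ℕ × Bool)} {S : Subgroup G24}
    (hb : ∀ P ∈ base, ∃ g ∈ S, Acts P g) (h : slpActOk base steps = true) (i : ℕ) :
    ∃ g ∈ S, Acts ((slpAll base steps).getD i idC) g := by
  induction i using Nat.strong_induction_on with
  | _ i ih =>
    by_cases hi : i < (slpAll base steps).length
    swap
    · exact ⟨1, one_mem _, by rw [List.getD_eq_default _ _ (not_lt.mp hi)]; exact acts_idC⟩
    by_cases hb' : i < base.length
    · rw [slpAll, List.getD_append _ _ _ _ hb', List.getD_eq_getElem _ _ hb']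
      exact hb _ (List.getElem_mem _)
    · obtain ⟨k, rfl⟩ : ∃ k, i = base.length + k := ⟨i - base.length, by omega⟩
      have hk : k < steps.length := by simp [slpAll] at hi; omega
      have hh := List.all_eq_true.mp h k (List.mem_range.mpr hk)
      rw [List.getElem?_eq_getElem hk] at hh
      have e : (slpAll base steps).getD (base.length + k) idC = (steps[k]).1 := by
        rw [slpAll, List.getD_append_right _ _ _ _ (by omega), Nat.add_sub_cancel_left,
          List.getD_eq_getElem _ _ (by simpa using hk), List.getElem_map]
      rw [e]
      generalize steps[k] = st at hh ⊢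
      obtain ⟨C, p, q, iv⟩ := st
      simp only [Bool.and_eq_true, decide_eq_true_eq] at hh
      obtain ⟨⟨hp, hq⟩, hc⟩ := hh
      obtain ⟨a, haS, ha⟩ := ih p hp
      obtain ⟨b, hbS, hb2⟩ := ih q hq
      cases iv with
      | true => exact ⟨a⁻¹, inv_mem haS, acts_inv (by simpa using hc) ha⟩
      | false => exact ⟨a * b, mul_mem haS hbS, acts_mul (by simpa using hc) ha hb2⟩

/-! ### lifting a certified group -/

/-- The packed maps of a sifted element. -/
def siftCols : List (List ℕ) → List ℕ → List ℕ
  | T :: TS, j :: js => T.getD j idC :: siftCols TS js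
  | [], _ => []
  | _ :: _, [] => []

/-- The transversal columns of one level follow the tree. -/
def treeActOk (L : Lvl) (G T : List ℕ) : Bool :=
  (T.length == L.trans.length + 1) && (T.getD 0 idC == idC) &&
    (List.range L.trans.length).all fun k =>
      match L.trans[k]? with
      | some u => decide (u.2.2 ≤ k) && decide (u.2.1 < G.length) &&
          sameChain [T.getD (k + 1) idC] [G.getD u.2.1 idC, T.getD u.2.2 idC]
      | none => false

/-- The Schreier products hold for the columns. -/
def witActOk (L : Lvl) (G T : List ℕ) (TS : List (List ℕ)) : Bool :=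
  (List.range L.gens.length).all fun s =>
    match L.wit[s]? with
    | some row => (List.range (L.trans.length + 1)).all fun j =>
        match row[j]? with
        | some (q :: js) => sameChain [G.getD s idC, T.getD j idC] (T.getD q idC :: siftCols TS js)
        | _ => false
    | none => false

/-- The generators of the next level carry the same columns as here. -/
def nextActOk (L : Lvl) (G : List ℕ) : List Lvl → List (List ℕ) → Bool
  | L' :: _, G' :: _ => (List.range L'.gens.length).all fun k =>
      (List.range L.gens.length).any fun m =>
        ((L'.gens.getD k (0, 0)).1 == (L.gens.getD m (0, 0)).1) && (G'.getD k idC == G.getD m idC)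
  | [], _ => true
  | _ :: _, [] => false

/-- All checks of the columns of a certificate. -/
def liftOk : List Lvl → List (List ℕ) → List (List ℕ) → Bool
  | [], [], [] => true
  | L :: rest, G :: GS, T :: TS => (G.length == L.gens.length) && treeActOk L G T &&
      witActOk L G T TS && nextActOk L G rest GS && liftOk rest GS TS
  | _, _, _ => false

/-- The generated subgroup of pairs. -/
noncomputable def pairs (n : ℕ) : List Lvl → List (List ℕ) → Subgroup (Perm (Fin n) × G24)
  | L :: _, G :: _ => Subgroup.closure
      ((fun s => (toPerm n (L.gens.getD s (0, 0)).1, el' (G.getD s idC))) '' {s | s < L.gens.length})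
  | _, _ => ⊥

variable {n : ℕ}

theorem lift_spec : ∀ {c : List Lvl} {GS TS : List (List ℕ)}, chk n c = true →
    liftOk c GS TS = true → (∀ G ∈ GS, ∀ P ∈ G, ∃ g, Acts P g) →
    ∀ x : Perm (Fin n) × G24, (x ∈ pairs n c GS → x.1 = 1 → x.2 = 1) ∧
      (∀ js, ∃ gs, List.Forall₂ Acts (siftCols TS js) gs ∧
        (siftPerm n c js, gs.prod) ∈ pairs n c GS) := by
  intro c
  induction c with
  | nil =>
    intro GS TS _ h _ x
    rcases GS with _ | _ <;> rcases TS with _ | _ <;> simp [liftOk] at h
    refine ⟨fun hx _ => ?_, fun js => ⟨[], by cases js <;> exact List.Forall₂.nil, ?_⟩⟩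
    · simp [pairs] at hx; rw [hx]; rfl
    · cases js <;> simp [siftPerm, pairs]
  | cons L rest ih =>
    intro GS TS hc h hreal x
    rcases GS with _ | ⟨G, GS⟩
    · simp [liftOk] at h
    rcases TS with _ | ⟨T, TS⟩
    · simp [liftOk] at h
    simp only [liftOk, Bool.and_eq_true, beq_iff_eq] at h
    obtain ⟨⟨⟨⟨hlen, htree⟩, hwit⟩, hnext⟩, hrest⟩ := h
    have hc' := hc
    simp only [chk, Bool.and_eq_true] at hc'
    obtain ⟨hb, hg, ht, -, hw, -⟩ := lvlOk_iff hc'.1
    have hih := ih hc'.2 hrest (fun G hG => hreal G (List.mem_cons_of_mem _ hG))
    set K := pairs n (L :: rest) (G :: GS) with hK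
    have hGs : ∀ s < L.gens.length, ∃ g, Acts (G.getD s idC) g := fun s hs => by
      rw [List.getD_eq_getElem _ _ (hlen ▸ hs)]
      exact hreal G List.mem_cons_self _ (List.getElem_mem _)
    have hgenK : ∀ s < L.gens.length,
        (toPerm n (L.gens.getD s (0, 0)).1, el' (G.getD s idC)) ∈ K :=
      fun s hs => Subgroup.subset_closure ⟨s, hs, rfl⟩
    simp only [treeActOk, Bool.and_eq_true, beq_iff_eq, List.all_eq_true, List.mem_range] at htree
    obtain ⟨⟨hTlen, hT0⟩, htr⟩ := htree
    have hTspec : ∀ q, ∃ g, Acts (T.getD q idC) g ∧ (tperm n L q, g) ∈ K := by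
      intro q
      induction q using Nat.strong_induction_on with
      | _ q ihq =>
        cases q with
        | zero => exact ⟨1, by rw [hT0]; exact acts_idC, by
            simp only [tperm]; exact K.one_mem⟩
        | succ k =>
          cases hk : L.trans[k]? with
          | none =>
            have : L.trans.length ≤ k := List.getElem?_eq_none_iff.mp hk
            exact ⟨1, by rw [List.getD_eq_default _ _ (by omega)]; exact acts_idC,
              by simp only [tperm, hk]; exact K.one_mem⟩
          | some u =>
            obtain ⟨hkl, -⟩ := List.getElem?_eq_some_iff.mp hk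
            have h1 := htr k hkl
            simp only [hk, Bool.and_eq_true, decide_eq_true_eq] at h1
            obtain ⟨⟨hp, hs⟩, hch⟩ := h1
            rw [hlen] at hs
            obtain ⟨a, ha⟩ := hGs _ hs
            obtain ⟨b, hb', hbK⟩ := ihq u.2.2 (Nat.lt_succ_of_le hp)
            refine ⟨a * b, acts_mul hch ha hb', ?_⟩
            have e : tperm n L (k + 1) = toPerm n (L.gens.getD u.2.1 (0, 0)).1 * tperm n L u.2.2 := by
              have h0 := List.all_eq_true.mp ht k (List.mem_range.mpr hkl)
              obtain ⟨u, s, p⟩ := u
              simp only [hk, Bool.and_eq_true, decide_eq_true_eq] at h0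
              obtain ⟨-, h2⟩ := h0
              simp only [List.getElem?_eq_getElem hs, List.all_eq_true, List.mem_range, beq_iff_eq]
                at h2
              have hgm : L.gens[s] ∈ L.gens := List.getElem_mem _
              have hprod := (repr_toPerm_of_genOk (hg _ hgm)).mul (trans_spec (rest := rest) hg ht p).1
              rw [show tperm n L (k + 1) = toPerm n u by simp only [tperm, hk],
                List.getD_eq_getElem _ _ hs]
              exact repr_toPerm_of_repr fun i => by rw [hprod i, h2 i i.isLt]
            rw [e, ← el_spec ha]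
            exact mul_mem (a := (toPerm n (L.gens.getD u.2.1 (0, 0)).1, el' (G.getD u.2.1 idC)))
              (b := (tperm n L u.2.2, b)) (hgenK _ hs) hbK
    have hle : pairs n rest GS ≤ K := by
      cases rest with
      | nil => cases GS <;> simp [pairs]
      | cons L' rest' =>
        cases GS with
        | nil => simp [pairs]
        | cons G' GS' =>
          simp only [nextActOk, List.all_eq_true, List.mem_range, List.any_eq_true, Bool.and_eq_true,
            beq_iff_eq] at hnext
          refine (Subgroup.closure_le _).mpr ?_
          rintro _ ⟨k, hk, rfl⟩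
          obtain ⟨m, hm, e1, e2⟩ := hnext k hk
          show (toPerm n (L'.gens.getD k (0, 0)).1, el' (G'.getD k idC)) ∈ K
          rw [e1, e2]
          exact hgenK m hm
    have hsift : ∀ js, ∃ gs, List.Forall₂ Acts (siftCols (T :: TS) js) gs ∧
        (siftPerm n (L :: rest) js, gs.prod) ∈ K := by
      intro js
      cases js with
      | nil => exact ⟨[], List.Forall₂.nil, by simp only [siftPerm]; exact K.one_mem⟩
      | cons j js =>
        obtain ⟨a, ha, haK⟩ := hTspec j
        obtain ⟨gs, hgs, hgK⟩ := (hih x).2 js
        exact ⟨a :: gs, List.Forall₂.cons ha hgs, by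
          rw [List.prod_cons]; exact mul_mem haK (hle hgK)⟩
    refine ⟨fun hx hx1 => ?_, hsift⟩
    -- decomposition
    have step : ∀ s < L.gens.length, ∀ j ≤ L.trans.length, ∃ q, ∃ y ∈ pairs n rest GS, ∀ a b,
        Acts (T.getD j idC) a → Acts (T.getD q idC) b →
        (toPerm n (L.gens.getD s (0, 0)).1, el' (G.getD s idC)) * (tperm n L j, a) =
          (tperm n L q, b) * y := by
      intro s hs j hj
      have h0 := List.all_eq_true.mp hwit s (List.mem_range.mpr hs)
      have h0' := List.all_eq_true.mp hw s (List.mem_range.mpr hs)
      rw [List.getElem?_eq_getElem hs] at h0'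
      cases hrow : L.wit[s]? with
      | none => simp [hrow] at h0
      | some row =>
        simp only [hrow, List.all_eq_true, List.mem_range] at h0 h0'
        have h1 := h0 j (Nat.lt_succ_of_le hj)
        have h1' := h0' j (Nat.lt_succ_of_le hj)
        cases hj' : row[j]? with
        | none => simp [hj'] at h1
        | some w =>
          cases w with
          | nil => simp [hj'] at h1
          | cons q js =>
            simp only [hj', List.all_eq_true, List.mem_range, beq_iff_eq] at h1 h1'
            obtain ⟨gs, hgs, hgK⟩ := (hih x).2 js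
            refine ⟨q, _, hgK, fun a b ha hb' => ?_⟩
            obtain ⟨g, hgA⟩ := hGs s hs
            refine Prod.ext ?_ ?_
            · have hgm : L.gens[s] ∈ L.gens := List.getElem_mem _
              show toPerm n (L.gens.getD s (0, 0)).1 * tperm n L j =
                tperm n L q * siftPerm n rest js
              rw [List.getD_eq_getElem _ _ hs]
              exact ((repr_toPerm_of_genOk (hg _ hgm)).mul (trans_spec (rest := rest) hg ht j).1).eq
                ((trans_spec (rest := rest) hg ht q).1.mul (sift_spec hc'.2 js).1) h1'
            · show el' (G.getD s idC) * a = b * gs.prod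
              rw [el_spec hgA]
              have := prod_eq_of_sameChain (gs := [g, a]) (hs := b :: gs)
                (List.Forall₂.cons hgA (List.Forall₂.cons ha List.Forall₂.nil))
                (List.Forall₂.cons hb' hgs) h1
              simpa using this
    have dec : ∀ x₀ ∈ K, ∃ q, ∃ a, Acts (T.getD q idC) a ∧ q ≤ L.trans.length ∧
        ∃ y ∈ pairs n rest GS, x₀ = (tperm n L q, a) * y := by
      intro x₀ hx₀
      have norm : ∀ q y, y ∈ pairs n rest GS → ∀ a, Acts (T.getD q idC) a →
          ∃ q', ∃ a', Acts (T.getD q' idC) a' ∧ q' ≤ L.trans.length ∧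
            ∃ y' ∈ pairs n rest GS, (tperm n L q, a) * y = (tperm n L q', a') * y' := by
        intro q y hy a ha
        by_cases hq : q ≤ L.trans.length
        · exact ⟨q, a, ha, hq, y, hy, rfl⟩
        · refine ⟨0, 1, by rw [hT0]; exact acts_idC, Nat.zero_le _, y, hy, ?_⟩
          rw [List.getD_eq_default _ _ (by omega)] at ha
          rw [← el_spec ha, el_idC]
          cases q with
          | zero => rfl
          | succ k => simp [tperm, List.getElem?_eq_none (by omega : L.trans.length ≤ k)]
      have hfin : ∀ z ∈ K, z ∈ Submonoid.closure ((fun s => (toPerm n (L.gens.getD s (0, 0)).1,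
          el' (G.getD s idC))) '' {s | s < L.gens.length}) := by
        intro z hz
        haveI : Finite G24 := Nat.finite_of_card_ne_zero (by rw [card_G24]; norm_num)
        rw [← Subgroup.closure_toSubmonoid_of_finite]
        exact hz
      have hm := hfin x₀ hx₀
      clear hx₀
      induction hm using Submonoid.closure_induction_left with
      | one => exact ⟨0, 1, by rw [hT0]; exact acts_idC, Nat.zero_le _, 1, one_mem _, by
          simp only [tperm, mul_one]; rfl⟩
      | mul_left g hgS y _ ihy =>
        obtain ⟨s, hs, rfl⟩ := hgS
        obtain ⟨q, a, ha, hq, y', hy', rfl⟩ := ihy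
        obtain ⟨q', z, hz, he⟩ := step s hs q hq
        obtain ⟨b, hb', -⟩ := hTspec q'
        rw [← mul_assoc, he a b ha hb', mul_assoc]
        exact norm q' _ (mul_mem hz hy') b hb'
    obtain ⟨q, a, ha, hq, y, hy, rfl⟩ := dec x hx
    have hy1 : y.1 ∈ grp n rest := by
      cases rest with
      | nil =>
        have : y = 1 := by cases GS <;> simpa [pairs] using hy
        rw [this]; exact one_mem _
      | cons L' rest' =>
        cases GS with
        | nil => simp [liftOk] at hrest
        | cons G' GS' =>
          have : pairs n (L' :: rest') (G' :: GS') ≤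
              (grp n (L' :: rest')).comap (MonoidHom.fst (Perm (Fin n)) G24) := by
            refine (Subgroup.closure_le _).mpr ?_
            rintro _ ⟨s, hs, rfl⟩
            refine Subgroup.mem_comap.mpr ?_
            show toPerm n (L'.gens.getD s (0, 0)).1 ∈ _
            rw [List.getD_eq_getElem _ _ hs]
            exact gen_mem (List.getElem_mem _)
          exact this hy
    obtain ⟨rfl, hyone⟩ := decomp_unique hc hq (Nat.zero_le _) hy1 (one_mem _)
      (by rw [show tperm n L 0 * 1 = 1 by simp [tperm]]; exact hx1)
    show a * y.2 = 1
    rw [hT0] at ha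
    rw [← el_spec ha, el_idC, one_mul]
    exact (hih y).1 hy hyone

end Cfsg.Agent.Lib.Recognition.G24J2
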