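import Cfsg.Agent.Lib.Recognition.G24J2Sub

/-!
# Checks of the tables on 416 cosets
-/

set_option autoImplicit false
set_option maxRecDepth 100000
set_option Elab.async false

namespace Cfsg.Agent.Lib.Recognition.G24J2

open Cfsg.Agent.Lib.Recognition.G24 Cfsg.Agent.Lib.Compute

/-- The entries of the program over the two generators. -/
def allR : List ℕ := slpAll [colsX, colsY] rootSteps

theorem slpR : slpActOk [colsX, colsY] rootSteps = true := by decide +kernel

/-- Every root element is an entry of the program. -/
def rootsOk : Bool :=
  (List.range 12).all fun r => (List.range 4).all fun t =>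
    (t == 0 && wordColsOk [(r, t)] idC) ||
      rootIdx.any fun e => e.1 == r && e.2.1 == t && wordColsOk [(r, t)] (allR.getD e.2.2 idC)

theorem rootsOk_eq : rootsOk = true := by decide +kernel

/-- The representatives follow the tree. -/
def cosetTreeOk : Bool :=
  (cosetCols.getD 0 0 == idC) && (cosetCols.length == 416) && (List.range 415).all fun k =>
    match cosetPar[k]? with
    | some (s, p) => decide (p ≤ k) && decide (s < 2) &&
        sameChain [cosetCols.getD (k + 1) idC] [[colsX, colsY].getD s idC, cosetCols.getD p idC]
    | none => false

theorem cosetTreeOk_eq : cosetTreeOk = true := by decide +kernel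

/-- One map moves the cosets along a table. -/
def tableOk (P : ℕ) (tab : List (ℕ × List ℕ)) : Bool :=
  (tab.length == 416) && (List.range 416).all fun k =>
    match tab[k]? with
    | some (q, js) => decide (q < 416) &&
        sameChain [P, cosetCols.getD k idC] (cosetCols.getD q idC :: siftCols transCols js)
    | none => false

theorem tableX_ok : tableOk colsX tableX = true := by decide +kernel
theorem tableY_ok : tableOk colsY tableY = true := by decide +kernel

theorem tableH0_ok : tableOk (genCols0.getD 0 idC) tableH0 = true := by decide +kernel
theorem tableH1_ok : tableOk (genCols0.getD 1 idC) tableH1 = true := by decide +kernel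
theorem tableH2_ok : tableOk (genCols0.getD 2 idC) tableH2 = true := by decide +kernel
theorem tableH3_ok : tableOk (genCols0.getD 3 idC) tableH3 = true := by decide +kernel

/-- The tables of the four generators of the subgroup. -/
def tablesH : List (List (ℕ × List ℕ)) := [tableH0, tableH1, tableH2, tableH3]

end Cfsg.Agent.Lib.Recognition.G24J2
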