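import Cfsg.Agent.Lib.Recognition.G24J2Checks

/-!
# The 416 cosets of the Hall-Janko subgroup of G2(4)

Two words generate the group, and their actions on 416 representatives are checked through the packed
columns.
-/

set_option autoImplicit false
set_option maxRecDepth 100000
set_option Elab.async false

namespace Cfsg.Agent.Lib.Recognition.G24J2

open Cfsg.Agent.Lib.Recognition.G24 Cfsg.Agent.Lib.Compute Cfsg.Agent.Lib.Chev Cfsg.Lie Equiv

/-- The generated subgroup. -/
noncomputable def genXY : Subgroup G24 := Subgroup.closure {wordElt wordX, wordElt wordY}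

theorem baseXY : ∀ P ∈ [colsX, colsY], ∃ g ∈ genXY, Acts P g := by
  intro P hP
  simp only [List.mem_cons, List.not_mem_nil, or_false] at hP
  rcases hP with rfl | rfl
  · exact ⟨_, Subgroup.subset_closure (Or.inl rfl), acts_X⟩
  · exact ⟨_, Subgroup.subset_closure (Or.inr rfl), acts_Y⟩

theorem genXY_top : genXY = ⊤ := by
  refine eq_top_iff.mpr fun g _ => ?_
  obtain ⟨x, rfl⟩ := stEquiv.surjective g
  suffices h : (⊤ : Subgroup (chevG2.SteinbergGroup K4)) ≤ genXY.comap stEquiv.toMonoidHom from
    h (Subgroup.mem_top x)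
  rw [← PresentedGroup.closure_range_of, Subgroup.closure_le]
  rintro _ ⟨⟨r, t⟩, rfl⟩
  have hw : stEquiv (PresentedGroup.of (r, t)) = wordElt [(r.val, t.v.val)] := by
    have ht : G24.el t.v.val = t := by
      obtain ⟨v⟩ := t
      simp only [G24.el, Nat.mod_eq_of_lt v.isLt, Fin.eta]
    rw [wordElt]
    congr 1
    show PresentedGroup.of (r, t) = PresentedGroup.mk _ (chevG2.stWord [(r.val, G24.el t.v.val)])
    rw [ht, ← stX_eq_word, ChevalleyDatum.stX, dif_pos r.isLt]
    rfl
  show stEquiv (PresentedGroup.of (r, t)) ∈ genXY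
  rw [hw]
  have h := List.all_eq_true.mp (List.all_eq_true.mp rootsOk_eq r.val (List.mem_range.mpr r.isLt))
    t.v.val (List.mem_range.mpr t.v.isLt)
  simp only [Bool.or_eq_true, Bool.and_eq_true, beq_iff_eq, List.any_eq_true] at h
  rcases h with ⟨-, h⟩ | ⟨e, -, -, h⟩
  · rw [← el_spec (acts_word h), el_idC]; exact one_mem _
  · obtain ⟨g, hg, ha⟩ := slpAct_spec baseXY slpR e.2.2
    rw [← el_spec (acts_word h)]
    unfold allR
    rw [el_spec ha]
    exact hg

theorem coset_spec (k : ℕ) : ∃ g, Acts (cosetCols.getD k idC) g := by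
  have h := cosetTreeOk_eq
  simp only [cosetTreeOk, Bool.and_eq_true, beq_iff_eq, List.all_eq_true, List.mem_range] at h
  obtain ⟨⟨h0, hlen⟩, h⟩ := h
  induction k using Nat.strong_induction_on with
  | _ k ih =>
    by_cases hk : k < 416
    swap
    · exact ⟨1, by rw [List.getD_eq_default _ _ (by omega)]; exact acts_idC⟩
    cases k with
    | zero =>
      refine ⟨1, ?_⟩
      rw [List.getD_eq_getElem _ _ (by omega)]
      rw [List.getD_eq_getElem _ _ (by omega)] at h0
      rw [h0]; exact acts_idC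
    | succ j =>
      have hj := h j (by omega)
      cases hp : cosetPar[j]? with
      | none => simp [hp] at hj
      | some e =>
        obtain ⟨s, p⟩ := e
        simp only [hp, Bool.and_eq_true, decide_eq_true_eq] at hj
        obtain ⟨⟨hpj, hs⟩, hc⟩ := hj
        obtain ⟨b, hb⟩ := ih p (by omega)
        obtain ⟨a, -, ha⟩ := baseXY ([colsX, colsY].getD s idC)
          (by rw [List.getD_eq_getElem _ _ (by simpa using hs)]; exact List.getElem_mem _)
        exact ⟨a * b, acts_mul hc ha hb⟩

/-- The coset with a given index. -/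
noncomputable def cos (k : ℕ) : G24 ⧸ HJ := QuotientGroup.mk (el' (cosetCols.getD k idC))

theorem cos_zero : cos 0 = QuotientGroup.mk 1 := by
  have h := cosetTreeOk_eq
  simp only [cosetTreeOk, Bool.and_eq_true, beq_iff_eq] at h
  have e : cosetCols.getD 0 idC = idC := by
    rw [List.getD_eq_getElem _ _ (by omega)]
    rw [List.getD_eq_getElem _ _ (by omega)] at h
    exact h.1.1
  rw [cos, e, el_idC]

/-- The target in a table. -/
def tgt (tab : List (ℕ × List ℕ)) (k : ℕ) : ℕ := (tab.getD k (0, [])).1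

theorem table_spec {P : ℕ} {tab : List (ℕ × List ℕ)} (h : tableOk P tab = true) {g : G24}
    (hg : Acts P g) {k : ℕ} (hk : k < 416) : tgt tab k < 416 ∧ g • cos k = cos (tgt tab k) := by
  simp only [tableOk, Bool.and_eq_true, beq_iff_eq, List.all_eq_true, List.mem_range] at h
  have h' := h.2 k hk
  rw [tgt, List.getD_eq_getElem _ _ (h.1 ▸ hk)]
  rw [List.getElem?_eq_getElem (h.1 ▸ hk)] at h'
  generalize tab[k] = e at h' ⊢
  obtain ⟨q, js⟩ := e
  simp only [Bool.and_eq_true, decide_eq_true_eq] at h'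
  obtain ⟨hq, hc⟩ := h'
  refine ⟨hq, ?_⟩
  obtain ⟨a, ha⟩ := coset_spec k
  obtain ⟨b, hb⟩ := coset_spec q
  obtain ⟨gs, hgs, hmem⟩ := sift_mem js
  have e := prod_eq_of_sameChain (gs := [g, a]) (hs := b :: gs)
    (List.Forall₂.cons hg (List.Forall₂.cons ha List.Forall₂.nil)) (List.Forall₂.cons hb hgs) hc
  simp only [List.prod_cons, List.prod_nil, mul_one] at e
  rw [cos, cos, el_spec ha, el_spec hb, MulAction.Quotient.smul_mk, smul_eq_mul, e,
    QuotientGroup.mk_mul_of_mem _ hmem]

theorem cos_surjective : Function.Surjective fun k : Fin 416 => cos k := by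
  intro x
  induction x using QuotientGroup.induction_on with
  | _ g =>
    haveI : Finite G24 := Nat.finite_of_card_ne_zero (by rw [card_G24]; norm_num)
    have hg : g ∈ Submonoid.closure {wordElt wordX, wordElt wordY} := by
      rw [← Subgroup.closure_toSubmonoid_of_finite]
      exact (genXY_top ▸ Subgroup.mem_top g : g ∈ genXY)
    have h : ∃ k : Fin 416, cos k = g • cos 0 := by
      induction hg using Submonoid.closure_induction_left with
      | one => exact ⟨0, (one_smul _ _).symm⟩
      | mul_left a ha y _ ih =>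
        obtain ⟨k, hk⟩ := ih
        rw [mul_smul, ← hk]
        rcases ha with rfl | rfl
        · obtain ⟨hq, he⟩ := table_spec tableX_ok acts_X k.isLt
          exact ⟨⟨_, hq⟩, he.symm⟩
        · obtain ⟨hq, he⟩ := table_spec tableY_ok acts_Y k.isLt
          exact ⟨⟨_, hq⟩, he.symm⟩
    obtain ⟨k, hk⟩ := h
    exact ⟨k, by rw [show (fun k : Fin 416 => cos k) k = cos k from rfl, hk, cos_zero,
      MulAction.Quotient.smul_mk, smul_eq_mul, mul_one]⟩

theorem card_quotient : Nat.card (G24 ⧸ HJ) = 416 := by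
  have h := Subgroup.card_eq_card_quotient_mul_card_subgroup HJ
  rw [card_G24, card_HJ] at h
  omega

theorem cos_bijective : Function.Bijective fun k : Fin 416 => cos k := by
  refine (Nat.bijective_iff_surjective_and_card _).mpr ⟨cos_surjective, ?_⟩
  rw [card_quotient, Nat.card_eq_fintype_card, Fintype.card_fin]

theorem cos_inj {a b : ℕ} (ha : a < 416) (hb : b < 416) (h : cos a = cos b) : a = b :=
  congrArg Fin.val (cos_bijective.1 (a₁ := ⟨a, ha⟩) (a₂ := ⟨b, hb⟩) h)

theorem exists_cos (x : G24 ⧸ HJ) : ∃ k < 416, cos k = x := by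
  obtain ⟨k, hk⟩ := cos_surjective x
  exact ⟨k, k.isLt, hk⟩

theorem gens_len : J2.cert0.gens.length = 4 := by decide +kernel

theorem gen_mem_GP (s : ℕ) (hs : s < 4) : toPerm 315 (J2.cert0.gens.getD s (0, 0)).1 ∈ J2.GP :=
  Subgroup.subset_closure ⟨_, by
    rw [List.getD_eq_getElem _ _ (gens_len ▸ hs)]; exact List.getElem_mem _, rfl⟩

/-- A generator of the group on 315 points. -/
noncomputable def gen (s : Fin 4) : J2.GP := ⟨_, gen_mem_GP s s.isLt⟩

theorem theta_gen (s : Fin 4) : theta (gen s) = el' (genCols0.getD s idC) :=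
  theta_eq (graphJ_gen (by rw [gens_len]; exact s.isLt))

theorem gen_cos (s : Fin 4) {k : ℕ} (hk : k < 416) :
    tgt (tablesH.getD s []) k < 416 ∧ theta (gen s) • cos k = cos (tgt (tablesH.getD s []) k) := by
  have hA : Acts (genCols0.getD s idC) (theta (gen s)) := by
    rw [theta_gen]
    obtain ⟨g, -, hg⟩ := allJ_spec ((j2GenIdx.getD 0 []).getD s 0)
    have e : ∀ t : Fin 4, genCols0.getD t idC = allJ.getD ((j2GenIdx.getD 0 []).getD t 0) idC := by
      decide +kernel
    rw [e, el_spec hg]; exact hg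
  fin_cases s
  exacts [table_spec tableH0_ok hA hk, table_spec tableH1_ok hA hk, table_spec tableH2_ok hA hk,
    table_spec tableH3_ok hA hk]

theorem GP_closure : Subgroup.closure (Set.range gen) = ⊤ := by
  refine eq_top_iff.mpr fun σ _ => ?_
  have h : J2.GP ≤ (Subgroup.closure (Set.range gen)).map J2.GP.subtype := by
    refine (Subgroup.closure_le _).mpr ?_
    rintro _ ⟨g, hg, rfl⟩
    obtain ⟨s, hs, rfl⟩ := List.getElem_of_mem hg
    exact ⟨gen ⟨s, gens_len ▸ hs⟩, Subgroup.subset_closure ⟨_, rfl⟩, by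
      show toPerm 315 (J2.cert0.gens.getD s (0, 0)).1 = _
      rw [List.getD_eq_getElem _ _ hs]⟩
  obtain ⟨τ, hτ, he⟩ := h σ.2
  rwa [← J2.GP.subtype_injective he]

end Cfsg.Agent.Lib.Recognition.G24J2
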