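import Mathlib

/-!
# Derived pairs on the orbit of 100 cosets
-/

set_option autoImplicit false
set_option maxRecDepth 100000
set_option maxHeartbeats 0

namespace Cfsg.Agent.Lib.Recognition.G24J2

/-- `stabWords` -/
def stabWords : List (List ℕ) := [[1,2,1,3], [0]]

/-- `reps100` -/
def reps100 : List ℕ := [1,2]

/-- `red100` -/
def red100 : List (ℕ × ℕ × ℕ) := [(23,0,1), (28,0,0), (4,1,0), (7,1,1), (9,0,2), (27,0,3), (94,0,4), (95,0,5), (11,1,6), (42,1,7), (80,1,9), (99,1,8), (3,0,6), (29,0,14), (36,0,10), (46,0,9), (49,0,11), (60,0,8), (61,0,16), (86,0,13), (87,0,17), (10,1,14), (26,1,18), (57,1,21), (88,1,19), (8,0,20), (12,0,15), (24,0,25), (25,0,18), (35,0,19), (55,0,21), (69,0,29), (73,0,24), (74,0,22), (81,0,31), (85,0,23), (96,0,32), (98,0,26), (17,1,31), (39,1,30), (48,1,35), (68,1,38), (77,1,37), (79,1,39), (6,0,27), (15,0,37), (18,0,46), (19,0,33), (20,0,36), (22,0,40), (37,0,47), (44,0,50), (53,0,42), (54,0,52), (59,0,41),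 (62,0,35), (71,0,34), (75,0,38), (82,0,44), (90,0,59), (92,0,39), (97,0,61), (14,1,50), (16,1,49), (32,1,47), (63,1,61), (66,1,56), (67,1,62), (76,1,63), (89,1,57), (5,0,51), (21,0,56), (30,0,69), (31,0,54), (38,0,66), (40,0,60), (51,0,70), (52,0,73), (64,0,74), (70,0,65), (72,0,80), (78,0,67), (83,0,63), (84,0,68), (91,0,62), (93,0,76), (13,1,72), (33,1,79), (41,1,73), (47,1,78), (56,1,85), (58,1,84), (65,1,87), (34,0,94), (43,0,78), (45,0,92), (50,0,82)]

/-- `step100` -/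
def step100 : List (List (ℕ × ℕ)) := [[(0,0), (0,2), (0,3), (1,1), (1,2), (1,3), (2,0), (2,1), (2,2), (2,3), (3,0), (3,1), (3,2), (3,3), (4,0), (4,1), (4,2), (5,0), (5,1), (5,2), (5,3), (6,0), (6,1), (6,2), (6,3), (7,1), (7,3), (8,1), (8,3), (9,3), (11,1), (11,3), (12,0), (12,1), (12,3), (13,0), (15,2), (15,3), (16,2), (16,3), (17,1), (18,1), (18,3), (19,1), (19,3), (21,1), (21,3), (22,1), (25,1), (25,3), (26,0), (27,0), (27,1), (27,3), (31,2), (32,0), (32,3), (33,1), (33,2), (34,2), (36,2), (38,1), (38,2), (38,3), (39,1), (39,3), (40,1), (42,2), (42,3), (43,1), (43,3), (44,2), (45,1), (45,2), (45,3), (46,0), (46,1), (46,3), (47,0), (47,3), (49,0), (49,1), (52,3), (55,3), (56,1), (56,3), (59,0), (61,0), (62,0), (63,0), (63,1), (64,0), (64,3), (70,2), (73,1), (74,0), (77,0), (92,1)],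
  [(0,0), (0,1), (0,2), (0,3), (1,1), (1,2), (1,3), (2,0), (2,2), (2,3), (3,0), (3,1), (3,3), (4,0), (4,1), (4,2), (4,3), (5,0), (5,1), (5,2), (5,3), (6,0), (6,1), (6,2), (6,3), (7,0), (7,1), (7,2), (7,3), (9,0), (9,2), (9,3), (10,2), (11,3), (14,1), (14,2), (14,3), (16,3), (18,3), (19,2), (20,2), (20,3), (21,1), (21,2), (21,3), (22,2), (23,0), (23,3), (25,1), (25,2), (25,3), (26,1), (26,3), (27,1), (27,2), (27,3), (29,0), (29,3), (30,2), (30,3), (32,2), (33,0), (35,2), (36,2), (36,3), (37,0), (39,2), (40,3), (41,1), (41,3), (42,1), (44,0), (44,1), (45,0), (45,1), (47,3), (48,1), (49,0), (49,1), (49,3), (50,0), (50,1), (50,2), (51,0), (51,3), (53,3), (54,0), (55,0), (55,1), (55,3), (57,2), (63,3), (66,1), (66,2), (67,0), (83,1), (84,1), (88,3)]]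

/-- `edge100` -/
def edge100 : List (List (ℕ × ℕ)) := [[(0,1), (0,4), (2,5), (3,6), (1,14), (2,15), (3,16), (7,13), (8,12), (9,11), (0,5), (10,6), (11,17), (12,18), (13,1), (4,20), (0,30), (5,31), (7,32), (8,25), (9,16), (0,33), (10,19), (11,4), (12,4), (13,34), (19,22), (21,2), (2,28), (17,29), (23,27), (24,17), (26,1), (9,35), (3,36), (27,8), (12,37), (15,39), (16,40), (2,51), (3,52), (12,47), (19,53), (21,54), (2,46), (17,48), (1,55), (3,56), (24,38), (22,57), (2,58), (16,44), (41,7), (42,8), (43,0), (45,36), (49,4), (50,6), (5,59), (0,60), (12,61), (13,62), (4,63), (4,64), (34,65), (8,72), (0,81), (11,82), (30,70), (35,74), (42,83), (43,68), (9,71), (36,75), (36,76), (8,77), (4,69), (0,79), (6,66), (10,84), (13,85), (44,86), (13,87), (67,21), (73,22), (78,14), (80,16), (0,88), (5,89), (1,90), (1,91), (14,92), (34,93), (58,94), (68,96), (27,95), (29,97), (0,98), (57,99)],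
  [(0,2), (0,7), (1,8), (2,9), (3,0), (1,19), (2,20), (3,21), (4,8), (5,22), (6,17), (7,11), (8,5), (0,23), (10,0), (11,1), (12,2), (13,3), (4,16), (0,38), (5,30), (6,35), (7,14), (8,15), (9,39), (0,40), (10,41), (11,42), (12,35), (13,43), (13,44), (11,28), (5,36), (18,36), (21,27), (24,1), (25,2), (26,3), (29,0), (16,34), (2,53), (11,51), (5,52), (17,59), (18,60), (1,57), (20,31), (8,32), (17,33), (1,63), (2,64), (3,65), (24,66), (26,67), (3,58), (1,68), (27,69), (5,50), (2,70), (3,46), (2,71), (11,61), (37,29), (45,5), (47,9), (48,0), (49,10), (4,56), (0,74), (3,72), (27,81), (12,82), (37,88), (18,62), (4,86), (0,87), (17,54), (36,55), (4,90), (0,85), (6,75), (7,91), (8,92), (9,89), (10,93), (13,94), (50,95), (10,83), (4,96), (0,80), (6,76), (11,77), (73,5), (78,24), (79,25), (1,84), (5,97), (24,99), (16,98)]]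

/-- `order100` -/
def order100 : List (List ℕ) := [[0,1,4,10,2,5,14,7,15,16,17,18,21,23,9,12,20,6,3,11,22,24,8,13,19,25,26,27,28,29,31,32,33,34,35,30,36,37,38,39,40,41,42,43,44,45,46,47,48,49,50,51,52,53,54,55,56,57,58,59,60,61,62,63,64,65,66,67,68,69,70,71,72,73,74,75,76,77,78,79,80,81,82,83,84,85,86,87,88,89,90,91,92,93,94,95,96,97,98],
  [0,1,3,4,6,7,11,13,14,15,2,5,8,12,9,16,17,18,19,20,22,23,24,25,26,27,28,21,10,29,30,31,32,33,34,35,36,37,38,39,40,41,42,43,44,45,46,47,48,49,50,51,52,53,54,55,56,57,58,59,60,61,62,63,64,65,66,67,68,69,70,71,72,73,74,75,76,77,78,79,80,81,82,83,84,85,86,87,88,89,90,91,92,93,94,95,96,97,98]]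

/-- `vert100` -/
def vert100 : List (List ℕ) := [[0,1,4,14,5,2,15,13,7,20,30,31,32,33,11,9,17,16,3,6,10,19,12,8,18,25,34,22,21,28,29,24,26,35,36,27,23,37,39,40,51,52,47,53,54,46,48,55,56,38,57,58,44,41,42,43,45,49,50,59,60,61,62,63,64,65,72,81,82,70,74,83,68,71,75,76,77,69,79,66,84,85,86,87,67,73,78,80,88,89,90,91,92,93,94,96,95,97,98,99],
  [0,2,7,9,3,20,21,11,23,10,1,8,19,4,5,22,12,13,16,38,30,14,15,39,40,41,42,35,6,17,43,44,28,36,18,27,24,25,26,29,34,53,51,52,59,60,57,31,32,33,63,64,65,66,67,58,68,69,50,70,46,71,61,37,45,47,48,49,56,74,72,81,82,88,62,86,87,54,55,90,85,75,91,92,89,93,94,95,83,96,80,76,77,73,78,79,84,97,99,98]]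

end Cfsg.Agent.Lib.Recognition.G24J2
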