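import Cfsg.Agent.Lib.Recognition.G24J2Coset
import Cfsg.Agent.Lib.Recognition.G24J2MergeData

/-!
# Checks of the two long orbits of the Hall-Janko subgroup of G2(4)
-/

set_option autoImplicit false
set_option maxRecDepth 100000
set_option Elab.async false

namespace Cfsg.Agent.Lib.Recognition.G24J2

open Cfsg.Agent.Lib.Recognition.G24 Cfsg.Agent.Lib.Compute

/-- The parents in the orbit of 100 points. -/
def tree100 : List (ℕ × ℕ) := [(1, 0), (2, 0), (3, 0), (0, 1), (2, 1), (3, 1), (0, 2), (1, 2), (2, 2), (0, 3), (1, 3), (2, 3), (3, 3), (1, 4), (2, 4), (3, 4), (1, 6), (2, 6), (1, 7), (2, 7), (3, 7), (2, 8), (3, 9), (1, 10), (2, 10), (3, 10), (3, 11), (1, 12), (3, 12), (1, 14), (2, 14), (0, 15), (3, 15), (3, 16), (0, 17), (1, 17), (0, 18), (1, 19), (2, 20), (3, 20), (0, 21), (1, 21), (3, 21), (0, 22), (2, 24), (1, 25), (2, 25), (3, 25), (0, 26), (3, 26), (2, 30), (3, 30), (1, 32), (3, 32), (1, 33), (3, 33), (1, 34), (3, 34), (1, 35), (2, 35), (2, 36), (2, 37), (1, 40), (2, 40), (3, 40), (1, 41), (3, 41), (2, 42), (3, 42), (3, 43), (3, 44), (2, 45), (3, 45), (0, 48), (1, 48), (2, 48), (3, 48), (1, 49), (2, 49), (3,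 49), (3, 51), (1, 52), (1, 54), (0, 56), (3, 56), (0, 57), (1, 57), (0, 60), (0, 62), (0, 63), (0, 64), (1, 64), (0, 65), (3, 65), (3, 67), (0, 68), (0, 76), (0, 79), (1, 93)]

/-- A generator on the orbit of 100 points. -/
def p100 (s i : ℕ) : ℕ := (perm100.getD s []).getD i 0

/-- A point of the orbit of 100. -/
def c100 (i : ℕ) : ℕ := lab100.getD i 0

/-- The orbit of 100 points follows the tables. -/
def lab100Ok : Bool :=
  (List.range 100).all fun i => decide (c100 i < 416) && (List.range 4).all fun s =>
    decide (p100 s i < 100) && (tgt (tablesH.getD s []) (c100 i) == c100 (p100 s i))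

theorem lab100Ok_eq : lab100Ok = true := by decide +kernel

/-- The tree covers the orbit of 100 points. -/
def tree100Ok : Bool :=
  (List.range 99).all fun k => match tree100[k]? with
    | some (s, p) => decide (s < 4) && decide (p ≤ k) && (p100 s p == k + 1)
    | none => false

theorem tree100Ok_eq : tree100Ok = true := by decide +kernel

/-- The edges of one derivation are images of earlier ones. -/
def edgesOk (x : ℕ) (steps : List (ℕ × ℕ)) (E : List (ℕ × ℕ)) : Bool :=
  (E.length == 99) && (E.getD 0 (0, 0) == (0, x)) &&
    (List.range 98).all fun m => match steps[m]?, E[m + 1]? with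
      | some (k, s), some e => decide (k ≤ m) && decide (s < 4) &&
          (e.1 == p100 s (E.getD k (0, 0)).1) && (e.2 == p100 s (E.getD k (0, 0)).2)
      | _, _ => false

/-- Each point is joined to an earlier one. -/
def vertsOk (E : List (ℕ × ℕ)) (order V : List ℕ) : Bool :=
  (V.getD 0 0 == 0) && (V.length == 100) &&
    ((List.range 99).all fun m => match order[m]?, V[m + 1]? with
      | some k, some v => decide (k < 99) &&
          (((E.getD k (0, 0)).1 == v && (V.take (m + 1)).contains (E.getD k (0, 0)).2) ||
           ((E.getD k (0, 0)).2 == v && (V.take (m + 1)).contains (E.getD k (0, 0)).1))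
      | _, _ => false) &&
    (List.range 100).all fun i => V.contains i

/-- The action of a word in the generators on the orbit of 100 points. -/
def word100 : List ℕ → ℕ → ℕ
  | [], i => i
  | s :: w, i => p100 s (word100 w i)

/-- The words fix the first point, and lead every other point to a representative. -/
def redOk : Bool :=
  (stabWords.all fun w => (w.all fun s => decide (s < 4)) && (word100 w 0 == 0)) &&
    ((List.range red100.length).all fun m => match red100[m]? with
      | some (x, w, y) => decide (x < 100) && decide (y < 2 + m) && decide (w < stabWords.length) &&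
          (word100 (stabWords.getD w []) x == (reps100 ++ red100.map Prod.fst).getD y 0)
      | none => false) &&
    (reps100.length == 2) && (reps100.all fun x => decide (x < 100)) &&
    (List.range 99).all fun k => (reps100 ++ red100.map Prod.fst).contains (k + 1)

theorem redOk_eq : redOk = true := by decide +kernel

/-- A joined pair of points spreads over the whole orbit. -/
def mergeOk : Bool :=
  (List.range 2).all fun k =>
    edgesOk (reps100.getD k 0) (step100.getD k []) (edge100.getD k []) &&
      vertsOk (edge100.getD k []) (order100.getD k []) (vert100.getD k [])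

theorem mergeOk_eq : mergeOk = true := by decide +kernel

/-- The orbit of 315 points follows the tables. -/
def lab315Ok : Bool :=
  (lab315.length == 315) && decide lab315.Nodup &&
    ((List.range 315).all fun i => decide (lab315.getD i 0 < 416)) &&
    ((List.range 4).all fun s => (List.range 315).all fun i =>
      tgt (tablesH.getD s []) (lab315.getD i 0) ==
        lab315.getD (app (J2.cert0.gens.getD s (0, 0)).1 i) 0)

theorem lab315Ok_eq : lab315Ok = true := by decide +kernel

/-- Every other coset lies in one of the two orbits. -/
def coverOk : Bool :=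
  (lab100.length == 100) &&
    (List.range 415).all fun k => lab100.contains (k + 1) || lab315.contains (k + 1)

theorem coverOk_eq : coverOk = true := by decide +kernel

/-- The two orbits give divisors of 416 only together. -/
def splitOk : Bool :=
  ((0 :: lab100).toFinset.card == 101) && ((0 :: lab315).toFinset.card == 316)

theorem splitOk_eq : splitOk = true := by decide +kernel

end Cfsg.Agent.Lib.Recognition.G24J2
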