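import Cfsg.Agent.Lib.Recognition.G24J2Orbits

/-!
# The Hall-Janko subgroup of G2(4) is maximal and its action on the cosets is extremely primitive

The 416 cosets fall into orbits of 1, 100 and 315; on both long ones the point stabilisers are
maximal.
-/

set_option autoImplicit false
set_option maxRecDepth 100000

namespace Cfsg.Agent.Lib.Recognition.G24J2

open Cfsg.Agent.Lib.Recognition.G24 Cfsg.Agent.Lib.Compute Equiv

/-- The stabiliser of a coset in the group on 315 points. -/
noncomputable def stab (k : ℕ) : Subgroup J2.GP :=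
  (MulAction.stabilizer G24 (cos k)).comap theta

theorem mem_stab {k : ℕ} {σ : J2.GP} : σ ∈ stab k ↔ theta σ • cos k = cos k := Iff.rfl

/-- A set of cosets closed under the generators is closed under the group. -/
theorem moved_of_gen {S : Finset ℕ} (hlt : ∀ k ∈ S, k < 416)
    (h : ∀ s : Fin 4, ∀ k ∈ S, tgt (tablesH.getD s []) k ∈ S) (σ : J2.GP) :
    ∀ k ∈ S, ∃ q ∈ S, theta σ • cos k = cos q := by
  haveI : Finite J2.GP := Nat.finite_of_card_ne_zero (by rw [J2.card_GP]; norm_num)
  have hσ : σ ∈ Submonoid.closure (Set.range gen) := by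
    rw [← Subgroup.closure_toSubmonoid_of_finite, GP_closure]; exact Subgroup.mem_top σ
  induction hσ using Submonoid.closure_induction_left with
  | one => exact fun k hk => ⟨k, hk, by rw [map_one, one_smul]⟩
  | mul_left a ha y _ ih =>
    obtain ⟨s, rfl⟩ := ha
    intro k hk
    obtain ⟨q, hq, he⟩ := ih k hk
    exact ⟨_, h s q hq, by rw [map_mul, mul_smul, he, (gen_cos s (hlt q hq)).2]⟩

theorem lab100_at {i : ℕ} (hi : i < 100) : c100 i < 416 ∧ ∀ s : Fin 4,
    p100 s i < 100 ∧ theta (gen s) • cos (c100 i) = cos (c100 (p100 s i)) := by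
  have h := List.all_eq_true.mp lab100Ok_eq i (List.mem_range.mpr hi)
  simp only [Bool.and_eq_true, decide_eq_true_eq, List.all_eq_true, List.mem_range, beq_iff_eq] at h
  refine ⟨h.1, fun s => ⟨(h.2 s s.isLt).1, ?_⟩⟩
  rw [(gen_cos s h.1).2, (h.2 s s.isLt).2]

theorem orbit100_closed (σ : J2.GP) {i : ℕ} (hi : i < 100) :
    ∃ j < 100, theta σ • cos (c100 i) = cos (c100 j) := by
  obtain ⟨q, hq, he⟩ := moved_of_gen (S := (Finset.range 100).image c100)
    (fun k hk => by
      obtain ⟨j, hj, rfl⟩ := Finset.mem_image.mp hk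
      exact (lab100_at (Finset.mem_range.mp hj)).1)
    (fun s k hk => by
      obtain ⟨j, hj, rfl⟩ := Finset.mem_image.mp hk
      have h := List.all_eq_true.mp lab100Ok_eq j (List.mem_range.mpr (Finset.mem_range.mp hj))
      simp only [Bool.and_eq_true, decide_eq_true_eq, List.all_eq_true, List.mem_range, beq_iff_eq]
        at h
      exact Finset.mem_image.mpr ⟨_, Finset.mem_range.mpr (h.2 s s.isLt).1, (h.2 s s.isLt).2.symm⟩)
    σ (c100 i) (Finset.mem_image.mpr ⟨i, Finset.mem_range.mpr hi, rfl⟩)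
  obtain ⟨j, hj, rfl⟩ := Finset.mem_image.mp hq
  exact ⟨j, Finset.mem_range.mp hj, he⟩

theorem orbit100_trans (i : ℕ) (hi : i < 100) :
    ∃ σ : J2.GP, theta σ • cos (c100 0) = cos (c100 i) := by
  induction i using Nat.strong_induction_on with
  | _ i ih =>
    cases i with
    | zero => exact ⟨1, by rw [map_one, one_smul]⟩
    | succ k =>
      have h := List.all_eq_true.mp tree100Ok_eq k (List.mem_range.mpr (by omega))
      cases hp : tree100[k]? with
      | none => simp [hp] at h
      | some e =>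
        obtain ⟨s, p⟩ := e
        simp only [hp, Bool.and_eq_true, decide_eq_true_eq, beq_iff_eq] at h
        obtain ⟨σ, hσ⟩ := ih p (by omega) (by omega)
        refine ⟨gen ⟨s, h.1.1⟩ * σ, ?_⟩
        rw [map_mul, mul_smul, hσ, ((lab100_at (show p < 100 by omega)).2 ⟨s, h.1.1⟩).2]
        exact congrArg (fun j => cos (c100 j)) h.2

theorem c100_inj {i j : ℕ} (hi : i < 100) (hj : j < 100) (h : c100 i = c100 j) : i = j := by
  have hn : lab100.Nodup := by decide +kernel
  have hl : lab100.length = 100 := by decide +kernel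
  simp only [c100, List.getD_eq_getElem _ _ (show i < lab100.length by omega),
    List.getD_eq_getElem _ _ (show j < lab100.length by omega)] at h
  exact hn.getElem_inj_iff.mp h

theorem word100_spec : ∀ {w : List ℕ}, (∀ s ∈ w, s < 4) → ∃ η : J2.GP, ∀ i < 100,
    word100 w i < 100 ∧ theta η • cos (c100 i) = cos (c100 (word100 w i))
  | [], _ => ⟨1, fun i hi => ⟨hi, by rw [map_one, one_smul]; rfl⟩⟩
  | s :: w, h => by
    obtain ⟨η, hη⟩ := word100_spec (w := w) fun t ht => h t (List.mem_cons_of_mem _ ht)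
    refine ⟨gen ⟨s, h s List.mem_cons_self⟩ * η, fun i hi => ?_⟩
    obtain ⟨hlt, he⟩ := hη i hi
    refine ⟨((lab100_at hlt).2 ⟨s, h s List.mem_cons_self⟩).1, ?_⟩
    rw [map_mul, mul_smul, he]
    exact ((lab100_at hlt).2 ⟨s, h s List.mem_cons_self⟩).2

theorem reps100_lt (k : ℕ) (hk : k < 2) : reps100.getD k 0 < 100 := by
  have h := redOk_eq
  simp only [redOk, Bool.and_eq_true, List.all_eq_true, beq_iff_eq, decide_eq_true_eq] at h
  rw [List.getD_eq_getElem _ _ (h.1.1.2 ▸ hk)]
  exact h.1.2 _ (List.getElem_mem _)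

theorem reduce100 {K : Subgroup J2.GP} (hK : stab (c100 0) ≤ K) {σ : J2.GP} (hσ : σ ∈ K) {x : ℕ}
    (hx0 : x ≠ 0) (hx : x < 100) (he : theta σ • cos (c100 0) = cos (c100 x)) :
    ∃ k < 2, ∃ τ ∈ K, theta τ • cos (c100 0) = cos (c100 (reps100.getD k 0)) := by
  have h := redOk_eq
  simp only [redOk, Bool.and_eq_true, List.all_eq_true, beq_iff_eq, decide_eq_true_eq,
    List.mem_range, List.contains_iff_mem] at h
  obtain ⟨⟨⟨⟨hw, hred⟩, hlen⟩, hlt⟩, hcov⟩ := h
  suffices key : ∀ y, y < (reps100 ++ red100.map Prod.fst).length → ∀ σ ∈ K,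
      theta σ • cos (c100 0) = cos (c100 ((reps100 ++ red100.map Prod.fst).getD y 0)) →
      ∃ k < 2, ∃ τ ∈ K, theta τ • cos (c100 0) = cos (c100 (reps100.getD k 0)) by
    have hm := hcov (x - 1) (by omega)
    rw [show x - 1 + 1 = x by omega] at hm
    obtain ⟨y, hy, hxy⟩ := List.getElem_of_mem hm
    exact key y hy σ hσ (by rw [List.getD_eq_getElem _ _ hy, hxy]; exact he)
  intro y
  induction y using Nat.strong_induction_on with
  | _ y ih =>
    intro hy σ hσ he
    by_cases hy2 : y < 2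
    · exact ⟨y, hy2, σ, hσ, by rwa [List.getD_append _ _ _ _ (hlen ▸ hy2)] at he⟩
    simp only [List.length_append, List.length_map] at hy
    have hm := hred (y - 2) (by omega)
    rw [List.getElem?_eq_getElem (show y - 2 < red100.length by omega)] at hm
    generalize hE : red100[y - 2] = e at hm
    obtain ⟨z, w, v⟩ := e
    simp only [Bool.and_eq_true, decide_eq_true_eq, beq_iff_eq] at hm
    obtain ⟨⟨⟨hz, hv⟩, hwl⟩, hact⟩ := hm
    have hz' : (reps100 ++ red100.map Prod.fst).getD y 0 = z := by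
      rw [List.getD_append_right _ _ _ _ (by omega), List.getD_eq_getElem _ _ (by
        rw [List.length_map]; omega), List.getElem_map]
      simp only [hlen, hE]
    rw [hz'] at he
    obtain ⟨hws, hw0⟩ := hw (stabWords.getD w [])
      (by rw [List.getD_eq_getElem _ _ hwl]; exact List.getElem_mem _)
    obtain ⟨η, hη⟩ := word100_spec hws
    have hηK : η ∈ K := hK (mem_stab.mpr (by rw [(hη 0 (by norm_num)).2, hw0]))
    refine ih v (by omega) (by simp only [List.length_append, List.length_map]; omega) (η * σ)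
      (K.mul_mem hηK hσ) ?_
    rw [map_mul, mul_smul, he, (hη z hz).2, hact]

theorem stab100_coatom : IsCoatom (stab (c100 0)) := by
  refine ⟨fun htop => ?_, fun K hK => ?_⟩
  · obtain ⟨σ, hσ⟩ := orbit100_trans 1 (by norm_num)
    have h0 : σ ∈ stab (c100 0) := htop ▸ Subgroup.mem_top σ
    have := cos_inj (lab100_at (show 0 < 100 by norm_num)).1 (lab100_at (show 1 < 100 by norm_num)).1
      ((mem_stab.mp h0).symm.trans hσ)
    exact absurd (c100_inj (by norm_num) (by norm_num) this) (by norm_num)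
  set c : ℕ → G24 ⧸ HJ := fun i => cos (c100 i) with hc
  let R : ℕ → ℕ → Prop := fun i j =>
    ∃ σ τ : J2.GP, theta σ • c 0 = c i ∧ theta τ • c 0 = c j ∧ σ⁻¹ * τ ∈ K
  have fixK : ∀ {σ τ : J2.GP}, theta σ • c 0 = theta τ • c 0 → σ⁻¹ * τ ∈ K := by
    intro σ τ h
    refine hK.le (mem_stab.mpr ?_)
    show theta (σ⁻¹ * τ) • c 0 = c 0
    rw [map_mul, mul_smul, ← h, map_inv, inv_smul_smul]
  have hsymm : ∀ {i j}, R i j → R j i := by
    rintro i j ⟨σ, τ, hσ, hτ, hm⟩
    exact ⟨τ, σ, hτ, hσ, by simpa using K.inv_mem hm⟩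
  have htrans : ∀ {i j l}, R i j → R j l → R i l := by
    rintro i j l ⟨σ, τ, hσ, hτ, hm⟩ ⟨τ', υ, hτ', hυ, hm'⟩
    refine ⟨σ, υ, hσ, hυ, ?_⟩
    have := K.mul_mem (K.mul_mem hm (fixK (hτ.trans hτ'.symm))) hm'
    simpa [mul_assoc] using this
  obtain ⟨σ₀, hσ₀K, hσS⟩ := SetLike.exists_of_lt hK
  obtain ⟨x, hx₀, hσx₀⟩ := orbit100_closed σ₀ (show 0 < 100 by norm_num)
  have hx0 : x ≠ 0 := by
    rintro rfl
    exact hσS (mem_stab.mpr hσx₀)
  obtain ⟨k, hk, σ, hσK, hx, hσx⟩ : ∃ k < 2, ∃ σ ∈ K, reps100.getD k 0 < 100 ∧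
      theta σ • c 0 = c (reps100.getD k 0) := by
    obtain ⟨k, hk, σ, hσ, he⟩ := reduce100 hK.le hσ₀K hx0 hx₀ hσx₀
    exact ⟨k, hk, σ, hσ, reps100_lt k hk, he⟩
  have hm := List.all_eq_true.mp mergeOk_eq k (List.mem_range.mpr hk)
  simp only [Bool.and_eq_true] at hm
  obtain ⟨hme, hmv⟩ := hm
  set E := edge100.getD k [] with hEdef
  set V := vert100.getD k [] with hVdef
  simp only [edgesOk, Bool.and_eq_true, beq_iff_eq, List.all_eq_true, List.mem_range] at hme
  obtain ⟨⟨hElen, hE0⟩, hEs⟩ := hme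
  have r00 : R 0 0 := ⟨1, 1, by rw [map_one, one_smul], by rw [map_one, one_smul], by simp⟩
  have hE : ∀ m, m < 99 → (E.getD m (0, 0)).1 < 100 ∧ (E.getD m (0, 0)).2 < 100 ∧
      R (E.getD m (0, 0)).1 (E.getD m (0, 0)).2 := by
    intro m
    induction m using Nat.strong_induction_on with
    | _ m ihm =>
      intro hm99
      cases m with
      | zero =>
        rw [hE0]
        exact ⟨by norm_num, hx, 1, σ, by rw [map_one, one_smul], hσx, by simpa using hσK⟩
      | succ m =>
        have h := hEs m (by omega)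
        cases hst : (step100.getD k [])[m]? with
        | none => rw [hst] at h; exact absurd h (by cases E[m + 1]? <;> simp)
        | some st =>
          obtain ⟨q, s⟩ := st
          rw [List.getElem?_eq_getElem (show m + 1 < E.length by omega)] at h
          simp only [hst, Bool.and_eq_true, decide_eq_true_eq, beq_iff_eq] at h
          obtain ⟨⟨⟨hq, hs⟩, e1⟩, e2⟩ := h
          obtain ⟨h1, h2, a, b, ha, hb, hab⟩ := ihm q (by omega) (by omega)
          have l1 := (lab100_at h1).2 ⟨s, hs⟩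
          have l2 := (lab100_at h2).2 ⟨s, hs⟩
          rw [List.getD_eq_getElem _ _ (show m + 1 < E.length by omega), e1, e2]
          refine ⟨l1.1, l2.1, gen ⟨s, hs⟩ * a, gen ⟨s, hs⟩ * b, ?_, ?_, ?_⟩
          · rw [map_mul, mul_smul, ha]; exact l1.2
          · rw [map_mul, mul_smul, hb]; exact l2.2
          · simpa [mul_assoc] using hab
  simp only [vertsOk, Bool.and_eq_true, beq_iff_eq, List.all_eq_true, List.mem_range,
    List.contains_iff_mem] at hmv
  obtain ⟨⟨⟨hV0, hVlen⟩, hVs⟩, hVall⟩ := hmv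
  have hV : ∀ m, m < 100 → R 0 (V.getD m 0) := by
    intro m
    induction m using Nat.strong_induction_on with
    | _ m ihm =>
      intro hm100
      cases m with
      | zero => rw [hV0]; exact r00
      | succ m =>
        have h := hVs m (by omega)
        have prev : ∀ w ∈ V.take (m + 1), R 0 w := by
          intro w hw
          obtain ⟨i, hi, rfl⟩ := List.getElem_of_mem hw
          rw [List.length_take] at hi
          rw [List.getElem_take, ← List.getD_eq_getElem V 0 (show i < V.length by omega)]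
          exact ihm i (by omega) (by omega)
        cases hst : (order100.getD k [])[m]? with
        | none => rw [hst] at h; exact absurd h (by cases V[m + 1]? <;> simp)
        | some q =>
          rw [List.getElem?_eq_getElem (show m + 1 < V.length by omega)] at h
          simp only [hst, Bool.and_eq_true, Bool.or_eq_true, decide_eq_true_eq, beq_iff_eq,
            List.contains_iff_mem] at h
          obtain ⟨hq, h⟩ := h
          have hR := (hE q hq).2.2
          rw [List.getD_eq_getElem _ _ (show m + 1 < V.length by omega)]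
          rcases h with ⟨he, hw⟩ | ⟨he, hw⟩
          · rw [← he]; exact htrans (prev _ hw) (hsymm hR)
          · rw [← he]; exact htrans (prev _ hw) hR
  refine eq_top_iff.mpr fun ρ _ => ?_
  obtain ⟨i, hi, hρ⟩ := orbit100_closed ρ (show 0 < 100 by norm_num)
  obtain ⟨m, hmlt, hmi⟩ := List.getElem_of_mem (hVall i hi)
  have hri := hV m (hVlen ▸ hmlt)
  rw [List.getD_eq_getElem _ _ hmlt, hmi] at hri
  obtain ⟨a, b, ha, hb, hab⟩ := hri
  have haK : a ∈ K := hK.le (mem_stab.mpr ha)
  have hbρ := fixK (hb.trans hρ.symm)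
  have := K.mul_mem (K.mul_mem haK hab) hbρ
  simpa [mul_assoc] using this

theorem lab315_move (σ : J2.GP) : ∀ i : Fin 315,
    theta σ • cos (lab315.getD i 0) = cos (lab315.getD ((σ : Perm (Fin 315)) i : ℕ) 0) := by
  have h := lab315Ok_eq
  simp only [lab315Ok, Bool.and_eq_true, List.all_eq_true, List.mem_range, decide_eq_true_eq,
    beq_iff_eq] at h
  obtain ⟨⟨-, hlt⟩, heq⟩ := h
  haveI : Finite J2.GP := Nat.finite_of_card_ne_zero (by rw [J2.card_GP]; norm_num)
  have hσ : σ ∈ Submonoid.closure (Set.range gen) := by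
    rw [← Subgroup.closure_toSubmonoid_of_finite, GP_closure]; exact Subgroup.mem_top σ
  induction hσ using Submonoid.closure_induction_left with
  | one => exact fun i => by rw [map_one, one_smul]; rfl
  | mul_left a ha y _ ih =>
    obtain ⟨s, rfl⟩ := ha
    intro i
    have hchk : chk 315 (J2.cert0 :: J2.certRest) = true := J2.cert_eq ▸ J2.cert_chk
    simp only [chk, Bool.and_eq_true] at hchk
    have hs : (s : ℕ) < J2.cert0.gens.length := by rw [gens_len]; exact s.isLt
    have hrep := repr_toPerm_of_genOk ((lvlOk_iff hchk.1).2.1 (J2.cert0.gens.getD s (0, 0))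
      (by rw [List.getD_eq_getElem _ _ hs]; exact List.getElem_mem _))
    have e := hrep ((y : Perm (Fin 315)) i)
    rw [map_mul, mul_smul, ih i, (gen_cos s (hlt _ ((y : Perm (Fin 315)) i).isLt)).2,
      heq s s.isLt _ ((y : Perm (Fin 315)) i).isLt, ← e]
    rfl

theorem lab315_lt (i : Fin 315) : lab315.getD i 0 < 416 := by
  have h := lab315Ok_eq
  simp only [lab315Ok, Bool.and_eq_true, List.all_eq_true, List.mem_range, decide_eq_true_eq,
    beq_iff_eq] at h
  exact h.1.2 i i.isLt

theorem stab315_coatom (i : Fin 315) : IsCoatom (stab (lab315.getD i 0)) := by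
  have h := lab315Ok_eq
  simp only [lab315Ok, Bool.and_eq_true, List.all_eq_true, List.mem_range, decide_eq_true_eq,
    beq_iff_eq] at h
  haveI := J2.gp_primitive
  have e : stab (lab315.getD i 0) = MulAction.stabilizer J2.GP i := by
    ext σ
    rw [mem_stab, lab315_move, MulAction.mem_stabilizer_iff]
    constructor
    · intro he
      have := cos_inj (lab315_lt _) (lab315_lt _) he
      rw [List.getD_eq_getElem _ _ (by omega), List.getD_eq_getElem _ _ (by omega)] at this
      exact Fin.ext (h.1.1.2.getElem_inj_iff.mp this)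
    · intro he
      rw [show (σ : Perm (Fin 315)) i = i from he]
  rw [e]
  exact MulAction.IsPreprimitive.isCoatom_stabilizer_of_isPreprimitive J2.GP i

theorem stab_conj {σ : J2.GP} {a b : ℕ} (h : theta σ • cos a = cos b) :
    stab b = (stab a).map (MulAut.conj σ : J2.GP →* J2.GP) := by
  ext τ
  rw [Subgroup.mem_map]
  constructor
  · intro hτ
    refine ⟨σ⁻¹ * τ * σ, mem_stab.mpr ?_, by simp [mul_assoc]⟩
    rw [map_mul, map_mul, mul_smul, mul_smul, h, mem_stab.mp hτ, ← h, map_inv, inv_smul_smul]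
  · rintro ⟨υ, hυ, rfl⟩
    refine mem_stab.mpr ?_
    show theta (σ * υ * σ⁻¹) • cos b = cos b
    rw [map_mul, map_mul, mul_smul, mul_smul, map_inv, ← h, inv_smul_smul, mem_stab.mp hυ]

theorem stab_coatom {k : ℕ} (hk0 : k ≠ 0) (hk : k < 416) : IsCoatom (stab k) := by
  have h := coverOk_eq
  simp only [coverOk, Bool.and_eq_true, List.all_eq_true, List.mem_range, Bool.or_eq_true,
    List.contains_iff_mem, beq_iff_eq] at h
  obtain ⟨j, rfl⟩ : ∃ j, k = j + 1 := ⟨k - 1, by omega⟩
  rcases h.2 j (by omega) with hm | hm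
  · obtain ⟨i, hi, he⟩ := List.getElem_of_mem hm
    have hc : c100 i = j + 1 := by rw [c100, List.getD_eq_getElem _ _ hi, he]
    obtain ⟨σ, hσ⟩ := orbit100_trans i (h.1 ▸ hi)
    rw [hc] at hσ
    rw [stab_conj hσ]
    exact (OrderIso.isCoatom_iff (MulEquiv.mapSubgroup (MulAut.conj σ)) _).mpr stab100_coatom
  · obtain ⟨i, hi, he⟩ := List.getElem_of_mem hm
    have hl : lab315.length = 315 := by decide +kernel
    have := stab315_coatom ⟨i, hl ▸ hi⟩
    rwa [show lab315.getD i 0 = j + 1 by rw [List.getD_eq_getElem _ _ hi, he]] at this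

theorem HJ_fixes {g : G24} : g ∈ HJ ↔ g • cos 0 = cos 0 := by
  rw [cos_zero, MulAction.Quotient.smul_mk, smul_eq_mul, mul_one, QuotientGroup.eq]
  simp

theorem HJ_maximal : IsCoatom HJ := by
  classical
  haveI : Finite G24 := Nat.finite_of_card_ne_zero (by rw [card_G24]; norm_num)
  refine ⟨fun htop => ?_, fun K hK => ?_⟩
  · have h := card_HJ
    rw [htop, Subgroup.card_top, card_G24] at h
    norm_num at h
  let O : Set (G24 ⧸ HJ) := MulAction.orbit K (cos 0)
  let S : Finset ℕ := (Finset.range 416).filter fun k => cos k ∈ O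
  have hsub : HJ.subgroupOf K = MulAction.stabilizer K (cos 0) := by
    ext g
    rw [Subgroup.mem_subgroupOf, HJ_fixes, MulAction.mem_stabilizer_iff]
    rfl
  have hO : O = cos '' (S : Set ℕ) := by
    ext x
    constructor
    · intro hx
      obtain ⟨k, hk, rfl⟩ := exists_cos x
      exact ⟨k, by simp [S, hk, hx], rfl⟩
    · rintro ⟨k, hk, rfl⟩
      simp only [S, Finset.coe_filter, Set.mem_setOf_eq] at hk
      exact hk.2
  have hcard : HJ.relIndex K = S.card := by
    rw [Subgroup.relIndex, hsub, MulAction.index_stabilizer]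
    show O.ncard = _
    rw [hO, Set.InjOn.ncard_image, Set.ncard_coe_finset]
    intro a ha b hb hab
    simp only [S, Finset.coe_filter, Set.mem_setOf_eq, Finset.mem_range] at ha hb
    exact cos_inj ha.1 hb.1 hab
  have hdvd : S.card ∣ 416 := by
    have := Subgroup.relIndex_mul_index hK.le
    rw [hcard, HJ.index_eq_card, card_quotient] at this
    exact Dvd.intro _ this
  have h0 : 0 ∈ S := by simp [S, O, MulAction.mem_orbit_self]
  have closed : ∀ (σ : J2.GP) {a b : ℕ}, a ∈ S → b < 416 → theta σ • cos a = cos b → b ∈ S := by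
    intro σ a b ha hb he
    simp only [S, Finset.mem_filter, Finset.mem_range] at ha ⊢
    obtain ⟨⟨g, hg⟩, hga⟩ := ha.2
    refine ⟨hb, ⟨⟨theta σ * g, K.mul_mem (hK.le ⟨σ, rfl⟩) hg⟩, ?_⟩⟩
    show (theta σ * g) • cos 0 = cos b
    rw [← he, ← hga, mul_smul]
    rfl
  have all100 : ∀ i < 100, c100 i ∈ S → ∀ j < 100, c100 j ∈ S := by
    intro i hi hm j hj
    obtain ⟨σ, hσ⟩ := orbit100_trans i hi
    obtain ⟨τ, hτ⟩ := orbit100_trans j hj
    refine closed (τ * σ⁻¹) hm (lab100_at hj).1 ?_
    rw [map_mul, mul_smul, ← hσ, map_inv, inv_smul_smul, hτ]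
  have all315 : ∀ i : Fin 315, lab315.getD i 0 ∈ S → ∀ j : Fin 315, lab315.getD j 0 ∈ S := by
    intro i hm j
    haveI := J2.gp_primitive
    obtain ⟨σ, hσ⟩ := MulAction.exists_smul_eq J2.GP i j
    refine closed σ hm (lab315_lt j) ?_
    rw [lab315_move, show (σ : Perm (Fin 315)) i = j from hσ]
  have hcov := coverOk_eq
  simp only [coverOk, Bool.and_eq_true, List.all_eq_true, List.mem_range, Bool.or_eq_true,
    List.contains_iff_mem, beq_iff_eq] at hcov
  have hl : lab315.length = 315 := by decide +kernel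
  have hcases : ∀ k ∈ S, k = 0 ∨ k ∈ lab100 ∨ k ∈ lab315 := by
    intro k hk
    simp only [S, Finset.mem_filter, Finset.mem_range] at hk
    rcases Nat.eq_zero_or_pos k with h | h
    · exact Or.inl h
    · have := hcov.2 (k - 1) (by omega)
      rw [show k - 1 + 1 = k by omega] at this
      exact Or.inr this
  have use100 : ∀ k ∈ S, k ∈ lab100 → ∀ q ∈ lab100, q ∈ S := by
    intro k hk hm q hq
    obtain ⟨i, hi, rfl⟩ := List.getElem_of_mem hm
    obtain ⟨j, hj, rfl⟩ := List.getElem_of_mem hq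
    have := all100 i (hcov.1 ▸ hi) (by rw [c100, List.getD_eq_getElem _ _ hi]; exact hk) j
      (hcov.1 ▸ hj)
    rwa [c100, List.getD_eq_getElem _ _ hj] at this
  have use315 : ∀ k ∈ S, k ∈ lab315 → ∀ q ∈ lab315, q ∈ S := by
    intro k hk hm q hq
    obtain ⟨i, hi, rfl⟩ := List.getElem_of_mem hm
    obtain ⟨j, hj, rfl⟩ := List.getElem_of_mem hq
    have := all315 ⟨i, hl ▸ hi⟩ (by rw [List.getD_eq_getElem _ _ hi]; exact hk) ⟨j, hl ▸ hj⟩
    rwa [List.getD_eq_getElem _ _ hj] at this
  have hsplit := splitOk_eq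
  simp only [splitOk, Bool.and_eq_true, beq_iff_eq] at hsplit
  by_cases ha : ∃ k ∈ S, k ∈ lab100 <;> by_cases hb : ∃ k ∈ S, k ∈ lab315
  · obtain ⟨a, ha1, ha2⟩ := ha
    obtain ⟨b, hb1, hb2⟩ := hb
    have hS : S = Finset.range 416 := by
      refine Finset.Subset.antisymm (Finset.filter_subset _ _) fun k hk => ?_
      rw [Finset.mem_range] at hk
      rcases Nat.eq_zero_or_pos k with h | h
      · exact h ▸ h0
      · have := hcov.2 (k - 1) (by omega)
        rw [show k - 1 + 1 = k by omega] at this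
        exact this.elim (use100 a ha1 ha2 k) (use315 b hb1 hb2 k)
    have := Subgroup.relIndex_mul_index hK.le
    rw [hcard, HJ.index_eq_card, card_quotient, hS, Finset.card_range] at this
    exact Subgroup.index_eq_one.mp (by omega)
  · obtain ⟨a, ha1, ha2⟩ := ha
    have hS : S = (0 :: lab100).toFinset := by
      ext k
      rw [List.mem_toFinset, List.mem_cons]
      constructor
      · intro hk
        rcases hcases k hk with h | h | h
        exacts [Or.inl h, Or.inr h, absurd ⟨k, hk, h⟩ hb]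
      · rintro (rfl | h)
        exacts [h0, use100 a ha1 ha2 k h]
    rw [hS, hsplit.1] at hdvd
    norm_num at hdvd
  · obtain ⟨b, hb1, hb2⟩ := hb
    have hS : S = (0 :: lab315).toFinset := by
      ext k
      rw [List.mem_toFinset, List.mem_cons]
      constructor
      · intro hk
        rcases hcases k hk with h | h | h
        exacts [Or.inl h, absurd ⟨k, hk, h⟩ ha, Or.inr h]
      · rintro (rfl | h)
        exacts [h0, use315 b hb1 hb2 k h]
    rw [hS, hsplit.2] at hdvd
    norm_num at hdvd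
  · exfalso
    obtain ⟨g, hgK, hgH⟩ := SetLike.exists_of_lt hK
    obtain ⟨k, hk, he⟩ := exists_cos (g • cos 0)
    have hkS : k ∈ S := by
      simp only [S, Finset.mem_filter, Finset.mem_range]
      exact ⟨hk, ⟨⟨g, hgK⟩, he.symm⟩⟩
    rcases hcases k hkS with rfl | h | h
    · exact hgH (HJ_fixes.mpr he.symm)
    · exact ha ⟨k, hkS, h⟩
    · exact hb ⟨k, hkS, h⟩

theorem inter_coatom {x : G24} (hx : x ∉ HJ) :
    IsCoatom ((HJ ⊓ HJ.map (MulAut.conj x).toMonoidHom).subgroupOf HJ) := by
  obtain ⟨k, hk, he⟩ := exists_cos (x • cos 0)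
  have hk0 : k ≠ 0 := by
    rintro rfl
    exact hx (HJ_fixes.mpr he.symm)
  have e : (HJ ⊓ HJ.map (MulAut.conj x).toMonoidHom).subgroupOf HJ =
      (stab k).map (thetaEquiv : J2.GP →* HJ) := by
    ext h
    obtain ⟨σ, rfl⟩ := thetaEquiv.surjective h
    rw [Subgroup.mem_subgroupOf, Subgroup.mem_inf]
    have hm : (thetaEquiv σ : G24) ∈ HJ.map (MulAut.conj x).toMonoidHom ↔
        x⁻¹ * thetaEquiv σ * x ∈ HJ := by
      rw [Subgroup.mem_map_equiv]
      simp [mul_assoc]
    rw [hm, show (thetaEquiv : J2.GP →* HJ) = thetaEquiv.toMonoidHom from rfl, Subgroup.mem_map_equiv, MulEquiv.symm_apply_apply, mem_stab, he,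
      HJ_fixes (g := x⁻¹ * (thetaEquiv σ : G24) * x), mul_smul, mul_smul, inv_smul_eq_iff,
      thetaEquiv_val]
    exact ⟨fun h => h.2, fun h => ⟨⟨σ, rfl⟩, h⟩⟩
  rw [e]
  exact (OrderIso.isCoatom_iff (MulEquiv.mapSubgroup thetaEquiv) _).mpr (stab_coatom hk0 hk)

theorem HJ_isoJ2 : Cfsg.Spor.IsoJ2 HJ := ⟨thetaEquiv.symm.trans J2.j2Equiv.symm⟩

theorem extremely_primitive : ∃ H : Subgroup G24, IsCoatom H ∧ Cfsg.Spor.IsoJ2 H ∧
    ∀ x : G24, x ∉ H → IsCoatom ((H ⊓ H.map (MulAut.conj x).toMonoidHom).subgroupOf H) :=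
  ⟨HJ, HJ_maximal, HJ_isoJ2, fun _ hx => inter_coatom hx⟩

end Cfsg.Agent.Lib.Recognition.G24J2
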