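import Mathlib

/-!
# Columns of four words
-/

set_option autoImplicit false

namespace Cfsg.Agent.Lib.Recognition.G24J2

/-- `colsX` -/
def colsX : ℕ := 0x81443c280140081043028014008004002001

/-- `colsY` -/
def colsY : ℕ := 0x800400200100080040220110488c44902701

/-- `colsJa` -/
def colsJa : ℕ := 0x829417536f2d8ee4998704e090470c2a615d

/-- `colsJb` -/
def colsJb : ℕ := 0x9e479cc82841ec2981f95a7f82d41bbfb6a6

end Cfsg.Agent.Lib.Recognition.G24J2
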