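import Cfsg.Agent.Lib.Recognition.J2Spectrum
import Cfsg.Agent.Lib.Recognition.J2SevenData
import Cfsg.Agent.Lib.Compute.CertTools

/-!
Simplicity of the Hall-Janko group on 315 points.
-/

set_option autoImplicit false
set_option maxRecDepth 100000

namespace Cfsg.Agent.Lib.Recognition.J2

open Cfsg.Agent.Lib.Compute Equiv
open MulAction (IsPretransitive IsPreprimitive stabilizer IsBlock)
open scoped Pointwise

/-- The label of the suborbit of a point. -/
def lab (x : ℕ) : ℕ := ((subWit[x]?).map Prod.fst).getD 6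

/-- Label sets are encoded as bit masks. -/
def blockOk : Bool := (List.range 64).all fun m =>
  !(Nat.testBit m (lab cert0.base)) ||
    (let c := (Finset.univ.filter fun x : Fin 315 => Nat.testBit m (lab x) = true).card
     !(Nat.beq (315 % c) 0) || Nat.beq c 1 || Nat.beq c 315)

theorem blockOk_eq : blockOk = true := by decide +kernel

theorem mask_exists : ∀ f : Fin 6 → Bool, ∃ m : Fin 64, ∀ i : Fin 6, Nat.testBit m.1 i.1 = f i := by
  decide +kernel

theorem sub_spec (x : Fin 315) : lab x < 6 ∧ ∃ h ∈ grp 315 certRest,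
    h (tperm 315 cert0 (subRep.getD (lab x) 0) ⟨cert0.base, base_lt⟩) = x := by
  have hs := List.all_eq_true.mp subOk_eq x (List.mem_range.mpr x.isLt)
  cases hw : subWit[(x : ℕ)]? with
  | none => rw [hw] at hs; simp at hs
  | some e =>
    obtain ⟨i, js⟩ := e
    simp only [hw, Bool.and_eq_true, Nat.blt_eq, Nat.beq_eq] at hs
    have hl : lab x = i := by simp [lab, hw]
    rw [hl]
    obtain ⟨hrh, hh⟩ := sift_spec rest_chk js
    exact ⟨hs.1, _, hh, Fin.ext (by rw [hrh, (tperm0_mem _).1 ⟨cert0.base, base_lt⟩]; exact hs.2)⟩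

instance gp_pretransitive : IsPretransitive GP (Fin 315) := by
  refine IsPretransitive.mk fun x y => ?_
  obtain ⟨σ, hσ, rfl⟩ := GP_transitive x
  obtain ⟨τ, hτ, rfl⟩ := GP_transitive y
  exact ⟨⟨τ * σ⁻¹, mul_mem hτ (inv_mem hσ)⟩, by
    show (τ * σ⁻¹) (σ _) = τ _
    simp⟩

theorem gp_primitive : IsPreprimitive GP (Fin 315) := by
  classical
  set b : Fin 315 := ⟨cert0.base, base_lt⟩ with hb
  refine IsPreprimitive.of_isTrivialBlock_base b fun {B} hbB hB => ?_
  have hfix : ∀ τ ∈ grp 315 certRest, τ b = b := fun τ hτ =>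
    ((mem_grp_rest_iff cert_hc b rfl τ).mp hτ).2
  have key : ∀ x : Fin 315, x ∈ B ↔ tperm 315 cert0 (subRep.getD (lab x) 0) b ∈ B := by
    intro x
    obtain ⟨-, h, hh, he⟩ := sub_spec x
    have hst : (⟨h, rest_le hh⟩ : GP) • B = B :=
      hB.stabilizer_le hbB (show (⟨h, rest_le hh⟩ : GP) • b = b from hfix h hh)
    conv_lhs => rw [← he, ← hst]
    exact Set.smul_mem_smul_set_iff (a := (⟨h, rest_le hh⟩ : GP))
  obtain ⟨m, hm⟩ := mask_exists fun i => decide (tperm 315 cert0 (subRep.getD i.1 0) b ∈ B)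
  have hmem : ∀ x : Fin 315, x ∈ B ↔ Nat.testBit m.1 (lab x) = true := by
    intro x
    rw [key, hm ⟨lab x, (sub_spec x).1⟩]
    simp
  have hset : B = ↑(Finset.univ.filter fun x : Fin 315 => Nat.testBit m.1 (lab x) = true) := by
    ext x; simp [hmem]
  have hdvd := hB.ncard_dvd_card ⟨b, hbB⟩
  have hok := List.all_eq_true.mp blockOk_eq m.1 (List.mem_range.mpr m.isLt)
  have hb' : Nat.testBit m.1 (lab cert0.base) = true := (hmem b).mp hbB
  simp only [hb', Bool.not_true, Bool.false_or] at hok
  rw [Nat.card_eq_fintype_card, Fintype.card_fin, hset, Set.ncard_coe_finset] at hdvd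
  simp only [Nat.dvd_iff_mod_eq_zero.mp hdvd, Bool.or_eq_true,
    Bool.not_eq_true', Nat.beq_eq] at hok
  rcases hok with (h | h) | h
  · simp at h
  · left
    rw [hset]
    exact Finset.card_le_one_iff_subsingleton_coe.mp h.le |> fun hs => by
      intro x hx y hy
      exact Finset.card_le_one.mp h.le x hx y hy
  · right
    rw [hset, Finset.eq_univ_of_card _ (h.trans (Fintype.card_fin 315).symm), Finset.coe_univ]

/-- The checks for the two generators of order seven. -/
def sevenOk : Bool :=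
  sevenBase.all (powOk 315 7) && slpCovers sevenBase sevenSteps cert &&
    (List.range sevenBase.length).all fun k =>
      memOk 315 cert (sevenBase.getD k 0) (sevenWit.getD k [])

theorem sevenOk_eq : sevenOk = true := by decide +kernel

theorem slpSeven : slpOk 315 sevenBase sevenSteps = true := by decide +kernel

theorem gp_simple : IsSimpleGroup GP := by
  classical
  haveI := gp_primitive
  haveI : Nontrivial GP := Finite.one_lt_card_iff_nontrivial.mp (by rw [card_GP]; norm_num)
  haveI : Nonempty (Fin 315) := ⟨0⟩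
  have hok := sevenOk_eq
  simp only [sevenOk, Bool.and_eq_true, List.all_eq_true] at hok
  obtain ⟨⟨hpow, hcov⟩, hwit⟩ := hok
  have hmem : ∀ x ∈ sevenBase, toPerm 315 x ∈ GP := by
    intro x hx
    obtain ⟨k, hk, rfl⟩ := List.getElem_of_mem hx
    have := mem_grp_of_memOk cert_chk (hwit k (List.mem_range.mpr hk))
    rw [List.getD_eq_getElem _ _ hk] at this
    exact this.2
  refine isSimpleGroup_of_pElements (α := Fin 315) (p := 7) (a := 1) (by norm_num)
    (by simp [Nat.card_eq_fintype_card]) (by rw [card_GP]; norm_num)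
    (S := {g : GP | ∃ x ∈ sevenBase, (g : Perm (Fin 315)) = toPerm 315 x}) ?_ ?_
  · rintro g ⟨x, hx, hg⟩
    refine ⟨1, ?_⟩
    rw [pow_one, ← Subgroup.orderOf_coe g, hg]
    exact orderOf_dvd_of_pow_eq_one (valid_of_powOk (by norm_num) (hpow x hx)).2
  · have hle := grp_le_closure (fun x hx => (valid_of_powOk (by norm_num) (hpow x hx)).1) slpSeven hcov
    have himg : toPerm 315 '' {x | x ∈ sevenBase}
        = GP.subtype '' {g : GP | ∃ x ∈ sevenBase, (g : Perm (Fin 315)) = toPerm 315 x} := by
      ext σ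
      constructor
      · rintro ⟨x, hx, rfl⟩
        exact ⟨⟨_, hmem x hx⟩, ⟨x, hx, rfl⟩, rfl⟩
      · rintro ⟨g, ⟨x, hx, hg⟩, rfl⟩
        exact ⟨x, hx, hg.symm⟩
    rw [himg, ← MonoidHom.map_closure] at hle
    refine eq_top_iff.mpr fun g _ => ?_
    obtain ⟨g', hg', he⟩ := hle (show (g : Perm (Fin 315)) ∈ grp 315 cert from g.2)
    rwa [← GP.subtype_injective he]

theorem j2_simple_noncomm :
    IsSimpleGroup Cfsg.Spor.J2 ∧ ∃ a b : Cfsg.Spor.J2, a * b ≠ b * a := by
  haveI := gp_simple
  haveI : Nontrivial Cfsg.Spor.J2 := j2Equiv.toEquiv.nontrivial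
  refine ⟨IsSimpleGroup.isSimpleGroup_of_surjective j2Equiv.symm.toMonoidHom j2Equiv.symm.surjective, ?_⟩
  by_contra h
  push_neg at h
  have hc : Subgroup.center GP = ⊤ := by
    rw [eq_top_iff]
    intro z _
    rw [Subgroup.mem_center_iff]
    intro w
    apply j2Equiv.symm.injective
    rw [map_mul, map_mul]
    exact h _ _
  rw [center_GP] at hc
  exact absurd (Subgroup.card_top (G := GP)) (by rw [← hc, Subgroup.card_bot, card_GP]; norm_num)

end Cfsg.Agent.Lib.Recognition.J2
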