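import Cfsg.Agent.Lib.Recognition.G24J2Base
import Cfsg.Agent.Lib.Recognition.G24J2Data
import Cfsg.Agent.Lib.Recognition.G24J2Words
import Cfsg.Agent.Lib.Recognition.J2Simple

/-!
# The Hall-Janko group inside G2(4)

The certificate of the group on 315 points lifts to elements of G2(4) given by words in the roots.
-/

set_option autoImplicit false
set_option maxRecDepth 100000

namespace Cfsg.Agent.Lib.Recognition.G24J2

open Cfsg.Agent.Lib.Recognition.G24 Cfsg.Agent.Lib.Compute Equiv

/-- The columns belong to the word. -/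
def wordColsOk (w : List (ℕ × ℕ)) (P : ℕ) : Bool :=
  wordOk w && (List.range 12).all fun k => colAt P k == wcols w k

theorem acts_word {w : List (ℕ × ℕ)} {P : ℕ} (h : wordColsOk w P = true) : Acts P (wordElt w) := by
  simp only [wordColsOk, Bool.and_eq_true, List.all_eq_true, List.mem_range, beq_iff_eq] at h
  intro v
  rw [wordElt_smul h.1, wact_eq _ v.n.isLt, lin_congr h.2]

theorem acts_X : Acts colsX (wordElt wordX) := acts_word (by decide +kernel)
theorem acts_Y : Acts colsY (wordElt wordY) := acts_word (by decide +kernel)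
theorem acts_Ja : Acts colsJa (wordElt wordJa) := acts_word (by decide +kernel)
theorem acts_Jb : Acts colsJb (wordElt wordJb) := acts_word (by decide +kernel)

/-- The entries of the program over the two words of the subgroup. -/
def allJ : List ℕ := slpAll [colsJa, colsJb] j2Steps

theorem slpJ : slpActOk [colsJa, colsJb] j2Steps = true := by decide +kernel

theorem allJ_spec (i : ℕ) :
    ∃ g ∈ Subgroup.closure {wordElt wordJa, wordElt wordJb}, Acts (allJ.getD i idC) g := by
  refine slpAct_spec (fun P hP => ?_) slpJ i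
  simp only [List.mem_cons, List.not_mem_nil, or_false] at hP
  rcases hP with rfl | rfl
  · exact ⟨_, Subgroup.subset_closure (Or.inl rfl), acts_Ja⟩
  · exact ⟨_, Subgroup.subset_closure (Or.inr rfl), acts_Jb⟩

/-- The columns of the certificate's generators. -/
def genCols : List (List ℕ) := j2GenIdx.map fun l => l.map fun i => allJ.getD i idC

/-- The columns of the generators of the first level. -/
def genCols0 : List ℕ := genCols.getD 0 []

/-- The columns of the transversals. -/
def transCols : List (List ℕ) := [shadowTrans0, shadowTrans1, shadowTrans2, shadowTrans3]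

theorem genCols_real : ∀ G ∈ genCols, ∀ P ∈ G, ∃ g, Acts P g := by
  intro G hG P hP
  obtain ⟨l, -, rfl⟩ := List.mem_map.mp hG
  obtain ⟨i, -, rfl⟩ := List.mem_map.mp hP
  obtain ⟨g, -, hg⟩ := allJ_spec i
  exact ⟨g, hg⟩

theorem lift_ok : liftOk J2.cert genCols transCols = true := by decide +kernel

/-- The pairs of a permutation and its element. -/
noncomputable def graphJ : Subgroup (Perm (Fin 315) × G24) := pairs 315 J2.cert genCols

theorem graphJ_unique {σ : Perm (Fin 315)} {a b : G24} (ha : (σ, a) ∈ graphJ) (hb : (σ, b) ∈ graphJ) :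
    a = b := by
  have h := (lift_spec J2.cert_chk lift_ok genCols_real ((σ, a)⁻¹ * (σ, b))).1
    (mul_mem (inv_mem ha) hb) (by simp)
  exact inv_mul_eq_one.mp h

theorem graphJ_gen {s : ℕ} (hs : s < J2.cert0.gens.length) :
    (toPerm 315 (J2.cert0.gens.getD s (0, 0)).1, el' (genCols0.getD s idC)) ∈ graphJ :=
  Subgroup.subset_closure ⟨s, hs, rfl⟩

theorem graphJ_exists {σ : Perm (Fin 315)} (hσ : σ ∈ J2.GP) : ∃ g, (σ, g) ∈ graphJ := by
  have hle : J2.GP ≤ graphJ.map (MonoidHom.fst _ _) := by
    refine (Subgroup.closure_le _).mpr ?_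
    rintro _ ⟨g, hg, rfl⟩
    obtain ⟨s, hs, rfl⟩ := List.getElem_of_mem hg
    exact ⟨_, graphJ_gen hs, by simp [List.getD_eq_getElem?_getD, hs]⟩
  obtain ⟨⟨τ, g⟩, hg, rfl⟩ := hle hσ
  exact ⟨g, hg⟩

theorem graphJ_sift (js : List ℕ) :
    ∃ gs, List.Forall₂ Acts (siftCols transCols js) gs ∧
      (siftPerm 315 J2.cert js, gs.prod) ∈ graphJ :=
  (lift_spec J2.cert_chk lift_ok genCols_real 1).2 js

/-- The homomorphism into G2(4). -/
noncomputable def theta : J2.GP →* G24 where
  toFun σ := Classical.choose (graphJ_exists σ.2)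
  map_one' := graphJ_unique (Classical.choose_spec (graphJ_exists (Subgroup.one_mem _))) (one_mem _)
  map_mul' σ τ := graphJ_unique (Classical.choose_spec (graphJ_exists (σ * τ).2))
    (mul_mem (Classical.choose_spec (graphJ_exists σ.2)) (Classical.choose_spec (graphJ_exists τ.2)))

theorem theta_eq {σ : J2.GP} {g : G24} (h : ((σ : Perm (Fin 315)), g) ∈ graphJ) : theta σ = g :=
  graphJ_unique (Classical.choose_spec (graphJ_exists σ.2)) h

theorem theta_injective : Function.Injective theta := by
  haveI := J2.gp_simple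
  rw [← MonoidHom.ker_eq_bot_iff]
  rcases (MonoidHom.normal_ker theta).eq_bot_or_eq_top with h | h
  · exact h
  exfalso
  have hs : 0 < J2.cert0.gens.length := by decide +kernel
  have hm : toPerm 315 (J2.cert0.gens.getD 0 (0, 0)).1 ∈ J2.GP :=
    Subgroup.subset_closure ⟨_, by rw [List.getD_eq_getElem _ _ hs]; exact List.getElem_mem _, rfl⟩
  have he : theta ⟨_, hm⟩ = el' (genCols0.getD 0 idC) := theta_eq (graphJ_gen hs)
  rw [MonoidHom.mem_ker.mp (h ▸ Subgroup.mem_top (⟨_, hm⟩ : J2.GP))] at he
  obtain ⟨g, -, hg⟩ := allJ_spec ((j2GenIdx.getD 0 []).getD 0 0)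
  have e0 : genCols0.getD 0 idC = allJ.getD ((j2GenIdx.getD 0 []).getD 0 0) idC := by decide +kernel
  rw [e0, el_spec hg] at he
  subst he
  have hd : ((List.range 12).any fun k =>
      colAt (allJ.getD ((j2GenIdx.getD 0 []).getD 0 0) idC) k != 1 <<< k) = true := by decide +kernel
  simp only [List.any_eq_true, List.mem_range, bne_iff_ne, ne_eq] at hd
  obtain ⟨k, hk, hne⟩ := hd
  have hk' : 1 <<< k < 4096 := by interval_cases k <;> decide
  have := hg ⟨⟨1 <<< k, hk'⟩⟩
  rw [one_smul, lin_single _ hk] at this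
  exact hne this.symm

/-- The subgroup. -/
noncomputable def HJ : Subgroup G24 := theta.range

/-- The group on 315 points is the subgroup. -/
noncomputable def thetaEquiv : J2.GP ≃* HJ := MonoidHom.ofInjective theta_injective

theorem thetaEquiv_val (σ : J2.GP) : (thetaEquiv σ : G24) = theta σ := rfl

theorem card_HJ : Nat.card HJ = 604800 := by
  rw [← Nat.card_congr thetaEquiv.toEquiv, J2.card_GP]

/-- Products along the transversals lie in the subgroup. -/
theorem sift_mem (js : List ℕ) : ∃ gs, List.Forall₂ Acts (siftCols transCols js) gs ∧ gs.prod ∈ HJ := by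
  obtain ⟨gs, hgs, hm⟩ := graphJ_sift js
  exact ⟨gs, hgs, ⟨⟨_, (sift_spec J2.cert_chk js).2⟩, theta_eq hm⟩⟩

end Cfsg.Agent.Lib.Recognition.G24J2
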