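import Mathlib

/-!
# Arbitrarily large groups with the prime graph of a given group

If `G` acts on a finite elementary abelian `p`-group `V ≠ 0` in such a way that every element of
prime order `r ≠ p` is fixed-point-free unless `G` has an element of order `p * r`, then the
semidirect products `Vᵏ ⋊ G` all have the prime graph of `G`.
-/

set_option autoImplicit false

namespace Cfsg.Agent.Lib.Recognition

open Multiplicative

/-- A type without structure of its own. -/
def GraphCarrier (n : ℕ) : Type := Fin n

theorem exists_unbounded_same_graph {G : Type*} [Group G] [Finite G] {p : ℕ} (hp : p.Prime)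
    (hpG : p ∣ Nat.card G) {V : Type*} [AddCommGroup V] [Finite V] [Nontrivial V]
    (hV : ∀ v : V, p • v = 0) [DistribMulAction G V]
    (h : ∀ r : ℕ, r.Prime → r ≠ p → (∃ g : G, orderOf g = p * r) ∨
      ∀ g : G, orderOf g = r → ∀ v : V, g • v = v → v = 0) (N : ℕ) :
    ∃ (H : Type) (_ : Group H) (_ : Finite H), N < Nat.card H ∧
      ((∀ r : ℕ, r.Prime → (r ∣ Nat.card G ↔ r ∣ Nat.card H)) ∧
      (∀ r s : ℕ, r.Prime → s.Prime → r ≠ s →
        ((∃ g : G, orderOf g = r * s) ↔ (∃ g : H, orderOf g = r * s)))) := by
  classical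
  haveI := Fact.mk hp
  -- the diagonal action on `Vᵏ`
  let act : G →* MulAut (Multiplicative (Fin (N + 1) → V)) :=
    { toFun := fun g => AddEquiv.toMultiplicative (AddEquiv.piCongrRight fun _ => DistribMulAction.toAddEquiv V g)
      map_one' := by
        apply MulEquiv.ext; intro x
        apply toAdd.injective; funext i
        exact one_smul G (toAdd x i)
      map_mul' := fun a b => by
        apply MulEquiv.ext; intro x
        apply toAdd.injective; funext i
        exact mul_smul a b (toAdd x i) }
  haveI : Finite (SemidirectProduct (Multiplicative (Fin (N + 1) → V)) G act) :=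
    Finite.of_equiv _ SemidirectProduct.equivProd.symm
  have hcV : IsPGroup p (Multiplicative V) := fun x => ⟨1, by
    apply toAdd.injective; rw [pow_one, toAdd_pow, hV]; rfl⟩
  obtain ⟨a, ha⟩ := IsPGroup.iff_card.mp hcV
  rw [Nat.card_congr toAdd] at ha
  have hcard : Nat.card (SemidirectProduct (Multiplicative (Fin (N + 1) → V)) G act)
      = p ^ (a * (N + 1)) * Nat.card G := by
    rw [Nat.card_congr SemidirectProduct.equivProd, Nat.card_prod, Nat.card_congr toAdd,
      Nat.card_fun, Nat.card_fin, ha, ← pow_mul]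
  have ha1 : 1 ≤ a := by
    have h1 := Finite.one_lt_card (α := V)
    rcases Nat.eq_zero_or_pos a with h0 | h0
    · rw [ha, h0, pow_zero] at h1; exact absurd h1 (lt_irrefl 1)
    · exact h0
  set S := SemidirectProduct (Multiplicative (Fin (N + 1) → V)) G act with hS
  let e : S ≃ GraphCarrier (Nat.card S) := Finite.equivFin S
  letI Hgrp : Group (GraphCarrier (Nat.card S)) := e.symm.group
  haveI Hfin : Finite (GraphCarrier (Nat.card S)) := Finite.of_equiv _ e
  let eH : GraphCarrier (Nat.card S) ≃* S :=
    { toEquiv := e.symm, map_mul' := fun x y => e.symm_apply_apply (e.symm x * e.symm y) }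
  have hcH : Nat.card (GraphCarrier (Nat.card S)) = p ^ (a * (N + 1)) * Nat.card G := by
    rw [← Nat.card_congr e, hcard]
  refine ⟨GraphCarrier (Nat.card S), Hgrp, Hfin, ?_, ?_, ?_⟩
  · rw [hcH]
    have h1 : N + 1 ≤ p ^ (a * (N + 1)) :=
      (Nat.le_mul_of_pos_left _ ha1).trans (Nat.lt_pow_self hp.one_lt).le
    exact lt_of_lt_of_le (Nat.lt_succ_self N)
      (h1.trans (Nat.le_mul_of_pos_right _ Nat.card_pos))
  · intro r hr
    rw [hcH]
    refine ⟨fun hd => hd.mul_left _, fun hd => ?_⟩
    rcases hr.dvd_mul.mp hd with h1 | h1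
    · rw [(Nat.prime_dvd_prime_iff_eq hr hp).mp (hr.dvd_of_dvd_pow h1)]
      exact hpG
    · exact h1
  intro r s hr hs hrs
  constructor
  · rintro ⟨g, hg⟩
    refine ⟨eH.symm (SemidirectProduct.inr g), ?_⟩
    rw [MulEquiv.orderOf_eq, orderOf_injective _ SemidirectProduct.inr_injective, hg]
  rintro ⟨x, hx⟩
  have hy : orderOf (eH x) = r * s := by rw [MulEquiv.orderOf_eq, hx]
  set y := eH x
  -- the kernel of the projection has exponent `p`
  have hker : ∀ z : S, z.right = 1 → z ^ p = 1 := by
    intro z hz
    rw [← SemidirectProduct.inl_left_mul_inr_right z, hz, map_one, mul_one, ← map_pow]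
    have : z.left ^ p = 1 := by
      apply toAdd.injective
      rw [toAdd_pow]
      funext i
      simp [hV]
    rw [this, map_one]
  have hright : ∀ n : ℕ, (y ^ n).right = y.right ^ n := fun n => by
    rw [← SemidirectProduct.rightHom_eq_right, map_pow]
  have hdvd : orderOf y.right ∣ r * s :=
    hy ▸ orderOf_map_dvd (SemidirectProduct.rightHom (φ := act)) y
  by_cases hfull : orderOf y.right = r * s
  · exact ⟨y.right, hfull⟩
  -- so the image dies in a proper power
  have key : ∀ t u : ℕ, t.Prime → u.Prime → t ≠ u → t * u = r * s → y.right ^ u = 1 →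
      ∃ g : G, orderOf g = r * s := by
    intro t u ht hu htu htus hpow
    have hyo : orderOf y = t * u := hy.trans htus.symm
    have hyu : orderOf (y ^ u) = t := by
      rw [orderOf_pow' _ hu.ne_zero, hyo, Nat.gcd_eq_right (dvd_mul_left u t),
        Nat.mul_div_cancel _ hu.pos]
    have htp : t = p := by
      have h1 := hker (y ^ u) (by rw [hright, hpow])
      have h2 := orderOf_dvd_of_pow_eq_one h1
      rw [hyu] at h2
      exact (Nat.prime_dvd_prime_iff_eq ht hp).mp h2
    have hgu : orderOf y.right = u := by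
      haveI := Fact.mk hu
      refine orderOf_eq_prime hpow fun h1 => ?_
      have h2 := orderOf_dvd_of_pow_eq_one (hker y h1)
      rw [hyo] at h2
      exact htu (htp.trans ((Nat.prime_dvd_prime_iff_eq hu hp).mp ((dvd_mul_left u t).trans h2)).symm)
    rcases h u hu (fun hup => htu (htp.trans hup.symm)) with ⟨g, hg⟩ | hfix
    · exact ⟨g, by rw [hg, ← htus, htp]⟩
    -- a non-zero fixed vector
    exfalso
    have hw1 : (y ^ u).right = 1 := by rw [hright, hpow]
    have hcomm : y * y ^ u = y ^ u * y := (Commute.self_pow y u).eq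
    have h1 := congrArg SemidirectProduct.left hcomm
    rw [SemidirectProduct.mul_left, SemidirectProduct.mul_left, hw1, map_one, MulAut.one_apply,
      mul_comm (y ^ u).left y.left] at h1
    have h2 := mul_left_cancel h1
    have h3 : (y ^ u).left = 1 := by
      apply toAdd.injective
      funext i
      have h4 := congrFun (congrArg toAdd h2) i
      exact hfix y.right hgu _ (by simpa [act] using h4)
    have h5 : y ^ u = 1 := by
      rw [← SemidirectProduct.inl_left_mul_inr_right (y ^ u), h3, hw1, map_one, map_one, mul_one]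
    rw [h5, orderOf_one] at hyu
    exact ht.ne_one hyu.symm
  rcases (Nat.dvd_mul.mp hdvd) with ⟨a', b', ha', hb', hab⟩
  rcases (Nat.dvd_prime hr).mp ha' with rfl | rfl
  · exact key r s hr hs hrs rfl (orderOf_dvd_iff_pow_eq_one.mp (by rw [← hab, one_mul]; exact hb'))
  · rcases (Nat.dvd_prime hs).mp hb' with rfl | rfl
    · exact key s a' hs hr hrs.symm (mul_comm _ _)
        (orderOf_dvd_iff_pow_eq_one.mp (by rw [← hab, mul_one]))
    · exact absurd hab.symm hfull

/-- All elements of prime order `r` act freely as soon as one does, when Sylow `r`-subgroups have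
order `r`. -/
theorem fpf_of_prime_sylow {G : Type*} [Group G] [Finite G] {V : Type*} [AddCommGroup V]
    [DistribMulAction G V] {r m : ℕ} (hr : r.Prime) (hcard : Nat.card G = r * m) (hm : ¬ r ∣ m)
    {x : G} (hx : orderOf x = r) (hfix : ∀ v : V, x • v = v → v = 0) :
    ∀ g : G, orderOf g = r → ∀ v : V, g • v = v → v = 0 := by
  intro g hg v hv
  haveI := Fact.mk hr
  have hm0 : m ≠ 0 := fun h => hm (h ▸ dvd_zero r)
  have hS : ∀ y : G, orderOf y = r →
      Nat.card (Subgroup.zpowers y) = r ^ (Nat.card G).factorization r := by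
    intro y hy
    rw [Nat.card_zpowers, hy, hcard, Nat.factorization_mul hr.ne_zero hm0, Finsupp.add_apply,
      Nat.Prime.factorization_self hr, Nat.factorization_eq_zero_of_not_dvd hm, add_zero, pow_one]
  let P := Sylow.ofCard (Subgroup.zpowers g) (hS g hg)
  let Q := Sylow.ofCard (Subgroup.zpowers x) (hS x hx)
  obtain ⟨c, hc⟩ := MulAction.exists_smul_eq G P Q
  have hX' : c⁻¹ * x * c ∈ Subgroup.zpowers g := by
    have hm : x ∈ ((c • P : Sylow r G) : Subgroup G) := by
      rw [hc]; exact Subgroup.mem_zpowers _
    rw [Sylow.coe_subgroup_smul, Subgroup.pointwise_smul_def] at hm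
    obtain ⟨y, hy, hy'⟩ := Subgroup.mem_map.mp hm
    have he : c⁻¹ * x * c = y := by
      rw [← hy']
      simp [mul_assoc]
    rw [he]
    exact hy
  have hfix' : (c⁻¹ * x * c) • v = v :=
    (Subgroup.zpowers_le.mpr (show g ∈ MulAction.stabilizer G v from hv)) hX'
  rw [mul_smul, mul_smul, inv_smul_eq_iff] at hfix'
  exact (smul_eq_zero_iff_eq c).mp (hfix _ hfix')

end Cfsg.Agent.Lib.Recognition
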