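import Cfsg.Agent.Lib.Recognition.G24Tables
import Cfsg.Agent.Lib.Recognition.GraphExt
import Cfsg.Agent.Lib.Chev.StData
import Cfsg.Agent.Lib.Chev.Simple
import Cfsg.Agent.Lib.Chev.Order

/-!
# The group G2(4) and its module of dimension six over the field with four elements

The images of the root elements satisfy Steinberg's relations; all equations between words are
checked on the twelve unit bit vectors.
-/

set_option autoImplicit false

namespace Cfsg.Agent.Lib.Recognition.G24

open Cfsg.Lie Cfsg.Agent.Lib.Chev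

/-! ### The module -/

/-- Twelve bit vectors under exclusive or. -/
structure V12 where
  /-- The code. -/
  n : Fin 4096
deriving DecidableEq

/-- The codes. -/
def v12Equiv : Fin 4096 ≃ V12 := ⟨V12.mk, V12.n, fun _ => rfl, fun _ => rfl⟩

instance : Finite V12 := Finite.of_equiv _ v12Equiv

/-- A vector from a code. -/
def vmk (n : ℕ) : V12 := ⟨⟨n % 4096, Nat.mod_lt _ (by norm_num)⟩⟩

theorem V12.eq_of_val {a b : V12} (h : a.n.val = b.n.val) : a = b := by
  cases a; cases b; simp only at h; rw [Fin.ext h]

instance : Zero V12 := ⟨⟨0⟩⟩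
instance : Add V12 := ⟨fun a b => ⟨⟨a.n.val ^^^ b.n.val, Nat.xor_lt_two_pow (n := 12) a.n.isLt b.n.isLt⟩⟩⟩
instance : Neg V12 := ⟨fun a => a⟩

instance : AddCommGroup V12 where
  add_assoc _ _ _ := V12.eq_of_val (Nat.xor_assoc _ _ _)
  zero_add _ := V12.eq_of_val (Nat.zero_xor _)
  add_zero _ := V12.eq_of_val (Nat.xor_zero _)
  add_comm _ _ := V12.eq_of_val (Nat.xor_comm _ _)
  nsmul := nsmulRec
  zsmul := zsmulRec
  neg_add_cancel _ := V12.eq_of_val (Nat.xor_self _)

theorem two_nsmul_V12 (v : V12) : (2 : ℕ) • v = 0 := by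
  rw [two_nsmul]; exact V12.eq_of_val (Nat.xor_self _)

instance : Nontrivial V12 := ⟨⟨⟨0⟩, ⟨1⟩, by decide⟩⟩

/-- The permutation given by a root element. -/
def rootPerm (r : Fin 12) (t : K4) : Equiv.Perm V12 :=
  Function.Involutive.toPerm
    (fun v => ⟨⟨wact [(r.val, t.v.val)] v.n.val, wact_lt _ v.n.isLt⟩⟩) (by
      intro v
      apply V12.eq_of_val
      have h := col_self
      simp only [List.all_eq_true, List.mem_range] at h
      exact wact_same (w := [(r.val, t.v.val), (r.val, t.v.val)]) (w' := [])
        (h r.val r.isLt t.v.val t.v.isLt) v.n.isLt)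

theorem nroots_eq : chevG2.nroots = 12 := rfl

/-- The generators' images. -/
def genImg (p : Fin chevG2.nroots × K4) : Equiv.Perm V12 := rootPerm p.1 p.2

theorem lift_stX {r : ℕ} (hr : r < 12) (t : K4) (v : V12) :
    ((FreeGroup.lift genImg (chevG2.stX r t)) v).n.val = wact [(r, t.v.val)] v.n.val := by
  rw [ChevalleyDatum.stX, dif_pos (show r < chevG2.nroots from hr), FreeGroup.lift_apply_of]
  rfl

theorem lift_stWord : ∀ (w : List (ℕ × K4)), (∀ p ∈ w, p.1 < 12) → ∀ v : V12,
    ((FreeGroup.lift genImg (chevG2.stWord w)) v).n.val = wact (codes w) v.n.val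
  | [], _, v => rfl
  | p :: w, h, v => by
    have e : chevG2.stWord (p :: w) = chevG2.stX p.1 p.2 * chevG2.stWord w := rfl
    rw [e, map_mul, Equiv.Perm.mul_apply, lift_stX (h p List.mem_cons_self),
      lift_stWord w (fun q hq => h q (List.mem_cons_of_mem _ hq))]
    rfl

theorem lift_word_eq {w w' : List (ℕ × K4)} (hw : ∀ p ∈ w, p.1 < 12) (hw' : ∀ p ∈ w', p.1 < 12)
    (h : sameWord (codes w) (codes w') = true) :
    FreeGroup.lift genImg (chevG2.stWord w) = FreeGroup.lift genImg (chevG2.stWord w') := by
  refine Equiv.ext fun v => V12.eq_of_val ?_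
  rw [lift_stWord w hw, lift_stWord w' hw']
  exact wact_same h v.n.isLt

theorem stWord_append (w w' : List (ℕ × K4)) :
    chevG2.stWord (w ++ w') = chevG2.stWord w * chevG2.stWord w' := by
  simp [ChevalleyDatum.stWord]

theorem stX_eq_word (r : ℕ) (t : K4) : chevG2.stX r t = chevG2.stWord [(r, t)] := by
  simp [ChevalleyDatum.stWord]

theorem rels : ∀ g ∈ chevG2.steinbergRels K4, FreeGroup.lift genImg g = 1 := by
  intro g hg
  have one : ∀ {r : ℕ}, r < 12 → ∀ t : K4, ∀ p ∈ [(r, t)], p.1 < 12 := by
    intro r hr t p hp; rw [List.mem_singleton] at hp; subst hp; exact hr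
  rcases hg with (⟨r, t, u, hr, rfl⟩ | ⟨r, s, t, u, hr, hs, h1, h2, rfl⟩) |
    ⟨r, t, u, hr, ht, hu, rfl⟩
  · rw [map_mul, map_inv, mul_inv_eq_one, stX_eq_word, stX_eq_word, stX_eq_word, ← stWord_append]
    exact lift_word_eq (fun p hp => by simp at hp; rcases hp with rfl | rfl <;> exact hr)
      (one hr _) (rel_add ⟨r, hr⟩ t u)
  · obtain ⟨hb, hc⟩ := rel_comm ⟨r, hr⟩ ⟨s, hs⟩ t u (fun h => h1 (congrArg Fin.val h)) h2
    simp only [List.all_eq_true, decide_eq_true_eq] at hb
    have hinv : ∀ (q : ℕ), q < 12 → ∀ c : K4,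
        (FreeGroup.lift genImg (chevG2.stX q c))⁻¹ = FreeGroup.lift genImg (chevG2.stX q c) := by
      intro q hq c
      rw [ChevalleyDatum.stX, dif_pos (show q < chevG2.nroots from hq), FreeGroup.lift_apply_of]
      exact Equiv.ext fun v => rfl
    rw [map_mul, map_inv, mul_inv_eq_one, map_mul, map_mul, map_mul, map_inv, map_inv, hinv s hs,
      hinv r hr, ← map_mul, ← map_mul, ← map_mul, stX_eq_word, stX_eq_word, ← stWord_append,
      ← stWord_append, ← stWord_append]
    exact lift_word_eq (fun p hp => by simp at hp; rcases hp with rfl | rfl | rfl | rfl <;> assumption)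
      hb hc
  · obtain ⟨hb, hc⟩ := rel_tor ⟨r, hr⟩ t u ht hu
    have hb' : ∀ c : K4, c ≠ 0 → ∀ p ∈ chevG2.hWord r c, p.1 < 12 := by
      intro c hc p hp
      have := (rel_tor ⟨r, hr⟩ c c hc hc).1
      simp only [List.all_eq_true, decide_eq_true_eq] at this
      exact this p hp
    rw [map_mul, map_inv, mul_inv_eq_one]
    simp only [ChevalleyDatum.stH]
    rw [← stWord_append]
    refine lift_word_eq (fun p hp => ?_) (hb' _ (mul_ne_zero ht hu)) hc
    rcases List.mem_append.mp hp with h | h
    exacts [hb' t ht p h, hb' u hu p h]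

/-- The representation of Steinberg's group. -/
def stRep : chevG2.SteinbergGroup K4 →* Equiv.Perm V12 := PresentedGroup.toGroup rels

theorem stRep_word {w : List (ℕ × K4)} (hw : ∀ p ∈ w, p.1 < 12) (v : V12) :
    (stRep (PresentedGroup.mk _ (chevG2.stWord w)) v).n.val = wact (codes w) v.n.val := by
  rw [← lift_stWord w hw v]
  rfl

theorem stRep_add (g : chevG2.SteinbergGroup K4) : ∀ v w : V12,
    stRep g (v + w) = stRep g v + stRep g w := by
  let H : Subgroup (chevG2.SteinbergGroup K4) :=
    { carrier := {g | ∀ v w : V12, stRep g (v + w) = stRep g v + stRep g w}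
      one_mem' := fun v w => by simp
      mul_mem' := fun {a b} ha hb v w => by
        simp only [map_mul, Equiv.Perm.mul_apply, hb v w]
        exact ha _ _
      inv_mem' := fun {a} ha v w => by
        apply (stRep a).injective
        rw [ha, map_inv, Equiv.Perm.coe_inv]
        simp }
  refine Cfsg.Agent.Lib.Chev.Good.st_generated (D := chevG2) (K := K4) H (fun r hr t => ?_) g
  intro v w
  have e : ∀ x : V12, (stRep (xb chevG2 K4 r t) x).n.val = lin (col r t.v.val) x.n.val := by
    intro x
    have := stRep_word (w := [(r, t)]) (fun p hp => by simp at hp; subst hp; exact hr) x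
    rw [← stX_eq_word] at this
    exact this
  apply V12.eq_of_val
  rw [e]
  show _ = (stRep (xb chevG2 K4 r t) v).n.val ^^^ (stRep (xb chevG2 K4 r t) w).n.val
  rw [e, e]
  exact lin_xor _ _ _

/-- The group. -/
abbrev G24 : Type := ↥(chevG2.group K4)

theorem theta_bijective : Function.Bijective (goodG2.theta K4) := by
  refine ⟨(injective_iff_map_eq_one _).2 fun g hg => ?_, goodG2.theta_surjective⟩
  exact goodG2.ker_eq_bot_of_torHom_inj adjG2 (goodG2.torHom_injective linvG2)
    (congrArg Subtype.val hg)

/-- Steinberg's group is the Chevalley group. -/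
noncomputable def stEquiv : chevG2.SteinbergGroup K4 ≃* G24 :=
  MulEquiv.ofBijective _ theta_bijective

/-- The representation. -/
noncomputable def rep : G24 →* Equiv.Perm V12 := stRep.comp stEquiv.symm.toMonoidHom

noncomputable instance : MulAction G24 V12 := MulAction.compHom V12 rep

theorem smul_eq (g : G24) (v : V12) : g • v = rep g v := rfl

noncomputable instance : DistribMulAction G24 V12 where
  smul_zero g := by
    have h := stRep_add (stEquiv.symm g) 0 0
    rw [add_zero] at h
    rw [smul_eq]
    exact left_eq_add.mp h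
  smul_add g v w := stRep_add (stEquiv.symm g) v w

/-- The element of a word. -/
noncomputable def wordElt (w : List (ℕ × ℕ)) : G24 :=
  stEquiv (PresentedGroup.mk _ (chevG2.stWord (w.map fun p => (p.1, el p.2))))

/-- The test for a word to be in range. -/
def wordOk (w : List (ℕ × ℕ)) : Bool := w.all fun p => decide (p.1 < 12 ∧ p.2 < 4)

theorem wordElt_smul {w : List (ℕ × ℕ)} (hw : wordOk w = true) (v : V12) :
    (wordElt w • v).n.val = wact w v.n.val := by
  simp only [wordOk, List.all_eq_true, decide_eq_true_eq] at hw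
  have e : stEquiv.symm (wordElt w) =
      PresentedGroup.mk _ (chevG2.stWord (w.map fun p => (p.1, el p.2))) :=
    stEquiv.symm_apply_apply _
  rw [smul_eq, rep, MonoidHom.comp_apply]
  show (stRep (stEquiv.symm (wordElt w)) v).n.val = _
  rw [e, stRep_word]
  · congr 1
    rw [codes, List.map_map]
    conv_rhs => rw [← List.map_id w]
    refine List.map_congr_left fun p hp => ?_
    have h4 := (hw p hp).2
    simp only [Function.comp, el, id, Nat.mod_eq_of_lt h4]
  · intro p hp
    obtain ⟨q, hq, rfl⟩ := List.mem_map.mp hp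
    exact (hw q hq).1

theorem perfect : commutator G24 = ⊤ :=
  perfect_group (D := chevG2) (by simp) fun _ => ⟨el 2, by decide +kernel, by decide +kernel⟩

theorem rep_injective : Function.Injective rep := by
  haveI := (goodG2.simple (F := K4) connG2 perfect).1
  rw [← MonoidHom.ker_eq_bot_iff]
  rcases (MonoidHom.normal_ker rep).eq_bot_or_eq_top with h | h
  · exact h
  exfalso
  have h1 : wordElt wordD ∈ rep.ker := h ▸ Subgroup.mem_top _
  have h2 : ∀ n < 4096, wact wordD n = n := by
    intro n hn
    have e := wordElt_smul (w := wordD) (by decide +kernel) ⟨⟨n, hn⟩⟩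
    rw [smul_eq, MonoidHom.mem_ker.mp h1] at e
    exact e.symm
  exact absurd (h2 1 (by norm_num)) (by decide +kernel)

/-- Repetition of a word. -/
def rpt (w : List (ℕ × ℕ)) : ℕ → List (ℕ × ℕ)
  | 0 => []
  | m + 1 => w ++ rpt w m

theorem wact_append : ∀ (u w : List (ℕ × ℕ)) (n : ℕ), wact (u ++ w) n = wact u (wact w n)
  | [], _, _ => rfl
  | p :: u, w, n => by
    show lin _ (wact (u ++ w) n) = lin _ (wact u (wact w n))
    rw [wact_append u w n]

theorem wordElt_pow_smul {w : List (ℕ × ℕ)} (hw : wordOk w = true) :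
    ∀ (m : ℕ) (v : V12), (wordElt w ^ m • v).n.val = wact (rpt w m) v.n.val
  | 0, v => by rw [pow_zero, one_smul]; rfl
  | m + 1, v => by
    rw [pow_succ', mul_smul, wordElt_smul hw, wordElt_pow_smul hw m, rpt, wact_append]

theorem lin_single (c : ℕ → ℕ) {j : ℕ} (hj : j < 12) : lin c (1 <<< j) = c j := by
  have key : ∀ l : List ℕ, l.Nodup → linL c l (1 <<< j) = if j ∈ l then c j else 0 := by
    intro l
    induction l with
    | nil => intro _; rfl
    | cons k l ih =>
      intro hl
      have hk := List.nodup_cons.mp hl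
      simp only [linL, ih hk.2, List.mem_cons]
      by_cases h : j = k
      · subst h
        simp [Nat.one_shiftLeft, hk.1]
      · simp [Nat.one_shiftLeft, Nat.testBit_two_pow, h]
  rw [lin, key _ List.nodup_range, if_pos (List.mem_range.mpr hj)]

theorem orderOf_wordElt {w : List (ℕ × ℕ)} (hw : wordOk w = true) {m : ℕ} (hm : 0 < m)
    (h1 : sameWord (rpt w m) [] = true)
    (h2 : ((List.range m).all fun k => decide (k = 0) || !sameWord (rpt w k) []) = true) :
    orderOf (wordElt w) = m := by
  simp only [List.all_eq_true, List.mem_range, Bool.or_eq_true, decide_eq_true_eq] at h2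
  refine (orderOf_eq_iff hm).mpr ⟨?_, fun k hk hk0 he => ?_⟩
  · apply rep_injective
    refine Equiv.ext fun v => V12.eq_of_val ?_
    rw [map_one, Equiv.Perm.one_apply, ← smul_eq, wordElt_pow_smul hw]
    exact wact_same h1 v.n.isLt
  · have h := (h2 k hk).resolve_left hk0.ne'
    have hcols : ∀ i < 12, wcols (rpt w k) i = wcols [] i := by
      intro i hi
      have hi' : 1 <<< i < 4096 := by interval_cases i <;> decide
      have e := wordElt_pow_smul hw k ⟨⟨1 <<< i, hi'⟩⟩
      rw [he, one_smul] at e
      rw [wact_eq _ hi', lin_single _ hi] at e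
      exact e.symm
    have : sameWord (rpt w k) [] = true := by
      simp only [sameWord, List.all_eq_true, List.mem_range, beq_iff_eq]; exact hcols
    rw [this] at h
    exact absurd h (by simp)

theorem card_G24 : Nat.card G24 = 251596800 := by
  have hr : chevG2.rank = 2 := rfl
  have hn : chevG2.nroots / 2 = 6 := rfl
  have h := Good.card_eq (F := K4) goodG2 smithG2 poinG2 (c := 1)
    (by rw [hr]; simp [Finset.prod_range_succ, card_K4])
  rw [hn, card_K4] at h
  norm_num at h
  exact h

theorem fixed_free {w : List (ℕ × ℕ)} (hw : wordOk w = true)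
    (h : ((List.range 4096).all fun n => decide (n = 0 ∨ lin (wcols w) n ≠ n)) = true)
    (v : V12) (hv : wordElt w • v = v) : v = 0 := by
  simp only [List.all_eq_true, List.mem_range, decide_eq_true_eq] at h
  rcases h v.n.val v.n.isLt with h0 | h0
  · exact V12.eq_of_val h0
  · exact absurd (by rw [← wact_eq _ v.n.isLt, ← wordElt_smul hw, hv]) h0

end Cfsg.Agent.Lib.Recognition.G24
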