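import Cfsg.Prelude.Def_ChevG2
import Cfsg.Prelude.Def_Steinberg
import Cfsg.Agent.Lib.Recognition.G24Data

/-!
# Checked tables for the six-dimensional module of G2(4)
-/

set_option autoImplicit false

namespace Cfsg.Agent.Lib.Recognition.G24

open Cfsg.Lie

/-- The field with four elements. -/
structure K4 where
  /-- The code. -/
  v : Fin 4
deriving DecidableEq

/-- The codes. -/
def k4Equiv : Fin 4 ≃ K4 := ⟨K4.mk, K4.v, fun _ => rfl, fun _ => rfl⟩

instance : Fintype K4 := Fintype.ofEquiv (Fin 4) k4Equiv

/-- Code to element. -/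
def el (n : ℕ) : K4 := ⟨⟨n % 4, Nat.mod_lt _ (by norm_num)⟩⟩

instance : Zero K4 := ⟨el 0⟩
instance : One K4 := ⟨el 1⟩
instance : Add K4 := ⟨fun a b => el (Nat.xor a.v.val b.v.val)⟩
instance : Neg K4 := ⟨fun a => a⟩
instance : Mul K4 := ⟨fun a b => el (mulTab >>> (2 * (4 * a.v.val + b.v.val)))⟩
instance : Inv K4 := ⟨fun a => a * a⟩

instance : Field K4 where
  add_assoc a b c := by revert a b c; decide +kernel
  zero_add a := by revert a; decide +kernel
  add_zero a := by revert a; decide +kernel
  add_comm a b := by revert a b; decide +kernel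
  nsmul := nsmulRec
  zsmul := zsmulRec
  neg_add_cancel a := by revert a; decide +kernel
  mul_assoc a b c := by revert a b c; decide +kernel
  mul_comm a b := by revert a b; decide +kernel
  one_mul a := by revert a; decide +kernel
  mul_one a := by revert a; decide +kernel
  left_distrib a b c := by revert a b c; decide +kernel
  right_distrib a b c := by revert a b c; decide +kernel
  zero_mul a := by revert a; decide +kernel
  mul_zero a := by revert a; decide +kernel
  mul_inv_cancel a := by revert a; decide +kernel
  inv_zero := by decide +kernel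
  exists_pair_ne := ⟨0, 1, by decide +kernel⟩
  nnqsmul := _
  qsmul := _

theorem card_K4 : Fintype.card K4 = 4 := by rw [← Fintype.card_congr k4Equiv]; rfl

/-! ### Linear maps on bit vectors -/

/-- The sum of the selected columns. -/
def linL (c : ℕ → ℕ) : List ℕ → ℕ → ℕ
  | [], _ => 0
  | k :: l, n => (if n.testBit k then c k else 0) ^^^ linL c l n

/-- A linear map of twelve bit vectors given by columns. -/
def lin (c : ℕ → ℕ) (n : ℕ) : ℕ := linL c (List.range 12) n

theorem linL_xor (c : ℕ → ℕ) (a b : ℕ) :
    ∀ l, linL c l (a ^^^ b) = linL c l a ^^^ linL c l b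
  | [] => (Nat.xor_self 0).symm
  | k :: l => by
    simp only [linL, linL_xor c a b l, Nat.testBit_xor]
    have h : ∀ x p q : ℕ, (if (a.testBit k ^^ b.testBit k) then x else 0) ^^^ (p ^^^ q)
        = ((if a.testBit k then x else 0) ^^^ p) ^^^ ((if b.testBit k then x else 0) ^^^ q) := by
      intro x p q
      cases a.testBit k <;> cases b.testBit k <;>
        simp [Nat.xor_assoc, Nat.xor_comm, Nat.xor_left_comm]
    exact h _ _ _

theorem lin_xor (c : ℕ → ℕ) (a b : ℕ) : lin c (a ^^^ b) = lin c a ^^^ lin c b := linL_xor c a b _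

theorem lin_zero (c : ℕ → ℕ) : lin c 0 = 0 := by
  have : ∀ l, linL c l 0 = 0 := by
    intro l; induction l with
    | nil => rfl
    | cons k l ih => simp [linL, ih]
  exact this _

theorem lin_comp (c d : ℕ → ℕ) (n : ℕ) : lin c (lin d n) = lin (fun k => lin c (d k)) n := by
  have : ∀ l, lin c (linL d l n) = linL (fun k => lin c (d k)) l n := by
    intro l; induction l with
    | nil => exact lin_zero c
    | cons k l ih =>
      simp only [linL, lin_xor, ih]
      congr 1
      split <;> simp [lin_zero]
  exact this _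

theorem lin_congr {c d : ℕ → ℕ} (h : ∀ k < 12, c k = d k) (n : ℕ) : lin c n = lin d n := by
  have : ∀ l : List ℕ, (∀ k ∈ l, k < 12) → linL c l n = linL d l n := by
    intro l; induction l with
    | nil => intro _; rfl
    | cons k l ih =>
      intro hl
      simp only [linL, ih fun x hx => hl x (List.mem_cons_of_mem _ hx), h k (hl k List.mem_cons_self)]
  exact this _ fun k hk => List.mem_range.mp hk

theorem lin_unit : ((List.range 4096).all fun n => lin (fun k => 1 <<< k) n == n) = true := by
  decide +kernel

theorem lin_id {n : ℕ} (hn : n < 4096) : lin (fun k => 1 <<< k) n = n := by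
  have h := lin_unit
  simp only [List.all_eq_true, List.mem_range, beq_iff_eq] at h
  exact h n hn

theorem lin_lt {c : ℕ → ℕ} (h : ∀ k < 12, c k < 2 ^ 12) (n : ℕ) : lin c n < 2 ^ 12 := by
  have : ∀ l : List ℕ, (∀ k ∈ l, k < 12) → linL c l n < 2 ^ 12 := by
    intro l; induction l with
    | nil => intro _; norm_num [linL]
    | cons k l ih =>
      intro hl
      refine Nat.xor_lt_two_pow ?_ (ih fun x hx => hl x (List.mem_cons_of_mem _ hx))
      split
      · exact h k (hl k List.mem_cons_self)
      · norm_num
  exact this _ fun k hk => List.mem_range.mp hk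

/-- The column of a root element. -/
def col (r t k : ℕ) : ℕ := (colTab >>> (12 * ((r * 4 + t) * 12 + k))) % 4096

/-- The columns of a word. -/
def wcols : List (ℕ × ℕ) → ℕ → ℕ
  | [], k => 1 <<< k
  | p :: w, k => lin (col p.1 p.2) (wcols w k)

/-- The action of a word. -/
def wact : List (ℕ × ℕ) → ℕ → ℕ
  | [], n => n
  | p :: w, n => lin (col p.1 p.2) (wact w n)

theorem col_lt (r t k : ℕ) : col r t k < 2 ^ 12 := Nat.mod_lt _ (by norm_num)

theorem wact_lt : ∀ (w : List (ℕ × ℕ)) {n : ℕ}, n < 2 ^ 12 → wact w n < 2 ^ 12
  | [], _, h => h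
  | _ :: _, _, _ => lin_lt (fun k _ => col_lt _ _ k) _

theorem wact_eq : ∀ (w : List (ℕ × ℕ)) {n : ℕ}, n < 4096 → wact w n = lin (wcols w) n
  | [], _, h => (lin_id h).symm
  | p :: w, n, h => by
    show lin (col p.1 p.2) (wact w n) = _
    rw [wact_eq w h, lin_comp]
    rfl

/-- Equality of words, tested on columns. -/
def sameWord (w w' : List (ℕ × ℕ)) : Bool := (List.range 12).all fun k => wcols w k == wcols w' k

theorem wact_same {w w' : List (ℕ × ℕ)} (h : sameWord w w' = true) {n : ℕ} (hn : n < 4096) :
    wact w n = wact w' n := by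
  simp only [sameWord, List.all_eq_true, List.mem_range, beq_iff_eq] at h
  rw [wact_eq w hn, wact_eq w' hn, lin_congr h]

theorem col_self : ((List.range 12).all fun r => (List.range 4).all fun t =>
    sameWord [(r, t), (r, t)] []) = true := by decide +kernel

/-- The codes of a word over the field. -/
def codes (w : List (ℕ × K4)) : List (ℕ × ℕ) := w.map fun p => (p.1, p.2.v.val)

theorem rel_add : ∀ (r : Fin 12) (t u : K4),
    sameWord (codes [(r.val, t), (r.val, u)]) (codes [(r.val, t + u)]) = true := by decide +kernel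

theorem rel_comm : ∀ (r s : Fin 12) (t u : K4), s ≠ r → s.val ≠ chevG2.neg r.val →
    (chevG2.commWord K4 r.val s.val t u).all (fun p => decide (p.1 < 12)) = true ∧
    sameWord (codes [(s.val, u), (r.val, t), (s.val, u), (r.val, t)])
      (codes (chevG2.commWord K4 r.val s.val t u)) = true := by decide +kernel

theorem rel_tor : ∀ (r : Fin 12) (t u : K4), t ≠ 0 → u ≠ 0 →
    (chevG2.hWord r.val t).all (fun p => decide (p.1 < 12)) = true ∧
    sameWord (codes (chevG2.hWord r.val t ++ chevG2.hWord r.val u))
      (codes (chevG2.hWord r.val (t * u))) = true := by decide +kernel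

end Cfsg.Agent.Lib.Recognition.G24
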