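import Cfsg.Agent.S1666
import Cfsg.Agent.Lib.Design.HSGroup

/-!
# The certified group on 100 points is the Higman-Sims group
-/

set_option autoImplicit false
set_option maxRecDepth 100000

namespace Cfsg.Agent.Lib.Recognition.HSOut

open Cfsg.Agent.S1666 Cfsg.Agent.Lib.Design Cfsg.Agent.Lib.Compute Cfsg.Agent.Lib.Leech MulAction
open Cfsg

theorem orbit_one_points : (Compute.orbit hsCert1).all (fun x => decide (1 ≤ x ∧ x < 23)) = true := by
  decide +kernel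

theorem orbit_one (x : Fin 100) :
    x ∈ MulAction.orbit (stabilizer HS100 (0 : Fin 100)) (1 : Fin 100) ↔ 1 ≤ (x : ℕ) ∧ (x : ℕ) < 23 := by
  have hb : hsCert1.base = 1 := by decide +kernel
  have hm := mem_orbit_iff (L := hsCert1) (rest := [hsCert2, hsCert3, hsCert4, hsCert5])
    hsRest_ok 1 x (by rw [hb]; rfl)
  constructor
  · rintro ⟨⟨⟨σ, hσ⟩, hfix⟩, rfl⟩
    have h := hm.mp ⟨σ, (mem_hsRest σ).mpr ⟨hσ, hfix⟩, rfl⟩
    exact of_decide_eq_true (List.all_eq_true.mp orbit_one_points _ h)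
  · intro h
    obtain ⟨σ, hσ, he⟩ := hm.mpr (List.contains_iff_mem.mp
      (List.all_eq_true.mp hsSub_points x (List.mem_range'_1.mpr ⟨h.1, by omega⟩)))
    exact ⟨⟨⟨σ, ((mem_hsRest σ).mp hσ).1⟩, ((mem_hsRest σ).mp hσ).2⟩, he⟩

theorem orbit_block (x : Fin 100) :
    x ∈ MulAction.orbit (stabilizer HS100 (0 : Fin 100)) (23 : Fin 100) ↔ 23 ≤ (x : ℕ) := by
  constructor
  · rintro ⟨⟨⟨σ, hσ⟩, hfix⟩, rfl⟩
    by_contra h
    have e : (⟨⟨σ, hσ⟩, hfix⟩ : stabilizer HS100 (0 : Fin 100)) • (23 : Fin 100) = σ 23 := rfl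
    simp only [e] at h
    by_cases h0 : σ 23 = 0
    · exact absurd (σ.injective (h0.trans (show σ 0 = 0 from hfix).symm)) (by decide)
    · have h1 : 1 ≤ ((σ 23 : Fin 100) : ℕ) := Nat.one_le_iff_ne_zero.mpr fun hz => h0 (Fin.ext hz)
      have hmem := (orbit_one (σ 23)).mpr ⟨h1, by omega⟩
      have h2 : (23 : Fin 100) ∈ MulAction.orbit (stabilizer HS100 (0 : Fin 100)) (1 : Fin 100) := by
        rw [← orbit_eq_iff.mpr hmem]
        exact ⟨(⟨⟨σ, hσ⟩, hfix⟩ : stabilizer HS100 (0 : Fin 100))⁻¹, inv_smul_smul _ _⟩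
      exact absurd ((orbit_one 23).mp h2).2 (by decide)
  · intro h
    obtain ⟨σ, hσ, he⟩ := hs_sub x
    rw [hsLab, if_neg (by omega), if_neg (by omega)] at he
    exact ⟨⟨⟨σ, ((mem_hsRest σ).mp hσ).1⟩, ((mem_hsRest σ).mp hσ).2⟩, he⟩

theorem exists_equiv_sporHS : Nonempty (HS100 ≃* Cfsg.Spor.HS) := by
  classical
  haveI := finite_co0
  -- the Higman–Sims group as a pair stabiliser
  obtain ⟨hU, hV⟩ : Cfsg.sqNorm ((Spor.leechV : ↥leechLattice) : GolayPt → ℤ) = 48 ∧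
      Cfsg.sqNorm ((Spor.leechU' : ↥leechLattice) : GolayPt → ℤ) = 32 ∧
      Cfsg.dotInt ((Spor.leechV : ↥leechLattice) : GolayPt → ℤ) (Spor.leechU' : ↥leechLattice) = -16 :=
    hs_facts
  obtain ⟨hU', hD⟩ := hV
  set V : ↥leechLattice := Spor.leechV with hVdef
  set W : ↥leechLattice := -(V + Spor.leechU') with hWdef
  have hW : Cfsg.sqNorm (W : GolayPt → ℤ) = 48 := by
    rw [hWdef, AddSubgroup.coe_neg, AddSubgroup.coe_add, sqNorm_neg'', sqNorm_add, hU, hU', hD]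
    norm_num
  have hVW : Cfsg.dotInt (V : GolayPt → ℤ) (W : GolayPt → ℤ) = -32 := by
    rw [hWdef, AddSubgroup.coe_neg, AddSubgroup.coe_add, dotInt_neg_right, dotInt_add_right']
    rw [show Cfsg.dotInt (V : GolayPt → ℤ) (V : GolayPt → ℤ) = 48 from hU, hD]
    norm_num
  obtain ⟨hsimp, hcardM⟩ := Cfsg.Agent.S0405.result V W hU hW hVW
  let M : Subgroup ↥Co0 := stabilizer ↥Co0 V ⊓ stabilizer ↥Co0 W
  haveI : IsSimpleGroup M := hsimp
  have hfixW : ∀ g : ↥Co0, g • V = V → (g • W = W ↔ g • Spor.leechU' = Spor.leechU') := by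
    intro g hg
    have hadd : g • (V + Spor.leechU') = g • V + g • Spor.leechU' := g.2.1 _ _
    rw [hWdef, co0_neg, neg_inj, hadd, hg, add_right_inj]
  let eHS : M ≃* Spor.HS :=
    { toFun := fun g => ⟨((g : ↥Co0) : Equiv.Perm ↥leechLattice),
        ⟨⟨g.1.2, g.2.1⟩, (hfixW g.1 g.2.1).mp g.2.2⟩⟩
      invFun := fun g => ⟨⟨g.1, g.2.1.1⟩, ⟨g.2.1.2, (hfixW ⟨g.1, g.2.1.1⟩ g.2.1.2).mpr g.2.2⟩⟩
      left_inv := fun g => rfl
      right_inv := fun g => rfl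
      map_mul' := fun g h => rfl }
  -- its action on 100 vectors
  obtain ⟨hS, hStrans⟩ := Cfsg.Agent.S1583.result V W hU hW hVW
  let S : Set ↥leechLattice := {x | Cfsg.sqNorm (x : GolayPt → ℤ) = 32 ∧
    Cfsg.dotInt (V : GolayPt → ℤ) (x : GolayPt → ℤ) = 24 ∧
    Cfsg.dotInt (W : GolayPt → ℤ) (x : GolayPt → ℤ) = -24}
  have hSinv : ∀ g : M, ∀ x ∈ S, (g : ↥Co0) • x ∈ S := by
    intro g x hx
    refine ⟨(co0_sqNorm _ x).trans hx.1, ?_, ?_⟩
    · have h := co0_dot (g : ↥Co0) V x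
      rw [g.2.1] at h; exact h.trans hx.2.1
    · have h := co0_dot (g : ↥Co0) W x
      rw [g.2.2] at h; exact h.trans hx.2.2
  haveI : Finite S := Set.finite_of_ncard_ne_zero (by rw [hS]; norm_num)
  letI : Fintype S := Fintype.ofFinite _
  letI : MulAction M S :=
    { smul := fun g x => ⟨(g : ↥Co0) • x.1, hSinv g x.1 x.2⟩
      one_smul := fun x => Subtype.ext (one_smul ↥Co0 x.1)
      mul_smul := fun g h x => Subtype.ext (mul_smul (g : ↥Co0) (h : ↥Co0) x.1) }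
  have hScard : Fintype.card S = 100 := by
    rw [← Nat.card_eq_fintype_card, Nat.card_coe_set_eq]; exact hS
  obtain ⟨x₀⟩ : Nonempty S := Fintype.card_pos_iff.mp (by rw [hScard]; norm_num)
  obtain ⟨h22, h77, hsub⟩ := Cfsg.Agent.S1584.result V W x₀.1 hU hW hVW x₀.2
  obtain ⟨y₁, hy₁⟩ := Set.nonempty_of_ncard_ne_zero (by rw [h22]; norm_num)
  obtain ⟨y₂, hy₂⟩ := Set.nonempty_of_ncard_ne_zero (by rw [h77]; norm_num)
  let φ : M →* Equiv.Perm S := toPermHom M S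
  haveI : IsPretransitive φ.range S := ⟨fun x y => by
    obtain ⟨g, h1, h2, h3⟩ := hStrans x.1 x.2 y.1 y.2
    exact ⟨⟨φ ⟨g, h1, h2⟩, ⟨g, h1, h2⟩, rfl⟩, Subtype.ext h3⟩⟩
  have hφi : Function.Injective φ := by
    rw [← MonoidHom.ker_eq_bot_iff]
    refine (IsSimpleGroup.eq_bot_or_eq_top_of_normal φ.ker (MonoidHom.normal_ker _)).resolve_right
      fun h => ?_
    obtain ⟨g, h1, h2, h3⟩ := hStrans x₀.1 x₀.2 y₁ hy₁.1
    have he : φ ⟨g, h1, h2⟩ = 1 := MonoidHom.mem_ker.mp (h ▸ Subgroup.mem_top _)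
    have h4 : g • x₀.1 = x₀.1 := congrArg Subtype.val (DFunLike.congr_fun he x₀ :)
    rw [h3] at h4
    have h5 := hy₁.2
    rw [h4, dotInt_self', x₀.2.1] at h5
    norm_num at h5
  have hx0 : Cfsg.dotInt (x₀.1 : GolayPt → ℤ) (x₀.1 : GolayPt → ℤ) = 32 := (dotInt_self' _).trans x₀.2.1
  have horb : ∀ (y : S) (T : Set ↥leechLattice), y.1 ∈ T →
      (∀ (g : ↥Co0), g • V = V → g • W = W → g • x₀.1 = x₀.1 → ∀ z ∈ T, g • z ∈ T) →
      (∀ z ∈ T, z ∈ S ∧ ∃ g : ↥Co0, g • V = V ∧ g • W = W ∧ g • x₀.1 = x₀.1 ∧ g • y.1 = z) →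
      (orbit (stabilizer φ.range x₀) y).ncard = T.ncard := by
    intro y T hyT hinv htr
    rw [← Set.ncard_image_of_injective _ Subtype.val_injective]
    congr 1
    ext z
    constructor
    · rintro ⟨_, ⟨⟨⟨_, g, rfl⟩, hg⟩, rfl⟩, rfl⟩
      exact hinv g.1 g.2.1 g.2.2 (congrArg Subtype.val hg) y.1 hyT
    · intro hz
      obtain ⟨-, g, h1, h2, h3, h4⟩ := htr z hz
      exact ⟨_, ⟨⟨⟨φ ⟨g, h1, h2⟩, ⟨g, h1, h2⟩, rfl⟩, Subtype.ext h3⟩, rfl⟩, h4⟩
  have hMmem : ∀ (g : ↥Co0), g • V = V → g • W = W → ∀ z ∈ S, g • z ∈ S :=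
    fun g h1 h2 z hz => hSinv ⟨g, h1, h2⟩ z hz
  have hdot : ∀ (g : ↥Co0) (z : ↥leechLattice), g • x₀.1 = x₀.1 →
      Cfsg.dotInt (x₀.1 : GolayPt → ℤ) ((g • z : ↥leechLattice) : GolayPt → ℤ) =
        Cfsg.dotInt (x₀.1 : GolayPt → ℤ) (z : GolayPt → ℤ) := by
    intro g z hg
    have h := co0_dot g x₀.1 z
    rwa [hg] at h
  have e22 : (orbit (stabilizer φ.range x₀) (⟨y₁, hy₁.1⟩ : S)).ncard = 22 := by
    rw [horb ⟨y₁, hy₁.1⟩ _ hy₁ (fun g h1 h2 h3 z hz => ⟨hMmem g h1 h2 z hz.1, (hdot g z h3).trans hz.2⟩)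
      fun z hz => ⟨hz.1, hsub y₁ hy₁.1 z hz.1 (fun e => by have := hy₁.2; rw [e, hx0] at this; norm_num at this)
        (fun e => by have := hz.2; rw [e, hx0] at this; norm_num at this) (iff_of_true hy₁.2 hz.2)⟩]
    exact h22
  have e77 : (orbit (stabilizer φ.range x₀) (⟨y₂, hy₂.1⟩ : S)).ncard = 77 := by
    rw [horb ⟨y₂, hy₂.1⟩ _ hy₂ (fun g h1 h2 h3 z hz => ⟨hMmem g h1 h2 z hz.1,
        fun e => hz.2.1 (MulAction.injective g (e.trans h3.symm)), by rw [hdot g z h3]; exact hz.2.2⟩)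
      fun z hz => ⟨hz.1, hsub y₂ hy₂.1 z hz.1 hy₂.2.1 hz.2.1 (iff_of_false hy₂.2.2 hz.2.2)⟩]
    exact h77
  obtain ⟨f, hf⟩ := exists_hom_aut_hundred hScard φ.range x₀ _ _ e22 e77
  have h22' : (MulAction.orbit (stabilizer HS100 (0 : Fin 100)) (1 : Fin 100)).ncard = 22 := by
    rw [show MulAction.orbit (stabilizer HS100 (0 : Fin 100)) (1 : Fin 100) =
      ↑(Finset.univ.filter fun x : Fin 100 => 1 ≤ (x : ℕ) ∧ (x : ℕ) < 23) from
      Set.ext fun x => by simp [orbit_one], Set.ncard_coe_finset]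
    decide +kernel
  have h77' : (MulAction.orbit (stabilizer HS100 (0 : Fin 100)) (23 : Fin 100)).ncard = 77 := by
    rw [show MulAction.orbit (stabilizer HS100 (0 : Fin 100)) (23 : Fin 100) =
      ↑(Finset.univ.filter fun x : Fin 100 => 23 ≤ (x : ℕ)) from
      Set.ext fun x => by simp [orbit_block], Set.ncard_coe_finset]
    decide +kernel
  obtain ⟨g, hg⟩ := exists_hom_aut_hundred (Fintype.card_fin 100) HS100 0 1 23 h22' h77'
  haveI : Finite (Cfsg.pointBlockGraph blocks22 ≃g Cfsg.pointBlockGraph blocks22) :=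
    Nat.finite_of_card_ne_zero (by rw [card_aut_pointBlock22]; norm_num)
  obtain ⟨e1⟩ := equiv_of_index_two card_aut_pointBlock22 hcardM card_hs
    (f.comp φ.rangeRestrict) (hf.comp fun x y h => hφi (congrArg Subtype.val h)) g hg
  exact ⟨e1.trans eHS⟩

end Cfsg.Agent.Lib.Recognition.HSOut
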