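import Cfsg.Agent.Lib.Recognition.CentralizerOutBound
import Cfsg.Agent.Lib.Recognition.HSOutData
import Cfsg.Agent.Lib.Design.HSGroup
import Cfsg.Agent.Lib.Compute.OuterAut

/-!
# The group on 100 points has exactly two outer automorphism classes
-/

set_option autoImplicit false
set_option maxRecDepth 100000

namespace Cfsg.Agent.Lib.Recognition.HSOut

open Cfsg.Agent.Lib.Compute Cfsg.Agent.Lib.Design Equiv

theorem certA_ok : chk 100 hsCertA = true := by decide +kernel

theorem certC_ok : chk 100 hsCertC = true := by decide +kernel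

theorem certA_eq : grp 100 hsCertA = HS100 :=
  le_antisymm (grp_le_of_subOk hsCert_ok (wit := hsCertAInto) (by decide +kernel))
    (grp_le_of_subOk certA_ok (wit := hsCertAFrom) (by decide +kernel))

theorem certC_eq : grp 100 hsCertC = HS100 :=
  le_antisymm (grp_le_of_subOk hsCert_ok (wit := hsCertCInto) (by decide +kernel))
    (grp_le_of_subOk certC_ok (wit := hsCertCFrom) (by decide +kernel))

theorem selfCent : selfCentOk 100 7 hsCertA hsA = true := by decide +kernel

theorem twoInv : twoInvOk 100 hsCertC hsWords hsA hsC hsInv hsInv₂ = true := by decide +kernel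

theorem elts_mem :
    [hsA, hsC, hsInv, hsInv₂].all (fun P => memW 100 hsCert P hsEltWit) = true := by
  decide +kernel

theorem elt_spec {P : ℕ} (hP : P ∈ [hsA, hsC, hsInv, hsInv₂]) :
    Valid 100 P ∧ toPerm 100 P ∈ HS100 :=
  memW_spec hsCert_ok (List.all_eq_true.mp elts_mem P hP)

theorem gen_ok : slpOk 100 [hsA, hsInv] hsGenSteps = true ∧
    slpCovers [hsA, hsInv] hsGenSteps hsCert = true := by
  decide +kernel

theorem basic_ok : (sameOn 100 (app hsA)^[7] (fun i => i) &&
    !(sameOn 100 (app hsA) fun i => i) &&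
    sameOn 100 (fun i => app hsC (app hsA i)) (fun i => (app hsA)^[2] (app hsC i)) &&
    sameOn 100 (fun i => app hsInv (app hsInv i)) (fun i => i) &&
    sameOn 100 (fun i => app hsInv (app hsC i)) (fun i => app hsC (app hsInv i)) &&
    orderSig 100 hsWords (app hsA) (app hsInv)) = true := by
  decide +kernel

theorem pow_ok : ((List.range 6).all fun k => sameOn 100
    (fun i => sift hsCert (hsPowWit.getD k []) ((app hsA)^[k + 1] i))
    (fun i => app hsA (sift hsCert (hsPowWit.getD k []) i))) = true := by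
  decide +kernel

theorem card_out_le : Nat.card (Cfsg.Out HS100) ≤ 2 := by
  obtain ⟨hva, hma⟩ := elt_spec (P := hsA) (by simp)
  obtain ⟨hvc, hmc⟩ := elt_spec (P := hsC) (by simp)
  obtain ⟨hvb, hmb⟩ := elt_spec (P := hsInv) (by simp)
  obtain ⟨hvb', hmb'⟩ := elt_spec (P := hsInv₂) (by simp)
  have hok := basic_ok
  simp only [Bool.and_eq_true, Bool.not_eq_true'] at hok
  obtain ⟨⟨⟨⟨⟨h7, h1⟩, hr⟩, hb⟩, hbc⟩, hW⟩ := hok
  let a : HS100 := ⟨_, hma⟩
  let c : HS100 := ⟨_, hmc⟩
  let b : HS100 := ⟨_, hmb⟩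
  let b' : HS100 := ⟨_, hmb'⟩
  haveI : Fact (Nat.Prime 7) := ⟨by norm_num⟩
  refine card_out_le_two (p := 7) a c b b' ?_ ?_ ?_ ?_ ?_ (r := 2) (s := 1) ?_ rfl (by norm_num)
    ?_ ?_ (W := hsWords) hva.repr hvb.repr hW ?_
  · refine orderOf_eq_prime (Subtype.ext ?_) fun h0 => ?_
    · rw [Subgroup.coe_pow]
      exact (Repr.eq_of_sameOn (repr_pow hva.repr 7) Repr.one h7).trans rfl
    · rw [sameOn_of_eq hva.repr Repr.one (congrArg Subtype.val h0)] at h1
      exact Bool.false_ne_true h1.symm
  · rw [card_hs]; norm_num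
  · apply Subgroup.map_injective (Subgroup.subtype_injective HS100)
    rw [MonoidHom.map_closure, ← MonoidHom.range_eq_map, Subgroup.range_subtype, Set.image_pair]
    refine le_antisymm ((Subgroup.closure_le _).mpr ?_) ?_
    · rintro x (rfl | rfl)
      · exact hma
      · exact hmb
    · refine (grp_le_closure (base := [hsA, hsInv]) ?_ gen_ok.1 gen_ok.2).trans
        (Subgroup.closure_mono ?_)
      · intro x hx
        simp only [List.mem_cons, List.not_mem_nil, or_false] at hx
        rcases hx with rfl | rfl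
        · exact hva
        · exact hvb
      · rintro _ ⟨x, hx, rfl⟩
        simp only [Set.mem_setOf_eq, List.mem_cons, List.not_mem_nil, or_false] at hx
        rcases hx with rfl | rfl
        · exact Or.inl rfl
        · exact Or.inr rfl
  · exact Subtype.ext (Repr.eq_of_sameOn (hvb.repr.mul hvb.repr) Repr.one hb)
  · exact Subtype.ext (Repr.eq_of_sameOn (hvb.repr.mul hvc.repr) (hvc.repr.mul hvb.repr) hbc)
  · rw [mul_inv_eq_iff_eq_mul]
    exact Subtype.ext (Repr.eq_of_sameOn (hvc.repr.mul hva.repr)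
      ((repr_pow hva.repr 2).mul hvc.repr) hr)
  · intro σ hσ
    obtain ⟨m, hm⟩ := mem_zpowers_of_selfCentOk certA_ok hva selfCent
      (certA_eq.symm ▸ σ.2) (congrArg Subtype.val hσ)
    exact ⟨m, Subtype.ext hm⟩
  · intro k hk hk0
    obtain ⟨m, rfl⟩ : ∃ m, k = m + 1 := ⟨k - 1, by omega⟩
    obtain ⟨hrs, hms⟩ := sift_spec hsCert_ok (hsPowWit.getD m [])
    refine ⟨⟨_, hms⟩, ?_⟩
    rw [mul_inv_eq_iff_eq_mul]
    exact Subtype.ext (Repr.eq_of_sameOn (hrs.mul (repr_pow hva.repr (m + 1))) (hva.repr.mul hrs)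
      (List.all_eq_true.mp pow_ok m (List.mem_range.mpr (by omega))))
  · intro σ hσc hσ2 hσW
    exact (eq_of_twoInvOk certC_ok hvc hvb hvb' twoInv (certC_eq.symm ▸ σ.2)
      (congrArg Subtype.val hσc) (congrArg Subtype.val hσ2) hσW).imp Subtype.ext Subtype.ext

theorem outer_ok : (genOk 100 (hsOuter, hsOuterInv) && normOk 100 hsCert hsOuter hsNormWit) = true := by
  decide +kernel

/-- Index lists whose product agrees with `P` on the base points. -/
def targCands (P : ℕ) : List Lvl → (ℕ → ℕ) → List (List ℕ)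
  | [], _ => [[]]
  | L :: rest, f => (List.range (L.trans.length + 1)).flatMap fun q =>
      if f (tfun L q L.base) = app P L.base then
        (targCands P rest fun i => f (tfun L q i)).map (q :: ·)
      else []

theorem exists_targCands {n P : ℕ} {X : Perm (Fin n)} (hX : Repr X (app P)) :
    ∀ {c : List Lvl}, chk n c = true → ∀ {f : ℕ → ℕ} {π σ : Perm (Fin n)},
      Repr π f → σ ∈ grp n c → π * σ = X → ∃ js ∈ targCands P c f, σ = siftPerm n c js := by
  intro c
  induction c with
  | nil =>
    intro _ f π σ _ hσ _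
    refine ⟨[], List.mem_singleton_self _, ?_⟩
    simpa [grp, siftPerm] using hσ
  | cons L rest ih =>
    intro hc f π σ hπ hσ he
    have hc' := hc
    simp only [chk, Bool.and_eq_true] at hc'
    obtain ⟨hb, hg, ht, -, -, -⟩ := lvlOk_iff hc'.1
    obtain ⟨q, hq, τ, hτ, rfl⟩ := exists_decomp hc hσ
    have hrt := (trans_spec (rest := rest) hg ht q).1
    obtain ⟨js, hjs, hτe⟩ := ih hc'.2 (π := π * tperm n L q) (σ := τ) (hπ.mul hrt) hτ
      (by rw [mul_assoc, he])
    refine ⟨q :: js, ?_, by rw [hτe]; simp [siftPerm]⟩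
    rw [targCands, List.mem_flatMap]
    refine ⟨q, List.mem_range.mpr (Nat.lt_succ_of_le hq), ?_⟩
    rw [if_pos, List.mem_map]
    · exact ⟨js, hjs, rfl⟩
    have e := hX ⟨L.base, hb⟩
    rw [← he, Perm.mul_apply, Perm.mul_apply, grp_rest_fixes hc'.1 hc'.2 ⟨L.base, hb⟩ rfl hτ, hπ,
      hrt] at e
    exact e

theorem outer_notMem : toPerm 100 hsOuter ∉ HS100 := by
  intro h
  have hok := outer_ok
  rw [Bool.and_eq_true] at hok
  have hX := (valid_of_genOk hok.1).repr
  obtain ⟨js, hjs, he⟩ := exists_targCands hX hsCert_ok (f := fun i => i) (π := 1) Repr.one h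
    (one_mul _)
  have hno : ((targCands hsOuter hsCert fun i => i).all
      fun js => !(sameOn 100 (app hsOuter) (sift hsCert js))) = true := by decide +kernel
  have := List.all_eq_true.mp hno js hjs
  rw [sameOn_of_eq hX (sift_spec hsCert_ok js).1 he] at this
  exact Bool.false_ne_true this

theorem center_trivial {u : Perm (Fin 100)} (hu : ∀ s ∈ HS100, u * s = s * u) : u = 1 := by
  have h0 : u 0 = 0 := by
    have h := testBit_of_centralizes (L := hsCert0) (rest := hsRest) (hsCert_ok) (F := 1)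
      (by decide +kernel) hu 0 (by decide +kernel)
    refine Fin.ext ?_
    by_contra hne
    rw [Nat.testBit_one_eq_true_iff_self_eq_zero] at h
    exact hne h
  ext1 x
  obtain ⟨⟨σ, hσ⟩, hx⟩ := MulAction.exists_smul_eq HS100 (0 : Fin 100) x
  have := congrArg (fun τ : Perm (Fin 100) => τ 0) (hu σ hσ)
  simp only [Perm.mul_apply, h0] at this
  rw [← hx]
  exact this

theorem card_out_hs100 : Nat.card (Cfsg.Out HS100) = 2 := by
  have h := outer_ok
  rw [Bool.and_eq_true] at h
  obtain ⟨φ, hφ⟩ := exists_aut_of_normOk hsCert_ok (valid_of_genOk h.1) h.2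
  refine card_out_eq_two card_out_le φ fun hin => ?_
  obtain ⟨k, hk, hcomm⟩ := hφ hin
  refine outer_notMem ?_
  rw [← inv_mul_cancel_left k (toPerm 100 hsOuter), center_trivial hcomm, mul_one]
  exact inv_mem hk

end Cfsg.Agent.Lib.Recognition.HSOut
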