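import Cfsg.Prelude.Def_Spor_J1
import Cfsg.Agent.Lib.Recognition.J1Data

/-!
Kernel checks for the enumeration of the first Janko group.
-/

set_option autoImplicit false
set_option maxRecDepth 100000
set_option maxHeartbeats 0

namespace Cfsg.Agent.Lib.Recognition

open Packed J1Data

/-- element of the subgroup list -/
def jH (k : ℕ) : M7 := hl.getD k one

/-- coset representative -/
def jT (i : ℕ) : M7 := tl.getD i one

/-- double coset representative -/
def jR (i : ℕ) : M7 := rl.getD i one

/-- generator of the subgroup -/
def jA (i : ℕ) : M7 := hgens.getD i one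

/-- generator -/
def jX (i : ℕ) : M7 := gens.getD i one

/-- the exponents 6, 10, 15, 7, 11, 19 in binary -/
def jBits : ℕ → List Bool
  | 0 => [false, true, true]
  | 1 => [false, true, false, true]
  | 2 => [true, true, true, true]
  | 3 => [true, true, true]
  | 4 => [true, true, false, true]
  | _ => [true, true, false, false, true]

theorem j1_wf_lists : (hl ++ tl ++ rl ++ hgens ++ gens).all wf = true := by decide +kernel

theorem j1_gens_eq : toMat (jX 0) = Cfsg.jankoMatrixX ∧ toMat (jX 1) = Cfsg.jankoMatrixY := by
  constructor <;> decide +kernel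

theorem j1_hOk : (eqb (jH 0) one && eqb (jT 0) one &&
    (List.range 659).all fun k => let t := htree.getD k (0, 0); decide (t.1 < 2 ∧ t.2 ≤ k) && eqb (jH (k + 1)) (mul (jA t.1) (jH t.2))) = true := by
  decide +kernel

theorem j1_hmulOk : ((List.range 2).all fun s => (List.range 660).all fun k =>
    let j := (hmulTab.getD s []).getD k 0; decide (j < 660) && eqb (mul (jA s) (jH k)) (jH j)) = true := by
  decide +kernel

theorem j1_actOk : ((List.range 2).all fun s => (List.range 266).all fun i =>
    let t := (act.getD s []).getD i (0, 0); decide (t.1 < 266 ∧ t.2 < 660) && eqb (mul (jX s) (jT i)) (mul (jT t.1) (jH t.2))) = true := by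
  decide +kernel

theorem j1_decOk : ((List.range 266).all fun i =>
    let t := dec.getD i (0, 0, 0); decide (t.1 < 5 ∧ t.2.1 < 660 ∧ t.2.2 < 660) && eqb (jT i) (mul (mul (jH t.2.1) (jR t.1)) (jH t.2.2))) = true := by
  decide +kernel

theorem j1_ordOk : ((List.range 5).all fun s => (List.range 660).all fun k =>
    eqb (powBits (mul (jR s) (jH k)) (jBits ((code.getD s []).getD k 0))) one) = true := by
  decide +kernel

end Cfsg.Agent.Lib.Recognition
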