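import Cfsg.Agent.Lib.Recognition.J1Checks

/-!
Element orders of the first Janko group.
-/

set_option autoImplicit false
set_option maxRecDepth 100000
set_option maxHeartbeats 0

namespace Cfsg.Agent.Lib.Recognition

open Packed J1Data

theorem wf_getD {l : List M7} (h : ∀ x ∈ l, wf x = true) (k : ℕ) : wf (l.getD k one) = true := by
  rw [List.getD_eq_getElem?_getD]
  cases hk : l[k]? with
  | none => exact wf_one
  | some x => exact h x (List.mem_of_getElem? hk)

theorem wf_jH (k : ℕ) : wf (jH k) = true :=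
  wf_getD (fun x hx => List.all_eq_true.1 j1_wf_lists x (by simp [hx])) k

theorem wf_jT (k : ℕ) : wf (jT k) = true :=
  wf_getD (fun x hx => List.all_eq_true.1 j1_wf_lists x (by simp [hx])) k

theorem wf_jR (k : ℕ) : wf (jR k) = true :=
  wf_getD (fun x hx => List.all_eq_true.1 j1_wf_lists x (by simp [hx])) k

/-- The enumerated subgroup. -/
def JH : Set (Matrix (Fin 7) (Fin 7) (ZMod 11)) := {m | ∃ k < 660, toMat (jH k) = m}

theorem jH_zero : toMat (jH 0) = 1 := by
  have h := j1_hOk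
  simp only [Bool.and_eq_true] at h
  rw [eq_of_eqb h.1.1]
  exact toMat_one

theorem jT_zero : toMat (jT 0) = 1 := by
  have h := j1_hOk
  simp only [Bool.and_eq_true] at h
  rw [eq_of_eqb h.1.2]
  exact toMat_one

theorem jH_mul : ∀ k < 660, ∀ m ∈ JH, toMat (jH k) * m ∈ JH := by
  intro k
  induction k using Nat.strong_induction_on with
  | _ k ih =>
    intro hk m hm
    cases k with
    | zero => rwa [jH_zero, one_mul]
    | succ k =>
      have h := j1_hOk
      simp only [Bool.and_eq_true, List.all_eq_true, List.mem_range, decide_eq_true_eq] at h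
      obtain ⟨⟨hs, hp⟩, he⟩ := h.2 k (by omega)
      rw [eq_of_eqb he, toMat_mul _ (wf_jH _), mul_assoc]
      obtain ⟨j, hj, hje⟩ := ih _ (Nat.lt_succ_of_le hp) (by omega) m hm
      rw [← hje, ← toMat_mul _ (wf_jH _)]
      have h' := j1_hmulOk
      simp only [List.all_eq_true, List.mem_range, Bool.and_eq_true, decide_eq_true_eq] at h'
      obtain ⟨hlt, he'⟩ := h' _ hs j hj
      exact ⟨_, hlt, by rw [eq_of_eqb he']⟩

theorem jH_mul' {a b : Matrix (Fin 7) (Fin 7) (ZMod 11)} (ha : a ∈ JH) (hb : b ∈ JH) : a * b ∈ JH := by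
  obtain ⟨k, hk, rfl⟩ := ha
  exact jH_mul k hk b hb

/-- The enumerated group. -/
def JS : Set (Matrix (Fin 7) (Fin 7) (ZMod 11)) := {m | ∃ i < 266, ∃ h ∈ JH, toMat (jT i) * h = m}

theorem one_mem_JS : (1 : Matrix (Fin 7) (Fin 7) (ZMod 11)) ∈ JS :=
  ⟨0, by norm_num, 1, ⟨0, by norm_num, jH_zero⟩, by rw [jT_zero, one_mul]⟩

theorem gen_mul_JS (s : ℕ) (hs : s < 2) {m : Matrix (Fin 7) (Fin 7) (ZMod 11)} (hm : m ∈ JS) :
    toMat (jX s) * m ∈ JS := by
  obtain ⟨i, hi, h, hh, rfl⟩ := hm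
  have h' := j1_actOk
  simp only [List.all_eq_true, List.mem_range, Bool.and_eq_true, decide_eq_true_eq] at h'
  obtain ⟨⟨hj, hk⟩, he⟩ := h' s hs i hi
  rw [← mul_assoc, ← toMat_mul _ (wf_jT i), eq_of_eqb he, toMat_mul _ (wf_jH _), mul_assoc]
  exact ⟨_, hj, _, jH_mul _ hk h hh, rfl⟩

theorem mem_JS_of_mem_J1 {g : GL (Fin 7) (ZMod 11)} (hg : g ∈ Cfsg.Spor.J1) :
    (g : Matrix (Fin 7) (Fin 7) (ZMod 11)) ∈ JS := by
  have h : g ∈ Submonoid.closure ({Cfsg.Spor.jankoX, Cfsg.Spor.jankoY} : Set (GL (Fin 7) (ZMod 11))) := by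
    rw [← Subgroup.closure_toSubmonoid_of_finite]
    exact hg
  clear hg
  induction h using Submonoid.closure_induction_left with
  | one => simpa using one_mem_JS
  | mul_left x hx y hy ih =>
    rw [Units.val_mul]
    rcases hx with rfl | rfl
    · have := gen_mul_JS 0 (by norm_num) ih
      rwa [j1_gens_eq.1] at this
    · have := gen_mul_JS 1 (by norm_num) ih
      rwa [j1_gens_eq.2] at this

/-- Conjugation invariance of powers. -/
theorem pow_swap_eq_one {n : ℕ} {M : Type*} [Monoid M] [IsDedekindFiniteMonoid M] {a b : M} (h : (a * b) ^ (n + 1) = 1) :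
    (b * a) ^ (n + 1) = 1 := by
  have e : ∀ n : ℕ, b * (a * b) ^ n * a = (b * a) ^ (n + 1) := by
    intro n
    induction n with
    | zero => simp
    | succ n ih => rw [pow_succ (a * b), pow_succ (b * a) (n + 1), ← ih]; simp [mul_assoc]
  rw [← e]
  rw [pow_succ, ← mul_assoc] at h
  have h2 := mul_eq_one_comm.1 h
  rw [← mul_assoc] at h2
  exact h2

/-- Every element has order dividing 6, 10, 15, 7, 11 or 19. -/
theorem j1_pow_eq_one (g : Cfsg.Spor.J1) :
    g ^ 6 = 1 ∨ g ^ 10 = 1 ∨ g ^ 15 = 1 ∨ g ^ 7 = 1 ∨ g ^ 11 = 1 ∨ g ^ 19 = 1 := by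
  obtain ⟨i, hi, h, hh, hg⟩ := mem_JS_of_mem_J1 g.2
  have h' := j1_decOk
  simp only [List.all_eq_true, List.mem_range, Bool.and_eq_true, decide_eq_true_eq] at h'
  obtain ⟨⟨hs, h1, h2⟩, he⟩ := h' i hi
  set t := dec.getD i (0, 0, 0)
  rw [eq_of_eqb he, toMat_mul _ (wf_jH _), toMat_mul _ (wf_jR _), mul_assoc, mul_assoc] at hg
  obtain ⟨k, hk, hkey⟩ := jH_mul' (jH_mul' (⟨t.2.2, h2, rfl⟩ : toMat (jH t.2.2) ∈ JH) hh) (⟨t.2.1, h1, rfl⟩ : toMat (jH t.2.1) ∈ JH)
  have ho := j1_ordOk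
  simp only [List.all_eq_true, List.mem_range] at ho
  have e := congrArg toMat (eq_of_eqb (ho t.1 hs k hk))
  rw [toMat_powBits, toMat_one, toMat_mul _ (wf_jH _), hkey, ← mul_assoc] at e
  have key : ∀ n, (toMat (jR t.1) * (toMat (jH t.2.2) * h) * toMat (jH t.2.1)) ^ (n + 1) = 1 → g ^ (n + 1) = 1 := by
    intro n hn
    have h3 := pow_swap_eq_one hn
    rw [hg] at h3
    exact Subtype.ext (Units.ext (by rw [Subgroup.coe_pow, Units.val_pow_eq_pow_val, h3]; simp))
  match hc : (code.getD t.1 []).getD k 0 with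
  | 0 => rw [hc] at e; exact Or.inl (key 5 e)
  | 1 => rw [hc] at e; exact Or.inr (Or.inl (key 9 e))
  | 2 => rw [hc] at e; exact Or.inr (Or.inr (Or.inl (key 14 e)))
  | 3 => rw [hc] at e; exact Or.inr (Or.inr (Or.inr (Or.inl (key 6 e))))
  | 4 => rw [hc] at e; exact Or.inr (Or.inr (Or.inr (Or.inr (Or.inl (key 10 e)))))
  | n + 5 => rw [hc] at e; exact Or.inr (Or.inr (Or.inr (Or.inr (Or.inr (key 18 e)))))

/-- The element given by a word. -/
def j1Word (w : List ℕ) : Cfsg.Spor.J1 :=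
  (w.map fun s => if s = 0 then (⟨Cfsg.Spor.jankoX, Subgroup.subset_closure (Or.inl rfl)⟩ : Cfsg.Spor.J1)
    else ⟨Cfsg.Spor.jankoY, Subgroup.subset_closure (Or.inr rfl)⟩).prod

/-- The matrix of a word. -/
def j1WordMat : List ℕ → M7
  | [] => one
  | s :: w => mul (jX (if s = 0 then 0 else 1)) (j1WordMat w)

theorem wf_j1WordMat : ∀ w, wf (j1WordMat w) = true
  | [] => wf_one
  | _ :: _ => wf_mul _ _

theorem coe_j1Word : ∀ w, ((j1Word w : GL (Fin 7) (ZMod 11)) : Matrix (Fin 7) (Fin 7) (ZMod 11)) = toMat (j1WordMat w)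
  | [] => by simp [j1Word, j1WordMat, toMat_one]
  | s :: w => by
    rw [j1WordMat, toMat_mul _ (wf_j1WordMat w), ← coe_j1Word w]
    by_cases hs : s = 0
    · simp [j1Word, hs, j1_gens_eq.1, Cfsg.Spor.jankoX]
    · simp [j1Word, hs, j1_gens_eq.2, Cfsg.Spor.jankoY]

/-- exact power test -/
def powTest (w : List ℕ) (bs : List Bool) : Bool := eqb (powBits (j1WordMat w) bs) one

theorem j1Word_pow_iff (w : List ℕ) (bs : List Bool) :
    j1Word w ^ bitsVal bs = 1 ↔ toMat (powBits (j1WordMat w) bs) = 1 := by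
  rw [toMat_powBits, ← coe_j1Word, ← Units.val_pow_eq_pow_val, ← Subgroup.coe_pow, Units.val_eq_one]
  exact Subtype.ext_iff

theorem j1_orderOf_word (w : List ℕ) {p q : ℕ} (hp : p.Prime) (hq : q.Prime) (bs bp bq : List Bool)
    (h : toMat (powBits (j1WordMat w) bs) = 1) (h' : toMat (powBits (j1WordMat w) bp) ≠ 1)
    (h'' : toMat (powBits (j1WordMat w) bq) ≠ 1) (es : bitsVal bs = p * q) (ep : bitsVal bp = p) (eq : bitsVal bq = q) :
    orderOf (j1Word w) = p * q := by
  rw [← j1Word_pow_iff, es] at h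
  rw [Ne, ← j1Word_pow_iff, ep, ← orderOf_dvd_iff_pow_eq_one] at h'
  rw [Ne, ← j1Word_pow_iff, eq, ← orderOf_dvd_iff_pow_eq_one] at h''
  obtain ⟨a, b, ha, hb, hab⟩ := Nat.dvd_mul.1 (orderOf_dvd_of_pow_eq_one h)
  rcases (Nat.dvd_prime hp).1 ha with rfl | rfl
  · exact absurd (hab ▸ (one_mul b).symm ▸ hb) h''
  · rcases (Nat.dvd_prime hq).1 hb with rfl | rfl
    · exact absurd (by rw [← hab, mul_one]) h'
    · exact hab.symm

theorem j1_exists_six_ten_fifteen :
    (∃ g : Cfsg.Spor.J1, orderOf g = 6) ∧ (∃ g : Cfsg.Spor.J1, orderOf g = 10) ∧ (∃ g : Cfsg.Spor.J1, orderOf g = 15) :=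
  ⟨⟨_, j1_orderOf_word (words.getD 0 []) Nat.prime_two Nat.prime_three [false, true, true] [false, true] [true, true]
      (by decide +kernel) (by decide +kernel) (by decide +kernel) rfl rfl rfl⟩,
   ⟨_, j1_orderOf_word (words.getD 1 []) Nat.prime_two Nat.prime_five [false, true, false, true] [false, true] [true, false, true]
      (by decide +kernel) (by decide +kernel) (by decide +kernel) rfl rfl rfl⟩,
   ⟨_, j1_orderOf_word (words.getD 2 []) Nat.prime_three Nat.prime_five [true, true, true, true] [true, true] [true, false, true]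
      (by decide +kernel) (by decide +kernel) (by decide +kernel) rfl rfl rfl⟩⟩

end Cfsg.Agent.Lib.Recognition
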