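import Cfsg.Agent.Lib.Recognition.J2Fusion
import Cfsg.Agent.Lib.Recognition.J2Facts
import Cfsg.Agent.Lib.Recognition.OrderSixty
import Cfsg.Agent.Lib.LocalEven.Subnormal
import Cfsg.Agent.Lib.Cores.Frattini
import Cfsg.Agent.Lib.Classification.Extraspecial
import Cfsg.Agent.S0494

/-!
The centraliser of a reflection in the Hall-Janko group.
-/

set_option autoImplicit false
set_option maxRecDepth 100000

namespace Cfsg.Agent.Lib.Recognition

/-- The shape `2^(1+4).A5` of a group. -/
def IsRefCentShape (C : Type*) [Group C] : Prop :=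
  ∃ (Q : Subgroup C) (_ : Q.Normal), Nat.card Q = 32 ∧ Cfsg.IsExtraspecial 2 Q ∧
    Nonempty (C ⧸ Q ≃* alternatingGroup (Fin 5))

theorem IsRefCentShape.of_equiv {C D : Type*} [Group C] [Group D] (e : C ≃* D)
    (h : IsRefCentShape C) : IsRefCentShape D := by
  obtain ⟨Q, hQ, hc, hx, ⟨f⟩⟩ := h
  haveI := hQ
  haveI : (Q.map (e : C →* D)).Normal := hQ.map _ e.surjective
  refine ⟨Q.map (e : C →* D), inferInstance, ?_, ?_, ⟨(QuotientGroup.congr Q _ e rfl).symm.trans f⟩⟩
  · rw [Subgroup.card_map_of_injective e.injective]; exact hc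
  · exact Cfsg.Agent.Lib.Classification.isExtraspecial_of_mulEquiv
      (Q.equivMapOfInjective _ e.injective) hx

/-- Centralisers of corresponding elements of isomorphic groups are isomorphic. -/
noncomputable def centralizerEquiv {G H : Type*} [Group G] [Group H] (e : G ≃* H) (a : G) :
    Subgroup.centralizer ({a} : Set G) ≃* Subgroup.centralizer ({e a} : Set H) :=
  (e.subgroupMap _).trans (MulEquiv.subgroupCongr (by
    ext x
    rw [Subgroup.mem_centralizer_singleton_iff]
    constructor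
    · rintro ⟨y, hy, rfl⟩
      rw [SetLike.mem_coe, Subgroup.mem_centralizer_singleton_iff] at hy
      exact (map_mul e y a).symm.trans ((congrArg e hy).trans (map_mul e a y))
    · intro hx
      refine ⟨e.symm x, ?_, e.apply_symm_apply x⟩
      rw [SetLike.mem_coe, Subgroup.mem_centralizer_singleton_iff]
      apply e.injective
      rw [map_mul, map_mul, e.apply_symm_apply]
      exact hx))

namespace J2

open Cfsg.Agent.Lib.Compute Equiv Cfsg.Spor
open scoped commutatorElement

/-- The central involution inside `sylQ`. -/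
def sylQZ : List ℕ := [4, 0]

/-- Checks on `sylQ`. -/
def extraOk : Bool :=
  (headGens sylQ).all fun g =>
    eqOn (fun i => app g.1 (sift sylQ sylQZ i)) (fun i => sift sylQ sylQZ (app g.1 i))

/-- Commutators and squares lie in the centre. -/
def commOk : Bool :=
  (idxLists sylQ).all fun js =>
    ((headGens sylQ).all fun g =>
      eqOn (fun i => sift sylQ js (app g.1 i)) (fun i => app g.1 (sift sylQ js i)) ||
      eqOn (fun i => sift sylQ js (app g.1 i)) (fun i => sift sylQ sylQZ (app g.1 (sift sylQ js i)))) &&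
    (eqOn (fun i => sift sylQ js (sift sylQ js i)) (fun i => i) ||
      eqOn (fun i => sift sylQ js (sift sylQ js i)) (sift sylQ sylQZ))

/-- Two elements of order five not commuting modulo `sylQ`. -/
def fiveOk : Bool :=
  eqOn (iter (sift certRest [1, 1, 1]) 5) (fun i => i) && eqOn (iter (sift certRest [1, 2, 1]) 5) (fun i => i) &&
    (idxLists sylQ).all fun js =>
      !eqOn (fun i => sift certRest [1, 1, 1] (sift certRest [1, 2, 1] i))
        (fun i => sift certRest [1, 2, 1] (sift certRest [1, 1, 1] (sift sylQ js i)))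

theorem extraOk_eq : extraOk = true := by decide +kernel
theorem commOk_eq : commOk = true := by decide +kernel
theorem fiveOk_eq : fiveOk = true := by decide +kernel
theorem sylQ_centre : centreOk 315 sylQ sylQZ = true := by decide +kernel
theorem sylQ_order : certOrder sylQ = 32 := by decide +kernel
theorem sylQ_z_ne : eqOn (sift sylQ sylQZ) (fun i => i) = false := by decide +kernel
theorem rest_order : certOrder certRest = 1920 := by decide +kernel
theorem sylQ_z_sq : eqOn (fun i => sift sylQ sylQZ (sift sylQ sylQZ i)) (fun i => i) = true := by decide +kernel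

/-- The central element of `sylQ`. -/
noncomputable def zQP : grp 315 sylQ := ⟨siftPerm 315 sylQ sylQZ, (sift_spec sylQ_chk sylQZ).2⟩

theorem zQP_repr : Repr (zQP : Perm (Fin 315)) (sift sylQ sylQZ) := (sift_spec sylQ_chk sylQZ).1

theorem zQP_ne : zQP ≠ 1 := by
  intro h
  have h2 := sylQ_z_ne
  rw [← Bool.not_eq_true, eqOn_iff] at h2
  refine h2 fun i hi => ?_
  have := zQP_repr ⟨i, hi⟩
  rw [h] at this
  exact this.symm

theorem gen_induction {P : grp 315 sylQ → Prop}
    (hg : ∀ g ∈ headGens sylQ, ∀ q : grp 315 sylQ, (q : Perm (Fin 315)) = toPerm 315 g.1 → P q)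
    (h1 : P 1) (hm : ∀ a b, P a → P b → P (a * b)) (hi : ∀ a, P a → P a⁻¹) (q : grp 315 sylQ) : P q := by
  obtain ⟨σ, hσ⟩ := q
  have hσ' := hσ
  rw [grp_eq_closure] at hσ'
  revert hσ
  induction hσ' using Subgroup.closure_induction with
  | mem x hx => intro hσ; obtain ⟨g, hg', rfl⟩ := hx; exact hg g hg' _ rfl
  | one => intro hσ; exact h1
  | mul x y hx hy ihx ihy =>
    intro hσ
    rw [← grp_eq_closure] at hx hy
    exact hm ⟨x, hx⟩ ⟨y, hy⟩ (ihx hx) (ihy hy)
  | inv x hx ihx =>
    intro hσ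
    rw [← grp_eq_closure] at hx
    exact hi ⟨x, hx⟩ (ihx hx)

theorem zQP_central (q : grp 315 sylQ) : q * zQP = zQP * q := by
  refine gen_induction (P := fun q => q * zQP = zQP * q) (fun g hg q hq => ?_) (by simp)
    (fun a b ha hb => ?_) (fun a ha => ?_) q
  · obtain ⟨hr, -⟩ := head_genOk sylQ_chk hg
    refine Subtype.ext ?_
    rw [Subgroup.coe_mul, Subgroup.coe_mul, hq]
    exact (hr.mul zQP_repr).eq (zQP_repr.mul hr) (eqOn_iff.mp (List.all_eq_true.mp extraOk_eq g hg))
  · exact (Commute.mul_left ha hb : Commute (a * b) zQP)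
  · exact (Commute.inv_left ha : Commute a⁻¹ zQP)

theorem center_sylQ : Subgroup.center (grp 315 sylQ) = Subgroup.zpowers zQP := by
  refine le_antisymm (fun x hx => ?_)
    (Subgroup.zpowers_le.mpr (Subgroup.mem_center_iff.mpr zQP_central))
  obtain ⟨js, hjs, he⟩ := exists_idx sylQ_chk x.2
  have hr : Repr (x : Perm (Fin 315)) (sift sylQ js) := he ▸ (sift_spec sylQ_chk js).1
  have hz := sylQ_centre
  simp only [centreOk, sylQ, List.all_eq_true, Bool.or_eq_true, List.any_eq_true, List.mem_range,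
    bne_iff_ne, beq_iff_eq] at hz
  rcases hz js hjs with (⟨g, hg, i, hi, hne⟩ | h1) | h2
  · exfalso
    apply hne
    obtain ⟨hgr, hgm⟩ := head_genOk sylQ_chk (c := sylQ) hg
    have e := congrArg (fun u : Perm (Fin 315) => ((u ⟨i, hi⟩ : Fin 315) : ℕ))
      (congrArg Subtype.val (Subgroup.mem_center_iff.mp hx ⟨_, hgm⟩))
    simp only [Subgroup.coe_mul, Perm.mul_apply] at e
    rw [hgr, hr, hr, hgr] at e
    exact e
  · rw [show x = 1 from Subtype.ext (hr.eq Repr.one h1)]; exact one_mem _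
  · rw [show x = zQP from Subtype.ext (hr.eq zQP_repr h2)]; exact Subgroup.mem_zpowers _

theorem zQP_sq : zQP * zQP = 1 :=
  Subtype.ext ((zQP_repr.mul zQP_repr).eq Repr.one (eqOn_iff.mp sylQ_z_sq))

theorem card_center_sylQ : Nat.card (Subgroup.center (grp 315 sylQ)) = 2 := by
  haveI : Fact (Nat.Prime 2) := ⟨Nat.prime_two⟩
  rw [center_sylQ, Nat.card_zpowers]
  exact orderOf_eq_prime (by rw [pow_two, zQP_sq]) zQP_ne

theorem sylQ_rel (a b : grp 315 sylQ) : a * b = b * a ∨ a * b = zQP * (b * a) := by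
  obtain ⟨js, hjs, he⟩ := exists_idx sylQ_chk a.2
  have hr : Repr (a : Perm (Fin 315)) (sift sylQ js) := he ▸ (sift_spec sylQ_chk js).1
  have hc := List.all_eq_true.mp commOk_eq js hjs
  simp only [Bool.and_eq_true, List.all_eq_true, Bool.or_eq_true] at hc
  refine gen_induction (P := fun b => a * b = b * a ∨ a * b = zQP * (b * a))
    (fun g hg q hq => ?_) (by simp) ?_ ?_ b
  · obtain ⟨hgr, -⟩ := head_genOk sylQ_chk hg
    rcases hc.1 g hg with h | h
    · left
      refine Subtype.ext ?_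
      rw [Subgroup.coe_mul, Subgroup.coe_mul, hq]
      exact (hr.mul hgr).eq (hgr.mul hr) (eqOn_iff.mp h)
    · right
      refine Subtype.ext ?_
      rw [Subgroup.coe_mul, Subgroup.coe_mul, Subgroup.coe_mul, hq]
      exact (hr.mul hgr).eq (zQP_repr.mul (hgr.mul hr)) (eqOn_iff.mp h)
  · intro x y hx hy
    have hz := zQP_central x
    rcases hx with hx | hx <;> rcases hy with hy | hy
    · exact Or.inl (by rw [← mul_assoc, hx, mul_assoc, hy, mul_assoc])
    · exact Or.inr (by rw [← mul_assoc, hx, mul_assoc, hy, ← mul_assoc, hz, mul_assoc, mul_assoc])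
    · exact Or.inr (by rw [← mul_assoc, hx, mul_assoc, mul_assoc, hy, mul_assoc])
    · refine Or.inl ?_
      rw [← mul_assoc, hx, mul_assoc, mul_assoc, hy, ← mul_assoc x, hz, mul_assoc, ← mul_assoc,
        zQP_sq, one_mul, mul_assoc]
  · intro x hx
    rcases hx with hx | hx
    · exact Or.inl (Commute.inv_right hx)
    · refine Or.inr ?_
      apply mul_left_cancel (a := x)
      calc x * (a * x⁻¹) = (zQP * (zQP * (x * a))) * x⁻¹ := by rw [← mul_assoc zQP, zQP_sq, one_mul, mul_assoc]
        _ = (zQP * (a * x)) * x⁻¹ := by rw [hx]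
        _ = zQP * a := by group
        _ = x * (zQP * (x⁻¹ * a)) := by rw [← mul_assoc x, zQP_central x]; group

theorem sylQ_extraspecial : Cfsg.IsExtraspecial 2 (grp 315 sylQ) := by
  haveI : Fact (Nat.Prime 2) := ⟨Nat.prime_two⟩
  have hp : IsPGroup 2 (grp 315 sylQ) :=
    IsPGroup.of_card (n := 5) (by rw [card_grp sylQ_chk, sylQ_order]; norm_num)
  haveI : Group.IsNilpotent (grp 315 sylQ) := hp.isNilpotent
  have hz : zQP ∈ Subgroup.center (grp 315 sylQ) := Subgroup.mem_center_iff.mpr zQP_central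
  have hle : commutator (grp 315 sylQ) ≤ Subgroup.center (grp 315 sylQ) := by
    rw [commutator_def, Subgroup.commutator_le]
    intro a _ b _
    rcases sylQ_rel a b with h | h
    · rw [show ⁅a, b⁆ = 1 from commutatorElement_eq_one_iff_mul_comm.mpr h]; exact one_mem _
    · have : ⁅a, b⁆ = zQP := by
        rw [commutatorElement_def, h]; group
      rw [this]; exact hz
  have hne : commutator (grp 315 sylQ) ≠ ⊥ := by
    intro h
    have htop : Subgroup.center (grp 315 sylQ) = ⊤ := by
      rw [eq_top_iff]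
      intro x _
      rw [Subgroup.mem_center_iff]
      intro y
      have : ⁅y, x⁆ ∈ commutator (grp 315 sylQ) :=
        Subgroup.commutator_mem_commutator (Subgroup.mem_top _) (Subgroup.mem_top _)
      rw [h, Subgroup.mem_bot] at this
      exact commutatorElement_eq_one_iff_mul_comm.mp this
    have h2 := card_center_sylQ
    rw [htop, Subgroup.card_top, card_grp sylQ_chk, sylQ_order] at h2
    norm_num at h2
  have hcomm : commutator (grp 315 sylQ) = Subgroup.center (grp 315 sylQ) := by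
    refine Subgroup.eq_of_le_of_card_ge hle ?_
    rw [card_center_sylQ]
    exact Nat.succ_le_of_lt ((Subgroup.one_lt_card_iff_ne_bot _).mpr hne)
  have hsq : ∀ x : grp 315 sylQ, x ^ 2 ∈ Subgroup.center (grp 315 sylQ) := by
    intro x
    obtain ⟨js, hjs, he⟩ := exists_idx sylQ_chk x.2
    have hr : Repr (x : Perm (Fin 315)) (sift sylQ js) := he ▸ (sift_spec sylQ_chk js).1
    have hc := List.all_eq_true.mp commOk_eq js hjs
    simp only [Bool.and_eq_true, List.all_eq_true, Bool.or_eq_true] at hc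
    rw [pow_two]
    rcases hc.2 with h | h
    · rw [show x * x = 1 from Subtype.ext ((hr.mul hr).eq Repr.one (eqOn_iff.mp h))]; exact one_mem _
    · rw [show x * x = zQP from Subtype.ext ((hr.mul hr).eq zQP_repr (eqOn_iff.mp h))]; exact hz
  refine ⟨⟨hp, le_antisymm (LocalEven.frattini_le_of_quotient_elementary (p := 2) hle hsq) ?_, hcomm⟩,
    card_center_sylQ⟩
  rw [← hcomm]
  exact Cores.commutator_le_frattini

theorem sylQ_le_rest : grp 315 sylQ ≤ grp 315 certRest :=
  (grp_le_of_subOk syl_chk sylQ_sub).trans syl_le_rest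

theorem rest_shape : IsRefCentShape (grp 315 certRest) := by
  haveI : Fact (Nat.Prime 5) := ⟨by norm_num⟩
  set Q : Subgroup (grp 315 certRest) := (grp 315 sylQ).subgroupOf (grp 315 certRest) with hQdef
  haveI hN : Q.Normal := ⟨fun x hx g => Subgroup.mem_subgroupOf.mpr
    (rest_normalizes_Q g.2 _ (Subgroup.mem_subgroupOf.mp hx))⟩
  have hcQ : Nat.card Q = 32 := by
    rw [hQdef, Nat.card_congr (Subgroup.subgroupOfEquivOfLe sylQ_le_rest).toEquiv, card_grp sylQ_chk,
      sylQ_order]
  have h60 : Nat.card (grp 315 certRest ⧸ Q) = 60 := by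
    have h := Subgroup.card_eq_card_quotient_mul_card_subgroup Q
    rw [hcQ, card_grp rest_chk, rest_order] at h
    omega
  obtain ⟨P⟩ : Nonempty (Sylow 5 (grp 315 certRest ⧸ Q)) := inferInstance
  have hok := fiveOk_eq
  simp only [fiveOk, Bool.and_eq_true, List.all_eq_true, Bool.not_eq_true'] at hok
  obtain ⟨⟨ha5, hb5⟩, hab⟩ := hok
  let a : grp 315 certRest := ⟨_, (sift_spec rest_chk [1, 1, 1]).2⟩
  let b : grp 315 certRest := ⟨_, (sift_spec rest_chk [1, 2, 1]).2⟩
  have hra : Repr (a : Perm (Fin 315)) (sift certRest [1, 1, 1]) := (sift_spec rest_chk _).1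
  have hrb : Repr (b : Perm (Fin 315)) (sift certRest [1, 2, 1]) := (sift_spec rest_chk _).1
  have ha : a ^ 5 = 1 := Subtype.ext ((J2.repr_pow hra 5).eq Repr.one (eqOn_iff.mp ha5))
  have hb : b ^ 5 = 1 := Subtype.ext ((J2.repr_pow hrb 5).eq Repr.one (eqOn_iff.mp hb5))
  have hP : ¬ (P : Subgroup (grp 315 certRest ⧸ Q)).Normal := by
    intro hPn
    haveI := Sylow.unique_of_normal P hPn
    have hmem : ∀ x : grp 315 certRest, x ^ 5 = 1 → (QuotientGroup.mk' Q x) ∈ (P : Subgroup _) := by
      intro x hx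
      have hx' : QuotientGroup.mk' Q x ^ 5 = 1 := by rw [← map_pow, hx, map_one]
      have hpg : IsPGroup 5 (Subgroup.zpowers (QuotientGroup.mk' Q x)) := by
        have hd : orderOf (QuotientGroup.mk' Q x) ∣ 5 ^ 1 :=
          (pow_one 5).symm ▸ orderOf_dvd_of_pow_eq_one hx'
        obtain ⟨k, -, hk⟩ := (Nat.dvd_prime_pow (show Nat.Prime 5 by norm_num)).mp hd
        exact IsPGroup.of_card (n := k) (by rw [Nat.card_zpowers, hk])
      obtain ⟨R, hR⟩ := hpg.exists_le_sylow
      rw [Subsingleton.elim P R]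
      exact hR (Subgroup.mem_zpowers _)
    have hPc : Nat.card (P : Subgroup (grp 315 certRest ⧸ Q)) = 5 :=
      sylow_card_eq_prime P (by rw [h60]; norm_num) (by rw [h60]; norm_num)
    haveI : IsCyclic (P : Subgroup (grp 315 certRest ⧸ Q)) := isCyclic_of_prime_card hPc
    let xa : (P : Subgroup (grp 315 certRest ⧸ Q)) := ⟨_, hmem a ha⟩
    let xb : (P : Subgroup (grp 315 certRest ⧸ Q)) := ⟨_, hmem b hb⟩
    have hcomm : (xa : grp 315 certRest ⧸ Q) * xb = xb * xa :=
      congrArg Subtype.val (IsCyclic.isMulCommutative.is_comm.comm xa xb)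
    simp only [xa, xb] at hcomm
    simp only [Subgroup.coe_mul, ← map_mul, QuotientGroup.mk'_apply] at hcomm
    rw [← QuotientGroup.mk_mul, ← QuotientGroup.mk_mul, QuotientGroup.eq] at hcomm
    have hq := Subgroup.mem_subgroupOf.mp (Q.inv_mem hcomm)
    obtain ⟨js, hjs, he⟩ := exists_idx sylQ_chk hq
    have hrq := he ▸ (sift_spec sylQ_chk js).1
    have hd := hab js hjs
    rw [← Bool.not_eq_true, eqOn_iff] at hd
    refine hd fun i hi => ?_
    have e : ((a : Perm (Fin 315)) * (b : Perm (Fin 315))) =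
        ((b : Perm (Fin 315)) * ((a : Perm (Fin 315)) *
          ((((a * b)⁻¹ * (b * a))⁻¹ : grp 315 certRest) : Perm (Fin 315)))) := by
      simp only [Subgroup.coe_inv, Subgroup.coe_mul]
      group
    have := congrArg (fun u : Perm (Fin 315) => ((u ⟨i, hi⟩ : Fin 315) : ℕ)) e
    rw [(hra.mul hrb) ⟨i, hi⟩, (hrb.mul (hra.mul hrq)) ⟨i, hi⟩] at this
    exact this
  haveI := isSimpleGroup_of_card_sixty h60 P hP
  exact ⟨Q, hN, hcQ, Cfsg.Agent.Lib.Classification.isExtraspecial_of_mulEquiv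
    (Subgroup.subgroupOfEquivOfLe sylQ_le_rest).symm sylQ_extraspecial, Cfsg.Agent.S0494.result h60⟩

/-- The central involution in `GP`. -/
noncomputable def zG : GP := ⟨zP, syl_le zP_spec.2⟩

theorem centralizer_zG : Subgroup.centralizer ({zG} : Set GP) = (grp 315 certRest).subgroupOf GP := by
  ext g
  rw [Subgroup.mem_centralizer_singleton_iff, Subgroup.mem_subgroupOf]
  exact ⟨fun h => centralizer_zP g.2 (congrArg Subtype.val h), fun h => Subtype.ext (commute_zP h)⟩

/-- The image of a member of the reflection group among the 315-point permutations. -/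
theorem j2Equiv_mk (g : twoJ2) (h : (g : Equiv.Perm icoLeech) ∈ genGrp) :
    ((j2Equiv (QuotientGroup.mk g) : GP) : Perm (Fin 315)) = toLines ⟨g, h⟩ := rfl

theorem exists_base_refl : ∃ (f : Equiv.Perm icoLeech) (hf : f ∈ twoJ2), IsIcoReflection f ∧
    j2Equiv (QuotientGroup.mk ⟨f, hf⟩) = zG := by
  have hb : cert0.base < 315 := base_lt
  obtain ⟨f, hf, hfx⟩ := exists_refl (lvec_mem hb) (lvec_norm hb)
  refine ⟨f, hf, ⟨⟨lvec cert0.base, lvec_mem hb⟩, lvec_norm hb, hfx⟩, ?_⟩
  have hfG : f ∈ genGrp := twoJ2_eq ▸ hf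
  set σ := toLines ⟨f, hfG⟩ with hσdef
  have hσG : σ ∈ GP := show σ ∈ grp 315 cert from range_toLines ▸ ⟨_, rfl⟩
  have hcomm : ∀ τ ∈ grp 315 certRest, σ * τ = τ * σ := by
    intro τ hτ
    obtain ⟨g, rfl⟩ : τ ∈ toLines.range := range_toLines.symm ▸ (rest_le hτ : τ ∈ GP)
    have hfixb : toLines g basePt = basePt := ((mem_grp_rest_iff cert_hc basePt rfl _).mp hτ).2
    obtain ⟨u, hu, k, hk, e⟩ := (genGrp_isIso g.2).map_line hb
    have h1 : lineMap (g : Equiv.Perm icoLeech) basePt = (⟨k, hk⟩ : Fin 315) := lineMap_eq hu e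
    have hkb : k = cert0.base := congrArg Fin.val (h1.symm.trans hfixb)
    subst hkb
    have hgf : (g : Equiv.Perm icoLeech) * f * (g : Equiv.Perm icoLeech)⁻¹ = f := by
      refine Equiv.ext fun x => Subtype.ext ?_
      rw [conj_refl (twoJ2_eq.symm ▸ g.2) (v := ⟨lvec cert0.base, lvec_mem hb⟩) hfx x, e,
        qrefl_unit_smul hu, hfx]
    have hgf' : (⟨f, hfG⟩ : genGrp) * g = g * ⟨f, hfG⟩ :=
      Subtype.ext (mul_inv_eq_iff_eq_mul.mp hgf).symm
    rw [hσdef, ← map_mul, hgf', map_mul]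
  have hσrest : σ ∈ grp 315 certRest :=
    centralizer_zP hσG (hcomm _ (syl_le_rest zP_spec.2))
  have hσsyl : σ ∈ grp 315 syl := centralizer_Q hσrest fun q hq => hcomm q (sylQ_le_rest hq)
  refine Subtype.ext ((j2Equiv_mk ⟨f, hf⟩ hfG).trans ?_)
  refine (center_syl hσsyl fun y hy => hcomm y (syl_le_rest hy)).resolve_left fun h1 => ?_
  have hc : (⟨f, hfG⟩ : genGrp) ∈ Subgroup.center genGrp := center_genGrp ▸ h1
  obtain ⟨a, ha⟩ : ∃ a : Fin 315, a ≠ ⟨cert0.base, hb⟩ := exists_ne _
  obtain ⟨g, hg, u, hu, e⟩ := exists_map_line ⟨cert0.base, hb⟩ a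
  refine ha (lineRefl_injective fun x => ?_)
  have := conj_refl hg (v := ⟨lvec cert0.base, lvec_mem hb⟩) hfx x
  rw [e, qrefl_unit_smul hu] at this
  rw [← this, ← hfx x]
  have hcg : g * f = f * g :=
    congrArg Subtype.val (Subgroup.mem_center_iff.mp hc ⟨g, twoJ2_eq ▸ hg⟩)
  rw [hcg, mul_inv_cancel_right]

theorem refl_centralizer (f : Equiv.Perm icoLeech) (hf : IsIcoReflection f) (hfm : f ∈ twoJ2) :
    IsRefCentShape (Subgroup.centralizer ({(QuotientGroup.mk ⟨f, hfm⟩ : J2)} : Set J2)) := by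
  obtain ⟨f₀, hf₀, hr₀, he⟩ := exists_base_refl
  obtain ⟨g, hg, hgf⟩ := refl_conjugate f₀ f hr₀ hf
  let φ : GP ≃* J2 := j2Equiv.symm.trans (MulAut.conj (QuotientGroup.mk ⟨g, hg⟩ : J2))
  have hz : φ zG = QuotientGroup.mk ⟨f, hfm⟩ := by
    rw [← he]
    show MulAut.conj _ (j2Equiv.symm (j2Equiv _)) = _
    rw [MulEquiv.symm_apply_apply, MulAut.conj_apply]
    exact congrArg QuotientGroup.mk (Subtype.ext hgf : (⟨g, hg⟩ : twoJ2) * ⟨f₀, hf₀⟩ * ⟨g, hg⟩⁻¹ = ⟨f, hfm⟩)
  rw [← hz]
  refine IsRefCentShape.of_equiv (centralizerEquiv φ zG) (IsRefCentShape.of_equiv ?_ rest_shape)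
  exact (Subgroup.subgroupOfEquivOfLe rest_le).symm.trans (MulEquiv.subgroupCongr centralizer_zG.symm)

end J2

end Cfsg.Agent.Lib.Recognition
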