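import Cfsg.Agent.Lib.Recognition.J2CheckSmall

/-!
Kernel evaluation of the action on the lines.
-/

set_option autoImplicit false
set_option maxRecDepth 100000
set_option maxHeartbeats 0

namespace Cfsg.Agent.Lib.Recognition.J2

open Cfsg.Agent.Lib.Compute

theorem actOk0_eq : actOk 0 = true := by decide +kernel

theorem actOk1_eq : actOk 1 = true := by decide +kernel

theorem actOk2_eq : actOk 2 = true := by decide +kernel

theorem actOk3_eq : actOk 3 = true := by decide +kernel

theorem actOk_eq {j : ℕ} (hj : j < 4) : actOk j = true := by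
  rcases (show j = 0 ∨ j = 1 ∨ j = 2 ∨ j = 3 by omega) with rfl | rfl | rfl | rfl
  exacts [actOk0_eq, actOk1_eq, actOk2_eq, actOk3_eq]

end Cfsg.Agent.Lib.Recognition.J2
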