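import Cfsg.Agent.Lib.Recognition.J2CheckAct

/-!
Kernel evaluation of the certificate.
-/

set_option autoImplicit false
set_option maxRecDepth 100000
set_option maxHeartbeats 0

namespace Cfsg.Agent.Lib.Recognition.J2

open Cfsg.Agent.Lib.Compute

theorem wit0_0 : witPart 315 cert0 certRest 0 0 80 = true := by decide +kernel

theorem wit0_1 : witPart 315 cert0 certRest 0 80 80 = true := by decide +kernel

theorem wit0_2 : witPart 315 cert0 certRest 0 160 80 = true := by decide +kernel

theorem wit0_3 : witPart 315 cert0 certRest 0 240 75 = true := by decide +kernel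

theorem wit1_0 : witPart 315 cert0 certRest 1 0 80 = true := by decide +kernel

theorem wit1_1 : witPart 315 cert0 certRest 1 80 80 = true := by decide +kernel

theorem wit1_2 : witPart 315 cert0 certRest 1 160 80 = true := by decide +kernel

theorem wit1_3 : witPart 315 cert0 certRest 1 240 75 = true := by decide +kernel

theorem wit2_0 : witPart 315 cert0 certRest 2 0 80 = true := by decide +kernel

theorem wit2_1 : witPart 315 cert0 certRest 2 80 80 = true := by decide +kernel

theorem wit2_2 : witPart 315 cert0 certRest 2 160 80 = true := by decide +kernel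

theorem wit2_3 : witPart 315 cert0 certRest 2 240 75 = true := by decide +kernel

theorem wit3_0 : witPart 315 cert0 certRest 3 0 80 = true := by decide +kernel

theorem wit3_1 : witPart 315 cert0 certRest 3 80 80 = true := by decide +kernel

theorem wit3_2 : witPart 315 cert0 certRest 3 160 80 = true := by decide +kernel

theorem wit3_3 : witPart 315 cert0 certRest 3 240 75 = true := by decide +kernel

theorem tree0_eq : treeOk 315 cert0 = true := by decide +kernel

theorem rest_chk : chk 315 certRest = true := by decide +kernel

theorem misc_eq : decide (cert0.base < 315) = true ∧ cert0.gens.all (genOk 315) = true ∧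
    decide (orbit cert0).Nodup = true ∧ nextOk cert0 certRest = true ∧ decide (cert0.gens.length = 4) = true ∧
    decide (cert0.trans.length = 314) = true := by decide +kernel

theorem witOk_of_parts {L : Lvl} {next : List Lvl} {n : ℕ} (hl : L.gens.length = 4) (ht : L.trans.length = 314)
    (h : ∀ s < 4, witPart n L next s 0 80 = true ∧ witPart n L next s 80 80 = true ∧
      witPart n L next s 160 80 = true ∧ witPart n L next s 240 75 = true) : witOk n L next = true := by
  unfold witOk
  rw [List.all_eq_true]
  intro s hs
  rw [List.mem_range, hl] at hs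
  obtain ⟨h1, h2, h3, h4⟩ := h s hs
  unfold witPart at h1 h2 h3 h4
  cases hg : L.gens[s]? with
  | none => simp [hg] at h1
  | some g =>
    cases hw : L.wit[s]? with
    | none => simp [hg, hw] at h1
    | some row =>
      simp only [hg, hw, List.all_eq_true] at h1 h2 h3 h4 ⊢
      intro j hj
      rw [List.mem_range, ht] at hj
      by_cases c1 : j < 80
      · exact h1 j (List.mem_range'_1.mpr ⟨by omega, by omega⟩)
      by_cases c2 : j < 160
      · exact h2 j (List.mem_range'_1.mpr ⟨by omega, by omega⟩)
      by_cases c3 : j < 240
      · exact h3 j (List.mem_range'_1.mpr ⟨by omega, by omega⟩)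
      exact h4 j (List.mem_range'_1.mpr ⟨by omega, by omega⟩)

theorem cert_eq : cert = cert0 :: certRest := rfl

theorem cert_chk : chk 315 cert = true := by
  obtain ⟨h1, h2, h3, h4, h5, h6⟩ := misc_eq
  have hw : witOk 315 cert0 certRest = true := by
    refine witOk_of_parts (of_decide_eq_true h5) (of_decide_eq_true h6) fun s hs => ?_
    rcases (show s = 0 ∨ s = 1 ∨ s = 2 ∨ s = 3 by omega) with rfl | rfl | rfl | rfl
    exacts [⟨wit0_0, wit0_1, wit0_2, wit0_3⟩, ⟨wit1_0, wit1_1, wit1_2, wit1_3⟩,
      ⟨wit2_0, wit2_1, wit2_2, wit2_3⟩, ⟨wit3_0, wit3_1, wit3_2, wit3_3⟩]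
  rw [cert_eq]
  simp only [chk, lvlOk, h1, h2, h3, h4, tree0_eq, hw, rest_chk, Bool.and_self]

theorem gen_slpOk : slpOk 315 genBase genSteps = true := by decide +kernel

theorem gen_covers : slpCovers genBase genSteps cert = true := by decide +kernel

theorem gen_mem : (List.range genBase.length).all (fun k => memOk 315 cert (genBase.getD k 0) (genWit.getD k [])) = true := by
  decide +kernel

end Cfsg.Agent.Lib.Recognition.J2
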