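import Cfsg.Agent.Lib.Recognition.J2CheckCert

/-!
Kernel evaluation of the element orders.
-/

set_option autoImplicit false
set_option maxRecDepth 100000
set_option maxHeartbeats 0

namespace Cfsg.Agent.Lib.Recognition.J2

open Cfsg.Agent.Lib.Compute

theorem expOk0_eq : expOk 0 = true := by decide +kernel

theorem expOk1_eq : expOk 1 = true := by decide +kernel

theorem expOk2_eq : expOk 2 = true := by decide +kernel

theorem expOk3_eq : expOk 3 = true := by decide +kernel

theorem expOk4_eq : expOk 4 = true := by decide +kernel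

theorem expOk5_eq : expOk 5 = true := by decide +kernel

theorem expOk_eq {i : ℕ} (hi : i < 6) : expOk i = true := by
  rcases (show i = 0 ∨ i = 1 ∨ i = 2 ∨ i = 3 ∨ i = 4 ∨ i = 5 by omega) with rfl | rfl | rfl | rfl | rfl | rfl
  exacts [expOk0_eq, expOk1_eq, expOk2_eq, expOk3_eq, expOk4_eq, expOk5_eq]

end Cfsg.Agent.Lib.Recognition.J2
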