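import Cfsg.Agent.Lib.Recognition.J2Checks

/-!
Kernel enumeration of the small icosians.
-/

set_option autoImplicit false
set_option maxRecDepth 100000
set_option maxHeartbeats 0

namespace Cfsg.Agent.Lib.Recognition.J2

open Cfsg.Agent.Lib.Compute

theorem enumOk_eq : enumOk = true := by decide +kernel

theorem small_m4_p0 : smallAt (-4) (0) = true := by decide +kernel

theorem small_m3_m2 : smallAt (-3) (-2) = true := by decide +kernel

theorem small_m3_m1 : smallAt (-3) (-1) = true := by decide +kernel

theorem small_m3_p0 : smallAt (-3) (0) = true := by decide +kernel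

theorem small_m3_p1 : smallAt (-3) (1) = true := by decide +kernel

theorem small_m3_p2 : smallAt (-3) (2) = true := by decide +kernel

theorem small_m2_m3 : smallAt (-2) (-3) = true := by decide +kernel

theorem small_m2_m2 : smallAt (-2) (-2) = true := by decide +kernel

theorem small_m2_m1 : smallAt (-2) (-1) = true := by decide +kernel

theorem small_m2_p0 : smallAt (-2) (0) = true := by decide +kernel

theorem small_m2_p1 : smallAt (-2) (1) = true := by decide +kernel

theorem small_m2_p2 : smallAt (-2) (2) = true := by decide +kernel

theorem small_m2_p3 : smallAt (-2) (3) = true := by decide +kernel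

theorem small_m1_m3 : smallAt (-1) (-3) = true := by decide +kernel

theorem small_m1_m2 : smallAt (-1) (-2) = true := by decide +kernel

theorem small_m1_m1 : smallAt (-1) (-1) = true := by decide +kernel

theorem small_m1_p0 : smallAt (-1) (0) = true := by decide +kernel

theorem small_m1_p1 : smallAt (-1) (1) = true := by decide +kernel

theorem small_m1_p2 : smallAt (-1) (2) = true := by decide +kernel

theorem small_m1_p3 : smallAt (-1) (3) = true := by decide +kernel

theorem small_p0_m4 : smallAt (0) (-4) = true := by decide +kernel

theorem small_p0_m3 : smallAt (0) (-3) = true := by decide +kernel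

theorem small_p0_m2 : smallAt (0) (-2) = true := by decide +kernel

theorem small_p0_m1 : smallAt (0) (-1) = true := by decide +kernel

theorem small_p0_p0 : smallAt (0) (0) = true := by decide +kernel

theorem small_p0_p1 : smallAt (0) (1) = true := by decide +kernel

theorem small_p0_p2 : smallAt (0) (2) = true := by decide +kernel

theorem small_p0_p3 : smallAt (0) (3) = true := by decide +kernel

theorem small_p0_p4 : smallAt (0) (4) = true := by decide +kernel

theorem small_p1_m3 : smallAt (1) (-3) = true := by decide +kernel

theorem small_p1_m2 : smallAt (1) (-2) = true := by decide +kernel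

theorem small_p1_m1 : smallAt (1) (-1) = true := by decide +kernel

theorem small_p1_p0 : smallAt (1) (0) = true := by decide +kernel

theorem small_p1_p1 : smallAt (1) (1) = true := by decide +kernel

theorem small_p1_p2 : smallAt (1) (2) = true := by decide +kernel

theorem small_p1_p3 : smallAt (1) (3) = true := by decide +kernel

theorem small_p2_m3 : smallAt (2) (-3) = true := by decide +kernel

theorem small_p2_m2 : smallAt (2) (-2) = true := by decide +kernel

theorem small_p2_m1 : smallAt (2) (-1) = true := by decide +kernel

theorem small_p2_p0 : smallAt (2) (0) = true := by decide +kernel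

theorem small_p2_p1 : smallAt (2) (1) = true := by decide +kernel

theorem small_p2_p2 : smallAt (2) (2) = true := by decide +kernel

theorem small_p2_p3 : smallAt (2) (3) = true := by decide +kernel

theorem small_p3_m2 : smallAt (3) (-2) = true := by decide +kernel

theorem small_p3_m1 : smallAt (3) (-1) = true := by decide +kernel

theorem small_p3_p0 : smallAt (3) (0) = true := by decide +kernel

theorem small_p3_p1 : smallAt (3) (1) = true := by decide +kernel

theorem small_p3_p2 : smallAt (3) (2) = true := by decide +kernel

theorem small_p4_p0 : smallAt (4) (0) = true := by decide +kernel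

theorem allSmall_eq : allSmall = true := by
  simp only [allSmall, vals, List.all_cons, List.all_nil, Bool.and_eq_true, and_true]
  refine ⟨⟨(by decide +kernel), (by decide +kernel), (by decide +kernel), (by decide +kernel), small_m4_p0, (by decide +kernel), (by decide +kernel), (by decide +kernel), (by decide +kernel)⟩, ⟨(by decide +kernel), (by decide +kernel), small_m3_m2, small_m3_m1, small_m3_p0, small_m3_p1, small_m3_p2, (by decide +kernel), (by decide +kernel)⟩, ⟨(by decide +kernel), small_m2_m3, small_m2_m2, small_m2_m1, small_m2_p0, small_m2_p1, small_m2_p2, small_m2_p3, (by decide +kernel)⟩, ⟨(by decide +kernel), small_m1_m3, small_m1_m2, small_m1_m1, small_m1_p0, small_m1_p1, small_m1_p2, small_m1_p3, (by decide +kernel)⟩, ⟨small_p0_m4, small_p0_m3, small_p0_m2, small_p0_m1, small_p0_p0, small_p0_p1, small_p0_p2, small_p0_p3, small_p0_p4⟩, ⟨(by decide +kernel), small_p1_m3, small_p1_m2, small_p1_m1, small_p1_p0, small_p1_p1, small_p1_p2, small_p1_p3, (by decide +kernel)⟩, ⟨(by decide +kernel), small_p2_m3, small_p2_m2, small_p2_m1, small_p2_p0, small_p2_p1, small_p2_p2, small_p2_p3, (by decide +kernel)⟩, ⟨(by decide +kernel), (by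 decide +kernel), small_p3_m2, small_p3_m1, small_p3_p0, small_p3_p1, small_p3_p2, (by decide +kernel), (by decide +kernel)⟩, ⟨(by decide +kernel), (by decide +kernel), (by decide +kernel), (by decide +kernel), small_p4_p0, (by decide +kernel), (by decide +kernel), (by decide +kernel), (by decide +kernel)⟩⟩

end Cfsg.Agent.Lib.Recognition.J2
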