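import Cfsg.Agent.Lib.Recognition.J2Defs

/-!
Kernel evaluation of the checks for the Hall-Janko model.
-/

set_option autoImplicit false
set_option maxRecDepth 100000
set_option maxHeartbeats 0

namespace Cfsg.Agent.Lib.Recognition.J2

open Cfsg.Agent.Lib.Compute

theorem unitsOk_eq : unitsOk = true := by decide +kernel
theorem basisSumsOk_eq : basisSumsOk = true := by decide +kernel
theorem bucketsOk_eq : bucketsOk = true := by decide +kernel
theorem linesOk_eq : linesOk = true := by decide +kernel
theorem repsOk_eq : repsOk = true := by decide +kernel
theorem presOk_eq : (List.range 4).all presOk = true := by decide +kernel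
theorem frameOk_eq : frameOk = true := by decide +kernel
theorem treeLinesOk_eq : treeLinesOk = true := by decide +kernel
theorem fixOneOk_eq : fixOneOk = true := by decide +kernel
theorem subOk_eq : subOk = true := by decide +kernel

end Cfsg.Agent.Lib.Recognition.J2
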