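import Cfsg.Agent.Lib.Recognition.J2Lattice
import Cfsg.Agent.Lib.Recognition.J2CheckExp
import Cfsg.Agent.Lib.Recognition.CertClosure

/-!
`2·J₂` acting on the 315 lines of minimal vectors.
-/

set_option autoImplicit false

namespace Cfsg.Agent.Lib.Recognition.J2

open Cfsg.Spor Quaternion Cfsg.Agent.Lib.Compute
open scoped Classical

set_option maxRecDepth 4000

attribute [local irreducible] lineK lineQ genBase cert cert0 certRest table buckets

/-- Vectors. -/
abbrev V3 := Fin 3 → ℍ[ℝ]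

theorem qip_add_left (x y r : V3) : qip (x + y) r = qip x r + qip y r := by
  simp only [qip, Fin.sum_univ_three, Pi.add_apply, add_mul]; abel

theorem qip_sub_left (x y r : V3) : qip (x - y) r = qip x r - qip y r := by
  simp only [qip, Fin.sum_univ_three, Pi.sub_apply, sub_mul]; abel

theorem qip_sub_right (x y r : V3) : qip r (x - y) = qip r x - qip r y := by
  simp only [qip, Fin.sum_univ_three, Pi.sub_apply, star_sub, mul_sub]; abel

theorem qip_smul_left (a : ℍ[ℝ]) (x r : V3) : qip (a • x) r = a * qip x r := by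
  simp [qip, Fin.sum_univ_three, mul_add, mul_assoc]

theorem qip_smul_right (a : ℍ[ℝ]) (x r : V3) : qip r (a • x) = qip r x * star a := by
  simp [qip, Fin.sum_univ_three, add_mul, mul_assoc]

theorem star_qip (x r : V3) : star (qip x r) = qip r x := by
  simp [qip, Fin.sum_univ_three]

/-- The coefficient of a reflection. -/
noncomputable def coef (r x : V3) : ℍ[ℝ] := (1 / 2 : ℝ) • qip x r

theorem qrefl_eq (r x : V3) : qrefl r x = x - coef r x • r := rfl

theorem qrefl_qrefl {r : V3} (hr : qip r r = 4) (x : V3) : qrefl r (qrefl r x) = x := by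
  have h : coef r (qrefl r x) = -coef r x := by
    rw [qrefl_eq, coef, qip_sub_left, qip_smul_left, hr, coef]
    rw [show (4 : ℍ[ℝ]) = ((4 : ℝ) : ℍ[ℝ]) by norm_cast, Quaternion.mul_coe_eq_smul, smul_smul, smul_sub, smul_smul]
    rw [← sub_smul, ← neg_smul]; norm_num
  rw [qrefl_eq r (qrefl r x), h, qrefl_eq, neg_smul, sub_neg_eq_add, sub_add_cancel]

theorem qip_qrefl {r : V3} (hr : qip r r = 4) (x y : V3) : qip (qrefl r x) (qrefl r y) = qip x y := by
  simp only [qrefl_eq, qip_sub_left, qip_sub_right, qip_smul_left, qip_smul_right, hr, coef]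
  rw [← star_qip y r]
  simp only [Quaternion.star_smul, show (4 : ℍ[ℝ]) = ((4 : ℝ) : ℍ[ℝ]) by norm_cast, Quaternion.coe_mul_eq_smul,
    smul_mul_assoc, mul_smul_comm, smul_smul, star_qip]
  ext <;> simp <;> ring

/-- The reflection as a linear equivalence. -/
noncomputable def reflL (r : V3) (hr : qip r r = 4) : V3 ≃ₗ[ℍ[ℝ]] V3 where
  toFun := qrefl r
  map_add' x y := by
    simp only [qrefl_eq, coef, qip_add_left, smul_add, add_smul]; abel
  map_smul' a x := by
    simp only [RingHom.id_apply, qrefl_eq, coef, qip_smul_left, ← mul_smul_comm, mul_smul, smul_sub]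
  invFun := qrefl r
  left_inv := qrefl_qrefl hr
  right_inv := qrefl_qrefl hr

/-- Permutations of the lattice coming from isometries. -/
def IsIso (g : Equiv.Perm icoLeech) : Prop :=
  ∃ T : V3 ≃ₗ[ℍ[ℝ]] V3, (∀ x y, qip (T x) (T y) = qip x y) ∧ ∀ x : icoLeech, ((g x : icoLeech) : V3) = T x

theorem isIso_one : IsIso 1 := ⟨LinearEquiv.refl _ _, fun _ _ => rfl, fun _ => rfl⟩

theorem IsIso.mul {g h : Equiv.Perm icoLeech} (hg : IsIso g) (hh : IsIso h) : IsIso (g * h) := by
  obtain ⟨T, hT, hgT⟩ := hg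
  obtain ⟨S, hS, hhS⟩ := hh
  refine ⟨S.trans T, fun x y => by rw [LinearEquiv.trans_apply, LinearEquiv.trans_apply, hT, hS], fun x => ?_⟩
  rw [Equiv.Perm.mul_apply, hgT, hhS]; rfl

theorem IsIso.inv {g : Equiv.Perm icoLeech} (hg : IsIso g) : IsIso g⁻¹ := by
  obtain ⟨T, hT, hgT⟩ := hg
  refine ⟨T.symm, fun x y => by rw [← hT, T.apply_symm_apply, T.apply_symm_apply], fun x => ?_⟩
  apply T.injective
  rw [T.apply_symm_apply, ← hgT, Equiv.Perm.inv_def, Equiv.apply_symm_apply]

/-- The three module generators of the lattice. -/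
theorem lattice_decomp {x : V3} (hx : x ∈ icoLeech) :
    ∃ c b a, c ∈ icosians ∧ b ∈ icosians ∧ a ∈ icosians ∧
      x = c • vec (hbQ, hbQ, hbQ) + b • vec (hQ, hQ, zQ) + a • vec (zQ, hQ, hQ) := by
  obtain ⟨A, hA, eA⟩ := hx.2.1
  obtain ⟨B, hB, eB⟩ := hx.2.2.1
  obtain ⟨C, hC, eC⟩ := hx.2.2.2
  have hh : icoH ∈ icosians := mem_icosians_iff.mpr ⟨hQ, by decide, ico_hQ⟩
  refine ⟨C - x 1 * icoH, B, -A, sub_mem hC (mul_mem (hx.1 1) hh), hB, neg_mem hA, ?_⟩
  have h2 : x 1 * icoH * star icoH = x 1 + x 1 := by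
    rw [mul_assoc, star_icoH, ← ico_hQ, ico_hQ_mul, mul_two]
  have hc : (C - x 1 * icoH) * star icoH = x 0 + x 2 - x 1 := by
    rw [sub_mul, ← eC, h2]; abel
  funext t
  fin_cases t
  · show x 0 = (C - x 1 * icoH) * ico hbQ + B * ico hQ + (-A) * ico zQ
    rw [← star_icoH, hc, ico_hQ, ← eB, ico_zQ, mul_zero]; abel
  · show x 1 = (C - x 1 * icoH) * ico hbQ + B * ico hQ + (-A) * ico hQ
    rw [← star_icoH, hc, ico_hQ, ← eB, neg_mul, ← eA]; abel
  · show x 2 = (C - x 1 * icoH) * ico hbQ + B * ico zQ + (-A) * ico hQ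
    rw [← star_icoH, hc, ico_hQ, neg_mul, ← eA, ico_zQ, mul_zero]; abel

theorem ico_qipQ (x r : Q5 × Q5 × Q5) : ico (qipQ x r) = (2 : ℝ) • qip (vec x) (vec r) := by
  simp [qipQ, ico_qadd, ico_raw, ico_qconj, qip, vec, Fin.sum_univ_three, smul_add]

theorem coef_of_qipQ {x r : Q5 × Q5 × Q5} {S : Q5} (h : qsmul 4 S = qipQ x r) :
    coef (vec r) (vec x) = ico S := by
  have h1 := congrArg ico h
  rw [ico_qsmul, ico_qipQ] at h1
  rw [coef]
  apply smul_right_injective ℍ[ℝ] (four_ne_zero : (4 : ℝ) ≠ 0)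
  show (4 : ℝ) • _ = (4 : ℝ) • _
  rw [smul_smul]; push_cast at h1; rw [h1]; norm_num

theorem genV_eq (j : ℕ) : genV j = lineQ (genIdx.getD j 0) := rfl

theorem genIdx_lt {j : ℕ} (hj : j < 4) : genIdx.getD j 0 < 315 := by
  rcases (show j = 0 ∨ j = 1 ∨ j = 2 ∨ j = 3 by omega) with rfl | rfl | rfl | rfl <;> decide +kernel

theorem genV_norm {j : ℕ} (hj : j < 4) : qip (vec (genV j)) (vec (genV j)) = 4 :=
  lvec_norm (genIdx_lt hj)

theorem qrefl_mem {j : ℕ} (hj : j < 4) {x : V3} (hx : x ∈ icoLeech) :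
    qrefl (vec (genV j)) x ∈ icoLeech := by
  have hgen : ∀ X ∈ latGens, qrefl (vec (genV j)) (vec X) ∈ icoLeech := by
    intro X hX
    have h := List.all_eq_true.mp presOk_eq j (List.mem_range.mpr hj)
    simp only [presOk, List.all_eq_true, Bool.and_eq_true, qeq_iff] at h
    obtain ⟨⟨⟨⟨hS, h1⟩, h2⟩, h3⟩, h4⟩ := h X hX
    convert vec_mem h4 using 1
    rw [qrefl_eq, coef_of_qipQ hS]
    funext t
    fin_cases t <;> simp [vec, ico_qsub] <;> apply ico_mul_of_raw
    exacts [h1.symm, h2.symm, h3.symm]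
  obtain ⟨c, b, a, hc, hb, ha, rfl⟩ := lattice_decomp hx
  show reflL (vec (genV j)) (genV_norm hj) _ ∈ icoLeech
  simp only [map_add, map_smul]
  refine icoLeech_add (icoLeech_add (icoLeech_smul hc (hgen _ ?_)) (icoLeech_smul hb (hgen _ ?_)))
    (icoLeech_smul ha (hgen _ ?_)) <;> simp [latGens]

/-- A generating reflection. -/
noncomputable def sGen (j : ℕ) : Equiv.Perm icoLeech :=
  if hj : j < 4 then
    { toFun := fun x => ⟨qrefl (vec (genV j)) x, qrefl_mem hj x.2⟩
      invFun := fun x => ⟨qrefl (vec (genV j)) x, qrefl_mem hj x.2⟩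
      left_inv := fun x => Subtype.ext (qrefl_qrefl (genV_norm hj) _)
      right_inv := fun x => Subtype.ext (qrefl_qrefl (genV_norm hj) _) }
  else 1

theorem sGen_apply {j : ℕ} (hj : j < 4) (x : icoLeech) :
    ((sGen j x : icoLeech) : V3) = qrefl (vec (genV j)) x := by
  simp [sGen, hj]

theorem isIso_sGen {j : ℕ} (hj : j < 4) : IsIso (sGen j) :=
  ⟨reflL _ (genV_norm hj), qip_qrefl (genV_norm hj), sGen_apply hj⟩

theorem isIcoReflection_sGen {j : ℕ} (hj : j < 4) : IsIcoReflection (sGen j) :=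
  ⟨⟨vec (genV j), lvec_mem (genIdx_lt hj)⟩, genV_norm hj, sGen_apply hj⟩

/-- The group generated by the four reflections. -/
noncomputable def genGrp : Subgroup (Equiv.Perm icoLeech) := Subgroup.closure (sGen '' {j | j < 4})

theorem genGrp_isIso {g : Equiv.Perm icoLeech} (hg : g ∈ genGrp) : IsIso g := by
  induction hg using Subgroup.closure_induction with
  | mem x hx => obtain ⟨j, hj, rfl⟩ := hx; exact isIso_sGen hj
  | one => exact isIso_one
  | mul _ _ _ _ h1 h2 => exact h1.mul h2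
  | inv _ _ h => exact h.inv

theorem act_spec {j l : ℕ} (hj : j < 4) (hl : l < 315) :
    app (genP j) l < 315 ∧ ∃ u ∈ units, qrefl (vec (genV j)) (lvec l) = u • lvec (app (genP j) l) := by
  have h := actOk_eq hj
  simp only [actOk, List.all_eq_true, List.mem_range, Bool.and_eq_true, qeq_iff, Nat.blt_eq] at h
  obtain ⟨⟨⟨⟨⟨hk, hu⟩, hS⟩, h1⟩, h2⟩, h3⟩ := h l hl
  refine ⟨hk, _, ⟨_, hu, rfl⟩, ?_⟩
  rw [qrefl_eq, lvec, coef_of_qipQ hS]
  have key : ∀ {S R U Y X : Q5}, qadd (raw S R) (raw U Y) = qsmul 2 X → ico X - ico S * ico R = ico U * ico Y := by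
    intro S R U Y X e
    have e' := congrArg ico e
    rw [ico_qadd, ico_raw, ico_raw, ico_qsmul, ← smul_add] at e'
    push_cast at e'
    rw [← smul_right_injective ℍ[ℝ] (two_ne_zero : (2 : ℝ) ≠ 0) e']; abel
  funext t
  fin_cases t
  exacts [key h1, key h2, key h3]

theorem IsIso.map_line {g : Equiv.Perm icoLeech} (hg : IsIso g) {l : ℕ} (hl : l < 315) :
    ∃ u ∈ units, ∃ k < 315, ((g ⟨lvec l, lvec_mem hl⟩ : icoLeech) : V3) = u • lvec k := by
  obtain ⟨T, hT, hgT⟩ := hg
  exact exists_line (g ⟨lvec l, lvec_mem hl⟩).2 (by rw [hgT, hT]; exact lvec_norm hl)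

/-- The image line. -/
noncomputable def lineMap (g : Equiv.Perm icoLeech) (l : Fin 315) : Fin 315 :=
  if h : ∃ k : Fin 315, ∃ u ∈ units, ((g ⟨lvec l, lvec_mem l.isLt⟩ : icoLeech) : V3) = u • lvec k then h.choose
  else l

theorem lineMap_eq {g : Equiv.Perm icoLeech} {l k : Fin 315} {u : ℍ[ℝ]} (hu : u ∈ units)
    (h : ((g ⟨lvec l, lvec_mem l.isLt⟩ : icoLeech) : V3) = u • lvec k) : lineMap g l = k := by
  have hex : ∃ k : Fin 315, ∃ u ∈ units, ((g ⟨lvec l, lvec_mem l.isLt⟩ : icoLeech) : V3) = u • lvec k :=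
    ⟨k, u, hu, h⟩
  rw [lineMap, dif_pos hex]
  obtain ⟨v, hv, hv'⟩ := hex.choose_spec
  exact Fin.ext (line_unique hex.choose.isLt k.isLt hv hu (hv'.symm.trans h)).1

theorem lineMap_one (l : Fin 315) : lineMap 1 l = l :=
  lineMap_eq one_mem_units (by simp)

theorem lineMap_mul {g h : Equiv.Perm icoLeech} (hg : IsIso g) (hh : IsIso h) (l : Fin 315) :
    lineMap (g * h) l = lineMap g (lineMap h l) := by
  obtain ⟨u, hu, k, hk, e⟩ := hh.map_line l.isLt
  obtain ⟨v, hv, m, hm, e'⟩ := hg.map_line hk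
  have h1 : lineMap h l = ⟨k, hk⟩ := lineMap_eq hu e
  have h2 : lineMap g ⟨k, hk⟩ = ⟨m, hm⟩ := lineMap_eq hv e'
  rw [h1, h2]
  refine lineMap_eq (u := u * v) (mul_mem_units hu hv) ?_
  obtain ⟨T, -, hgT⟩ := hg
  have e2 : T (lvec k) = v • lvec m := (hgT ⟨lvec k, lvec_mem hk⟩).symm.trans e'
  calc ((g (h ⟨lvec l, lvec_mem l.isLt⟩) : icoLeech) : V3)
      = T ((h ⟨lvec l, lvec_mem l.isLt⟩ : icoLeech) : V3) := hgT _
    _ = T (u • lvec k) := congrArg T e
    _ = u • T (lvec k) := map_smul T u _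
    _ = u • v • lvec m := congrArg (u • ·) e2
    _ = (u * v) • lvec m := smul_smul u v _

theorem isIso_of_twoJ2_aux {g : Equiv.Perm icoLeech} (hg : g ∈ genGrp) (hg' : IsIso g⁻¹) (l : Fin 315) :
    lineMap g (lineMap g⁻¹ l) = l := by
  rw [← lineMap_mul (genGrp_isIso hg) hg', mul_inv_cancel, lineMap_one]

/-- The action on the lines. -/
noncomputable def toLines : genGrp →* Equiv.Perm (Fin 315) where
  toFun g :=
    { toFun := lineMap g
      invFun := lineMap (g : Equiv.Perm icoLeech)⁻¹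
      left_inv := fun l => by
        rw [← lineMap_mul (genGrp_isIso g.2).inv (genGrp_isIso g.2), inv_mul_cancel, lineMap_one]
      right_inv := fun l => isIso_of_twoJ2_aux g.2 (genGrp_isIso g.2).inv l }
  map_one' := Equiv.ext fun l => lineMap_one l
  map_mul' g h := Equiv.ext fun l => lineMap_mul (genGrp_isIso g.2) (genGrp_isIso h.2) l

/-- A generator in the group. -/
noncomputable def sG (j : Fin 4) : genGrp := ⟨sGen j, Subgroup.subset_closure ⟨j, j.isLt, rfl⟩⟩

theorem toLines_sG (j : Fin 4) : Repr (toLines (sG j)) (app (genP j)) := by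
  intro l
  obtain ⟨hk, u, hu, e⟩ := act_spec j.isLt l.isLt
  show ((lineMap (sGen j) l : Fin 315) : ℕ) = _
  rw [lineMap_eq (k := ⟨_, hk⟩) hu (by rw [sGen_apply j.isLt]; exact e)]

theorem toLines_sG_eq (j : Fin 4) : toLines (sG j) = toPerm 315 (genP j) :=
  (repr_toPerm_of_repr (toLines_sG j)).symm

/-- The reflection in a listed line lies in the group generated by the four reflections. -/
theorem exists_lineRefl {l : ℕ} (hl : l < 315) :
    ∃ f ∈ genGrp, ∀ x : icoLeech, ((f x : icoLeech) : V3) = qrefl (lvec l) x := by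
  have h := treeLinesOk_eq
  simp only [treeLinesOk, Bool.and_eq_true, List.all_eq_true, List.mem_range, decide_eq_true_eq] at h
  obtain ⟨⟨hlen, hcov⟩, htree⟩ := h
  suffices key : ∀ k < 315, ∃ f ∈ genGrp, ∀ x : icoLeech,
      ((f x : icoLeech) : V3) = qrefl (lvec (linePts.getD k 0)) x by
    have hm := hcov l hl
    rw [List.contains_iff_mem] at hm
    obtain ⟨k, hk, he⟩ := List.getElem_of_mem hm
    obtain ⟨f, hf, hfx⟩ := key k (hlen ▸ hk)
    rw [← List.getElem_eq_getD 0 (h := hk), he] at hfx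
    exact ⟨f, hf, hfx⟩
  intro k
  induction k using Nat.strong_induction_on with
  | _ k ih =>
    intro hk
    have hk' := htree k hk
    by_cases h4 : k < 4
    · rw [if_pos h4, Nat.beq_eq] at hk'
      refine ⟨sGen k, Subgroup.subset_closure ⟨k, h4, rfl⟩, fun x => ?_⟩
      rw [hk', sGen_apply h4, lvec, ← genV_eq]
    · rw [if_neg h4] at hk'
      simp only [Bool.and_eq_true, Nat.blt_eq, Nat.beq_eq] at hk'
      obtain ⟨⟨hj, hp⟩, he⟩ := hk'
      set j := (lineTree.getD (k - 4) (0, 0)).1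
      set p := (lineTree.getD (k - 4) (0, 0)).2
      obtain ⟨f, hf, hfx⟩ := ih p hp (by omega)
      set a := linePts.getD p 0 with ha
      have hal : a < 315 := by
        have hd : (List.range 315).all (fun k => Nat.blt (linePts.getD k 0) 315) = true := by decide +kernel
        simpa [ha] using List.all_eq_true.mp hd p (List.mem_range.mpr (by omega))
      obtain ⟨-, u, hu, eu⟩ := act_spec hj hal
      rw [he] at eu
      refine ⟨sGen j * f * sGen j, mul_mem (mul_mem (Subgroup.subset_closure ⟨j, hj, rfl⟩) hf)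
        (Subgroup.subset_closure ⟨j, hj, rfl⟩), fun x => ?_⟩
      rw [Equiv.Perm.mul_apply, Equiv.Perm.mul_apply, sGen_apply hj, hfx, sGen_apply hj]
      set r := vec (genV j)
      have hr := genV_norm hj
      set b := lvec (linePts.getD k 0)
      have hb : lvec a = qrefl r (u • b) := by rw [← eu, qrefl_qrefl hr]
      have hq : qip (qrefl r x) (lvec a) = qip (x : V3) (u • b) := by rw [hb, qip_qrefl hr]
      have hL : ∀ (c : ℍ[ℝ]) (y z : V3), qrefl r (y - c • z) = qrefl r y - c • qrefl r z := by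
        intro c y z
        show reflL r hr (y - c • z) = reflL r hr y - c • reflL r hr z
        rw [map_sub, map_smul]
      rw [qrefl_eq (lvec a), hL, qrefl_qrefl hr, coef, hq, hb, qrefl_qrefl hr, qip_smul_right, smul_smul,
        smul_mul_assoc, mul_assoc, star_mul_unit hu, mul_one]
      rfl

theorem twoJ2_eq : twoJ2 = genGrp := by
  refine le_antisymm ((Subgroup.closure_le _).mpr ?_) ((Subgroup.closure_le _).mpr ?_)
  · rintro f ⟨⟨r, hr⟩, hn, hfx⟩
    obtain ⟨u, hu, l, hl, e⟩ := exists_line hr hn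
    obtain ⟨g, hg, hgx⟩ := exists_lineRefl hl
    suffices hfg : f = g by rw [hfg]; exact hg
    refine Equiv.ext fun x => Subtype.ext ?_
    rw [hfx, hgx]
    show qrefl r x = _
    rw [e, qrefl_eq, qrefl_eq, coef, coef, qip_smul_right, smul_smul, smul_mul_assoc, mul_assoc,
      star_mul_unit hu, mul_one]
  · rintro _ ⟨j, hj, rfl⟩
    exact Subgroup.subset_closure (isIcoReflection_sGen hj)

theorem range_toLines : toLines.range = grp 315 cert := by
  have hG : (⊤ : Subgroup genGrp) = Subgroup.closure (Set.range sG) := by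
    apply Subgroup.map_injective genGrp.subtype_injective
    rw [← MonoidHom.range_eq_map, Subgroup.range_subtype, MonoidHom.map_closure]
    show genGrp = _
    unfold genGrp
    congr 1
    ext g
    constructor
    · rintro ⟨j, hj, rfl⟩; exact ⟨_, ⟨⟨j, hj⟩, rfl⟩, rfl⟩
    · rintro ⟨_, ⟨j, rfl⟩, rfl⟩; exact ⟨j, j.isLt, rfl⟩
  rw [MonoidHom.range_eq_map, hG, MonoidHom.map_closure,
    closure_eq_grp cert_chk gen_slpOk gen_covers gen_mem]
  congr 1
  have hlen : genBase.length = 4 := by decide +kernel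
  ext σ
  constructor
  · rintro ⟨_, ⟨j, rfl⟩, rfl⟩
    refine ⟨genP j, ?_, (toLines_sG_eq j).symm⟩
    show genBase.getD j 0 ∈ genBase
    have hj' : (j : ℕ) < genBase.length := by rw [hlen]; exact j.isLt
    rw [← List.getElem_eq_getD 0 (h := hj')]; exact List.getElem_mem _
  · rintro ⟨b, hb, rfl⟩
    obtain ⟨j, hj, rfl⟩ := List.getElem_of_mem hb
    refine ⟨sG ⟨j, hlen ▸ hj⟩, ⟨_, rfl⟩, ?_⟩
    rw [toLines_sG_eq, genP, ← List.getElem_eq_getD 0 (h := hj)]

theorem ker_toLines {g : genGrp} (h : toLines g = 1) :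
    (∀ x : icoLeech, (((g : Equiv.Perm icoLeech) x : icoLeech) : V3) = x) ∨
      ∀ x : icoLeech, (((g : Equiv.Perm icoLeech) x : icoLeech) : V3) = -(x : V3) := by
  obtain ⟨T, hT, hgT⟩ := genGrp_isIso g.2
  have hfix : ∀ v : V3, v ∈ icoLeech → qip v v = 4 → ∃ u ∈ units, T v = u • v := by
    intro v hv hn
    obtain ⟨u, hu, l, hl, rfl⟩ := exists_line hv hn
    obtain ⟨w, hw, k, hk, e⟩ := (genGrp_isIso g.2).map_line hl
    have hkl : (⟨k, hk⟩ : Fin 315) = ⟨l, hl⟩ := by
      rw [← lineMap_eq (g := (g : Equiv.Perm icoLeech)) (l := ⟨l, hl⟩) (k := ⟨k, hk⟩) hw e]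
      exact congrArg (fun σ : Equiv.Perm (Fin 315) => σ ⟨l, hl⟩) h
    obtain rfl : k = l := congrArg Fin.val hkl
    rw [hgT] at e
    refine ⟨u * w * star u, mul_mem_units (mul_mem_units hu hw) (star_mem_units hu), ?_⟩
    rw [map_smul, e, smul_smul, smul_smul, mul_assoc (u * w), star_mul_unit hu, mul_one]
  have hf := frameOk_eq
  simp only [frameOk, Bool.and_eq_true, List.all_eq_true, List.mem_range, teq_iff] at hf
  obtain ⟨⟨⟨hfr, ha1⟩, ha17⟩, hcomm⟩ := hf
  have hfv : ∀ X ∈ frameV, ∃ u ∈ units, T (vec X) = u • vec X := fun X hX =>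
    hfix _ (vec_mem (hfr X hX).1) (qip_vec_iff.mpr (hfr X hX).2)
  obtain ⟨u0, -, e0⟩ := hfv (twoQ, zQ, zQ) (by simp [frameV])
  obtain ⟨u1, hu1, e1⟩ := hfv (zQ, twoQ, zQ) (by simp [frameV])
  obtain ⟨u2, -, e2⟩ := hfv (zQ, zQ, twoQ) (by simp [frameV])
  obtain ⟨v0, -, f0⟩ := hfv (hQ, hQ, zQ) (by simp [frameV])
  obtain ⟨v1, -, f1⟩ := hfv (zQ, hQ, hQ) (by simp [frameV])
  -- coordinates
  have hbasis : ∀ x : V3, T x = ![x 0 * u0, x 1 * u1, x 2 * u2] := by
    intro x
    have two : ico twoQ = 2 := by exact_mod_cast ico_nat 2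
    have hd : x = ((1 / 2 : ℝ) • x 0) • vec (twoQ, zQ, zQ) + ((1 / 2 : ℝ) • x 1) • vec (zQ, twoQ, zQ) +
        ((1 / 2 : ℝ) • x 2) • vec (zQ, zQ, twoQ) := by
      funext t
      fin_cases t <;> simp [vec, two, ico_zQ, smul_mul_assoc, ← two_smul_eq, smul_smul]
    conv_lhs => rw [hd]
    rw [map_add, map_add, map_smul, map_smul, map_smul, e0, e1, e2]
    have hu2 : ∀ u : ℍ[ℝ], u * 2 = 2 * u := fun u => by rw [two_mul, mul_two]
    funext t
    fin_cases t <;> simp [vec, two, ico_zQ, hu2, ← mul_assoc] <;>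
      rw [mul_assoc, two_mul, ← two_smul ℝ, smul_smul] <;> norm_num
  have hne : ico hQ ≠ 0 := by
    intro e; exact absurd (ico_injective (e.trans ico_zQ.symm)) (by decide)
  rw [hbasis] at f0 f1
  have g00 : ico hQ * u0 = v0 * ico hQ := congrFun f0 0
  have g01 : ico hQ * u1 = v0 * ico hQ := congrFun f0 1
  have g11 : ico hQ * u1 = v1 * ico hQ := congrFun f1 1
  have g12 : ico hQ * u2 = v1 * ico hQ := congrFun f1 2
  have h01 : u0 = u1 := mul_left_cancel₀ hne (g00.trans g01.symm)
  have h12 : u2 = u1 := mul_left_cancel₀ hne (g12.trans g11.symm)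
  -- commutation with two ratios
  have hcw : ∀ l < 315, u1 * (star (ico (lineQ l).1) * ico (lineQ l).2.1) =
      (star (ico (lineQ l).1) * ico (lineQ l).2.1) * u1 := by
    intro l hl
    obtain ⟨w, hw, ew⟩ := hfix (lvec l) (lvec_mem hl) (lvec_norm hl)
    rw [hbasis] at ew
    have ea : ico (lineQ l).1 * u1 = w * ico (lineQ l).1 := h01 ▸ congrFun ew 0
    have eb : ico (lineQ l).2.1 * u1 = w * ico (lineQ l).2.1 := congrFun ew 1
    set a := ico (lineQ l).1
    set b := ico (lineQ l).2.1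
    by_cases h0 : a = 0
    · simp [h0]
    have hsw : star a * w = u1 * star a := by
      refine mul_right_cancel₀ h0 ?_
      rw [mul_assoc, ← ea, ← mul_assoc, mul_assoc u1, Quaternion.star_mul_self,
        Quaternion.coe_commutes _ u1]
    rw [mul_assoc (star a) b, eb, ← mul_assoc, ← mul_assoc, hsw]
  obtain ⟨i, hi, hiu⟩ := hu1
  have hpm : unitQ i = oneQ ∨ unitQ i = negQ := by
    have hh : ∀ l < 315, raw (unitQ i) (ratioQ l) = raw (ratioQ l) (unitQ i) := by
      intro l hl
      apply ico_injective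
      simp only [ico_raw, ratioQ, ico_qconj, ← hiu, mul_smul_comm, smul_mul_assoc]
      rw [hcw l hl]
    have h1 := hcomm i hi
    rw [qeq_iff.mpr (hh 1 (by norm_num)), qeq_iff.mpr (hh 17 (by norm_num))] at h1
    simpa [qeq_iff] using h1
  rcases hpm with hp | hp
  · left
    intro x
    rw [hgT, hbasis, h01, h12, hiu, hp, ico_oneQ]
    funext t; fin_cases t <;> simp
  · right
    intro x
    have hneg : ico negQ = -1 := by ext <;> simp [ico_re, ico_imI, ico_imJ, ico_imK, te, negQ]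
    rw [hgT, hbasis, h01, h12, hiu, hp, hneg]
    funext t; fin_cases t <;> simp

/-- The group on 315 points. -/
noncomputable def GP : Subgroup (Equiv.Perm (Fin 315)) := grp 315 cert

theorem card_GP : Nat.card GP = 604800 := by
  rw [GP, card_grp cert_chk]; decide +kernel

theorem base_lt : cert0.base < 315 := by decide +kernel

theorem orbit_full : (List.range 315).all (fun x => (orbit cert0).contains x) = true := by decide +kernel

theorem GP_transitive (x : Fin 315) : ∃ σ ∈ GP, σ ⟨cert0.base, base_lt⟩ = x := by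
  have hc : chk 315 (cert0 :: certRest) = true := cert_eq ▸ cert_chk
  have := (mem_orbit_iff hc ⟨cert0.base, base_lt⟩ x rfl).mpr
    (List.contains_iff_mem.mp (List.all_eq_true.mp orbit_full x (List.mem_range.mpr x.isLt)))
  obtain ⟨σ, hσ, e⟩ := this
  refine ⟨σ, ?_, e⟩
  show σ ∈ grp 315 cert
  rw [cert_eq]; exact hσ

theorem center_GP : Subgroup.center GP = ⊥ := by
  rw [Subgroup.eq_bot_iff_forall]
  intro z hz
  rw [Subgroup.mem_center_iff] at hz
  set b : Fin 315 := ⟨cert0.base, base_lt⟩ with hbdef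
  have hzb : (z : Equiv.Perm (Fin 315)) b = b := by
    have h := fixOneOk_eq
    unfold fixOneOk at h
    cases hr : certRest with
    | nil => rw [hr] at h; simp at h
    | cons L rest =>
      rw [hr] at h
      simp only [List.all_eq_true, List.mem_range, Bool.or_eq_true, Nat.beq_eq] at h
      by_contra hne
      have h1 := h ((z : Equiv.Perm (Fin 315)) b) (Fin.isLt _)
      rcases h1 with h1 | h1
      · exact hne (Fin.ext h1)
      · rw [Bool.not_eq_true', ← Bool.not_eq_true] at h1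
        apply h1
        rw [List.all_eq_true]
        intro g hg
        have hc : chk 315 (cert0 :: certRest) = true := cert_eq ▸ cert_chk
        have hmem : toPerm 315 g.1 ∈ grp 315 certRest := hr ▸ Cfsg.Agent.Lib.Compute.gen_mem hg
        have hm := (mem_grp_rest_iff hc b rfl _).mp hmem
        have hcm : toPerm 315 g.1 * (z : Equiv.Perm (Fin 315)) = (z : Equiv.Perm (Fin 315)) * toPerm 315 g.1 :=
          congrArg Subtype.val (hz ⟨_, show toPerm 315 g.1 ∈ GP by
            show toPerm 315 g.1 ∈ grp 315 cert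
            rw [cert_eq]; exact hm.1⟩)
        have e := congrArg (fun σ : Equiv.Perm (Fin 315) => ((σ b : Fin 315) : ℕ)) hcm
        simp only [Equiv.Perm.mul_apply, hm.2] at e
        have hg' : genOk 315 g = true := by
          have hcc := hc
          rw [hr] at hcc
          simp only [chk, Bool.and_eq_true] at hcc
          exact (lvlOk_iff hcc.2.1).2.1 g hg
        rw [repr_toPerm_of_genOk hg'] at e
        rw [Nat.beq_eq]; exact e
  refine Subtype.ext (Equiv.ext fun x => ?_)
  obtain ⟨σ, hσ, rfl⟩ := GP_transitive x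
  have := congrArg (fun τ : GP => (τ : Equiv.Perm (Fin 315)) b) (hz ⟨σ, hσ⟩)
  simp only [Subgroup.coe_mul, Equiv.Perm.mul_apply, hzb] at this
  exact this.symm

theorem center_genGrp : Subgroup.center genGrp = toLines.ker := by
  refine le_antisymm (fun z hz => ?_) (fun z hz => ?_)
  · rw [MonoidHom.mem_ker]
    have hzG : toLines z ∈ GP := show toLines z ∈ grp 315 cert from range_toLines ▸ ⟨z, rfl⟩
    have : (⟨toLines z, hzG⟩ : GP) ∈ Subgroup.center GP := by
      rw [Subgroup.mem_center_iff] at hz ⊢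
      rintro ⟨σ, hσ⟩
      obtain ⟨g, rfl⟩ : σ ∈ toLines.range := range_toLines.symm ▸ hσ
      exact Subtype.ext (by simp only [Subgroup.coe_mul, ← map_mul, hz g])
    rw [center_GP, Subgroup.mem_bot] at this
    exact congrArg Subtype.val this
  · rw [Subgroup.mem_center_iff]
    intro g
    obtain ⟨T, -, hgT⟩ := genGrp_isIso g.2
    refine Subtype.ext (Equiv.ext fun x => Subtype.ext ?_)
    simp only [Subgroup.coe_mul, Equiv.Perm.mul_apply]
    rcases ker_toLines (MonoidHom.mem_ker.mp hz) with h | h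
    · rw [hgT, h, h, ← hgT]
    · rw [hgT, h, h, map_neg, ← hgT]

/-- The Hall–Janko group is the group on 315 points. -/
noncomputable def j2Equiv : J2 ≃* GP := by
  let e : twoJ2 ≃* genGrp := MulEquiv.subgroupCongr twoJ2_eq
  have he : (Subgroup.center twoJ2).map e.toMonoidHom = toLines.ker := by
    rw [← center_genGrp]
    ext x
    constructor
    · rintro ⟨y, hy, rfl⟩
      rw [Subgroup.mem_center_iff]
      intro g
      obtain ⟨g', rfl⟩ := e.surjective g
      simp only [MulEquiv.coe_toMonoidHom, ← map_mul, Subgroup.mem_center_iff.mp hy g']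
    · intro hx
      refine ⟨e.symm x, ?_, e.apply_symm_apply x⟩
      rw [SetLike.mem_coe, Subgroup.mem_center_iff]
      intro g
      apply e.injective
      simp only [map_mul, e.apply_symm_apply, Subgroup.mem_center_iff.mp hx (e g)]
  exact (QuotientGroup.congr _ _ e he).trans
    ((QuotientGroup.quotientKerEquivRange toLines).trans (MulEquiv.subgroupCongr range_toLines))

end Cfsg.Agent.Lib.Recognition.J2
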