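import Cfsg.Agent.Lib.Recognition.J2CoverData

/-!
# Sift witnesses of the images of the double cover
-/

set_option autoImplicit false

namespace Cfsg.Agent.Lib.Recognition.J2Cover

/-- Witnesses for `imgBase`. -/
def imgWit : List (List ℕ) := [[268, 54, 2, 2], [249, 46, 0, 3], [100, 5, 4, 0], [80, 0, 0, 0]]

end Cfsg.Agent.Lib.Recognition.J2Cover
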