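import Cfsg.Agent.Lib.Recognition.J2CoverTwo
import Cfsg.Agent.Lib.Recognition.J2CoverOdd
import Cfsg.Agent.Lib.Compute.MultReduce

/-!
# The multiplier of the double cover is trivial
-/

set_option autoImplicit false
set_option maxRecDepth 100000

namespace Cfsg.Agent.Lib.Recognition.J2Cover

open Cfsg Cfsg.Agent.Lib.Compute
open scoped commutatorElement

theorem odd_mem :
    memOk 200 covSmall covA3 covA3Wit = true ∧ memOk 200 covSmall covB3 covB3Wit = true ∧
    memOk 200 covSmall covG3 covG3Wit = true ∧ memOk 200 covSmall covA5 covA5Wit = true ∧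
    memOk 200 covSmall covB5 covB5Wit = true ∧ memOk 200 covSmall covG5 covG5Wit = true ∧
    memOk 200 covSmall covQ7 covQ7Wit = true := by decide +kernel

theorem three_facts :
    powOk 200 3 covA3 = true ∧ powOk 200 3 covB3 = true ∧
    (∀ i < 200,
      app covA3 (app covA3 (app covB3 (app covA3 (app covA3 (app covB3 (app covB3 i)))))) =
        app covA3 (app covB3 (app covA3 (app covA3 (app covB3 (app covB3 (app covA3 i))))))) ∧
    (∀ i < 200,
      app covB3 (app covA3 (app covB3 (app covA3 (app covA3 (app covB3 (app covB3 i)))))) =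
        app covA3 (app covB3 (app covA3 (app covA3 (app covB3 (app covB3 (app covB3 i))))))) ∧
    (∃ i : Fin 200,
      app covA3 (app covB3 (app covA3 (app covA3 (app covB3 (app covB3 i))))) ≠ i) ∧
    (∀ i < 200, app covA3 (app covG3 (app covA3 i)) = app covG3 i) ∧
    (∀ i < 200, app covB3 (app covG3 (app covB3 i)) = app covG3 i) := by decide +kernel

theorem five_facts :
    powOk 200 5 covA5 = true ∧ powOk 200 5 covB5 = true ∧
    (∀ i < 200, app covA5 (app covB5 i) = app covB5 (app covA5 i)) ∧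
    (∀ i < 200, app covA5 (app covG5 (app covA5 i)) = app covG5 i) ∧
    (∀ i < 200, app covG5 (app covB5 i) = app covB5 (app covG5 i)) := by decide +kernel

theorem odd_slp :
    chk 200 covE3 = true ∧ slpOk 200 [covA3, covB3] covE3Steps = true ∧
      slpCovers [covA3, covB3] covE3Steps covE3 = true ∧
    chk 200 covE5 = true ∧ slpOk 200 [covA5, covB5] covE5Steps = true ∧
      slpCovers [covA5, covB5] covE5Steps covE5 = true ∧
    certOrder covE3 = 27 ∧ certOrder covE5 = 25 := by decide +kernel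

theorem seven_facts : powOk 200 7 covQ7 = true ∧
    ((List.range 200).any fun i => app covQ7 i != i) = true := by decide +kernel

theorem mult_trivial : HasCyclicSchurMultiplier (grp 200 covSmall) 1 := by
  haveI : Fact (Nat.Prime 2) := ⟨Nat.prime_two⟩
  refine hasCyclicSchurMultiplier_one_of_primes (MulEquiv.refl _) [2, 3, 5, 7] ?_ ?_
  · intro p hp hdvd
    rw [card_small, show (1209600 : ℕ) = 2 ^ 8 * (3 ^ 3 * (5 ^ 2 * 7)) by norm_num] at hdvd
    simp only [List.mem_cons, List.not_mem_nil, or_false]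
    rcases hp.dvd_mul.mp hdvd with h | h
    · exact Or.inl ((Nat.prime_dvd_prime_iff_eq hp Nat.prime_two).mp (hp.dvd_of_dvd_pow h))
    rcases hp.dvd_mul.mp h with h | h
    · exact Or.inr (Or.inl ((Nat.prime_dvd_prime_iff_eq hp Nat.prime_three).mp (hp.dvd_of_dvd_pow h)))
    rcases hp.dvd_mul.mp h with h | h
    · exact Or.inr (Or.inr (Or.inl
        ((Nat.prime_dvd_prime_iff_eq hp (by norm_num)).mp (hp.dvd_of_dvd_pow h))))
    · exact Or.inr (Or.inr (Or.inr ((Nat.prime_dvd_prime_iff_eq hp (by norm_num)).mp h)))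
  obtain ⟨mA3, mB3, mG3, mA5, mB5, mG5, mQ7⟩ := odd_mem
  obtain ⟨e1, e2, e3, e4, e5, e6, o3, o5⟩ := odd_slp
  intro p hp Δ _ _ τ hs hc' hd z hz hz' hzp
  simp only [List.mem_cons, List.not_mem_nil, or_false] at hp
  rcases hp with rfl | rfl | rfl | rfl
  · refine eq_one_of_kernel_prime τ hs hc' hd (fun Δ' _ _ τ' hs' hc'' w hw hw' hwp hgen =>
      eq_one_of_ker_two τ' hs' hc'' hw hw' hwp fun u hu => ?_) hz hzp
    obtain ⟨i, rfl⟩ := hgen u hu
    rcases Nat.even_or_odd' i with ⟨j, rfl | rfl⟩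
    · left; rw [pow_mul, hwp, one_pow]
    · right; rw [pow_succ, pow_mul, hwp, one_pow, one_mul]
  · obtain ⟨hA, hB, hcA, hcB, hne, hgA, hgB⟩ := three_facts
    obtain ⟨hv, ha⟩ := valid_of_powOk (by norm_num) hA
    obtain ⟨hvb, hb⟩ := valid_of_powOk (by norm_num) hB
    obtain ⟨hvg, hG3⟩ := mem_grp_of_memOk covSmall_ok mG3
    have hA3 := (mem_grp_of_memOk covSmall_ok mA3).2
    have hB3 := (mem_grp_of_memOk covSmall_ok mB3).2
    have hinv : ∀ {Q : ℕ}, toPerm 200 Q ^ 3 = 1 →
        (toPerm 200 Q)⁻¹ = toPerm 200 Q * toPerm 200 Q := fun h => by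
      rw [inv_eq_iff_mul_eq_one, ← mul_assoc, ← pow_three']; exact h
    refine eq_one_of_extraspecial τ hs hc' hz hz' hzp (x := ⟨_, hA3⟩) (y := ⟨_, hB3⟩)
      (g := ⟨_, hG3⟩) ?_ ?_ ?_ ?_ ?_ ?_ ?_ ?_
    · exact Subtype.ext (by simpa using ha)
    · exact Subtype.ext (by simpa using hb)
    · refine Subtype.ext ?_
      simp only [Subgroup.coe_mul, Subgroup.coe_inv, commutatorElement_def, hinv ha, hinv hb]
      have hr := ((hv.repr.mul hvb.repr).mul (hv.repr.mul hv.repr)).mul (hvb.repr.mul hvb.repr)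
      exact (hv.repr.mul hr).eq (hr.mul hv.repr) hcA
    · refine Subtype.ext ?_
      simp only [Subgroup.coe_mul, Subgroup.coe_inv, commutatorElement_def, hinv ha, hinv hb]
      have hr := ((hv.repr.mul hvb.repr).mul (hv.repr.mul hv.repr)).mul (hvb.repr.mul hvb.repr)
      exact (hvb.repr.mul hr).eq (hr.mul hvb.repr) hcB
    · intro h
      have h2 := congrArg Subtype.val h
      simp only [Subgroup.coe_mul, Subgroup.coe_inv, Subgroup.coe_one, commutatorElement_def,
        hinv ha, hinv hb] at h2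
      have hr := ((hv.repr.mul hvb.repr).mul (hv.repr.mul hv.repr)).mul (hvb.repr.mul hvb.repr)
      obtain ⟨i, hi⟩ := hne
      apply hi
      have h3 := hr i
      rw [h2] at h3
      exact h3.symm
    · refine Subtype.ext ?_
      simp only [Subgroup.coe_mul, Subgroup.coe_inv]
      rw [mul_inv_eq_iff_eq_mul, eq_inv_mul_iff_mul_eq]
      exact (hv.repr.mul (hvg.repr.mul hv.repr)).eq hvg.repr hgA
    · refine Subtype.ext ?_
      simp only [Subgroup.coe_mul, Subgroup.coe_inv]
      rw [mul_inv_eq_iff_eq_mul, eq_inv_mul_iff_mul_eq]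
      exact (hvb.repr.mul (hvg.repr.mul hvb.repr)).eq hvg.repr hgB
    · exact coprime_index_of_slp hA3 hB3 card_small e1 hv hvb e2 e3 (d := 44800)
        (by rw [o3]) (by norm_num)
  · obtain ⟨hA, hB, hxy, hgA, hgB⟩ := five_facts
    obtain ⟨hv, ha⟩ := valid_of_powOk (by norm_num) hA
    obtain ⟨hvb, hb⟩ := valid_of_powOk (by norm_num) hB
    obtain ⟨hvg, hG5⟩ := mem_grp_of_memOk covSmall_ok mG5
    have hA5 := (mem_grp_of_memOk covSmall_ok mA5).2
    have hB5 := (mem_grp_of_memOk covSmall_ok mB5).2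
    refine eq_one_of_abelian τ hs hc' hz hz' (by decide) hzp (x := ⟨_, hA5⟩) (y := ⟨_, hB5⟩)
      (g := ⟨_, hG5⟩) ?_ ?_ ?_ ?_ ?_
    · exact Subtype.ext ((hv.repr.mul hvb.repr).eq (hvb.repr.mul hv.repr) hxy)
    · exact Subtype.ext (by simpa using ha)
    · refine Subtype.ext ?_
      simp only [Subgroup.coe_mul, Subgroup.coe_inv]
      rw [mul_inv_eq_iff_eq_mul, eq_inv_mul_iff_mul_eq]
      exact (hv.repr.mul (hvg.repr.mul hv.repr)).eq hvg.repr hgA
    · refine Subtype.ext ?_
      simp only [Subgroup.coe_mul, Subgroup.coe_inv]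
      rw [mul_inv_eq_iff_eq_mul]
      exact (hvg.repr.mul hvb.repr).eq (hvb.repr.mul hvg.repr) hgB
    · exact coprime_index_of_slp hA5 hB5 card_small e4 hv hvb e5 e6 (d := 48384)
        (by rw [o5]) (by norm_num)
  · have hQ7 := (mem_grp_of_memOk covSmall_ok mQ7).2
    refine eq_one_of_cyclic τ hs hc' hz hz' hzp (x := ⟨_, hQ7⟩) ?_
    exact coprime_index_of_prime hQ7 card_small (q := 7) (d := 172800) (by norm_num) (by norm_num)
      seven_facts.1 seven_facts.2 (by norm_num)

end Cfsg.Agent.Lib.Recognition.J2Cover
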