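import Cfsg.Agent.Lib.Recognition.J2Icosian
import Cfsg.Agent.Lib.Recognition.J2Data

/-!
Decidable checks behind the 315-line model of the Hall-Janko group.
-/

set_option autoImplicit false

namespace Cfsg.Agent.Lib.Recognition.J2

open Cfsg.Agent.Lib.Compute

/-- Digit `i` of a key, shifted. -/
def dig (K i : ℕ) : ℤ := ((K >>> (4 * i)) % 16 : ℕ) - 4

/-- Decode a key. -/
def unpk (K : ℕ) : Q5 :=
  ((dig K 0, dig K 1), (dig K 2, dig K 3), (dig K 4, dig K 5), (dig K 6, dig K 7))

/-- Encode a small quadruple. -/
def pk (X : Q5) : ℕ :=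
  (X.1.1 + 4).toNat + 16 * ((X.1.2 + 4).toNat + 16 * ((X.2.1.1 + 4).toNat + 16 * ((X.2.1.2 + 4).toNat +
    16 * ((X.2.2.1.1 + 4).toNat + 16 * ((X.2.2.1.2 + 4).toNat + 16 * ((X.2.2.2.1 + 4).toNat +
      16 * (X.2.2.2.2 + 4).toNat))))))

/-- Zero. -/
def zQ : Q5 := ((0, 0), (0, 0), (0, 0), (0, 0))

/-- One. -/
def oneQ : Q5 := ((2, 0), (0, 0), (0, 0), (0, 0))

/-- Minus one. -/
def negQ : Q5 := ((-2, 0), (0, 0), (0, 0), (0, 0))

/-- Two. -/
def twoQ : Q5 := ((4, 0), (0, 0), (0, 0), (0, 0))

/-- The stored form of the conjugate of `h`. -/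
def hbQ : Q5 := qconj hQ

/-- A unit. -/
def unitQ (i : ℕ) : Q5 := unpk (unitK.getD i 0)

/-- An orbit representative. -/
def repQ (i : ℕ) : Q5 := unpk (repK.getD i 0)

/-- A class representative. -/
def bktQ (i : ℕ) : Q5 := unpk (bktK.getD i 0)

/-- The units form the monoid generated by `i` and the other generator, closed under conjugation. -/
def unitsOk : Bool :=
  qeq (unitQ 0) oneQ && decide (unitK.length = 120) &&
  ((List.range 119).all fun k => match unitPar[k]? with
    | some (p, g) => Nat.ble p k && qeq (raw (unitQ p) (if g = 0 then iQ else wQ)) (qsmul 2 (unitQ (k + 1)))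
    | none => false) &&
  ((List.range 120).all fun u =>
    teq (qnorm (unitQ u)) (4, 0) &&
    unitK.contains (pk (qconj (unitQ u))) && qeq (unpk (pk (qconj (unitQ u)))) (qconj (unitQ u)) &&
    [iQ, wQ].all fun g =>
      let P := qdiv 2 (raw (unitQ u) g)
      qeq (qsmul 2 P) (raw (unitQ u) g) && unitK.contains (pk P) && qeq (unpk (pk P)) P)

/-- Two vectors of the basis as sums of units. -/
def basisSums : List (Q5 × List ℕ) :=
  [(b0, [2, 20]), (b1, [5, 77]), (b2, [5, 29]), (b3, [9, 86]), (b4, [115]), (b5, [5, 13]), (b6, [119]), (b7, [2, 9])]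

/-- Every basis vector is a sum of units. -/
def basisSumsOk : Bool :=
  (basisI.all fun b => basisSums.any fun e => qeq e.1 b) &&
  basisSums.all fun e => (e.2.all fun i => Nat.blt i 120) && qeq ((e.2.map unitQ).foldr qadd zQ) e.1

/-- The norm can occur in a vector of norm four. -/
def okN (n : T5) : Bool :=
  let A := 2 * (16 - n.1) - n.2
  decide (0 ≤ A) && decide (5 * (n.2 * n.2) ≤ A * A)

/-- The class number of a small icosian. -/
def bucketOf (X : Q5) : ℕ := match table.find (pk X) with
  | some v => v / 16384 % 16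
  | none => 0

/-- The data attached to a small icosian are correct. -/
def infoOk (X : Q5) : Bool :=
  match table.find (pk X) with
  | some v =>
    let pos := v % 1024
    let n := v / 1024 % 16
    let b := v / 16384 % 16
    let r := v / 262144 % 64
    let u := v / 16777216
    qeq (unpk (pk X)) X && inIdeal hbQ (qsub X (bktQ b)) &&
    (qeq X zQ || (Nat.blt r 51 && Nat.blt u 120 && qeq (raw (unitQ u) X) (qsmul 2 (repQ r)))) &&
    (match (buckets.getD b [])[n]? with
      | some (m, l) => teq m (qnorm X) && (match l[pos]? with | some K => Nat.beq K (pk X) | none => false)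
      | none => false)
  | none => false

/-- The coordinates used. -/
def vals : List ℤ := [-4, -3, -2, -1, 0, 1, 2, 3, 4]

/-- All small values within the budget. -/
def pick (b : ℤ) (f : ℤ → ℤ → Bool) : Bool :=
  vals.all fun c => if c * c ≤ b then f c (b - c * c) else true

/-- All small values of given parity within the budget. -/
def pickPar (s b : ℤ) (f : ℤ → ℤ → Bool) : Bool :=
  vals.all fun c => if (c - s) % 2 = 0 then (if c * c ≤ b then f c (b - c * c) else true) else true

/-- Small icosians with given first two coordinates. -/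
def smallRest (a0 a1 r1 : ℤ) : Bool :=
  pick r1 fun a2 r2 => pick r2 fun a3 r3 =>
    pickPar (a1 + a2 + a3) r3 fun a4 r4 => pickPar (a0 + a1 + a2) r4 fun a5 r5 =>
      pickPar (a0 + a1 + a3) r5 fun a6 r6 => pickPar (a0 + a2 + a3) r6 fun a7 _ =>
        let X : Q5 := ((a0, a1), (a2, a3), (a4, a5), (a6, a7))
        if okN (qnorm X) then infoOk X else true

/-- One piece of the enumeration. -/
def smallAt (a0 a1 : ℤ) : Bool :=
  if a0 * a0 ≤ 16 then (if a1 * a1 ≤ 16 - a0 * a0 then smallRest a0 a1 (16 - a0 * a0 - a1 * a1) else true) else true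

/-- Every small icosian is handled. -/
def allSmall : Bool := vals.all fun a0 => vals.all fun a1 => smallAt a0 a1

/-- The class representatives are incongruent. -/
def bucketsOk : Bool :=
  (List.range 16).all fun a => (List.range 16).all fun b =>
    Nat.beq a b || !(inIdeal hbQ (qsub (bktQ a) (bktQ b)))

/-- A representative. -/
def isRep (X : Q5) : Bool := repK.contains (pk X)

/-- All completions of a first coordinate give listed lines. -/
def triplesOk (x : Q5) (cond : ℕ → ℕ → Bool) : Bool :=
  let b := buckets.getD (bucketOf x) []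
  let kx := pk x
  b.all fun e2 =>
    let rest := tsub (tsub (16, 0) (qnorm x)) e2.1
    b.all fun e3 =>
      if teq e3.1 rest then
        e2.2.all fun ky => e3.2.all fun kz =>
          if cond ky kz then
            (if inIdeal hQ (qadd (qadd x (unpk ky)) (unpk kz)) then lineK.contains (kx, ky, kz) else true)
          else true
      else true

/-- All normalised minimal vectors are listed. -/
def enumOk : Bool :=
  ((List.range 51).all fun r => triplesOk (repQ r) fun _ _ => true) &&
  triplesOk zQ fun ky kz => repK.contains ky || (Nat.beq ky (pk zQ) && repK.contains kz)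

/-- A listed line. -/
def lineQ (l : ℕ) : Q5 × Q5 × Q5 :=
  (unpk (lineK.getD l (0, 0, 0)).1, unpk (lineK.getD l (0, 0, 0)).2.1, unpk (lineK.getD l (0, 0, 0)).2.2)

/-- Membership of the lattice. -/
def inLam (v : Q5 × Q5 × Q5) : Bool :=
  memI v.1 && memI v.2.1 && memI v.2.2 && inIdeal hbQ (qsub v.1 v.2.1) && inIdeal hbQ (qsub v.2.1 v.2.2) &&
    inIdeal hQ (qadd (qadd v.1 v.2.1) v.2.2)

/-- The listed lines are normalised minimal vectors. -/
def linesOk : Bool :=
  decide (lineK.length = 315) && decide lineK.Nodup &&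
  (List.range 315).all fun l =>
    let v := lineQ l
    (lineK.getD l (0, 0, 0) == (pk v.1, pk v.2.1, pk v.2.2)) &&
    inLam v && teq (tadd (tadd (qnorm v.1) (qnorm v.2.1)) (qnorm v.2.2)) (16, 0) &&
    ((!qeq v.1 zQ && isRep v.1) || (qeq v.1 zQ && !qeq v.2.1 zQ && isRep v.2.1) ||
      (qeq v.1 zQ && qeq v.2.1 zQ && !qeq v.2.2 zQ && isRep v.2.2))

/-- Representatives are in different orbits. -/
def repsOk : Bool :=
  decide (repK.length = 51) && (List.range 51).all fun r =>
    qeq (unpk (pk (repQ r))) (repQ r) && !qeq (repQ r) zQ && (List.range 51).all fun r' =>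
      Nat.beq r r' || !teq (qnorm (repQ r)) (qnorm (repQ r')) ||
        ((List.range 120).all fun u => !qeq (raw (unitQ u) (repQ r)) (qsmul 2 (repQ r')))

/-- A packed generating permutation. -/
def genP (j : ℕ) : ℕ := genBase.getD j 0

/-- The vector of a generating reflection. -/
def genV (j : ℕ) : Q5 × Q5 × Q5 := lineQ (genIdx.getD j 0)

/-- Twice the Hermitian product, stored. -/
def qipQ (x r : Q5 × Q5 × Q5) : Q5 :=
  qadd (qadd (raw x.1 (qconj r.1)) (raw x.2.1 (qconj r.2.1))) (raw x.2.2 (qconj r.2.2))

/-- The generating reflections permute the lines as recorded. -/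
def actOk (j : ℕ) : Bool :=
  let R := genV j
  (List.range 315).all fun l =>
    let X := lineQ l
    let u := (genUnit.getD j []).getD l 0
    let k := app (genP j) l
    let Y := lineQ k
    let S := qdiv 4 (qipQ X R)
    Nat.blt k 315 && Nat.blt u 120 && qeq (qsmul 4 S) (qipQ X R) &&
    qeq (qadd (raw S R.1) (raw (unitQ u) Y.1)) (qsmul 2 X.1) &&
    qeq (qadd (raw S R.2.1) (raw (unitQ u) Y.2.1)) (qsmul 2 X.2.1) &&
    qeq (qadd (raw S R.2.2) (raw (unitQ u) Y.2.2)) (qsmul 2 X.2.2)

/-- Generators of the lattice as a module. -/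
def latGens : List (Q5 × Q5 × Q5) := [(hbQ, hbQ, hbQ), (hQ, hQ, zQ), (zQ, hQ, hQ)]

/-- The generating reflections preserve the lattice. -/
def presOk (j : ℕ) : Bool :=
  let R := genV j
  latGens.all fun X =>
    let S := qdiv 4 (qipQ X R)
    let T := (qdiv 2 (raw S R.1), qdiv 2 (raw S R.2.1), qdiv 2 (raw S R.2.2))
    qeq (qsmul 4 S) (qipQ X R) && qeq (qsmul 2 T.1) (raw S R.1) && qeq (qsmul 2 T.2.1) (raw S R.2.1) &&
    qeq (qsmul 2 T.2.2) (raw S R.2.2) &&
    inLam (qsub X.1 T.1, qsub X.2.1 T.2.1, qsub X.2.2 T.2.2)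

/-- Vectors used to pin down the kernel. -/
def frameV : List (Q5 × Q5 × Q5) :=
  [(twoQ, zQ, zQ), (zQ, twoQ, zQ), (zQ, zQ, twoQ), (hQ, hQ, zQ), (zQ, hQ, hQ)]

/-- Twice the product `ā b` of the first two coordinates. -/
def ratioQ (l : ℕ) : Q5 := raw (qconj (lineQ l).1) (lineQ l).2.1

/-- The frame vectors are minimal, and only `±1` commutes with two ratios. -/
def frameOk : Bool :=
  (frameV.all fun v => inLam v && teq (tadd (tadd (qnorm v.1) (qnorm v.2.1)) (qnorm v.2.2)) (16, 0)) &&
  !qeq (lineQ 1).1 zQ && !qeq (lineQ 17).1 zQ &&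
  (List.range 120).all fun u =>
    !(qeq (raw (unitQ u) (ratioQ 1)) (raw (ratioQ 1) (unitQ u)) &&
      qeq (raw (unitQ u) (ratioQ 17)) (raw (ratioQ 17) (unitQ u))) ||
    qeq (unitQ u) oneQ || qeq (unitQ u) negQ

/-- The tree spanning the lines from the generating lines. -/
def treeLinesOk : Bool :=
  decide (linePts.length = 315) && ((List.range 315).all fun l => linePts.contains l) &&
  (List.range 315).all fun k =>
    if k < 4 then Nat.beq (linePts.getD k 0) (genIdx.getD k 0)
    else
      let e := lineTree.getD (k - 4) (0, 0)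
      Nat.blt e.1 4 && Nat.blt e.2 k && Nat.beq (app (genP e.1) (linePts.getD e.2 0)) (linePts.getD k 0)

/-- The certificate below the first level. -/
def certRest : List Lvl := cert.tail

/-- The first level fixes a single point. -/
def fixOneOk : Bool :=
  match certRest with
  | [] => false
  | L :: _ => (List.range 315).all fun x =>
    Nat.beq x cert0.base || !(L.gens.all fun g => Nat.beq (app g.1 x) x)

/-- The orbits of the point stabiliser. -/
def subOk : Bool :=
  (List.range 315).all fun x => match subWit[x]? with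
    | some (i, js) => Nat.blt i 6 && Nat.beq (sift certRest js (tfun cert0 (subRep.getD i 0) cert0.base)) x
    | none => false

/-- Iterate. -/
def iter (f : ℕ → ℕ) : ℕ → ℕ → ℕ
  | 0, x => x
  | n + 1, x => iter f n (f x)

/-- The exponents of the maximal cyclic subgroups. -/
def expList : List ℕ := [7, 8, 10, 12, 15]

/-- Exponents of the elements `t·h`. -/
def expOk (i : ℕ) : Bool :=
  (List.range (cert1.trans.length + 1)).all fun a => (List.range (cert2.trans.length + 1)).all fun b =>
    (List.range (cert3.trans.length + 1)).all fun c =>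
      expList.any fun n => (cert.map Lvl.base).all fun x =>
        Nat.beq (iter (fun y => tfun cert0 (subRep.getD i 0) (sift certRest [a, b, c] y)) n x) x

/-- Part of the witness check of the first level. -/
def witPart (n : ℕ) (L : Lvl) (next : List Lvl) (s lo len : ℕ) : Bool :=
  match L.gens[s]?, L.wit[s]? with
  | some g, some row => (List.range' lo len).all fun j =>
      match row[j]? with
      | some (q :: js) =>
          (List.range n).all fun i => app g.1 (tfun L j i) == tfun L q (sift next js i)
      | _ => false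
  | _, _ => false

end Cfsg.Agent.Lib.Recognition.J2
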