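import Cfsg.Agent.Lib.Recognition.J2Simple
import Cfsg.Agent.Lib.Recognition.J2SylData
import Cfsg.Agent.Lib.Recognition.FusionCentral

/-!
The 2-fusion system of the Hall-Janko group on 315 points.
-/

set_option autoImplicit false
set_option maxRecDepth 100000

namespace Cfsg.Agent.Lib.Recognition.J2

open Cfsg.Agent.Lib.Compute Equiv
open MulAction (IsPretransitive IsPreprimitive stabilizer)

/-- The generators of the first level. -/
def headGens : List Lvl → List (ℕ × ℕ)
  | [] => []
  | L :: _ => L.gens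

theorem grp_eq_closure (c : List Lvl) :
    grp 315 c = Subgroup.closure ((fun g => toPerm 315 g.1) '' {g | g ∈ headGens c}) := by
  cases c with
  | nil => simp [grp, headGens]
  | cons L rest => rfl

theorem head_genOk {c : List Lvl} (h : chk 315 c = true) {g : ℕ × ℕ} (hg : g ∈ headGens c) :
    Repr (toPerm 315 g.1) (app g.1) ∧ toPerm 315 g.1 ∈ grp 315 c := by
  cases c with
  | nil => simp [headGens] at hg
  | cons L rest =>
    simp only [chk, Bool.and_eq_true] at h
    exact ⟨repr_toPerm_of_genOk ((lvlOk_iff h.1).2.1 g hg), Compute.gen_mem hg⟩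

/-- Two maps agree on the 315 points. -/
def eqOn (f g : ℕ → ℕ) : Bool := (List.range 315).all fun i => Nat.beq (f i) (g i)

theorem eqOn_iff {f g : ℕ → ℕ} : eqOn f g = true ↔ ∀ i < 315, f i = g i := by
  simp [eqOn]

/-- The point stabiliser normalises `sylQ`. -/
def normQOk : Bool :=
  (headGens certRest).all fun g => (headGens sylQ).all fun q => (idxLists sylQ).any fun js =>
    eqOn (fun i => app g.1 (app q.1 i)) (fun i => sift sylQ js (app g.1 i))

/-- The point stabiliser centralises the involution. -/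
def zCentral : Bool :=
  (headGens certRest).all fun g =>
    eqOn (fun i => app g.1 (sift syl sylZ i)) (fun i => sift syl sylZ (app g.1 i))

/-- The generators of the point stabiliser are products of 2-elements. -/
def twoGenOk : Bool :=
  (headGens certRest).all fun g =>
    eqOn (iter (app g.1) 8) (fun i => i) ||
      (eqOn (iter (sift certRest [1, 0, 0]) 8) (fun i => i) &&
        eqOn (iter (sift certRest [5, 1, 0]) 8) (fun i => i) &&
          eqOn (app g.1) (fun i => sift certRest [1, 0, 0] (sift certRest [5, 1, 0] i)))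

/-- Only the centre of `sylQ` centralises it in the point stabiliser. -/
def centQOk : Bool :=
  (idxLists certRest).all fun js =>
    ((headGens sylQ).any fun q => (List.range 315).any fun i =>
        !Nat.beq (app q.1 (sift certRest js i)) (sift certRest js (app q.1 i))) ||
      eqOn (sift certRest js) (fun i => i) || eqOn (sift certRest js) (sift syl sylZ)

theorem syl_chk : chk 315 syl = true := by decide +kernel
theorem sylQ_chk : chk 315 sylQ = true := by decide +kernel
theorem syl_order : certOrder syl = 2 ^ 7 := by decide +kernel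
theorem syl_sub : Compute.subOk 315 certRest syl sylWit = true := by decide +kernel
theorem sylQ_sub : Compute.subOk 315 syl sylQ sylQWit = true := by decide +kernel
theorem normQOk_eq : normQOk = true := by decide +kernel
theorem zCentral_eq : zCentral = true := by decide +kernel
theorem twoGenOk_eq : twoGenOk = true := by decide +kernel
theorem centQOk_eq : centQOk = true := by decide +kernel
theorem syl_centre : centreOk 315 syl sylZ = true := by decide +kernel
theorem syl_close : closeOk 315 cert syl sylZ sylSteps = true := by decide +kernel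
theorem sylZ_ne : eqOn (sift syl sylZ) (fun i => i) = false := by decide +kernel

theorem syl_le_rest : grp 315 syl ≤ grp 315 certRest := grp_le_of_subOk rest_chk syl_sub

theorem syl_le : grp 315 syl ≤ GP := syl_le_rest.trans rest_le

/-- The central involution. -/
noncomputable def zP : Perm (Fin 315) := siftPerm 315 syl sylZ

theorem zP_spec : Repr zP (sift syl sylZ) ∧ zP ∈ grp 315 syl := sift_spec syl_chk sylZ

theorem zP_ne : zP ≠ 1 := by
  intro h
  have h2 := sylZ_ne
  rw [← Bool.not_eq_true, eqOn_iff] at h2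
  refine h2 fun i hi => ?_
  have := zP_spec.1 ⟨i, hi⟩
  rw [h] at this
  exact this.symm

theorem commute_zP {σ : Perm (Fin 315)} (hσ : σ ∈ grp 315 certRest) : σ * zP = zP * σ := by
  have : grp 315 certRest ≤ Subgroup.centralizer {zP} := by
    rw [grp_eq_closure, Subgroup.closure_le]
    rintro _ ⟨g, hg, rfl⟩
    rw [SetLike.mem_coe, Subgroup.mem_centralizer_singleton_iff]
    obtain ⟨hr, -⟩ := head_genOk rest_chk hg
    exact (hr.mul zP_spec.1).eq (zP_spec.1.mul hr)
      (eqOn_iff.mp (List.all_eq_true.mp zCentral_eq g hg))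
  exact Subgroup.mem_centralizer_singleton_iff.mp (this hσ)

theorem center_syl {x : Perm (Fin 315)} (hx : x ∈ grp 315 syl)
    (hc : ∀ y ∈ grp 315 syl, x * y = y * x) : x = 1 ∨ x = zP := by
  have hz := syl_centre
  simp only [centreOk, syl, List.all_eq_true, Bool.or_eq_true, List.any_eq_true, List.mem_range,
    bne_iff_ne, beq_iff_eq] at hz
  obtain ⟨js, hjs, rfl⟩ := exists_idx syl_chk hx
  have hr := (sift_spec syl_chk js).1
  rcases hz js hjs with (⟨g, hg, i, hi, hne⟩ | h1) | h2
  · exfalso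
    apply hne
    obtain ⟨hgr, hgm⟩ := head_genOk syl_chk (c := syl) hg
    have e := congrArg (fun u : Perm (Fin 315) => ((u ⟨i, hi⟩ : Fin 315) : ℕ)) (hc _ hgm).symm
    simp only [Perm.mul_apply] at e
    rw [hgr, hr, hr, hgr] at e
    exact e
  · exact Or.inl (hr.eq Repr.one h1)
  · exact Or.inr (hr.eq zP_spec.1 h2)

/-- The base point. -/
def basePt : Fin 315 := ⟨cert0.base, base_lt⟩

theorem centralizer_zP {σ : Perm (Fin 315)} (hσ : σ ∈ GP) (h : σ * zP = zP * σ) :
    σ ∈ grp 315 certRest := by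
  haveI := gp_primitive
  haveI : Nontrivial (Fin 315) := ⟨⟨0, 1, by decide⟩⟩
  have hco := IsPreprimitive.isCoatom_stabilizer_of_isPreprimitive (G := GP) basePt
  let z : GP := ⟨zP, syl_le zP_spec.2⟩
  have hle : stabilizer GP basePt ≤ Subgroup.centralizer {z} := by
    intro g hg
    rw [Subgroup.mem_centralizer_singleton_iff]
    exact Subtype.ext (commute_zP ((mem_grp_rest_iff cert_hc basePt rfl _).mpr ⟨cert_eq ▸ g.2, hg⟩))
  have heq : stabilizer GP basePt = Subgroup.centralizer {z} := by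
    refine hle.eq_or_lt.resolve_right fun hlt => ?_
    have htop := hco.2 _ hlt
    have hzc : z ∈ Subgroup.center GP := Subgroup.mem_center_iff.mpr fun g =>
      Subgroup.mem_centralizer_singleton_iff.mp (htop ▸ Subgroup.mem_top g)
    rw [center_GP, Subgroup.mem_bot] at hzc
    exact zP_ne (congrArg Subtype.val hzc)
  have : (⟨σ, hσ⟩ : GP) ∈ stabilizer GP basePt := by
    rw [heq, Subgroup.mem_centralizer_singleton_iff]
    exact Subtype.ext h
  exact (mem_grp_rest_iff cert_hc basePt rfl σ).mpr ⟨cert_eq ▸ hσ, this⟩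

theorem normalizer_syl_le {σ : Perm (Fin 315)} (hσ : σ ∈ GP)
    (hn : ∀ y ∈ grp 315 syl, σ * y * σ⁻¹ ∈ grp 315 syl) (hn' : ∀ y ∈ grp 315 syl, σ⁻¹ * y * σ ∈ grp 315 syl) :
    σ ∈ grp 315 certRest := by
  have hmem := hn _ zP_spec.2
  have hc : ∀ y ∈ grp 315 syl, σ * zP * σ⁻¹ * y = y * (σ * zP * σ⁻¹) := by
    intro y hy
    have e := commute_zP (syl_le_rest (hn' y hy))
    calc σ * zP * σ⁻¹ * y = σ * (zP * (σ⁻¹ * y * σ)) * σ⁻¹ := by group
      _ = σ * ((σ⁻¹ * y * σ) * zP) * σ⁻¹ := by rw [e]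
      _ = y * (σ * zP * σ⁻¹) := by group
  rcases center_syl hmem hc with h | h
  · exfalso
    exact zP_ne (mul_left_cancel (a := σ) (by rw [mul_one]; exact mul_inv_eq_one.mp h))
  · exact centralizer_zP hσ (mul_inv_eq_iff_eq_mul.mp h)

theorem rest_normalizes_Q {σ : Perm (Fin 315)} (hσ : σ ∈ grp 315 certRest) :
    ∀ y ∈ grp 315 sylQ, σ * y * σ⁻¹ ∈ grp 315 sylQ := by
  have : grp 315 certRest ≤ Subgroup.normalizer (grp 315 sylQ : Set (Perm (Fin 315))) := by
    rw [grp_eq_closure certRest, Subgroup.closure_le]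
    rintro _ ⟨g, hg, rfl⟩
    refine Fusion.mem_normalizer_of_finite fun y hy => ?_
    obtain ⟨hr, -⟩ := head_genOk rest_chk hg
    have hle : grp 315 sylQ ≤ (grp 315 sylQ).comap (MulAut.conj (toPerm 315 g.1)).toMonoidHom := by
      conv_lhs => rw [grp_eq_closure sylQ]
      rw [Subgroup.closure_le]
      rintro _ ⟨q, hq, rfl⟩
      obtain ⟨hrq, -⟩ := head_genOk sylQ_chk hq
      have h := List.all_eq_true.mp normQOk_eq g hg
      obtain ⟨js, -, hjs⟩ := List.any_eq_true.mp (List.all_eq_true.mp h q hq)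
      obtain ⟨hrs, hms⟩ := sift_spec sylQ_chk js
      have e := (hr.mul hrq).eq (hrs.mul hr) (eqOn_iff.mp hjs)
      show toPerm 315 g.1 * toPerm 315 q.1 * (toPerm 315 g.1)⁻¹ ∈ grp 315 sylQ
      rw [e, mul_inv_cancel_right]
      exact hms
    exact hle hy
  exact fun y hy => (Subgroup.mem_normalizer_iff.mp (this hσ) y).mp hy

theorem rest_gen : grp 315 certRest ≤
    Subgroup.closure {x | x ∈ grp 315 certRest ∧ x ^ 2 ^ 3 = 1} := by
  conv_lhs => rw [grp_eq_closure]
  rw [Subgroup.closure_le]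
  rintro _ ⟨g, hg, rfl⟩
  obtain ⟨hr, hm⟩ := head_genOk rest_chk hg
  have h := List.all_eq_true.mp twoGenOk_eq g hg
  simp only [Bool.or_eq_true, Bool.and_eq_true] at h
  have pow8 : ∀ {τ : Perm (Fin 315)} {f : ℕ → ℕ}, Repr τ f → eqOn (iter f 8) (fun i => i) = true →
      τ ^ 2 ^ 3 = 1 := fun hτ he => (J2.repr_pow hτ _).eq Repr.one (eqOn_iff.mp he)
  rcases h with h | ⟨⟨ha, hb⟩, hab⟩
  · exact Subgroup.subset_closure ⟨hm, pow8 hr h⟩
  · obtain ⟨hra, hma⟩ := sift_spec rest_chk [1, 0, 0]
    obtain ⟨hrb, hmb⟩ := sift_spec rest_chk [5, 1, 0]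
    have e := hr.eq (hra.mul hrb) (eqOn_iff.mp hab)
    show toPerm 315 g.1 ∈ Subgroup.closure _
    rw [e]
    exact mul_mem (Subgroup.subset_closure ⟨hma, pow8 hra ha⟩)
      (Subgroup.subset_closure ⟨hmb, pow8 hrb hb⟩)

theorem centralizer_Q {σ : Perm (Fin 315)} (hσ : σ ∈ grp 315 certRest)
    (h : ∀ q ∈ grp 315 sylQ, σ * q = q * σ) : σ ∈ grp 315 syl := by
  obtain ⟨js, hjs, rfl⟩ := exists_idx rest_chk hσ
  have hr := (sift_spec rest_chk js).1
  have hc := List.all_eq_true.mp centQOk_eq js hjs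
  simp only [Bool.or_eq_true, List.any_eq_true, List.mem_range, Bool.not_eq_true',
    ← Bool.not_eq_true, Nat.beq_eq] at hc
  rcases hc with (⟨q, hq, i, hi, hne⟩ | h1) | h2
  · exfalso
    apply hne
    obtain ⟨hrq, hqm⟩ := head_genOk sylQ_chk hq
    have e := congrArg (fun u : Perm (Fin 315) => ((u ⟨i, hi⟩ : Fin 315) : ℕ)) (h _ hqm).symm
    simp only [Perm.mul_apply] at e
    rw [hrq, hr, hr, hrq] at e
    exact e
  · rw [hr.eq Repr.one (eqOn_iff.mp h1)]; exact one_mem _
  · rw [hr.eq zP_spec.1 (eqOn_iff.mp h2)]; exact zP_spec.2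

theorem gp_two_fusion_simple {H : Type*} [Group H] [Finite H] (e : GP ≃* H) (S : Sylow 2 H) :
    (Cfsg.groupFusionSystem (S : Subgroup H)).IsSimple 2 := by
  haveI : Fact (Nat.Prime 2) := ⟨Nat.prime_two⟩
  have hcard : Nat.card ((grp 315 syl).subgroupOf GP) = 2 ^ 7 := by
    rw [Nat.card_congr (Subgroup.subgroupOfEquivOfLe syl_le).toEquiv, card_grp syl_chk, syl_order]
  let S₀ : Sylow 2 GP := Sylow.ofCard ((grp 315 syl).subgroupOf GP) (by
    rw [hcard, card_GP, show (604800 : ℕ) = 2 ^ 7 * 4725 by norm_num,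
      Nat.factorization_mul (by norm_num) (by norm_num), Finsupp.add_apply,
      Nat.factorization_eq_zero_of_not_dvd (show ¬ 2 ∣ 4725 by norm_num),
      Nat.prime_two.factorization_pow, Finsupp.single_eq_same, add_zero])
  have hQle : grp 315 sylQ ≤ grp 315 syl := grp_le_of_subOk syl_chk sylQ_sub
  have hp : IsPGroup 2 (grp 315 syl) := IsPGroup.of_card (by rw [card_grp syl_chk, syl_order])
  have hnorm : ∀ g : GP, g ∈ Subgroup.normalizer ((S₀ : Subgroup GP) : Set GP) →
      (g : Perm (Fin 315)) ∈ grp 315 certRest := by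
    intro g hg
    refine normalizer_syl_le g.2 (fun y hy => ?_) (fun y hy => ?_)
    · exact Subgroup.mem_subgroupOf.mp ((Subgroup.mem_normalizer_iff.mp hg ⟨y, syl_le hy⟩).mp
        (Subgroup.mem_subgroupOf.mpr hy))
    · have := (Subgroup.mem_normalizer_iff.mp (inv_mem hg) ⟨y, syl_le hy⟩).mp
        (Subgroup.mem_subgroupOf.mpr hy)
      simpa [S₀, Subgroup.mem_subgroupOf] using this
  refine isSimple_of_central_equiv e S₀ ?_ ?_ ((grp 315 certRest).subgroupOf GP)
    ((grp 315 sylQ).subgroupOf GP) (fun x hx => hQle hx) (fun g hg => hnorm g hg) ?_ ?_ ?_ S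
  · intro h0
    have h2 : Nat.card ((grp 315 syl).subgroupOf GP) = 1 := Subgroup.card_eq_one.mpr h0
    rw [hcard] at h2
    norm_num at h2
  · intro T hT hT0 hclosed
    have key := closedTrivial_grp cert_chk syl_chk hp syl_close syl_centre
      (T := T.map GP.subtype) ?_ ?_ ?_ syl_le
    · apply Subgroup.map_injective (Subgroup.subtype_injective GP)
      rw [key]
      exact (Subgroup.map_subgroupOf_eq_of_le syl_le).symm
    · rintro _ ⟨x, hx, rfl⟩
      exact Subgroup.mem_subgroupOf.mp (hT hx)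
    · rw [Ne, Subgroup.map_eq_bot_iff_of_injective _ (Subgroup.subtype_injective _)]
      exact hT0
    · rintro _ ⟨x, hx, rfl⟩ g hg hgx
      exact ⟨_, hclosed x hx ⟨g, hg⟩ (Subgroup.mem_subgroupOf.mpr hgx), rfl⟩
  · intro g hg
    exact Fusion.mem_normalizer_of_finite fun y hy =>
      Subgroup.mem_subgroupOf.mpr (rest_normalizes_Q hg _ hy)
  · intro g hg
    have h2 : (g : Perm (Fin 315)) ∈ (Subgroup.closure {x : GP | x ∈ (grp 315 certRest).subgroupOf GP ∧
        ∃ k, orderOf x ∣ 2 ^ k}).map GP.subtype := by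
      refine (rest_gen.trans ?_) hg
      rw [MonoidHom.map_closure]
      refine Subgroup.closure_mono ?_
      rintro x ⟨hx, hx8⟩
      refine ⟨⟨x, rest_le hx⟩, ⟨hx, 3, orderOf_dvd_of_pow_eq_one (Subtype.ext hx8)⟩, rfl⟩
    obtain ⟨g', hg', he⟩ := h2
    rwa [← GP.subtype_injective he]
  · intro g hg hc
    refine Subgroup.mem_subgroupOf.mpr (centralizer_Q (hnorm g hg) fun q hq => ?_)
    exact congrArg Subtype.val (hc ⟨q, syl_le (hQle hq)⟩ hq)

end Cfsg.Agent.Lib.Recognition.J2
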