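import Cfsg.Agent.Lib.Recognition.J2Simple
import Cfsg.Agent.Lib.Recognition.J2HundredData

/-!
The Hall-Janko group as a permutation group of degree 100.
-/

set_option autoImplicit false
set_option maxRecDepth 100000

namespace Cfsg.Agent.Lib.Recognition.J2

open Cfsg.Agent.Lib.Compute Equiv

/-- The generators of the subgroup belong to the big certificate. -/
def u33MemOk : Bool :=
  (List.range u33Cert0.gens.length).all fun k =>
    memOk 315 cert (u33Cert0.gens.getD k (0, 0)).1 (u33Wit.getD k [])

theorem u33MemOk_eq : u33MemOk = true := by decide +kernel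

theorem u33Cert_ok : chk 315 u33Cert = true := by decide +kernel

theorem card_u33 : Nat.card (grp 315 u33Cert) = 6048 := by
  rw [card_grp u33Cert_ok]; decide +kernel

theorem u33_le : grp 315 u33Cert ≤ GP := by
  refine (Subgroup.closure_le _).mpr ?_
  rintro _ ⟨g, hg, rfl⟩
  obtain ⟨k, hk, rfl⟩ := List.getElem_of_mem hg
  have h := mem_grp_of_memOk cert_chk (List.all_eq_true.mp u33MemOk_eq k (List.mem_range.mpr hk))
  rw [List.getD_eq_getElem _ _ hk] at h
  exact h.2

/-- A simple group of order 604800 inside the symmetric group of degree 100. -/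
theorem exists_hundred :
    ∃ G : Subgroup (Perm (Fin 100)), IsSimpleGroup G ∧ Nat.card G = 604800 := by
  classical
  let H : Subgroup GP := (grp 315 u33Cert).subgroupOf GP
  have hH : Nat.card H = 6048 := by
    rw [Nat.card_congr (Subgroup.subgroupOfEquivOfLe u33_le).toEquiv, card_u33]
  have hidx : H.index = 100 := by
    have h := H.card_mul_index
    rw [hH, card_GP] at h
    omega
  haveI := gp_simple
  let φ : GP →* Perm (GP ⧸ H) := MulAction.toPermHom GP (GP ⧸ H)
  have hker : φ.ker = ⊥ := by
    rcases IsSimpleGroup.eq_bot_or_eq_top_of_normal φ.ker (MonoidHom.normal_ker _) with h | h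
    · exact h
    · exfalso
      have hall : ∀ g : GP, g ∈ H := by
        intro g
        have hg : g ∈ φ.ker := h ▸ Subgroup.mem_top g
        have := congrArg (fun σ : Perm (GP ⧸ H) => σ ((1 : GP) : GP ⧸ H)) (MonoidHom.mem_ker.mp hg)
        have h1 : ((g : GP) : GP ⧸ H) = ((1 : GP) : GP ⧸ H) := by
          simpa [φ] using this
        simpa using QuotientGroup.eq.mp h1
      rw [Subgroup.index_eq_one.mpr (eq_top_iff.mpr fun g _ => hall g)] at hidx
      norm_num at hidx
  haveI : Finite (GP ⧸ H) := Nat.finite_of_card_ne_zero (by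
    rw [← Subgroup.index_eq_card, hidx]; norm_num)
  let e : GP ⧸ H ≃ Fin 100 := (Finite.equivFin _).trans (finCongr (by rw [← Subgroup.index_eq_card, hidx]))
  let ψ : GP →* Perm (Fin 100) := e.permCongrHom.toMonoidHom.comp φ
  have hinj : Function.Injective ψ :=
    e.permCongrHom.injective.comp ((MonoidHom.ker_eq_bot_iff φ).mp hker)
  let f : GP ≃* ψ.range := MonoidHom.ofInjective hinj
  refine ⟨ψ.range, f.symm.isSimpleGroup, ?_⟩
  rw [← Nat.card_congr f.toEquiv, card_GP]

end Cfsg.Agent.Lib.Recognition.J2
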