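import Cfsg.Prelude.Def_Spor_J2

/-!
Exact arithmetic in the icosian ring: twice a quaternion is stored as four elements `a + bτ`.
-/

set_option autoImplicit false

namespace Cfsg.Agent.Lib.Recognition.J2

open Cfsg.Spor Quaternion

/-- Elements `a + bτ`. -/
abbrev T5 := ℤ × ℤ

/-- Quadruples. -/
abbrev Q5 := T5 × T5 × T5 × T5

/-- Product in `ℤ[τ]`. -/
def tmul (x y : T5) : T5 := (x.1 * y.1 + x.2 * y.2, x.1 * y.2 + x.2 * y.1 + x.2 * y.2)

/-- Sum in `ℤ[τ]`. -/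
def tadd (x y : T5) : T5 := (x.1 + y.1, x.2 + y.2)

/-- Difference in `ℤ[τ]`. -/
def tsub (x y : T5) : T5 := (x.1 - y.1, x.2 - y.2)

/-- The product of the stored quadruples. -/
def raw (X Y : Q5) : Q5 :=
  (tsub (tsub (tsub (tmul X.1 Y.1) (tmul X.2.1 Y.2.1)) (tmul X.2.2.1 Y.2.2.1)) (tmul X.2.2.2 Y.2.2.2),
   tsub (tadd (tadd (tmul X.1 Y.2.1) (tmul X.2.1 Y.1)) (tmul X.2.2.1 Y.2.2.2)) (tmul X.2.2.2 Y.2.2.1),
   tadd (tadd (tsub (tmul X.1 Y.2.2.1) (tmul X.2.1 Y.2.2.2)) (tmul X.2.2.1 Y.1)) (tmul X.2.2.2 Y.2.1),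
   tadd (tsub (tadd (tmul X.1 Y.2.2.2) (tmul X.2.1 Y.2.2.1)) (tmul X.2.2.1 Y.2.1)) (tmul X.2.2.2 Y.1))

/-- Sum. -/
def qadd (X Y : Q5) : Q5 :=
  (tadd X.1 Y.1, tadd X.2.1 Y.2.1, tadd X.2.2.1 Y.2.2.1, tadd X.2.2.2 Y.2.2.2)

/-- Difference. -/
def qsub (X Y : Q5) : Q5 :=
  (tsub X.1 Y.1, tsub X.2.1 Y.2.1, tsub X.2.2.1 Y.2.2.1, tsub X.2.2.2 Y.2.2.2)

/-- Integer multiple. -/
def qsmul (k : ℤ) (X : Q5) : Q5 :=
  ((k * X.1.1, k * X.1.2), (k * X.2.1.1, k * X.2.1.2), (k * X.2.2.1.1, k * X.2.2.1.2),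
    (k * X.2.2.2.1, k * X.2.2.2.2))

/-- Exact division. -/
def qdiv (k : ℤ) (X : Q5) : Q5 :=
  ((X.1.1 / k, X.1.2 / k), (X.2.1.1 / k, X.2.1.2 / k), (X.2.2.1.1 / k, X.2.2.1.2 / k),
    (X.2.2.2.1 / k, X.2.2.2.2 / k))

/-- Conjugate. -/
def qconj (X : Q5) : Q5 :=
  (X.1, (-X.2.1.1, -X.2.1.2), (-X.2.2.1.1, -X.2.2.1.2), (-X.2.2.2.1, -X.2.2.2.2))

/-- The squared norm of the stored quadruple. -/
def qnorm (X : Q5) : T5 :=
  tadd (tadd (tadd (tmul X.1 X.1) (tmul X.2.1 X.2.1)) (tmul X.2.2.1 X.2.2.1)) (tmul X.2.2.2 X.2.2.2)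

/-- Comparison of integers. -/
def zeq (a b : ℤ) : Bool := decide (a = b)

/-- Comparison of elements. -/
def teq (x y : T5) : Bool := zeq x.1 y.1 && zeq x.2 y.2

/-- Comparison of quadruples. -/
def qeq (X Y : Q5) : Bool :=
  teq X.1 Y.1 && teq X.2.1 Y.2.1 && teq X.2.2.1 Y.2.2.1 && teq X.2.2.2 Y.2.2.2

theorem teq_iff {x y : T5} : teq x y = true ↔ x = y := by
  simp [teq, zeq, Prod.ext_iff]

theorem qeq_iff {X Y : Q5} : qeq X Y = true ↔ X = Y := by
  simp [qeq, teq_iff, Prod.ext_iff, and_assoc]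

/-- The parity conditions cutting out the icosians. -/
def memI (X : Q5) : Bool :=
  zeq ((X.2.2.1.1 - (X.1.2 + X.2.1.1 + X.2.1.2)) % 2) 0 &&
  zeq ((X.2.2.1.2 - (X.1.1 + X.1.2 + X.2.1.1)) % 2) 0 &&
  zeq ((X.2.2.2.1 - (X.1.1 + X.1.2 + X.2.1.2)) % 2) 0 &&
  zeq ((X.2.2.2.2 - (X.1.1 + X.2.1.1 + X.2.1.2)) % 2) 0

/-- The stored form of `h`. -/
def hQ : Q5 := ((1, -2), (1, 0), (1, 0), (1, 0))

/-- Membership of the left ideal of a norm-two element with stored conjugate `G`. -/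
def inIdeal (G Y : Q5) : Bool :=
  qeq (qsmul 4 (qdiv 4 (raw Y G))) (raw Y G) && memI (qdiv 4 (raw Y G))

/-- `a + bτ` as a real number. -/
noncomputable def te (x : T5) : ℝ := (x.1 : ℝ) + (x.2 : ℝ) * tau

theorem tau_sq : tau * tau = tau + 1 := by
  have h : Real.sqrt 5 * Real.sqrt 5 = 5 := Real.mul_self_sqrt (by norm_num)
  unfold tau
  linear_combination (1 / 4 : ℝ) * h

theorem irrational_tau : Irrational tau := by
  have h5 : Irrational (Real.sqrt 5) := by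
    have := Nat.Prime.irrational_sqrt (show Nat.Prime 5 by norm_num)
    exact_mod_cast this
  have : tau = ((1 : ℕ) + Real.sqrt 5) / (2 : ℕ) := by unfold tau; norm_num
  rw [this]
  exact (h5.natCast_add 1).div_natCast (by norm_num)

theorem te_injective : Function.Injective te := by
  intro x y h
  unfold te at h
  by_cases h2 : x.2 = y.2
  · refine Prod.ext ?_ h2
    rw [h2] at h
    exact_mod_cast add_right_cancel h
  · exfalso
    refine irrational_tau ⟨((y.1 - x.1 : ℤ) : ℚ) / ((x.2 - y.2 : ℤ) : ℚ), ?_⟩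
    have hne : ((x.2 : ℝ) - y.2) ≠ 0 := by
      intro e; exact h2 (by exact_mod_cast sub_eq_zero.mp e)
    push_cast
    field_simp
    linarith

theorem te_tmul (x y : T5) : te (tmul x y) = te x * te y := by
  simp only [te, tmul]; push_cast
  linear_combination (-(x.2 : ℝ) * y.2) * tau_sq

theorem te_tadd (x y : T5) : te (tadd x y) = te x + te y := by
  simp only [te, tadd]; push_cast; ring

theorem te_tsub (x y : T5) : te (tsub x y) = te x - te y := by
  simp only [te, tsub]; push_cast; ring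

theorem te_neg (a b : ℤ) : te (-a, -b) = -te (a, b) := by
  simp only [te]; push_cast; ring

theorem te_smul (k a b : ℤ) : te (k * a, k * b) = k * te (a, b) := by
  simp only [te]; push_cast; ring

/-- The icosian stored in `X`. -/
noncomputable def ico (X : Q5) : ℍ[ℝ] :=
  ⟨te X.1 / 2, te X.2.1 / 2, te X.2.2.1 / 2, te X.2.2.2 / 2⟩

theorem ico_re (X : Q5) : (ico X).re = te X.1 / 2 := rfl

theorem ico_imI (X : Q5) : (ico X).imI = te X.2.1 / 2 := rfl

theorem ico_imJ (X : Q5) : (ico X).imJ = te X.2.2.1 / 2 := rfl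

theorem ico_imK (X : Q5) : (ico X).imK = te X.2.2.2 / 2 := rfl

theorem ico_injective : Function.Injective ico := by
  intro X Y h
  have h1 := congrArg QuaternionAlgebra.re h
  have h2 := congrArg QuaternionAlgebra.imI h
  have h3 := congrArg QuaternionAlgebra.imJ h
  have h4 := congrArg QuaternionAlgebra.imK h
  simp only [ico_re, ico_imI, ico_imJ, ico_imK] at h1 h2 h3 h4
  exact Prod.ext (te_injective (by linarith)) (Prod.ext (te_injective (by linarith))
    (Prod.ext (te_injective (by linarith)) (te_injective (by linarith))))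

theorem ico_qadd (X Y : Q5) : ico (qadd X Y) = ico X + ico Y := by
  ext <;> simp [ico_re, ico_imI, ico_imJ, ico_imK, qadd, te_tadd] <;> ring

theorem ico_qsub (X Y : Q5) : ico (qsub X Y) = ico X - ico Y := by
  ext <;> simp [ico_re, ico_imI, ico_imJ, ico_imK, qsub, te_tsub] <;> ring

theorem ico_qsmul (k : ℤ) (X : Q5) : ico (qsmul k X) = (k : ℝ) • ico X := by
  ext <;> simp [ico_re, ico_imI, ico_imJ, ico_imK, qsmul, te_smul] <;> ring

theorem ico_qconj (X : Q5) : ico (qconj X) = star (ico X) := by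
  ext <;> simp [ico_re, ico_imI, ico_imJ, ico_imK, qconj, te_neg] <;> ring

theorem ico_raw (X Y : Q5) : ico (raw X Y) = (2 : ℝ) • (ico X * ico Y) := by
  ext <;> simp [ico_re, ico_imI, ico_imJ, ico_imK, raw, te_tadd, te_tsub, te_tmul] <;> ring

theorem ico_mul_of_raw {X Y Z : Q5} (h : raw X Y = qsmul 2 Z) : ico X * ico Y = ico Z := by
  have h1 := ico_raw X Y
  rw [h, ico_qsmul] at h1
  exact smul_right_injective ℍ[ℝ] (two_ne_zero : (2 : ℝ) ≠ 0) (by simpa using h1.symm)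

theorem ico_zero : ico ((0, 0), (0, 0), (0, 0), (0, 0)) = 0 := by
  ext <;> simp [ico_re, ico_imI, ico_imJ, ico_imK, te]

theorem ico_one : ico ((2, 0), (0, 0), (0, 0), (0, 0)) = 1 := by
  ext <;> simp [ico_re, ico_imI, ico_imJ, ico_imK, te]

theorem ico_nat (k : ℕ) : ico ((2 * k, 0), (0, 0), (0, 0), (0, 0)) = (k : ℍ[ℝ]) := by
  rw [show ((k : ℕ) : ℍ[ℝ]) = (((k : ℝ)) : ℍ[ℝ]) from (Quaternion.coe_natCast k).symm]
  ext <;> simp [ico_re, ico_imI, ico_imJ, ico_imK, te]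

theorem normSq_ico (X : Q5) : Quaternion.normSq (ico X) = te (qnorm X) / 4 := by
  rw [Quaternion.normSq_def']
  simp only [ico_re, ico_imI, ico_imJ, ico_imK, qnorm, te_tadd, te_tmul]
  ring

/-- The first basis vector. -/
def b0 : Q5 := ((1, 0), (0, 0), (0, 1), (1, 1))
/-- The second basis vector. -/
def b1 : Q5 := ((0, 1), (0, 0), (1, 1), (1, 0))
/-- The third basis vector. -/
def b2 : Q5 := ((0, 0), (1, 0), (1, 1), (0, 1))
/-- The fourth basis vector. -/
def b3 : Q5 := ((0, 0), (0, 1), (1, 0), (1, 1))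
/-- The fifth basis vector. -/
def b4 : Q5 := ((0, 0), (0, 0), (2, 0), (0, 0))
/-- The sixth basis vector. -/
def b5 : Q5 := ((0, 0), (0, 0), (0, 2), (0, 0))
/-- The seventh basis vector. -/
def b6 : Q5 := ((0, 0), (0, 0), (0, 0), (2, 0))
/-- The eighth basis vector. -/
def b7 : Q5 := ((0, 0), (0, 0), (0, 0), (0, 2))

/-- A basis of the icosians. -/
def basisI : List Q5 := [b0, b1, b2, b3, b4, b5, b6, b7]

theorem memI_iff {X : Q5} : memI X = true ↔
    (X.2.2.1.1 - (X.1.2 + X.2.1.1 + X.2.1.2)) % 2 = 0 ∧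
    (X.2.2.1.2 - (X.1.1 + X.1.2 + X.2.1.1)) % 2 = 0 ∧
    (X.2.2.2.1 - (X.1.1 + X.1.2 + X.2.1.2)) % 2 = 0 ∧
    (X.2.2.2.2 - (X.1.1 + X.2.1.1 + X.2.1.2)) % 2 = 0 := by
  simp [memI, zeq, and_assoc]

theorem memI_qadd {X Y : Q5} (hX : memI X = true) (hY : memI Y = true) : memI (qadd X Y) = true := by
  rw [memI_iff] at *; simp only [qadd, tadd]; omega

theorem memI_qsub {X Y : Q5} (hX : memI X = true) (hY : memI Y = true) : memI (qsub X Y) = true := by
  rw [memI_iff] at *; simp only [qsub, tsub]; omega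

theorem memI_qconj {X : Q5} (hX : memI X = true) : memI (qconj X) = true := by
  rw [memI_iff] at *; simp only [qconj]; omega

/-- The span of the basis. -/
noncomputable def spanI : AddSubgroup ℍ[ℝ] := AddSubgroup.closure (ico '' {b | b ∈ basisI})

/-- The stored icosians form an additive subgroup. -/
noncomputable def storedI : AddSubgroup ℍ[ℝ] where
  carrier := ico '' {X | memI X = true}
  zero_mem' := ⟨_, by decide, ico_zero⟩
  add_mem' := by
    rintro _ _ ⟨X, hX, rfl⟩ ⟨Y, hY, rfl⟩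
    exact ⟨_, memI_qadd hX hY, ico_qadd X Y⟩
  neg_mem' := by
    rintro _ ⟨X, hX, rfl⟩
    refine ⟨qsub ((0, 0), (0, 0), (0, 0), (0, 0)) X, memI_qsub (by decide) hX, ?_⟩
    rw [ico_qsub, ico_zero, zero_sub]

theorem spanI_eq : spanI = storedI := by
  refine le_antisymm ((AddSubgroup.closure_le _).mpr ?_) ?_
  · rintro _ ⟨b, hb, rfl⟩
    refine ⟨b, ?_, rfl⟩
    simp only [basisI, List.mem_cons, List.not_mem_nil, or_false] at hb
    rcases hb with rfl | rfl | rfl | rfl | rfl | rfl | rfl | rfl <;> decide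
  · rintro _ ⟨X, hX, rfl⟩
    obtain ⟨h1, h2, h3, h4⟩ := memI_iff.mp hX
    obtain ⟨k1, hk1⟩ := Int.dvd_of_emod_eq_zero h1
    obtain ⟨k2, hk2⟩ := Int.dvd_of_emod_eq_zero h2
    obtain ⟨k3, hk3⟩ := Int.dvd_of_emod_eq_zero h3
    obtain ⟨k4, hk4⟩ := Int.dvd_of_emod_eq_zero h4
    have hm : ∀ b ∈ basisI, ∀ c : ℤ, ico (qsmul c b) ∈ spanI := by
      intro b hb c
      rw [ico_qsmul, Int.cast_smul_eq_zsmul]
      exact spanI.zsmul_mem (AddSubgroup.subset_closure ⟨b, hb, rfl⟩) c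
    have hX : X = qadd (qadd (qadd (qsmul X.1.1 b0) (qsmul X.1.2 b1)) (qadd (qsmul X.2.1.1 b2) (qsmul X.2.1.2 b3)))
        (qadd (qadd (qsmul k1 b4) (qsmul k2 b5)) (qadd (qsmul k3 b6) (qsmul k4 b7))) := by
      simp only [qadd, tadd, qsmul, b0, b1, b2, b3, b4, b5, b6, b7, Prod.ext_iff]
      omega
    rw [hX]
    simp only [ico_qadd]
    have hb : ∀ b : Q5, b ∈ basisI ↔ (b = b0 ∨ b = b1 ∨ b = b2 ∨ b = b3 ∨ b = b4 ∨ b = b5 ∨ b = b6 ∨ b = b7) := by
      simp [basisI]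
    refine add_mem (add_mem (add_mem (hm _ ?_ _) (hm _ ?_ _)) (add_mem (hm _ ?_ _) (hm _ ?_ _)))
      (add_mem (add_mem (hm _ ?_ _) (hm _ ?_ _)) (add_mem (hm _ ?_ _) (hm _ ?_ _))) <;> simp [hb]

/-- The check that the basis is closed under multiplication. -/
def basisMulOk : Bool :=
  basisI.all fun a => basisI.all fun b =>
    qeq (qsmul 2 (qdiv 2 (raw a b))) (raw a b) && memI (qdiv 2 (raw a b))

theorem basisMulOk_eq : basisMulOk = true := by decide +kernel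

theorem mul_mem_storedI {x y : ℍ[ℝ]} (hx : x ∈ storedI) (hy : y ∈ storedI) : x * y ∈ storedI := by
  rw [← spanI_eq] at hx hy
  induction hx using AddSubgroup.closure_induction with
  | mem a ha =>
    obtain ⟨a, ha, rfl⟩ := ha
    induction hy using AddSubgroup.closure_induction with
    | mem b hb =>
      obtain ⟨b, hb, rfl⟩ := hb
      have h := List.all_eq_true.mp (List.all_eq_true.mp basisMulOk_eq a ha) b hb
      rw [Bool.and_eq_true, qeq_iff] at h
      exact ⟨_, h.2, (ico_mul_of_raw h.1.symm).symm⟩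
    | zero => rw [mul_zero]; exact zero_mem _
    | add _ _ _ _ h1 h2 => rw [mul_add]; exact add_mem h1 h2
    | neg _ _ h => rw [mul_neg]; exact neg_mem h
  | zero => rw [zero_mul]; exact zero_mem _
  | add _ _ _ _ h1 h2 => rw [add_mul]; exact add_mem h1 h2
  | neg _ _ h => rw [neg_mul]; exact neg_mem h

/-- The stored form of `i`. -/
def iQ : Q5 := ((0, 0), (2, 0), (0, 0), (0, 0))

/-- The stored form of the second generator. -/
def wQ : Q5 := ((1, 0), (1, -1), (0, 0), (0, 1))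

theorem ico_iQ : ico iQ = qI := by
  ext <;> simp [ico_re, ico_imI, ico_imJ, ico_imK, te, iQ, qI]

theorem ico_wQ : ico wQ = ⟨1 / 2, sig / 2, 0, tau / 2⟩ := by
  ext <;> simp [ico_re, ico_imI, ico_imJ, ico_imK, te, wQ, sig, tau]
  ring

theorem icosians_le : (icosians : Set ℍ[ℝ]) ⊆ (storedI : Set ℍ[ℝ]) := by
  let R : Subring ℍ[ℝ] :=
    { storedI with
      one_mem' := ⟨_, by decide, ico_one⟩
      mul_mem' := fun {_ _} hx hy => mul_mem_storedI hx hy }
  show icosians ≤ R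
  rw [icosians, Subring.closure_le]
  rintro _ (rfl | rfl)
  · exact ⟨iQ, by decide, ico_iQ⟩
  · exact ⟨wQ, by decide, ico_wQ⟩

end Cfsg.Agent.Lib.Recognition.J2
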