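import Cfsg.Agent.Lib.Recognition.J2Checks
import Cfsg.Agent.Lib.Recognition.J2CheckSmall

/-!
The 315 lines of minimal vectors of the icosian Leech lattice.
-/

set_option autoImplicit false

namespace Cfsg.Agent.Lib.Recognition.J2

open Cfsg.Spor Quaternion

attribute [local irreducible] bucketOf buckets lineK table

/-- The listed units. -/
def units : Set ℍ[ℝ] := {q | ∃ i < 120, q = ico (unitQ i)}

theorem unitQ_zero : unitQ 0 = oneQ := by
  have h := unitsOk_eq
  simp only [unitsOk, Bool.and_eq_true, qeq_iff] at h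
  exact h.1.1.1

theorem ico_oneQ : ico oneQ = 1 := ico_one

theorem ico_zQ : ico zQ = 0 := ico_zero

theorem one_mem_units : (1 : ℍ[ℝ]) ∈ units := ⟨0, by norm_num, by rw [unitQ_zero, ico_oneQ]⟩

theorem mem_units_of_contains {Y : Q5} (h : unitK.contains (pk Y) = true) (hY : unpk (pk Y) = Y) :
    ico Y ∈ units := by
  have hlen : unitK.length = 120 := by
    have h := unitsOk_eq
    simp only [unitsOk, Bool.and_eq_true, decide_eq_true_eq] at h
    exact h.1.1.2
  rw [List.contains_iff_mem] at h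
  obtain ⟨i, hi, he⟩ := List.getElem_of_mem h
  refine ⟨i, hlen ▸ hi, ?_⟩
  rw [unitQ, ← List.getElem_eq_getD 0 (h := hi), he, hY]

theorem unit_spec {i : ℕ} (hi : i < 120) :
    qnorm (unitQ i) = (4, 0) ∧ star (ico (unitQ i)) ∈ units ∧
      (ico (unitQ i) * ico iQ ∈ units) ∧ (ico (unitQ i) * ico wQ ∈ units) := by
  have h := unitsOk_eq
  simp only [unitsOk, Bool.and_eq_true, List.all_eq_true, List.mem_range, qeq_iff, teq_iff] at h
  obtain ⟨⟨⟨h1, h2⟩, h3⟩, h4⟩ := h.2 i hi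
  refine ⟨h1, ?_, ?_, ?_⟩
  · rw [← ico_qconj]; exact mem_units_of_contains h2 h3
  · obtain ⟨⟨e1, e2⟩, e3⟩ := h4 iQ (by simp)
    rw [ico_mul_of_raw e1.symm]; exact mem_units_of_contains e2 e3
  · obtain ⟨⟨e1, e2⟩, e3⟩ := h4 wQ (by simp)
    rw [ico_mul_of_raw e1.symm]; exact mem_units_of_contains e2 e3

theorem unit_succ {k : ℕ} (hk : k < 119) :
    ∃ p ≤ k, ∃ g ∈ [iQ, wQ], ico (unitQ (k + 1)) = ico (unitQ p) * ico g := by
  have h := unitsOk_eq
  simp only [unitsOk, Bool.and_eq_true, List.all_eq_true, List.mem_range] at h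
  have h' := h.1.2 k hk
  cases hp : unitPar[k]? with
  | none => rw [hp] at h'; simp at h'
  | some e =>
    obtain ⟨p, g⟩ := e
    simp only [hp, Bool.and_eq_true, qeq_iff, Nat.ble_eq] at h'
    exact ⟨p, h'.1, _, by by_cases hg : g = 0 <;> simp [hg], (ico_mul_of_raw h'.2).symm⟩

theorem mul_mem_units {a b : ℍ[ℝ]} (ha : a ∈ units) (hb : b ∈ units) : a * b ∈ units := by
  obtain ⟨j, hj, rfl⟩ := hb
  induction j using Nat.strong_induction_on generalizing a with
  | _ j ih =>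
    cases j with
    | zero => rw [unitQ_zero, ico_oneQ, mul_one]; exact ha
    | succ k =>
      obtain ⟨p, hp, g, hg, he⟩ := unit_succ (show k < 119 by omega)
      rw [he, ← mul_assoc]
      obtain ⟨i, hi, e⟩ := ih p (by omega) ha (by omega)
      obtain ⟨-, -, h1, h2⟩ := unit_spec hi
      rw [e]
      simp only [List.mem_cons, List.not_mem_nil, or_false] at hg
      rcases hg with rfl | rfl
      · exact h1
      · exact h2

theorem star_mem_units {a : ℍ[ℝ]} (ha : a ∈ units) : star a ∈ units := by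
  obtain ⟨i, hi, rfl⟩ := ha; exact (unit_spec hi).2.1

theorem normSq_unit {a : ℍ[ℝ]} (ha : a ∈ units) : Quaternion.normSq a = 1 := by
  obtain ⟨i, hi, rfl⟩ := ha
  rw [normSq_ico, (unit_spec hi).1]
  simp [te]

theorem star_mul_unit {a : ℍ[ℝ]} (ha : a ∈ units) : star a * a = 1 := by
  rw [Quaternion.star_mul_self, normSq_unit ha, Quaternion.coe_one]

theorem mul_star_unit {a : ℍ[ℝ]} (ha : a ∈ units) : a * star a = 1 := by
  rw [Quaternion.self_mul_star, normSq_unit ha, Quaternion.coe_one]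

theorem unitQ_mem_icosians : ∀ {i : ℕ}, i < 120 → ico (unitQ i) ∈ icosians := by
  intro i
  induction i using Nat.strong_induction_on with
  | _ i ih =>
    intro hi
    cases i with
    | zero => rw [unitQ_zero, ico_oneQ]; exact one_mem _
    | succ k =>
      obtain ⟨p, hp, g, hg, he⟩ := unit_succ (show k < 119 by omega)
      rw [he]
      refine mul_mem (ih p (by omega) (by omega)) (Subring.subset_closure ?_)
      simp only [List.mem_cons, List.not_mem_nil, or_false] at hg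
      rcases hg with rfl | rfl
      · exact Or.inl ico_iQ
      · exact Or.inr ico_wQ

theorem units_subset {a : ℍ[ℝ]} (ha : a ∈ units) : a ∈ icosians := by
  obtain ⟨i, hi, rfl⟩ := ha; exact unitQ_mem_icosians hi

theorem storedI_le : ∀ x ∈ storedI, x ∈ icosians := by
  intro x hx
  rw [← spanI_eq] at hx
  induction hx using AddSubgroup.closure_induction with
  | mem y hy =>
    obtain ⟨b, hb, rfl⟩ := hy
    have h := basisSumsOk_eq
    simp only [basisSumsOk, Bool.and_eq_true, List.all_eq_true, List.any_eq_true, qeq_iff] at h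
    obtain ⟨e, he, rfl⟩ := h.1 b hb
    obtain ⟨hlt, hsum⟩ := h.2 e he
    rw [← hsum]
    have hl : ∀ l : List ℕ, (∀ i ∈ l, i < 120) → ico ((l.map unitQ).foldr qadd zQ) ∈ icosians := by
      intro l
      induction l with
      | nil => intro _; simp [ico_zQ, zero_mem]
      | cons a l ihl =>
        intro hal
        rw [List.map_cons, List.foldr_cons, ico_qadd]
        exact add_mem (unitQ_mem_icosians (hal a (List.mem_cons_self ..)))
          (ihl fun i hi => hal i (List.mem_cons_of_mem _ hi))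
    exact hl e.2 fun i hi => by simpa using hlt i hi
  | zero => exact zero_mem _
  | add _ _ _ _ h1 h2 => exact add_mem h1 h2
  | neg _ _ h => exact neg_mem h

theorem mem_icosians_iff {x : ℍ[ℝ]} : x ∈ icosians ↔ ∃ X, memI X = true ∧ ico X = x :=
  ⟨fun h => icosians_le h, fun h => storedI_le x h⟩

theorem ico_hQ : ico hQ = icoH := by
  ext <;> simp [ico_re, ico_imI, ico_imJ, ico_imK, te, hQ, icoH, tau]
  ring

theorem qsmul_qdiv {k : ℤ} (hk : k ≠ 0) (Z : Q5) : qdiv k (qsmul k Z) = Z := by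
  simp only [qdiv, qsmul, Int.mul_ediv_cancel_left _ hk, Prod.mk.eta]

theorem ico_hQ_mul : ico hQ * ico hbQ = 2 := by
  rw [ico_mul_of_raw (Z := ((4, 0), (0, 0), (0, 0), (0, 0))) (by decide)]
  exact_mod_cast ico_nat 2

theorem ico_hbQ_mul : ico hbQ * ico hQ = 2 := by
  rw [ico_mul_of_raw (Z := ((4, 0), (0, 0), (0, 0), (0, 0))) (by decide)]
  exact_mod_cast ico_nat 2

theorem two_smul_eq (x : ℍ[ℝ]) : (2 : ℝ) • x = x * 2 := by rw [two_smul, mul_two]

theorem mem_leftIdeal_iff {G Y : Q5} {g : ℍ[ℝ]} (h1 : ico G * g = 2) (h2 : g * ico G = 2) :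
    ico Y ∈ leftIdeal g ↔ inIdeal G Y = true := by
  simp only [inIdeal, Bool.and_eq_true, qeq_iff]
  constructor
  · rintro ⟨a, ha, he⟩
    obtain ⟨A, hA, rfl⟩ := mem_icosians_iff.mp ha
    have : raw Y G = qsmul 4 A := by
      apply ico_injective
      rw [ico_raw, he, mul_assoc, h2, ico_qsmul, two_smul_eq, mul_assoc]
      push_cast
      rw [show (4 : ℝ) = 2 * 2 by norm_num, mul_smul, two_smul_eq, two_smul_eq, mul_assoc]
    rw [this, qsmul_qdiv (by norm_num)]
    exact ⟨rfl, hA⟩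
  · rintro ⟨he, hm⟩
    refine ⟨_, mem_icosians_iff.mpr ⟨_, hm, rfl⟩, ?_⟩
    have h3 := ico_raw Y G
    rw [← he, ico_qsmul] at h3
    push_cast at h3
    have h4 : (2 : ℝ) • ico (qdiv 4 (raw Y G)) = ico Y * ico G := by
      apply smul_right_injective ℍ[ℝ] (two_ne_zero : (2 : ℝ) ≠ 0)
      show (2 : ℝ) • (2 : ℝ) • _ = (2 : ℝ) • _
      rw [smul_smul, show (2 : ℝ) * 2 = 4 by norm_num, h3]
    have h5 := congrArg (· * g) h4
    simp only [smul_mul_assoc, mul_assoc, h1] at h5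
    apply smul_right_injective ℍ[ℝ] (two_ne_zero : (2 : ℝ) ≠ 0)
    show (2 : ℝ) • _ = (2 : ℝ) • _
    rw [h5, two_smul_eq]

theorem mem_idealH_iff {Y : Q5} : ico Y ∈ leftIdeal icoH ↔ inIdeal hbQ Y = true := by
  rw [← ico_hQ]; exact mem_leftIdeal_iff ico_hbQ_mul ico_hQ_mul

theorem star_icoH : star icoH = ico hbQ := by rw [← ico_hQ, ← ico_qconj]; rfl

theorem mem_idealHb_iff {Y : Q5} : ico Y ∈ leftIdeal (star icoH) ↔ inIdeal hQ Y = true := by
  rw [star_icoH]; exact mem_leftIdeal_iff ico_hQ_mul ico_hbQ_mul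

theorem leftIdeal_sub {q x y : ℍ[ℝ]} (hx : x ∈ leftIdeal q) (hy : y ∈ leftIdeal q) :
    x - y ∈ leftIdeal q := by
  obtain ⟨a, ha, rfl⟩ := hx
  obtain ⟨b, hb, rfl⟩ := hy
  exact ⟨a - b, sub_mem ha hb, (sub_mul a b q).symm⟩

theorem leftIdeal_mul {q a x : ℍ[ℝ]} (ha : a ∈ icosians) (hx : x ∈ leftIdeal q) :
    a * x ∈ leftIdeal q := by
  obtain ⟨b, hb, rfl⟩ := hx
  exact ⟨a * b, mul_mem ha hb, (mul_assoc a b q).symm⟩

theorem leftIdeal_add {q x y : ℍ[ℝ]} (hx : x ∈ leftIdeal q) (hy : y ∈ leftIdeal q) :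
    x + y ∈ leftIdeal q := by
  obtain ⟨a, ha, rfl⟩ := hx
  obtain ⟨b, hb, rfl⟩ := hy
  exact ⟨a + b, add_mem ha hb, (add_mul a b q).symm⟩

theorem icoLeech_smul {a : ℍ[ℝ]} (ha : a ∈ icosians) {x : Fin 3 → ℍ[ℝ]} (hx : x ∈ icoLeech) :
    a • x ∈ icoLeech := by
  refine ⟨fun t => mul_mem ha (hx.1 t), ?_, ?_, ?_⟩
  · simpa [mul_sub] using leftIdeal_mul ha hx.2.1
  · simpa [mul_sub] using leftIdeal_mul ha hx.2.2.1
  · simpa [mul_add] using leftIdeal_mul ha hx.2.2.2

theorem icoLeech_add {x y : Fin 3 → ℍ[ℝ]} (hx : x ∈ icoLeech) (hy : y ∈ icoLeech) :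
    x + y ∈ icoLeech := by
  refine ⟨fun t => add_mem (hx.1 t) (hy.1 t), ?_, ?_, ?_⟩
  · have := leftIdeal_add hx.2.1 hy.2.1
    simp only [Pi.add_apply]; convert this using 1; abel
  · have := leftIdeal_add hx.2.2.1 hy.2.2.1
    simp only [Pi.add_apply]; convert this using 1; abel
  · have := leftIdeal_add hx.2.2.2 hy.2.2.2
    simp only [Pi.add_apply]; convert this using 1; abel

/-- The vector stored in a triple. -/
noncomputable def vec (v : Q5 × Q5 × Q5) : Fin 3 → ℍ[ℝ] := ![ico v.1, ico v.2.1, ico v.2.2]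

theorem vec_injective : Function.Injective vec := by
  intro v w h
  exact Prod.ext (ico_injective (congrFun h 0))
    (Prod.ext (ico_injective (congrFun h 1)) (ico_injective (congrFun h 2)))

theorem inLam_iff {v : Q5 × Q5 × Q5} : inLam v = true ↔
    memI v.1 = true ∧ memI v.2.1 = true ∧ memI v.2.2 = true ∧ inIdeal hbQ (qsub v.1 v.2.1) = true ∧
      inIdeal hbQ (qsub v.2.1 v.2.2) = true ∧ inIdeal hQ (qadd (qadd v.1 v.2.1) v.2.2) = true := by
  simp [inLam, and_assoc]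

theorem vec_mem {v : Q5 × Q5 × Q5} (h : inLam v = true) : vec v ∈ icoLeech := by
  obtain ⟨h0, h1, h2, h3, h4, h5⟩ := inLam_iff.mp h
  refine ⟨fun t => ?_, ?_, ?_, ?_⟩
  · fin_cases t <;> exact mem_icosians_iff.mpr ⟨_, ‹_›, rfl⟩
  · have := mem_idealH_iff.mpr h3; rwa [ico_qsub] at this
  · have := mem_idealH_iff.mpr h4; rwa [ico_qsub] at this
  · have := mem_idealHb_iff.mpr h5; rwa [ico_qadd, ico_qadd] at this

theorem exists_vec {x : Fin 3 → ℍ[ℝ]} (hx : x ∈ icoLeech) : ∃ v, vec v = x ∧ inLam v = true := by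
  obtain ⟨X, hX, e0⟩ := mem_icosians_iff.mp (hx.1 0)
  obtain ⟨Y, hY, e1⟩ := mem_icosians_iff.mp (hx.1 1)
  obtain ⟨Z, hZ, e2⟩ := mem_icosians_iff.mp (hx.1 2)
  refine ⟨(X, Y, Z), ?_, ?_⟩
  · funext t; fin_cases t
    · exact e0
    · exact e1
    · exact e2
  · have h3 := hx.2.1; have h4 := hx.2.2.1; have h5 := hx.2.2.2
    rw [← e0, ← e1, ← e2] at h5
    rw [← e0, ← e1] at h3
    rw [← e1, ← e2] at h4
    rw [← ico_qsub] at h3 h4
    rw [← ico_qadd, ← ico_qadd] at h5
    exact inLam_iff.mpr ⟨hX, hY, hZ, mem_idealH_iff.mp h3, mem_idealH_iff.mp h4, mem_idealHb_iff.mp h5⟩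

theorem qip_self (x : Fin 3 → ℍ[ℝ]) :
    qip x x = ((Quaternion.normSq (x 0) + Quaternion.normSq (x 1) + Quaternion.normSq (x 2) : ℝ) : ℍ[ℝ]) := by
  simp [qip, Fin.sum_univ_three, Quaternion.self_mul_star]

/-- The sum of the three stored norms. -/
def norm3 (v : Q5 × Q5 × Q5) : T5 := tadd (tadd (qnorm v.1) (qnorm v.2.1)) (qnorm v.2.2)

theorem qip_vec_iff {v : Q5 × Q5 × Q5} : qip (vec v) (vec v) = 4 ↔ norm3 v = (16, 0) := by
  rw [qip_self]
  simp only [vec, Matrix.cons_val_zero, Matrix.cons_val_one, Matrix.cons_val, normSq_ico]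
  rw [show (4 : ℍ[ℝ]) = ((4 : ℝ) : ℍ[ℝ]) by norm_cast, Quaternion.coe_inj, ← te_injective.eq_iff]
  simp only [norm3, te_tadd]
  constructor <;> intro h
  · rw [show te ((16 : ℤ), 0) = 16 by simp [te]]; linarith
  · rw [show te ((16 : ℤ), 0) = 16 by simp [te]] at h; linarith

/-- The cone of totally positive elements. -/
def Pos (n : T5) : Prop := 0 ≤ 2 * n.1 + n.2 ∧ 5 * (n.2 * n.2) ≤ (2 * n.1 + n.2) * (2 * n.1 + n.2)

theorem pos_sq (x : T5) : Pos (tmul x x) := by
  obtain ⟨a, b⟩ := x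
  simp only [Pos, tmul]
  constructor
  · nlinarith [sq_nonneg (2 * a + b), sq_nonneg b]
  · nlinarith [sq_nonneg (a * a + a * b - b * b)]

theorem pos_tadd {x y : T5} (hx : Pos x) (hy : Pos y) : Pos (tadd x y) := by
  obtain ⟨hx0, hx1⟩ := hx
  obtain ⟨hy0, hy1⟩ := hy
  simp only [Pos, tadd]
  refine ⟨by linarith, ?_⟩
  have h2 : 5 * (x.2 * y.2) ≤ (2 * x.1 + x.2) * (2 * y.1 + y.2) := by
    refine le_trans (le_abs_self _) (abs_le_of_sq_le_sq ?_ (mul_nonneg hx0 hy0))
    calc (5 * (x.2 * y.2)) ^ 2 = (5 * (x.2 * x.2)) * (5 * (y.2 * y.2)) := by ring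
      _ ≤ ((2 * x.1 + x.2) * (2 * x.1 + x.2)) * ((2 * y.1 + y.2) * (2 * y.1 + y.2)) :=
          mul_le_mul hx1 hy1 (by nlinarith [mul_self_nonneg y.2]) (mul_self_nonneg _)
      _ = _ := by ring
  nlinarith

theorem pos_qnorm (X : Q5) : Pos (qnorm X) :=
  pos_tadd (pos_tadd (pos_tadd (pos_sq _) (pos_sq _)) (pos_sq _)) (pos_sq _)

theorem qnorm_fst (X : Q5) : (qnorm X).1 = X.1.1 * X.1.1 + X.1.2 * X.1.2 + X.2.1.1 * X.2.1.1 +
    X.2.1.2 * X.2.1.2 + X.2.2.1.1 * X.2.2.1.1 + X.2.2.1.2 * X.2.2.1.2 + X.2.2.2.1 * X.2.2.2.1 +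
    X.2.2.2.2 * X.2.2.2.2 := by
  simp only [qnorm, tadd, tmul]; ring

theorem qnorm_fst_nonneg (X : Q5) : 0 ≤ (qnorm X).1 := by
  rw [qnorm_fst]
  linarith [mul_self_nonneg X.1.1, mul_self_nonneg X.1.2, mul_self_nonneg X.2.1.1, mul_self_nonneg X.2.1.2,
    mul_self_nonneg X.2.2.1.1, mul_self_nonneg X.2.2.1.2, mul_self_nonneg X.2.2.2.1, mul_self_nonneg X.2.2.2.2]

/-- An icosian that may occur in a vector of norm four. -/
def Small (X : Q5) : Prop := memI X = true ∧ (qnorm X).1 ≤ 16 ∧ okN (qnorm X) = true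

theorem small_of_norm {X Y Z : Q5} (hX : memI X = true)
    (h : tadd (tadd (qnorm X) (qnorm Y)) (qnorm Z) = (16, 0)) : Small X := by
  simp only [tadd, Prod.ext_iff] at h
  obtain ⟨h1, h2⟩ := h
  have hP := pos_tadd (pos_qnorm Y) (pos_qnorm Z)
  simp only [Pos, tadd] at hP
  refine ⟨hX, ?_, ?_⟩
  · linarith [qnorm_fst_nonneg Y, qnorm_fst_nonneg Z]
  · simp only [okN, Bool.and_eq_true, decide_eq_true_eq]
    have e : 2 * (16 - (qnorm X).1) - (qnorm X).2 =
        2 * ((qnorm Y).1 + (qnorm Z).1) + ((qnorm Y).2 + (qnorm Z).2) := by linarith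
    have e2 : (qnorm X).2 * (qnorm X).2 =
        ((qnorm Y).2 + (qnorm Z).2) * ((qnorm Y).2 + (qnorm Z).2) := by
      rw [show (qnorm X).2 = -((qnorm Y).2 + (qnorm Z).2) by linarith]; ring
    rw [e, e2]; exact hP

theorem mem_vals {c : ℤ} (h : c * c ≤ 16) : c ∈ vals := by
  have h1 : -4 ≤ c := by nlinarith
  have h2 : c ≤ 4 := by nlinarith
  simp only [vals, List.mem_cons, List.not_mem_nil, or_false]
  omega

theorem pick_apply {b : ℤ} {f : ℤ → ℤ → Bool} (h : pick b f = true) {c : ℤ} (hc : c * c ≤ b)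
    (hb : b ≤ 16) : f c (b - c * c) = true := by
  have := List.all_eq_true.mp h c (mem_vals (hc.trans hb))
  simpa [hc] using this

theorem pickPar_apply {s b : ℤ} {f : ℤ → ℤ → Bool} (h : pickPar s b f = true) {c : ℤ}
    (hs : (c - s) % 2 = 0) (hc : c * c ≤ b) (hb : b ≤ 16) : f c (b - c * c) = true := by
  have := List.all_eq_true.mp h c (mem_vals (hc.trans hb))
  simpa [hc, hs] using this

theorem small_info {X : Q5} (hX : Small X) : infoOk X = true := by
  obtain ⟨⟨a0, a1⟩, ⟨a2, a3⟩, ⟨a4, a5⟩, ⟨a6, a7⟩⟩ := X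
  obtain ⟨hm, hn, hok⟩ := hX
  rw [qnorm_fst] at hn
  obtain ⟨p4, p5, p6, p7⟩ := memI_iff.mp hm
  simp only at hn p4 p5 p6 p7
  have q0 := mul_self_nonneg a0
  have q1 := mul_self_nonneg a1
  have q2 := mul_self_nonneg a2
  have q3 := mul_self_nonneg a3
  have q4 := mul_self_nonneg a4
  have q5 := mul_self_nonneg a5
  have q6 := mul_self_nonneg a6
  have q7 := mul_self_nonneg a7
  have h0 := List.all_eq_true.mp (List.all_eq_true.mp allSmall_eq a0 (mem_vals (by linarith))) a1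
    (mem_vals (by linarith))
  rw [smallAt, if_pos (by linarith), if_pos (by linarith)] at h0
  have h2 := pick_apply h0 (c := a2) (by linarith) (by linarith)
  have h3 := pick_apply h2 (c := a3) (by linarith) (by linarith)
  have h4 := pickPar_apply h3 (c := a4) p4 (by linarith) (by linarith)
  have h5 := pickPar_apply h4 (c := a5) p5 (by linarith) (by linarith)
  have h6 := pickPar_apply h5 (c := a6) p6 (by linarith) (by linarith)
  have h7 := pickPar_apply h6 (c := a7) p7 (by linarith) (by linarith)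
  simpa [hok] using h7

theorem info_spec {X : Q5} (hX : Small X) :
    unpk (pk X) = X ∧ bucketOf X < 16 ∧ inIdeal hbQ (qsub X (bktQ (bucketOf X))) = true ∧
      (X = zQ ∨ ∃ u < 120, ∃ r < 51, raw (unitQ u) X = qsmul 2 (repQ r)) ∧
      ∃ l, (qnorm X, l) ∈ buckets.getD (bucketOf X) [] ∧ pk X ∈ l := by
  have h := small_info hX
  unfold infoOk at h
  cases hf : table.find (pk X) with
  | none => rw [hf] at h; simp at h
  | some v =>
    have hb : bucketOf X = v / 16384 % 16 := by unfold bucketOf; rw [hf]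
    simp only [hf, Bool.and_eq_true, Bool.or_eq_true, qeq_iff, Nat.blt_eq] at h
    obtain ⟨⟨⟨h1, h2⟩, h3⟩, h4⟩ := h
    refine ⟨h1, by omega, hb ▸ h2, h3.imp id fun h => ⟨_, h.1.2, _, h.1.1, h.2⟩, ?_⟩
    rw [hb]
    cases hc : (buckets.getD (v / 16384 % 16) [])[v / 1024 % 16]? with
    | none => rw [hc] at h4; simp at h4
    | some c =>
      obtain ⟨m, l⟩ := c
      simp only [hc, Bool.and_eq_true, teq_iff] at h4
      cases hl : l[v % 1024]? with
      | none => rw [hl] at h4; simp at h4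
      | some K =>
        simp only [hl, Nat.beq_eq] at h4
        obtain ⟨h5, h6⟩ := h4
        subst h5
        exact ⟨l, List.mem_of_getElem? hc, h6 ▸ List.mem_of_getElem? hl⟩

theorem bucketOf_eq {X Y : Q5} (hX : Small X) (hY : Small Y) (h : ico X - ico Y ∈ leftIdeal icoH) :
    bucketOf X = bucketOf Y := by
  obtain ⟨-, hbX, hcX, -, -⟩ := info_spec hX
  obtain ⟨-, hbY, hcY, -, -⟩ := info_spec hY
  have h1 := mem_idealH_iff.mpr hcX
  have h2 := mem_idealH_iff.mpr hcY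
  rw [ico_qsub] at h1 h2
  have h3 : ico (qsub (bktQ (bucketOf X)) (bktQ (bucketOf Y))) ∈ leftIdeal icoH := by
    have := leftIdeal_sub (leftIdeal_add h h2) h1
    rw [ico_qsub]
    convert this using 1
    abel
  have hk := List.all_eq_true.mp (List.all_eq_true.mp bucketsOk_eq _ (List.mem_range.mpr hbX)) _
    (List.mem_range.mpr hbY)
  simp only [Bool.or_eq_true, Nat.beq_eq, Bool.not_eq_true'] at hk
  rcases hk with hk | hk
  · exact hk
  · rw [mem_idealH_iff.mp h3] at hk; simp at hk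

/-- A listed minimal vector. -/
noncomputable def lvec (l : ℕ) : Fin 3 → ℍ[ℝ] := vec (lineQ l)

theorem line_spec {l : ℕ} (hl : l < 315) :
    lineK.getD l (0, 0, 0) = (pk (lineQ l).1, pk (lineQ l).2.1, pk (lineQ l).2.2) ∧
      inLam (lineQ l) = true ∧ norm3 (lineQ l) = (16, 0) ∧
      (((lineQ l).1 ≠ zQ ∧ isRep (lineQ l).1 = true) ∨
        ((lineQ l).1 = zQ ∧ (lineQ l).2.1 ≠ zQ ∧ isRep (lineQ l).2.1 = true) ∨
        ((lineQ l).1 = zQ ∧ (lineQ l).2.1 = zQ ∧ (lineQ l).2.2 ≠ zQ ∧ isRep (lineQ l).2.2 = true)) := by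
  have h := linesOk_eq
  simp only [linesOk, Bool.and_eq_true, List.all_eq_true, List.mem_range] at h
  obtain ⟨⟨⟨h1, h2⟩, h3⟩, h4⟩ := h.2 l hl
  refine ⟨by simpa using h1, h2, teq_iff.mp h3, ?_⟩
  simpa [qeq_iff, ← Bool.not_eq_true, and_assoc, or_assoc] using h4

theorem lineK_length : lineK.length = 315 := by
  have h := linesOk_eq
  simp only [linesOk, Bool.and_eq_true, decide_eq_true_eq] at h
  exact h.1.1

theorem lineK_nodup : lineK.Nodup := by
  have h := linesOk_eq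
  simp only [linesOk, Bool.and_eq_true, decide_eq_true_eq] at h
  exact h.1.2

theorem lvec_mem {l : ℕ} (hl : l < 315) : lvec l ∈ icoLeech := vec_mem (line_spec hl).2.1

theorem lvec_norm {l : ℕ} (hl : l < 315) : qip (lvec l) (lvec l) = 4 :=
  qip_vec_iff.mpr (line_spec hl).2.2.1

theorem lineQ_inj {k l : ℕ} (hk : k < 315) (hl : l < 315) (h : lineQ k = lineQ l) : k = l := by
  have h1 := (line_spec hk).1
  rw [h, ← (line_spec hl).1, ← List.getElem_eq_getD (0, 0, 0) (h := lineK_length ▸ hk),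
    ← List.getElem_eq_getD (0, 0, 0) (h := lineK_length ▸ hl)] at h1
  exact (List.Nodup.getElem_inj_iff lineK_nodup).mp h1

theorem repK_length : repK.length = 51 := by
  have h := repsOk_eq
  simp only [repsOk, Bool.and_eq_true, decide_eq_true_eq] at h
  exact h.1

theorem rep_spec {r : ℕ} (hr : r < 51) : unpk (pk (repQ r)) = repQ r ∧ repQ r ≠ zQ := by
  have h := repsOk_eq
  simp only [repsOk, Bool.and_eq_true, List.all_eq_true, List.mem_range] at h
  obtain ⟨⟨h1, h2⟩, -⟩ := h.2 r hr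
  exact ⟨qeq_iff.mp h1, by simpa [qeq_iff, ← Bool.not_eq_true] using h2⟩

theorem repPk_ok : (List.range 51).all (fun r => Nat.beq (pk (repQ r)) (repK.getD r 0)) = true := by
  decide +kernel

theorem pk_rep {r : ℕ} (hr : r < 51) : repK.contains (pk (repQ r)) = true := by
  rw [List.contains_iff_mem]
  have h : repK.getD r 0 ∈ repK := by
    rw [← List.getElem_eq_getD 0 (h := repK_length ▸ hr)]; exact List.getElem_mem _
  have hpk : pk (repQ r) = repK.getD r 0 := by
    simpa using List.all_eq_true.mp repPk_ok r (List.mem_range.mpr hr)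
  rwa [hpk]

/-- Normalised minimal vectors are listed. -/
theorem line_of_normalised {X Y Z : Q5} (hv : inLam (X, Y, Z) = true)
    (hn : norm3 (X, Y, Z) = (16, 0))
    (hrep : (∃ r < 51, X = repQ r) ∨
      (X = zQ ∧ ((∃ r < 51, Y = repQ r) ∨ (Y = zQ ∧ ∃ r < 51, Z = repQ r)))) :
    ∃ l < 315, lineQ l = (X, Y, Z) := by
  have hn' := hn
  simp only [norm3, tadd, Prod.ext_iff] at hn
  obtain ⟨hX, hY, hZ, hxy, hyz, hsum⟩ := inLam_iff.mp hv
  dsimp only at hX hY hZ hxy hyz hsum hn'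
  have sX : Small X := small_of_norm (Y := Y) (Z := Z) hX hn'
  have sY : Small Y := small_of_norm (Y := X) (Z := Z) hY (by
    simp only [tadd, Prod.ext_iff]; omega)
  have sZ : Small Z := small_of_norm (Y := X) (Z := Y) hZ (by
    simp only [tadd, Prod.ext_iff]; omega)
  have bXY : bucketOf X = bucketOf Y := bucketOf_eq sX sY (by rw [← ico_qsub]; exact mem_idealH_iff.mpr hxy)
  have bYZ : bucketOf Y = bucketOf Z := bucketOf_eq sY sZ (by rw [← ico_qsub]; exact mem_idealH_iff.mpr hyz)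
  obtain ⟨pX, -, -, -, -⟩ := info_spec sX
  obtain ⟨pY, -, -, -, ly, hly, hky⟩ := info_spec sY
  obtain ⟨pZ, -, -, -, lz, hlz, hkz⟩ := info_spec sZ
  have key : ∀ cond : ℕ → ℕ → Bool, triplesOk X cond = true → cond (pk Y) (pk Z) = true →
      lineK.contains (pk X, pk Y, pk Z) = true := by
    intro cond h hc
    simp only [triplesOk, List.all_eq_true] at h
    have hly' : (qnorm Y, ly) ∈ buckets.getD (bucketOf X) [] := by rw [bXY]; exact hly
    have hlz' : (qnorm Z, lz) ∈ buckets.getD (bucketOf X) [] := by rw [bXY, bYZ]; exact hlz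
    have h1 := h _ hly' _ hlz'
    rw [if_pos (teq_iff.mpr (by simp only [tsub, Prod.ext_iff]; omega))] at h1
    have h2 := List.all_eq_true.mp (List.all_eq_true.mp h1 _ hky) _ hkz
    rw [if_pos hc, pY, pZ, if_pos hsum] at h2
    exact h2
  have hE := enumOk_eq
  simp only [enumOk, Bool.and_eq_true, List.all_eq_true, List.mem_range] at hE
  have hc : lineK.contains (pk X, pk Y, pk Z) = true := by
    rcases hrep with ⟨r, hr, rfl⟩ | ⟨rfl, h⟩
    · exact key _ (hE.1 r hr) rfl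
    · refine key _ hE.2 ?_
      rcases h with ⟨r, hr, rfl⟩ | ⟨rfl, r, hr, rfl⟩
      · simp only [pk_rep hr, Bool.true_or]
      · simp only [pk_rep hr, Bool.and_true, Bool.or_eq_true]; exact Or.inr (Nat.beq_refl _)
  rw [List.contains_iff_mem] at hc
  obtain ⟨l, hl, he⟩ := List.getElem_of_mem hc
  refine ⟨l, lineK_length ▸ hl, ?_⟩
  unfold lineQ
  rw [← List.getElem_eq_getD (0, 0, 0) (h := hl), he]
  simp only [pX, pY, pZ]

theorem qip_smul_smul (a : ℍ[ℝ]) (x : Fin 3 → ℍ[ℝ]) (ha : Quaternion.normSq a = 1) :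
    qip (a • x) (a • x) = qip x x := by
  rw [qip_self, qip_self]
  simp [map_mul, ha]

/-- Every minimal vector is a unit multiple of a listed one. -/
theorem exists_line {x : Fin 3 → ℍ[ℝ]} (hx : x ∈ icoLeech) (hn : qip x x = 4) :
    ∃ u ∈ units, ∃ l < 315, x = u • lvec l := by
  obtain ⟨⟨X, Y, Z⟩, rfl, hv⟩ := exists_vec hx
  have hn3 : norm3 (X, Y, Z) = (16, 0) := qip_vec_iff.mp hn
  obtain ⟨hX, hY, hZ, -⟩ := inLam_iff.mp hv
  have hn' := hn3
  simp only [norm3, tadd, Prod.ext_iff] at hn'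
  have sX : Small X := small_of_norm (Y := Y) (Z := Z) hX hn3
  have sY : Small Y := small_of_norm (Y := X) (Z := Z) hY (by
    simp only [tadd, Prod.ext_iff]; omega)
  have sZ : Small Z := small_of_norm (Y := X) (Z := Y) hZ (by
    simp only [tadd, Prod.ext_iff]; omega)
  have go : ∀ u < 120, ∀ (W : Q5), (∃ r < 51, raw (unitQ u) W = qsmul 2 (repQ r)) →
      ((W = X) ∨ (X = zQ ∧ W = Y) ∨ (X = zQ ∧ Y = zQ ∧ W = Z)) →
      ∃ u ∈ units, ∃ l < 315, vec (X, Y, Z) = u • lvec l := by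
    intro u hu W hW hpos
    obtain ⟨r, hr, hraw⟩ := hW
    have hum : ico (unitQ u) ∈ units := ⟨u, hu, rfl⟩
    obtain ⟨⟨X', Y', Z'⟩, hv', hv'L⟩ := exists_vec (icoLeech_smul (units_subset hum) (vec_mem hv))
    have hn'' : norm3 (X', Y', Z') = (16, 0) := qip_vec_iff.mp (by
      rw [hv', qip_smul_smul _ _ (normSq_unit hum)]; exact hn)
    have e0 : ico X' = ico (unitQ u) * ico X := congrFun hv' 0
    have e1 : ico Y' = ico (unitQ u) * ico Y := congrFun hv' 1
    have e2 : ico Z' = ico (unitQ u) * ico Z := congrFun hv' 2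
    have eW : ico (unitQ u) * ico W = ico (repQ r) := ico_mul_of_raw hraw
    have hz : ∀ A B : Q5, ico B = ico (unitQ u) * ico A → A = zQ → B = zQ := fun A B h h0 =>
      ico_injective (by rw [h, h0, ico_zQ, mul_zero])
    obtain ⟨l, hl, hle⟩ := line_of_normalised hv'L hn'' (by
      rcases hpos with rfl | ⟨h0, rfl⟩ | ⟨h0, h1, rfl⟩
      · exact Or.inl ⟨r, hr, ico_injective (e0.trans eW)⟩
      · exact Or.inr ⟨hz _ _ e0 h0, Or.inl ⟨r, hr, ico_injective (e1.trans eW)⟩⟩
      · exact Or.inr ⟨hz _ _ e0 h0, Or.inr ⟨hz _ _ e1 h1, r, hr, ico_injective (e2.trans eW)⟩⟩)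
    refine ⟨star (ico (unitQ u)), star_mem_units hum, l, hl, ?_⟩
    rw [lvec, hle, hv', smul_smul, star_mul_unit hum, one_smul]
  by_cases hX0 : X = zQ
  · by_cases hY0 : Y = zQ
    · obtain ⟨-, -, -, h, -⟩ := info_spec sZ
      rcases h with h | ⟨u, hu, h⟩
      · exfalso
        subst hX0 hY0 h
        exact absurd hn3 (by decide)
      · exact go u hu Z h (Or.inr (Or.inr ⟨hX0, hY0, rfl⟩))
    · obtain ⟨-, -, -, h, -⟩ := info_spec sY
      obtain ⟨u, hu, h⟩ := h.resolve_left hY0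
      exact go u hu Y h (Or.inr (Or.inl ⟨hX0, rfl⟩))
  · obtain ⟨-, -, -, h, -⟩ := info_spec sX
    obtain ⟨u, hu, h⟩ := h.resolve_left hX0
    exact go u hu X h (Or.inl rfl)

theorem rep_unit_eq {X Y : Q5} (hX : isRep X = true) (hY : isRep Y = true) (pX : unpk (pk X) = X)
    (pY : unpk (pk Y) = Y) {w : ℍ[ℝ]} (hw : w ∈ units) (h : w * ico X = ico Y) :
    w = 1 ∧ X = Y := by
  rw [isRep, List.contains_iff_mem] at hX hY
  obtain ⟨r, hr, er⟩ := List.getElem_of_mem hX
  obtain ⟨r', hr', er'⟩ := List.getElem_of_mem hY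
  have eX : repQ r = X := by rw [repQ, ← List.getElem_eq_getD 0 (h := hr), er, pX]
  have eY : repQ r' = Y := by rw [repQ, ← List.getElem_eq_getD 0 (h := hr'), er', pY]
  rw [repK_length] at hr hr'
  have hnorm : qnorm X = qnorm Y := by
    apply te_injective
    have h1 := congrArg Quaternion.normSq h
    rw [map_mul, normSq_unit hw, normSq_ico, normSq_ico] at h1
    linarith
  have hrr : r = r' := by
    have hk := repsOk_eq
    simp only [repsOk, Bool.and_eq_true, List.all_eq_true, List.mem_range, Bool.or_eq_true] at hk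
    rcases (hk.2 r hr).2 r' hr' with (h1 | h1) | h1
    · simpa using h1
    · rw [eX, eY, teq_iff.mpr hnorm] at h1; simp at h1
    · exfalso
      obtain ⟨i, hi, rfl⟩ := hw
      have h2 := h1 i hi
      have h3 : raw (unitQ i) X = qsmul 2 Y := ico_injective (by
        rw [ico_raw, h, ico_qsmul]; norm_num)
      rw [eX, eY, qeq_iff.mpr h3] at h2
      simp at h2
  subst hrr
  have hXY : X = Y := eX.symm.trans eY
  refine ⟨?_, hXY⟩
  have hne : ico X ≠ 0 := fun e => (rep_spec hr).2 (eX.trans (ico_injective (e.trans ico_zQ.symm)))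
  rw [hXY] at hne h
  exact (mul_eq_right₀ hne).mp h

theorem lineQ_roundtrip {l : ℕ} (hl : l < 315) :
    unpk (pk (lineQ l).1) = (lineQ l).1 ∧ unpk (pk (lineQ l).2.1) = (lineQ l).2.1 ∧
      unpk (pk (lineQ l).2.2) = (lineQ l).2.2 := by
  have h1 := (line_spec hl).1
  have h2 : (lineQ l).1 = unpk (lineK.getD l (0, 0, 0)).1 ∧ (lineQ l).2.1 = unpk (lineK.getD l (0, 0, 0)).2.1 ∧
      (lineQ l).2.2 = unpk (lineK.getD l (0, 0, 0)).2.2 := ⟨rfl, rfl, rfl⟩
  rw [h1] at h2
  exact ⟨h2.1.symm, h2.2.1.symm, h2.2.2.symm⟩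

/-- Distinct listed vectors span distinct lines. -/
theorem line_unique {k l : ℕ} (hk : k < 315) (hl : l < 315) {u v : ℍ[ℝ]} (hu : u ∈ units)
    (hv : v ∈ units) (h : u • lvec k = v • lvec l) : k = l ∧ u = v := by
  have hw : star v * u ∈ units := mul_mem_units (star_mem_units hv) hu
  have hne : ∀ {a : ℍ[ℝ]}, a ∈ units → a ≠ 0 := fun ha e => by
    have := normSq_unit ha; rw [e, map_zero] at this; norm_num at this
  have hz : ∀ A B : Q5, (star v * u) * ico A = ico B → (A = zQ ↔ B = zQ) := by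
    intro A B e
    constructor
    · intro h0; exact ico_injective (by rw [← e, h0, ico_zQ, mul_zero])
    · intro h0
      refine ico_injective ?_
      rw [ico_zQ]
      exact (mul_eq_zero.mp (e.trans (by rw [h0, ico_zQ]))).resolve_left (hne hw)
  have hwk : (star v * u) • lvec k = lvec l := by
    rw [mul_smul, h, smul_smul, star_mul_unit hv, one_smul]
  have e0 : (star v * u) * ico (lineQ k).1 = ico (lineQ l).1 := congrFun hwk 0
  have e1 : (star v * u) * ico (lineQ k).2.1 = ico (lineQ l).2.1 := congrFun hwk 1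
  have e2 : (star v * u) * ico (lineQ k).2.2 = ico (lineQ l).2.2 := congrFun hwk 2
  obtain ⟨-, -, -, ck⟩ := line_spec hk
  obtain ⟨-, -, -, cl⟩ := line_spec hl
  have pK := lineQ_roundtrip hk
  have pL := lineQ_roundtrip hl
  have hw1 : star v * u = 1 := by
    rcases ck with ⟨k0, kr⟩ | ⟨k0, k1, kr⟩ | ⟨k0, k1, k2, kr⟩
    · have l0 := (hz _ _ e0).not.mp k0
      rcases cl with ⟨-, lr⟩ | ⟨l0', -⟩ | ⟨l0', -⟩
      · exact (rep_unit_eq kr lr pK.1 pL.1 hw e0).1
      · exact absurd l0' l0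
      · exact absurd l0' l0
    · have l0 := (hz _ _ e0).mp k0
      have l1 := (hz _ _ e1).not.mp k1
      rcases cl with ⟨l0', -⟩ | ⟨-, -, lr⟩ | ⟨-, l1', -⟩
      · exact absurd l0 l0'
      · exact (rep_unit_eq kr lr pK.2.1 pL.2.1 hw e1).1
      · exact absurd l1' l1
    · have l0 := (hz _ _ e0).mp k0
      have l1 := (hz _ _ e1).mp k1
      rcases cl with ⟨l0', -⟩ | ⟨-, l1', -⟩ | ⟨-, -, -, lr⟩
      · exact absurd l0 l0'
      · exact absurd l1 l1'
      · exact (rep_unit_eq kr lr pK.2.2 pL.2.2 hw e2).1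
  rw [hw1, one_smul] at hwk
  refine ⟨lineQ_inj hk hl (vec_injective hwk), ?_⟩
  have := congrArg (v * ·) hw1
  simpa [← mul_assoc, mul_star_unit hv] using this

end Cfsg.Agent.Lib.Recognition.J2
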