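import Cfsg.Agent.Lib.Recognition.J2OutCheck
import Cfsg.Agent.Lib.Recognition.J2Simple
import Cfsg.Agent.Lib.Compute.OutBound

/-!
The automorphisms of the Hall-Janko group through its reflection class.
-/

set_option autoImplicit false
set_option maxRecDepth 100000

namespace Cfsg.Agent.Lib.Recognition.J2

open Cfsg.Agent.Lib.Compute Equiv

theorem base_eq : (⟨cert0.base, base_lt⟩ : Fin 315) = 0 := Fin.ext base_zero

/-- An element carrying the base point to `x`. -/
noncomputable def mover (x : Fin 315) : GP :=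
  ⟨(GP_transitive x).choose, (GP_transitive x).choose_spec.1⟩

theorem mover_apply (x : Fin 315) : (mover x : Perm (Fin 315)) basePt = x :=
  (GP_transitive x).choose_spec.2

/-- The central involution as an element of the group. -/
noncomputable def zOne : GP := ⟨zP, syl_le zP_spec.2⟩

/-- The reflection with axis `x`. -/
noncomputable def zfun (x : Fin 315) : GP := mover x * zOne * (mover x)⁻¹

theorem rest_of_fix {g : GP} (h : (g : Perm (Fin 315)) basePt = basePt) :
    (g : Perm (Fin 315)) ∈ grp 315 certRest :=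
  (mem_grp_rest_iff cert_hc basePt rfl _).mpr ⟨cert_eq ▸ g.2, h⟩

theorem zfun_eq (g : GP) {x : Fin 315} (h : (g : Perm (Fin 315)) basePt = x) :
    zfun x = g * zOne * g⁻¹ := by
  have hr : ((mover x)⁻¹ * g : GP) * zOne = zOne * ((mover x)⁻¹ * g) :=
    Subtype.ext (commute_zP (rest_of_fix (g := (mover x)⁻¹ * g) (by
      rw [Subgroup.coe_mul, Perm.mul_apply, h, Subgroup.coe_inv, Perm.inv_def,
        Equiv.symm_apply_eq, mover_apply])))
  calc zfun x = mover x * (zOne * ((mover x)⁻¹ * g)) * g⁻¹ := by rw [zfun]; group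
    _ = mover x * (((mover x)⁻¹ * g) * zOne) * g⁻¹ := by rw [hr]
    _ = g * zOne * g⁻¹ := by group

theorem zfun_conj (g : GP) (x : Fin 315) :
    zfun ((g : Perm (Fin 315)) x) = g * zfun x * g⁻¹ := by
  rw [zfun_eq (g * mover x) (by rw [Subgroup.coe_mul, Perm.mul_apply, mover_apply]), zfun]
  group

theorem zfun_injective : Function.Injective zfun := by
  intro x y h
  have hc : ((mover x)⁻¹ * mover y) * zOne = zOne * ((mover x)⁻¹ * mover y) := by
    have : mover x * zOne * (mover x)⁻¹ = mover y * zOne * (mover y)⁻¹ := h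
    calc ((mover x)⁻¹ * mover y) * zOne
        = (mover x)⁻¹ * (mover y * zOne * (mover y)⁻¹) * mover y := by group
      _ = (mover x)⁻¹ * (mover x * zOne * (mover x)⁻¹) * mover y := by rw [this]
      _ = zOne * ((mover x)⁻¹ * mover y) := by group
  have hr := centralizer_zP ((mover x)⁻¹ * mover y).2 (congrArg Subtype.val hc)
  have hb := ((mem_grp_rest_iff cert_hc basePt rfl _).mp hr).2
  rw [Subgroup.coe_mul, Perm.mul_apply, mover_apply, Subgroup.coe_inv, Perm.inv_def,
    Equiv.symm_apply_eq, mover_apply] at hb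
  exact hb.symm

theorem zfun_repr (x : Fin 315) : Repr (zfun x : Perm (Fin 315)) (app (reflAt x)) := by
  have hx := List.all_eq_true.mp orbit_full x (List.mem_range.mpr x.isLt)
  obtain ⟨q, hq, he⟩ := List.getElem_of_mem (List.contains_iff_mem.mp hx)
  have hq' : q ≤ cert0.trans.length := by simp [orbit] at hq; omega
  have ht : tfun cert0 q cert0.base = x := by rw [tfun_base hq', he]
  obtain ⟨htr, htm⟩ := tperm0_mem q
  have h := List.all_eq_true.mp tabOk_eq q (List.mem_range.mpr (Nat.lt_succ_of_le hq'))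
  rw [ht, eqOn_iff] at h
  intro j
  set t : GP := ⟨tperm 315 cert0 q, htm⟩ with hT
  rw [zfun_eq t (Fin.ext ((htr basePt).trans ht))]
  obtain ⟨i, rfl⟩ := (tperm 315 cert0 q).surjective j
  rw [Subgroup.coe_mul, Subgroup.coe_mul, Perm.mul_apply, Perm.mul_apply, Subgroup.coe_inv]
  show ((tperm 315 cert0 q (zP ((tperm 315 cert0 q)⁻¹ (tperm 315 cert0 q i))) : Fin 315) : ℕ) = _
  rw [Perm.inv_def, Equiv.symm_apply_apply, htr, zP_spec.1, htr i]
  exact (h i i.isLt).symm

theorem zfun_closure : Subgroup.closure (Set.range zfun) = ⊤ := by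
  haveI := gp_simple
  have hn : (Subgroup.closure (Set.range zfun)).Normal := by
    constructor
    intro a ha g
    induction ha using Subgroup.closure_induction with
    | mem y hy =>
      obtain ⟨x, rfl⟩ := hy
      exact Subgroup.subset_closure ⟨_, zfun_conj g x⟩
    | one => simp
    | mul a b _ _ ha hb =>
      rw [show g * (a * b) * g⁻¹ = (g * a * g⁻¹) * (g * b * g⁻¹) by group]
      exact mul_mem ha hb
    | inv a _ ha =>
      rw [show g * a⁻¹ * g⁻¹ = (g * a * g⁻¹)⁻¹ by group]
      exact inv_mem ha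
  refine hn.eq_bot_or_eq_top.resolve_left fun h => ?_
  have h1 : zfun 0 = 1 := by
    rw [← Subgroup.mem_bot, ← h]
    exact Subgroup.subset_closure ⟨0, rfl⟩
  rw [zfun, conj_eq_one_iff] at h1
  exact zP_ne (congrArg Subtype.val h1)

/-- Permutations respecting the reflections. -/
def IsReflMap (π : Perm (Fin 315)) : Prop :=
  ∀ a x : Fin 315, π ((zfun a : Perm (Fin 315)) x) = (zfun (π a) : Perm (Fin 315)) (π x)

theorem IsReflMap.mul {π ρ : Perm (Fin 315)} (h : IsReflMap π) (h' : IsReflMap ρ) :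
    IsReflMap (π * ρ) := fun a x => by
  simp only [Perm.mul_apply]
  rw [h' a x, h]

theorem isReflMap_mem (g : GP) : IsReflMap (g : Perm (Fin 315)) := fun a x => by
  rw [zfun_conj, Subgroup.coe_mul, Subgroup.coe_mul, Perm.mul_apply, Perm.mul_apply,
    Subgroup.coe_inv, Perm.inv_def, Equiv.symm_apply_apply]

/-- The `j`-th generating point. -/
def fourPt (j : ℕ) : Fin 315 := ⟨four j % 315, Nat.mod_lt _ (by norm_num)⟩

theorem fourPt_val {j : ℕ} (hj : j < 4) : (fourPt j : ℕ) = four j := by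
  have h := fourOk_eq
  simp only [fourOk, Bool.and_eq_true, List.all_eq_true, List.mem_range, Nat.blt_eq] at h
  exact Nat.mod_eq_of_lt (h.1.1.1.2 j hj).1

theorem eq_of_agree {π ρ : Perm (Fin 315)} (h : IsReflMap π) (h' : IsReflMap ρ)
    (he : ∀ j < 4, π (fourPt j) = ρ (fourPt j)) : π = ρ := by
  have hf := fourOk_eq
  simp only [fourOk, Bool.and_eq_true, List.all_eq_true, List.mem_range, Nat.blt_eq, Nat.beq_eq,
    List.contains_iff_mem, List.mem_range'_1] at hf
  obtain ⟨⟨⟨⟨-, hbase⟩, hcov⟩, hlen⟩, hedge⟩ := hf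
  have key : ∀ i < 315, ∀ x : Fin 315, (x : ℕ) = fourOrd.getD i 0 → π x = ρ x := by
    intro i
    induction i using Nat.strong_induction_on with
    | _ i ih =>
      intro hi x hx
      by_cases h4 : i < 4
      · have : x = fourPt i := Fin.ext (by rw [hx, (hbase i h4).2, fourPt_val h4])
        rw [this]
        exact he i h4
      · obtain ⟨⟨hj, hk⟩, hrec⟩ := hedge i ⟨by omega, by omega⟩
        set j := (fourEdge.getD (i - 4) (4, 0)).1
        set k := (fourEdge.getD (i - 4) (4, 0)).2
        have hklt : fourOrd.getD k 0 < 315 := by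
          have hd : (List.range 315).all (fun m => Nat.blt (fourOrd.getD m 0) 315) = true := by
            decide +kernel
          simpa using List.all_eq_true.mp hd k (List.mem_range.mpr (by omega))
        have hval : x = (zfun (fourPt j) : Perm (Fin 315)) ⟨_, hklt⟩ := Fin.ext (by
          rw [hx, zfun_repr, fourPt_val hj, ← hrec])
        rw [hval, h, h', he j hj, ih k hk (by omega) ⟨_, hklt⟩ rfl]
  refine Equiv.ext fun x => ?_
  obtain ⟨i, hi, hix⟩ := List.getElem_of_mem (hcov x x.isLt)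
  exact key i (hlen ▸ hi) x (by rw [← List.getElem_eq_getD 0 (h := hi), hix])

/-- The outer permutation. -/
noncomputable def outP : Perm (Fin 315) := toPerm 315 outPerm.1

theorem outP_spec : Repr outP (app outPerm.1) ∧ IsReflMap outP := by
  have h := outEquiv_eq
  simp only [outEquiv, Bool.and_eq_true, List.all_eq_true, List.mem_range, eqOn_iff] at h
  have hr : Repr outP (app outPerm.1) := repr_toPerm_of_genOk h.1
  refine ⟨hr, fun a x => Fin.ext ?_⟩
  rw [hr, zfun_repr, zfun_repr, hr a, hr x]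
  exact h.2 a a.isLt x x.isLt

theorem outP_base : outP 0 = 0 := by
  refine Fin.ext ((outP_spec.1 0).trans ?_)
  have h := outNew_eq
  simp only [outNew, Bool.and_eq_true, Nat.beq_eq] at h
  exact h.1

theorem outP_not_mem : outP ∉ GP := by
  intro hm
  have hb : outP basePt = basePt := by
    show outP ⟨cert0.base, base_lt⟩ = ⟨cert0.base, base_lt⟩
    rw [base_eq, outP_base]
  obtain ⟨js, hjs, he⟩ := exists_idx rest_chk (rest_of_fix (g := ⟨outP, hm⟩) hb)
  have h := outNew_eq
  simp only [outNew, Bool.and_eq_true, List.all_eq_true, List.any_eq_true, Bool.not_eq_true',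
    ← Bool.not_eq_true, Nat.beq_eq] at h
  obtain ⟨p, hp, hne⟩ := h.2 js hjs
  have hp' : p < 315 := by
    have hd : fourPts.all (fun p => Nat.blt p 315) = true := by decide +kernel
    simpa using List.all_eq_true.mp hd p hp
  refine hne ?_
  rw [← (sift_spec rest_chk js).1 ⟨p, hp'⟩, ← outP_spec.1 ⟨p, hp'⟩]
  exact congrArg (fun σ : Perm (Fin 315) => ((σ ⟨p, hp'⟩ : Fin 315) : ℕ)) he.symm

theorem outPow_repr (e : Bool) : Repr (if e then outP else 1) (outPow e) := by
  cases e
  · intro i; simp [outPow]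
  · intro i; rw [if_pos rfl, outP_spec.1 i]; simp [outPow]

theorem reflWord_repr : ∀ (w : List (Fin 315)),
    Repr ((w.map fun a => (zfun a : Perm (Fin 315))).prod) (reflWord (w.map Fin.val))
  | [] => Repr.one
  | a :: w => fun i => by
    rw [List.map_cons, List.prod_cons, Perm.mul_apply, zfun_repr, reflWord_repr w i, List.map_cons,
      reflWord]

theorem perAux_map {f g : Perm (Fin 315)} {f' g' : ℕ → ℕ} (hf : Repr f f') (hg : Repr g g')
    {π : Perm (Fin 315)} (h : ∀ x, π (f x) = g (π x)) (a : Fin 315) :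
    ∀ (n : ℕ) (y : Fin 315), perAux g' (π a : ℕ) n (π y : ℕ) = perAux f' (a : ℕ) n (y : ℕ) := by
  intro n
  induction n with
  | zero => intro y; rfl
  | succ n ih =>
    intro y
    have e : (π (f y) : ℕ) = g' (π y : ℕ) := by rw [h, hg]
    simp only [perAux, ← hf y, ← e, ih (f y)]
    have hiff : Nat.beq (π (f y) : ℕ) (π a : ℕ) = Nat.beq (f y : ℕ) (a : ℕ) := by
      rw [Bool.eq_iff_iff, Nat.beq_eq, Nat.beq_eq, Fin.val_inj, Fin.val_inj, π.injective.eq_iff]
    rw [hiff]

theorem per_map {π : Perm (Fin 315)} (h : IsReflMap π) (w : List (Fin 315)) (a : Fin 315) :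
    per ((w.map π).map Fin.val) (π a : ℕ) = per (w.map Fin.val) (a : ℕ) := by
  refine perAux_map (reflWord_repr w) (reflWord_repr (w.map π)) (fun x => ?_) a 16 a
  induction w with
  | nil => rfl
  | cons b w ih =>
    simp only [List.map_cons, List.prod_cons, Perm.mul_apply]
    rw [h, ih]

theorem base_reduce {π : Perm (Fin 315)} (h : IsReflMap π) (h0 : π 0 = 0) :
    ∃ (g : GP) (e : Bool), π = (g : Perm (Fin 315)) * (if e then outP else 1) := by
  obtain ⟨hl, k, hk, hkx⟩ := sub_spec (π (fourPt 1))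
  have hk0 : k (0 : Fin 315) = 0 := by
    have := ((mem_grp_rest_iff cert_hc basePt rfl k).mp hk).2
    rwa [show basePt = (0 : Fin 315) from base_eq] at this
  set kG : GP := ⟨k, rest_le hk⟩ with hkG
  set ρ := ((kG⁻¹ : GP) : Perm (Fin 315)) * π with hρdef
  have hρ : IsReflMap ρ := (isReflMap_mem _).mul h
  have hρ0 : ρ 0 = 0 := by
    rw [hρdef, Perm.mul_apply, h0, Subgroup.coe_inv, Perm.inv_def, Equiv.symm_apply_eq]
    exact hk0.symm
  set r := tperm 315 cert0 (subRep.getD (lab (π (fourPt 1))) 0) ⟨cert0.base, base_lt⟩ with hrdef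
  have hρ1 : ρ (fourPt 1) = r := by
    rw [hρdef, Perm.mul_apply, Subgroup.coe_inv, Perm.inv_def, Equiv.symm_apply_eq]
    exact hkx.symm
  have hrv : (r : ℕ) = tfun cert0 (subRep.getD (lab (π (fourPt 1))) 0) cert0.base :=
    (tperm0_mem _).1 _
  have hv := fun {j : ℕ} (hj : j < 4) => (fourPt_val hj).symm
  have h00 : four 0 = 0 := by decide +kernel
  have hp0 : fourPt 0 = 0 := Fin.ext ((fourPt_val (by norm_num)).trans h00)
  have key : ∀ (w : List (Fin 315)) (a : Fin 315) (w' : List ℕ) (a' : ℕ),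
      (w.map ρ).map Fin.val = w' → (ρ a : ℕ) = a' → per w' a' = per (w.map Fin.val) (a : ℕ) := by
    rintro w a _ _ rfl rfl
    exact per_map hρ w a
  set x := ρ (fourPt 2) with hxdef
  set y := ρ (fourPt 3) with hydef
  have hq := List.all_eq_true.mp quadOk_eq (lab (π (fourPt 1))) (List.mem_range.mpr hl)
  simp only [← hrv] at hq
  have c1 : pairInv 0 (r : ℕ) = pairInv 0 (four 1) :=
    (key [0, fourPt 1] 0 _ _ (by simp [hρ0, hρ1]) (by simp [hρ0])).trans (by simp [pairInv, hv])
  rw [c1, Nat.beq_refl, Bool.not_true, Bool.false_or] at hq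
  have hx := List.all_eq_true.mp hq (x : ℕ) (List.mem_range.mpr x.isLt)
  have c2 : pairInv 0 (x : ℕ) = pairInv 0 (four 2) :=
    (key [0, fourPt 2] 0 _ _ (by simp [hρ0, hxdef]) (by simp [hρ0])).trans (by simp [pairInv, hv])
  have c3 : pairInv (r : ℕ) (x : ℕ) = pairInv (four 1) (four 2) :=
    (key [fourPt 1, fourPt 2] (fourPt 1) _ _ (by simp [hρ1, hxdef]) (by simp [hρ1])).trans (by simp [pairInv, hv])
  have c4 : pairInv (x : ℕ) (r : ℕ) = pairInv (four 2) (four 1) :=
    (key [fourPt 2, fourPt 1] (fourPt 2) _ _ (by simp [hρ1, hxdef]) (by simp [hxdef])).trans (by simp [pairInv, hv])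
  have c5 : per [0, (r : ℕ), (x : ℕ)] 0 = per [0, four 1, four 2] 0 :=
    (key [0, fourPt 1, fourPt 2] 0 _ _ (by simp [hρ0, hρ1, hxdef]) (by simp [hρ0])).trans (by simp [hv])
  have c6 : per [(r : ℕ), 0, (x : ℕ)] (r : ℕ) = per [four 1, 0, four 2] (four 1) :=
    (key [fourPt 1, 0, fourPt 2] (fourPt 1) _ _ (by simp [hρ0, hρ1, hxdef]) (by simp [hρ1])).trans (by simp [hv])
  rw [c2, c3, c4, c5, c6] at hx
  simp only [Nat.beq_refl, Bool.and_self, Bool.not_true, Bool.false_or] at hx
  have hy := List.all_eq_true.mp hx (y : ℕ) (List.mem_range.mpr y.isLt)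
  have d1 : pairInv 0 (y : ℕ) = pairInv 0 (four 3) :=
    (key [0, fourPt 3] 0 _ _ (by simp [hρ0, hydef]) (by simp [hρ0])).trans (by simp [pairInv, hv])
  have d2 : pairInv (r : ℕ) (y : ℕ) = pairInv (four 1) (four 3) :=
    (key [fourPt 1, fourPt 3] (fourPt 1) _ _ (by simp [hρ1, hydef]) (by simp [hρ1])).trans (by simp [pairInv, hv])
  have d3 : pairInv (x : ℕ) (y : ℕ) = pairInv (four 2) (four 3) :=
    (key [fourPt 2, fourPt 3] (fourPt 2) _ _ (by simp [hxdef, hydef]) (by simp [hxdef])).trans (by simp [pairInv, hv])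
  have d4 : outSig.all (fun w => Nat.beq (quadInv [0, (r : ℕ), (x : ℕ), (y : ℕ)] w) (quadInv fourPts w)) = true := by
    have hfp : fourPts = [four 0, four 1, four 2, four 3] := by decide +kernel
    simp only [outSig, List.all_cons, List.all_nil, Bool.and_true, Bool.and_eq_true, Nat.beq_eq, quadInv,
      List.dropLast, List.map_cons, List.map_nil, List.getLastD_cons, hfp,
      List.getD_cons_zero, List.getD_cons_succ, h00]
    constructor
    · exact (key [fourPt 3, fourPt 2, 0] (fourPt 2) _ _ (by simp [hρ0, hxdef, hydef]) (by simp [hxdef])).trans (by simp [hv])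
    · exact (key [fourPt 3, fourPt 2, fourPt 1] (fourPt 2) _ _ (by simp [hρ1, hxdef, hydef]) (by simp [hxdef])).trans (by simp [hv])
  rw [d1, d2, d3, d4] at hy
  simp only [Nat.beq_refl, Bool.and_self, Bool.not_true, Bool.false_or, List.any_eq_true,
    Bool.and_eq_true, Nat.beq_eq] at hy
  obtain ⟨⟨js, e⟩, -, ⟨⟨h0', h1'⟩, h2'⟩, h3'⟩ := hy
  obtain ⟨hs, hm⟩ := sift_spec rest_chk js
  set σ : GP := ⟨siftPerm 315 certRest js, rest_le hm⟩
  have hσm : IsReflMap ((σ : Perm (Fin 315)) * (if e then outP else 1)) := by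
    refine (isReflMap_mem σ).mul ?_
    split
    · exact outP_spec.2
    · exact fun a x => rfl
  have hres : ρ = (σ : Perm (Fin 315)) * (if e then outP else 1) := by
    refine eq_of_agree hρ hσm fun j hj => Fin.ext ?_
    rw [(hs.mul (outPow_repr e)) (fourPt j)]
    interval_cases j
    · rw [hp0, hρ0]; exact h0'.symm
    · rw [hρ1, ← hv (by norm_num)]; exact h1'.symm
    · rw [← hxdef, ← hv (by norm_num)]; exact h2'.symm
    · rw [← hydef, ← hv (by norm_num)]; exact h3'.symm
  refine ⟨kG * σ, e, ?_⟩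
  rw [Subgroup.coe_mul, mul_assoc, ← hres, hρdef, Subgroup.coe_inv, mul_inv_cancel_left]

/-- The Sylow 2-subgroup of the certificate. -/
noncomputable def sylS : Sylow 2 GP :=
  haveI : Fact (Nat.Prime 2) := ⟨Nat.prime_two⟩
  Sylow.ofCard ((grp 315 syl).subgroupOf GP) (by
    rw [Nat.card_congr (Subgroup.subgroupOfEquivOfLe syl_le).toEquiv, card_grp syl_chk, syl_order,
      card_GP, show (604800 : ℕ) = 2 ^ 7 * 4725 by norm_num,
      Nat.factorization_mul (by norm_num) (by norm_num), Finsupp.add_apply,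
      Nat.factorization_eq_zero_of_not_dvd (show ¬ 2 ∣ 4725 by norm_num),
      Nat.prime_two.factorization_pow, Finsupp.single_eq_same, add_zero])

theorem aut_class (φ : MulAut GP) (x : Fin 315) : ∃ y, φ (zfun x) = zfun y := by
  haveI : Fact (Nat.Prime 2) := ⟨Nat.prime_two⟩
  obtain ⟨h, hh⟩ := MulAction.exists_smul_eq GP
    (sylS.mapSurjective (f := φ.toMonoidHom) φ.surjective) sylS
  set w := h * φ zOne * h⁻¹ with hw
  have hmem : ∀ y ∈ (sylS : Subgroup GP), h * φ y * h⁻¹ ∈ (sylS : Subgroup GP) := by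
    intro y hy
    rw [← hh, Sylow.coe_subgroup_smul]
    exact ⟨φ y, ⟨y, hy, rfl⟩, by simp⟩
  have hz : zOne ∈ (sylS : Subgroup GP) := Subgroup.mem_subgroupOf.mpr zP_spec.2
  have hwS : (w : Perm (Fin 315)) ∈ grp 315 syl := Subgroup.mem_subgroupOf.mp (hmem _ hz)
  have hcomm : ∀ y ∈ grp 315 syl, (w : Perm (Fin 315)) * y = y * w := by
    intro y hy
    have hy' : (⟨y, syl_le hy⟩ : GP) ∈ (sylS : Subgroup GP) := Subgroup.mem_subgroupOf.mpr hy
    have hsub : ((sylS.mapSurjective (f := φ.toMonoidHom) φ.surjective : Sylow 2 GP) : Subgroup GP) =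
        (sylS : Subgroup GP).map φ.toMonoidHom := rfl
    rw [← hh, Sylow.coe_subgroup_smul, hsub] at hy'
    obtain ⟨_, ⟨y', hy'', rfl⟩, he⟩ := hy'
    have he' : h * φ y' * h⁻¹ = ⟨y, syl_le hy⟩ := by rw [← he]; simp
    have hc : zOne * y' = y' * zOne :=
      Subtype.ext (commute_zP (syl_le_rest (Subgroup.mem_subgroupOf.mp hy''))).symm
    have : w * ⟨y, syl_le hy⟩ = ⟨y, syl_le hy⟩ * w := by
      rw [← he', hw]
      calc h * φ zOne * h⁻¹ * (h * φ y' * h⁻¹) = h * φ (zOne * y') * h⁻¹ := by rw [map_mul]; group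
        _ = h * φ (y' * zOne) * h⁻¹ := by rw [hc]
        _ = _ := by rw [map_mul]; group
    exact congrArg Subtype.val this
  have hwz : w = zOne := by
    rcases center_syl hwS hcomm with e | e
    · exfalso
      have e' : w = 1 := Subtype.ext e
      rw [hw, conj_eq_one_iff, map_eq_one_iff φ φ.injective] at e'
      exact zP_ne (congrArg Subtype.val e')
    · exact Subtype.ext e
  refine ⟨((φ (mover x) * h⁻¹ : GP) : Perm (Fin 315)) basePt, ?_⟩
  have e : φ zOne = h⁻¹ * zOne * h := by
    conv_rhs => rw [← hwz, hw]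
    group
  rw [zfun_eq (φ (mover x) * h⁻¹) rfl, zfun, map_mul, map_mul, map_inv, e]
  group

theorem eq_of_zfun {φ ψ : MulAut GP} (h : ∀ x, φ (zfun x) = ψ (zfun x)) : φ = ψ := by
  have he : φ.toMonoidHom = ψ.toMonoidHom := by
    refine MonoidHom.eq_of_eqOn_dense zfun_closure ?_
    rintro _ ⟨x, rfl⟩
    exact h x
  exact MulEquiv.ext fun x => DFunLike.congr_fun he x

theorem outP_conj : GP.map (MulAut.conj outP).toMonoidHom = GP := by
  have h1 : GP = (Subgroup.closure (Set.range zfun)).map GP.subtype := by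
    rw [zfun_closure, ← MonoidHom.range_eq_map, Subgroup.range_subtype]
  conv_lhs => rw [h1, MonoidHom.map_closure, MonoidHom.map_closure]
  conv_rhs => rw [h1, MonoidHom.map_closure]
  have e : ∀ a, MulAut.conj outP (zfun a : Perm (Fin 315)) = (zfun (outP a) : Perm (Fin 315)) := by
    intro a
    refine Equiv.ext fun x => ?_
    obtain ⟨y, rfl⟩ := outP.surjective x
    rw [MulAut.conj_apply, Perm.mul_apply, Perm.mul_apply, Perm.inv_def, Equiv.symm_apply_apply]
    exact outP_spec.2 a y
  congr 1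
  ext σ
  constructor
  · rintro ⟨_, ⟨_, ⟨a, rfl⟩, rfl⟩, rfl⟩
    exact ⟨_, ⟨outP a, rfl⟩, (e a).symm⟩
  · rintro ⟨_, ⟨b, rfl⟩, rfl⟩
    obtain ⟨a, rfl⟩ := outP.surjective b
    exact ⟨_, ⟨_, ⟨a, rfl⟩, rfl⟩, e a⟩

/-- The outer automorphism. -/
noncomputable def outAut : MulAut GP :=
  ((MulAut.conj outP).subgroupMap GP).trans (MulEquiv.subgroupCongr outP_conj)

theorem outAut_apply (g : GP) : (outAut g : Perm (Fin 315)) = outP * g * outP⁻¹ := rfl

theorem outAut_zfun (a : Fin 315) : outAut (zfun a) = zfun (outP a) := by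
  refine Subtype.ext (Equiv.ext fun x => ?_)
  obtain ⟨y, rfl⟩ := outP.surjective x
  rw [outAut_apply, Perm.mul_apply, Perm.mul_apply, Perm.inv_def, Equiv.symm_apply_apply]
  exact outP_spec.2 a y

theorem aut_form (φ : MulAut GP) :
    ∃ g : GP, φ = MulAut.conj g ∨ φ = MulAut.conj g * outAut := by
  choose f hf using aut_class φ
  have hinj : Function.Injective f := fun a b e =>
    zfun_injective (φ.injective (by rw [hf, hf, e]))
  let π : Perm (Fin 315) := Equiv.ofBijective f (Finite.injective_iff_bijective.mp hinj)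
  have hπa : ∀ a, φ (zfun a) = zfun (π a) := hf
  have hπ : IsReflMap π := fun a x => by
    refine zfun_injective ?_
    rw [← hπa, zfun_conj, map_mul, map_mul, map_inv, hπa, hπa, zfun_conj]
  have hm : ((mover (π 0))⁻¹ : GP).1 (π 0) = 0 := by
    rw [Subgroup.coe_inv, Perm.inv_def, Equiv.symm_apply_eq]
    conv_lhs => rw [← mover_apply (π 0)]
    rw [show basePt = (0 : Fin 315) from base_eq]
  obtain ⟨g, e, he⟩ := base_reduce ((isReflMap_mem (mover (π 0))⁻¹).mul hπ) hm
  have hπe : π = ((mover (π 0) * g : GP) : Perm (Fin 315)) * (if e then outP else 1) := by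
    rw [Subgroup.coe_mul, mul_assoc, ← he, Subgroup.coe_inv, mul_inv_cancel_left]
  refine ⟨mover (π 0) * g, ?_⟩
  cases e
  · refine Or.inl (eq_of_zfun fun a => ?_)
    rw [hπa, MulAut.conj_apply, ← zfun_conj]
    conv_lhs => rw [hπe]
    simp
  · refine Or.inr (eq_of_zfun fun a => ?_)
    rw [hπa, MulAut.mul_apply, outAut_zfun, MulAut.conj_apply, ← zfun_conj]
    conv_lhs => rw [hπe]
    simp

theorem card_out_GP : Nat.card (Cfsg.Out GP) = 2 := by
  haveI : Finite (MulAut GP) := Finite.of_injective _ (DFunLike.coe_injective (F := MulAut GP))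
  have hle : Nat.card (Cfsg.Out GP) ≤ 2 := by
    let f : Fin 2 → Cfsg.Out GP := fun i =>
      QuotientGroup.mk (if i = 0 then (1 : MulAut GP) else outAut)
    have hf : Function.Surjective f := by
      intro q
      induction q using QuotientGroup.induction_on with
      | _ φ =>
        obtain ⟨g, hg⟩ := aut_form φ
        have hi : MulAut.conj g ∈ Cfsg.Inn GP := ⟨g, rfl⟩
        have h1 : (QuotientGroup.mk (MulAut.conj g) : Cfsg.Out GP) = 1 :=
          (QuotientGroup.eq_one_iff _).mpr hi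
        rcases hg with rfl | rfl
        · refine ⟨0, ?_⟩
          simp only [f, if_pos]
          exact h1.symm
        · refine ⟨1, ?_⟩
          simp only [f, if_neg (show ¬ (1 : Fin 2) = 0 by decide)]
          rw [QuotientGroup.mk_mul, h1, one_mul]
    have := Nat.card_le_card_of_surjective f hf
    rwa [Nat.card_fin] at this
  refine card_out_eq_two hle outAut ?_
  rintro ⟨g, hg⟩
  apply outP_not_mem
  have : (g : Perm (Fin 315)) = outP := by
    refine Equiv.ext fun a => zfun_injective ?_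
    rw [zfun_conj, ← outAut_zfun, ← MulAut.conj_apply, hg]
  exact this ▸ g.2

theorem card_out_J2 : Nat.card (Cfsg.Out Cfsg.Spor.J2) = 2 := by
  haveI : Finite Cfsg.Spor.J2 := Finite.of_equiv GP j2Equiv.symm.toEquiv
  rw [out_card_congr j2Equiv, card_out_GP]

end Cfsg.Agent.Lib.Recognition.J2
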