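import Cfsg.Agent.Lib.Recognition.J2Fusion
import Cfsg.Agent.Lib.Recognition.J2OutData

/-!
Checks for the automorphisms of the 315-point Hall-Janko group.
-/

set_option autoImplicit false
set_option maxRecDepth 100000

namespace Cfsg.Agent.Lib.Recognition.J2

open Cfsg.Agent.Lib.Compute

/-- The packed reflection with axis `a`. -/
def reflAt (a : ℕ) : ℕ := (reflTab.getD (a / 35) []).getD (a % 35) 0

/-- The table lists the conjugates of the central involution. -/
def tabOk : Bool :=
  (List.range (cert0.trans.length + 1)).all fun q =>
    eqOn (fun i => app (reflAt (tfun cert0 q cert0.base)) (tfun cert0 q i))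
      (fun i => tfun cert0 q (sift syl sylZ i))

/-- Apply a product of reflections. -/
def reflWord : List ℕ → ℕ → ℕ
  | [], y => y
  | p :: w, y => app (reflAt p) (reflWord w y)

/-- The least period of `a` under `f`, searched up to a bound. -/
def perAux (f : ℕ → ℕ) (a : ℕ) : ℕ → ℕ → ℕ
  | 0, _ => 0
  | n + 1, y => if Nat.beq (f y) a then n + 1 else perAux f a n (f y)

/-- Period invariant of a word of points and a start point. -/
def per (w : List ℕ) (a : ℕ) : ℕ := perAux (reflWord w) a 16 a

/-- The pair invariant. -/
def pairInv (a b : ℕ) : ℕ := per [a, b] a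

/-- The `j`-th of the four points. -/
def four (j : ℕ) : ℕ := fourPts.getD j 0

/-- Invariant of a quadruple given by a word in its indices. -/
def quadInv (q : List ℕ) (w : List ℕ) : ℕ :=
  per (w.dropLast.map fun k => q.getD k 0) (q.getD (w.getLastD 0) 0)

/-- Apply the outer permutation or nothing. -/
def outPow (e : Bool) (y : ℕ) : ℕ := if e then app outPerm.1 y else y

/-- Every quadruple with the invariants of the four points is one of the listed images. -/
def quadOk : Bool :=
  (List.range 6).all fun i =>
    let r := tfun cert0 (subRep.getD i 0) cert0.base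
    !(Nat.beq (pairInv 0 r) (pairInv 0 (four 1))) || (List.range 315).all fun x =>
      !(Nat.beq (pairInv 0 x) (pairInv 0 (four 2)) && Nat.beq (pairInv r x) (pairInv (four 1) (four 2)) &&
        Nat.beq (pairInv x r) (pairInv (four 2) (four 1)) &&
        Nat.beq (per [0, r, x] 0) (per [0, four 1, four 2] 0) &&
        Nat.beq (per [r, 0, x] r) (per [four 1, 0, four 2] (four 1))) || (List.range 315).all fun y =>
      !(Nat.beq (pairInv 0 y) (pairInv 0 (four 3)) && Nat.beq (pairInv r y) (pairInv (four 1) (four 3)) &&
        Nat.beq (pairInv x y) (pairInv (four 2) (four 3)) &&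
        outSig.all fun w => Nat.beq (quadInv [0, r, x, y] w) (quadInv fourPts w)) ||
      outWit.any fun je => Nat.beq (sift certRest je.1 (outPow je.2 0)) 0 &&
        Nat.beq (sift certRest je.1 (outPow je.2 (four 1))) r &&
        Nat.beq (sift certRest je.1 (outPow je.2 (four 2))) x &&
        Nat.beq (sift certRest je.1 (outPow je.2 (four 3))) y

/-- The four points generate all points under their reflections. -/
def fourOk : Bool :=
  Nat.beq (four 0) 0 &&
  ((List.range 4).all fun j => Nat.blt (four j) 315 && Nat.beq (fourOrd.getD j 0) (four j)) &&
  ((List.range 315).all fun x => fourOrd.contains x) && Nat.beq fourOrd.length 315 &&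
  ((List.range' 4 311).all fun i =>
    let e := fourEdge.getD (i - 4) (4, 0)
    Nat.blt e.1 4 && Nat.blt e.2 i && Nat.beq (app (reflAt (four e.1)) (fourOrd.getD e.2 0)) (fourOrd.getD i 0))

/-- The outer permutation respects the reflections. -/
def outEquiv : Bool :=
  genOk 315 outPerm && (List.range 315).all fun a =>
    eqOn (fun i => app outPerm.1 (app (reflAt a) i))
      (fun i => app (reflAt (app outPerm.1 a)) (app outPerm.1 i))

/-- The outer permutation fixes the base point and is no element of its stabiliser. -/
def outNew : Bool :=
  Nat.beq (app outPerm.1 0) 0 && (idxLists certRest).all fun js =>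
    fourPts.any fun p => !(Nat.beq (sift certRest js p) (app outPerm.1 p))

theorem base_zero : cert0.base = 0 := by decide +kernel
theorem tabOk_eq : tabOk = true := by decide +kernel
theorem fourOk_eq : fourOk = true := by decide +kernel
theorem outEquiv_eq : outEquiv = true := by decide +kernel
theorem outNew_eq : outNew = true := by decide +kernel
theorem quadOk_eq : quadOk = true := by decide +kernel

end Cfsg.Agent.Lib.Recognition.J2
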