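import Cfsg.Agent.Lib.Recognition.J2Rank3Checks
import Cfsg.Agent.Lib.Recognition.J2Facts
import Cfsg.Agent.Lib.Classical.HermCard

/-!
The rank three action of the Hall-Janko group on 100 sets, with point stabiliser `PSU(3,3)`.
-/

set_option autoImplicit false
set_option maxRecDepth 100000

namespace Cfsg.Agent.Lib.Recognition.J2Rank3

open Cfsg.Agent.Lib.Compute Equiv
open MulAction (stabilizer orbit index_stabilizer)
open Cfsg.Agent.Lib.Recognition.J2 (GP)
open scoped Pointwise

/-- The set of points with a given mask. -/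
def maskSet (a : ℕ) : Set (Fin 315) := {i | Nat.testBit a i = true}

theorem maskSet_inj {a b : ℕ} (ha : a < 2 ^ 315) (hb : b < 2 ^ 315) (h : maskSet a = maskSet b) :
    a = b := by
  refine Nat.eq_of_testBit_eq fun i => ?_
  by_cases hi : i < 315
  · have := Set.ext_iff.mp h ⟨i, hi⟩
    simp only [maskSet, Set.mem_ofPred_eq] at this
    exact Bool.eq_iff_iff.mpr this
  · have hp : (2 : ℕ) ^ 315 ≤ 2 ^ i := Nat.pow_le_pow_right (by norm_num) (by omega)
    rw [Nat.testBit_lt_two_pow (lt_of_lt_of_le ha hp), Nat.testBit_lt_two_pow (lt_of_lt_of_le hb hp)]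

theorem smul_maskSet {g : ℕ × ℕ} (hg : genOk 315 g = true) {a b : ℕ}
    (h : carries g.1 a b = true) : toPerm 315 g.1 • maskSet a = maskSet b := by
  simp only [carries, List.all_eq_true, List.mem_range, beq_iff_eq] at h
  have hr := repr_toPerm_of_genOk hg
  ext j
  rw [Set.mem_smul_set_iff_inv_smul_mem]
  obtain ⟨i, rfl⟩ := (toPerm 315 g.1).surjective j
  simp only [Perm.smul_def, Perm.inv_def, Equiv.symm_apply_apply, maskSet, Set.mem_ofPred_eq,
    hr i, h i i.isLt]

theorem reach {L : Lvl} {rest : List Lvl} (hg : ∀ g ∈ L.gens, genOk 315 g = true) {ms : List ℕ}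
    {t : List (ℕ × ℕ)} {N : ℕ} (h : (List.range N).all (stepOk L.gens ms t) = true) :
    ∀ j ≤ N, ∃ σ ∈ grp 315 (L :: rest), σ • maskSet (ms.getD 0 0) = maskSet (ms.getD j 0) := by
  intro j
  induction j using Nat.strong_induction_on with
  | _ j ih =>
    intro hj
    cases j with
    | zero => exact ⟨1, one_mem _, one_smul _ _⟩
    | succ k =>
      have hk := List.all_eq_true.mp h k (List.mem_range.mpr hj)
      simp only [stepOk, Bool.and_eq_true, decide_eq_true_eq] at hk
      obtain ⟨⟨hs, hp⟩, hc⟩ := hk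
      obtain ⟨σ, hσ, he⟩ := ih _ (Nat.lt_succ_of_le hp) (by omega)
      have hm : L.gens.getD (t.getD k (0, 0)).1 (0, 0) ∈ L.gens := by
        rw [List.getD_eq_getElem _ _ hs]; exact List.getElem_mem _
      exact ⟨_ * σ, mul_mem (gen_mem hm) hσ, by rw [mul_smul, he, smul_maskSet (hg _ hm) hc]⟩

theorem stays {L : Lvl} {rest : List Lvl} (hg : ∀ g ∈ L.gens, genOk 315 g = true) {ms : List ℕ}
    (h : closedOk L.gens ms = true) {σ : Perm (Fin 315)} (hσ : σ ∈ grp 315 (L :: rest)) :
    ∀ a ∈ ms, ∃ b ∈ ms, σ • maskSet a = maskSet b := by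
  have hfin : σ ∈ Submonoid.closure ((fun g => toPerm 315 g.1) '' {g | g ∈ L.gens}) := by
    rw [← Subgroup.closure_toSubmonoid_of_finite]; exact hσ
  induction hfin using Submonoid.closure_induction_left with
  | one => exact fun a ha => ⟨a, ha, one_smul _ _⟩
  | mul_left x hx y hy ih =>
    obtain ⟨g, hgm, rfl⟩ := hx
    intro a ha
    obtain ⟨b, hb, he⟩ := ih (by
      show y ∈ (Subgroup.closure _).toSubmonoid
      rw [Subgroup.closure_toSubmonoid_of_finite]; exact hy) a ha
    simp only [closedOk, List.all_eq_true, List.any_eq_true] at h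
    obtain ⟨c, hc, hcar⟩ := h g hgm b hb
    exact ⟨c, hc, by rw [mul_smul, he, smul_maskSet (hg g hgm) hcar]⟩

theorem ncard_maskSets {ms : List ℕ} (h : distinctOk ms = true) :
    (maskSet '' {a | a ∈ ms}).ncard = ms.length := by
  simp only [distinctOk, Bool.and_eq_true, decide_eq_true_eq, List.all_eq_true] at h
  rw [show {a | a ∈ ms} = (ms.toFinset : Set ℕ) by ext; simp,
    Set.InjOn.ncard_image (fun a ha b hb e => maskSet_inj (h.2 a (List.mem_toFinset.mp ha))
      (h.2 b (List.mem_toFinset.mp hb)) e), Set.ncard_coe_finset,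
    List.toFinset_card_of_nodup h.1]

theorem sub_gens : ∀ g ∈ sub0.gens, genOk 315 g = true := by
  have h := sub_chk
  rw [show sub = sub0 :: sub.tail from rfl] at h
  simp only [chk, Bool.and_eq_true] at h
  exact (lvlOk_iff h.1).2.1

theorem big_gens : ∀ g ∈ J2.cert0.gens, genOk 315 g = true := by
  have h := J2.cert_chk
  rw [show J2.cert = J2.cert0 :: J2.cert.tail from rfl] at h
  simp only [chk, Bool.and_eq_true] at h
  exact (lvlOk_iff h.1).2.1

/-- The subgroup of index 100. -/
noncomputable def K : Subgroup (Perm (Fin 315)) := grp 315 sub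

theorem card_K : Nat.card K = 6048 := by rw [K, card_grp sub_chk]; decide +kernel

theorem K_le : K ≤ GP := by
  refine (Subgroup.closure_le _).mpr ?_
  rintro _ ⟨g, hg, rfl⟩
  obtain ⟨k, hk, rfl⟩ := List.getElem_of_mem hg
  have h := mem_grp_of_memOk J2.cert_chk (List.all_eq_true.mp subMemOk_eq k (List.mem_range.mpr hk))
  rw [List.getD_eq_getElem _ _ hk] at h
  exact h.2

/-- The first set. -/
def baseSet : Set (Fin 315) := maskSet (masks.getD 0 0)

theorem K_fix {σ : Perm (Fin 315)} (hσ : σ ∈ K) : σ • baseSet = baseSet := by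
  have : K ≤ stabilizer (Perm (Fin 315)) baseSet := by
    refine (Subgroup.closure_le _).mpr ?_
    rintro _ ⟨g, hg, rfl⟩
    exact smul_maskSet (sub_gens g hg) (List.all_eq_true.mp fixed_first g hg)
  exact this hσ

theorem mem_orbit_mask {a : ℕ} (ha : a ∈ masks) : ∃ g : GP, g • baseSet = maskSet a := by
  obtain ⟨j, hj, rfl⟩ := List.getElem_of_mem ha
  obtain ⟨σ, hσ, he⟩ := reach (L := J2.cert0) (rest := J2.cert.tail) big_gens masks_tree j
    (by rw [lengths.1] at hj; omega)
  rw [List.getD_eq_getElem _ _ hj] at he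
  exact ⟨⟨σ, hσ⟩, he⟩

theorem stabilizer_eq : stabilizer GP baseSet = K.subgroupOf GP := by
  have hle : K.subgroupOf GP ≤ stabilizer GP baseSet := fun g hg => K_fix hg
  have hK : Nat.card (K.subgroupOf GP) = 6048 := by
    rw [Nat.card_congr (Subgroup.subgroupOfEquivOfLe K_le).toEquiv, card_K]
  have h100 : 100 ≤ (stabilizer GP baseSet).index := by
    rw [index_stabilizer, ← lengths.1, ← ncard_maskSets distinct_masks]
    refine Set.ncard_le_ncard ?_ (Set.toFinite _)
    rintro _ ⟨a, ha, rfl⟩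
    exact mem_orbit_mask ha
  refine (Subgroup.eq_of_le_of_card_ge hle ?_).symm
  rw [hK]
  have h := (stabilizer GP baseSet).card_mul_index
  rw [J2.card_GP] at h
  have h2 := Nat.mul_le_mul_left (Nat.card (stabilizer GP baseSet)) h100
  omega

theorem orbit_eq {ms : List ℕ} {t : List (ℕ × ℕ)} {N : ℕ} (hN : ms.length = N + 1)
    (ht : (List.range N).all (stepOk sub0.gens ms t) = true) (hc : closedOk sub0.gens ms = true) :
    (fun σ : K => (σ : Perm (Fin 315)) • maskSet (ms.getD 0 0)) '' Set.univ =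
      maskSet '' {a | a ∈ ms} := by
  ext S
  constructor
  · rintro ⟨σ, -, rfl⟩
    obtain ⟨b, hb, he⟩ := stays (L := sub0) (rest := sub.tail) sub_gens hc σ.2 (ms.getD 0 0)
      (by rw [List.getD_eq_getElem _ _ (by omega)]; exact List.getElem_mem _)
    exact ⟨b, hb, he.symm⟩
  · rintro ⟨a, ha, rfl⟩
    obtain ⟨j, hj, rfl⟩ := List.getElem_of_mem ha
    obtain ⟨σ, hσ, he⟩ := reach (L := sub0) (rest := sub.tail) sub_gens ht j (by omega)
    rw [List.getD_eq_getElem _ _ hj] at he
    exact ⟨⟨σ, hσ⟩, trivial, he⟩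

theorem exists_rank_three :
    ∃ H : Subgroup Spor.J2, H.index = 100 ∧ Nonempty (↥H ≃* K) ∧
      ∃ c₁ c₂ : Spor.J2 ⧸ H, (orbit ↥H c₁).ncard = 36 ∧ (orbit ↥H c₂).ncard = 63 := by
  classical
  let e := J2.j2Equiv
  let act : MulAction Spor.J2 (Set (Fin 315)) :=
    MulAction.compHom _ (GP.subtype.comp e.toMonoidHom)
  letI := act
  have hsm : ∀ (g : Spor.J2) (S : Set (Fin 315)), g • S = (e g : Perm (Fin 315)) • S :=
    fun _ _ => rfl
  let H : Subgroup Spor.J2 := stabilizer Spor.J2 baseSet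
  have hH : H = (K.subgroupOf GP).comap e.toMonoidHom := by
    ext g
    rw [← stabilizer_eq]
    exact Iff.rfl
  have hidx : H.index = 100 := by
    rw [hH, Subgroup.index_comap_of_surjective _ e.surjective]
    have h := (K.subgroupOf GP).card_mul_index
    rw [Nat.card_congr (Subgroup.subgroupOfEquivOfLe K_le).toEquiv, card_K, J2.card_GP] at h
    omega
  have hmem : ∀ g : Spor.J2, g ∈ H ↔ (e g : Perm (Fin 315)) ∈ K := fun g => by
    rw [hH]; exact Iff.rfl
  have hiso : Nonempty (↥H ≃* K) := by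
    let f : H →* K := MonoidHom.mk' (fun g => ⟨(e (g : Spor.J2) : Perm (Fin 315)), (hmem _).mp g.2⟩)
      fun a b => Subtype.ext (by simp)
    refine ⟨MulEquiv.ofBijective f ⟨fun a b h => Subtype.ext (e.injective (Subtype.ext
      (congrArg (fun k : K => (k : Perm (Fin 315))) h))), fun k => ?_⟩⟩
    refine ⟨⟨e.symm ⟨k, K_le k.2⟩, (hmem _).mpr ?_⟩, Subtype.ext ?_⟩
    · rw [e.apply_symm_apply]; exact k.2
    · show ((e (e.symm ⟨(k : Perm (Fin 315)), K_le k.2⟩) : GP) : Perm (Fin 315)) = k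
      rw [e.apply_symm_apply]
  refine ⟨H, hidx, hiso, ?_⟩
  have horb : ∀ (ms : List ℕ) (t : List (ℕ × ℕ)) (N : ℕ), ms.length = N + 1 →
      (List.range N).all (stepOk sub0.gens ms t) = true → closedOk sub0.gens ms = true →
      distinctOk ms = true → ms.all (fun a => masks.contains a) = true →
      ∃ c : Spor.J2 ⧸ H, (orbit ↥H c).ncard = N + 1 := by
    intro ms t N hN ht hc hd hm
    obtain ⟨g, hg⟩ := mem_orbit_mask (a := ms.getD 0 0) (by
      have := List.all_eq_true.mp hm (ms.getD 0 0)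
        (by rw [List.getD_eq_getElem _ _ (by omega)]; exact List.getElem_mem _)
      simpa using this)
    refine ⟨((e.symm g : Spor.J2) : Spor.J2 ⧸ H), ?_⟩
    let F : Spor.J2 ⧸ H → Set (Fin 315) := MulAction.ofQuotientStabilizer Spor.J2 baseSet
    have hF : Function.Injective F := MulAction.injective_ofQuotientStabilizer Spor.J2 baseSet
    have hF0 : F ((e.symm g : Spor.J2) : Spor.J2 ⧸ H) = maskSet (ms.getD 0 0) := by
      show (e.symm g : Spor.J2) • baseSet = _
      rw [hsm, e.apply_symm_apply]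
      exact hg
    rw [← hN, ← ncard_maskSets hd, ← orbit_eq hN ht hc, ← Set.ncard_image_of_injective _ hF]
    congr 1
    ext S
    constructor
    · rintro ⟨_, ⟨h, rfl⟩, rfl⟩
      refine ⟨⟨_, (hmem _).mp h.2⟩, trivial, ?_⟩
      show (e (h : Spor.J2) : Perm (Fin 315)) • maskSet (ms.getD 0 0) =
        F (((h : Spor.J2) • ((e.symm g : Spor.J2) : Spor.J2 ⧸ H)))
      rw [show F = MulAction.ofQuotientStabilizer Spor.J2 baseSet from rfl,
        MulAction.ofQuotientStabilizer_smul, hsm]
      exact congrArg _ hF0.symm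
    · rintro ⟨k, -, rfl⟩
      let g' : Spor.J2 := e.symm ⟨k, K_le k.2⟩
      have hg' : g' ∈ H := (hmem _).mpr (by
        show ((e (e.symm ⟨(k : Perm (Fin 315)), K_le k.2⟩) : GP) : Perm (Fin 315)) ∈ K
        rw [e.apply_symm_apply]; exact k.2)
      refine ⟨_, ⟨⟨g', hg'⟩, rfl⟩, ?_⟩
      show F (g' • ((e.symm g : Spor.J2) : Spor.J2 ⧸ H)) =
        (k : Perm (Fin 315)) • maskSet (ms.getD 0 0)
      rw [show F = MulAction.ofQuotientStabilizer Spor.J2 baseSet from rfl,
        MulAction.ofQuotientStabilizer_smul, hsm]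
      show ((e (e.symm ⟨(k : Perm (Fin 315)), K_le k.2⟩) : GP) : Perm (Fin 315)) • F _ = _
      rw [e.apply_symm_apply]
      exact congrArg _ hF0
  obtain ⟨c1, h1⟩ := horb ms36 tree36 35 lengths.2.1 tree36_ok closed36 distinct36 mem36
  obtain ⟨c2, h2⟩ := horb ms63 tree63 62 lengths.2.2 tree63_ok closed63 distinct63 mem63
  exact ⟨c1, c2, h1, h2⟩

end Cfsg.Agent.Lib.Recognition.J2Rank3
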