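import Cfsg.Agent.Lib.Compute.Pairs
import Cfsg.Agent.Lib.Recognition.J2Rank3Data
import Cfsg.Agent.Lib.Recognition.J2Data
import Cfsg.Agent.Lib.FusionControl.PSUSeven

/-!
Kernel checks for the rank three action of the Hall-Janko group.
-/

set_option autoImplicit false
set_option maxRecDepth 100000

namespace Cfsg.Agent.Lib.Recognition.J2Rank3

open Cfsg.Agent.Lib.Compute
open Cfsg.Agent.Lib.FusionControl.PSUSeven (Nine TriN nm nbar rdot ntr rmul nmul mbar rbar ndet nineOne)

theorem sub_chk : chk 315 sub = true := by decide +kernel

theorem graph_chk : chk 539 graph = true := by decide +kernel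

theorem graph_pairs : pairsOk 315 224 sub0.gens subR graph0.gens = true := by decide +kernel

theorem graph_above : basesAbove 315 graph = true := by decide +kernel

/-- The subgroup generators belong to the big group. -/
def subMemOk : Bool :=
  (List.range sub0.gens.length).all fun k =>
    memOk 315 Recognition.J2.cert (sub0.gens.getD k (0, 0)).1 (subWit.getD k [])

theorem subMemOk_eq : subMemOk = true := by decide +kernel

/-- The set with mask `a` is carried to the set with mask `b`. -/
def carries (g a b : ℕ) : Bool :=
  (List.range 315).all fun i => Nat.testBit b (app g i) == Nat.testBit a i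

/-- The entry of a tree is right. -/
def stepOk (gens : List (ℕ × ℕ)) (ms : List ℕ) (t : List (ℕ × ℕ)) (j : ℕ) : Bool :=
  let e := t.getD j (0, 0)
  decide (e.1 < gens.length) && decide (e.2 ≤ j) &&
    carries (gens.getD e.1 (0, 0)).1 (ms.getD e.2 0) (ms.getD (j + 1) 0)

/-- Every set is carried to another one of the list. -/
def closedOk (gens : List (ℕ × ℕ)) (ms : List ℕ) : Bool :=
  gens.all fun g => ms.all fun a => ms.any fun b => carries g.1 a b

/-- The sets of the list are distinct sets of points. -/
def distinctOk (ms : List ℕ) : Bool :=
  decide ms.Nodup && ms.all fun a => decide (a < 2 ^ 315)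

/-- The sets of the suborbit of length 36. -/
def ms36 : List ℕ := orb36.map fun k => masks.getD k 0

/-- The sets of the suborbit of length 63. -/
def ms63 : List ℕ := orb63.map fun k => masks.getD k 0

theorem masks_tree :
    (List.range 99).all (stepOk Recognition.J2.cert0.gens masks maskTree) = true := by
  decide +kernel

theorem tree36_ok : (List.range 35).all (stepOk sub0.gens ms36 tree36) = true := by decide +kernel

theorem tree63_ok : (List.range 62).all (stepOk sub0.gens ms63 tree63) = true := by decide +kernel

theorem closed36 : closedOk sub0.gens ms36 = true := by decide +kernel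

theorem closed63 : closedOk sub0.gens ms63 = true := by decide +kernel

theorem distinct_masks : distinctOk masks = true := by decide +kernel

theorem distinct36 : distinctOk ms36 = true := by decide +kernel

theorem distinct63 : distinctOk ms63 = true := by decide +kernel

theorem fixed_first :
    sub0.gens.all (fun g => carries g.1 (masks.getD 0 0) (masks.getD 0 0)) = true := by
  decide +kernel

theorem lengths : masks.length = 100 ∧ ms36.length = 36 ∧ ms63.length = 63 := by decide +kernel

theorem mem36 : ms36.all (fun a => masks.contains a) = true := by decide +kernel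

theorem mem63 : ms63.all (fun a => masks.contains a) = true := by decide +kernel

/-- A matrix with entries in `ZMod 3`. -/
def mkTri (x : ((ℤ × ℤ) × (ℤ × ℤ) × (ℤ × ℤ)) × ((ℤ × ℤ) × (ℤ × ℤ) × (ℤ × ℤ)) × ((ℤ × ℤ) × (ℤ × ℤ) × (ℤ × ℤ))) :
    TriN :=
  let c : ℤ × ℤ → Nine := fun p => ((p.1 : ZMod 3), (p.2 : ZMod 3))
  ((c x.1.1, c x.1.2.1, c x.1.2.2), (c x.2.1.1, c x.2.1.2.1, c x.2.1.2.2),
    (c x.2.2.1, c x.2.2.2.1, c x.2.2.2.2))

/-- The number of an element of the field. -/
def code (x : Nine) : ℕ := 3 * x.1.val + x.2.val

/-- The element of the field with a given number. -/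
def dig (k : ℕ) : Nine := (((k / 3 % 3 : ℕ) : ZMod 3), ((k % 3 : ℕ) : ZMod 3))

/-- The vector with a given number. -/
def vecTri (i : ℕ) : Nine × Nine × Nine := (dig (i / 81 % 9), dig (i / 9 % 9), dig (i % 9))

/-- The number of a vector. -/
def vecCode (v : Nine × Nine × Nine) : ℕ := 81 * code v.1 + 9 * code v.2.1 + code v.2.2

/-- The isotropic vector with a given number. -/
def isoTri (k : ℕ) : Nine × Nine × Nine := vecTri (isoList.getD k 0)

/-- The matrix is special unitary and acts as the packed permutation. -/
def matOk (x : TriN) (r : ℕ) : Bool :=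
  decide (ndet x = (1, 0)) && decide (nmul (ntr x) (mbar x) = nineOne) &&
    (List.range 224).all fun k => let v := isoTri k
      decide (isoTri (app r k) = (rdot x.1 v, rdot x.2.1 v, rdot x.2.2 v))

/-- All the matrices match. -/
def matsOk : List TriN → List (ℕ × ℕ) → Bool
  | [], [] => true
  | x :: xs, r :: rs => matOk x r.1 && matsOk xs rs
  | _, _ => false

theorem mats_eq : matsOk (subMat.map mkTri) subR = true := by decide +kernel

theorem code_roundtrip : ∀ x : Nine, dig (code x) = x ∧ code x < 9 := by decide +kernel

/-- `isoList` lists exactly the non-zero isotropic vectors. -/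
def isoOk : Bool :=
  decide isoList.Nodup && decide (isoList.length = 224) && isoList.all (fun i => decide (i < 729)) &&
    (List.range 729).all fun i => let v := vecTri i
      (decide (v ≠ 0) && decide (rdot v (rbar v) = 0)) == isoList.contains i

theorem iso_eq : isoOk = true := by decide +kernel

theorem vec_roundtrip : ((List.range 729).all fun i => vecCode (vecTri i) == i) = true := by
  decide +kernel

end Cfsg.Agent.Lib.Recognition.J2Rank3
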