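import Cfsg.Agent.Lib.Recognition.J2Rank3

/-!
The subgroup of index 100 of the Hall-Janko group is `PSU(3,3)`.
-/

set_option autoImplicit false
set_option maxRecDepth 100000

namespace Cfsg.Agent.Lib.Recognition.J2Rank3

open Cfsg.Agent.Lib.Compute Equiv Matrix Cfsg.Agent.Lib.Classical
open Cfsg.Agent.Lib.FusionControl.PSUSeven (Nine TriN nm nbar rdot ntr rmul nmul mbar rbar ndet
  nineOne toMat exists_embedding)

theorem graph_card : Nat.card (pairGrp 315 224 sub0.gens subR) = 6048 := by
  rw [card_pairGrp (L := graph0) (rest := graph.tail) graph_pairs graph_chk]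
  decide +kernel

theorem fst_map : (pairGrp 315 224 sub0.gens subR).map (MonoidHom.fst _ _) = K := by
  have hlen : sub0.gens.length = subR.length := by decide +kernel
  rw [pairGrp, MonoidHom.map_closure, K, show sub = sub0 :: sub.tail from rfl, grp]
  congr 1
  ext σ
  constructor
  · rintro ⟨x, hx, rfl⟩
    obtain ⟨k, hk, rfl⟩ := List.getElem_of_mem hx
    simp only [List.length_zipWith] at hk
    exact ⟨_, List.getElem_mem (show k < sub0.gens.length by omega), by simp⟩
  · rintro ⟨g, hg, rfl⟩
    obtain ⟨k, hk, rfl⟩ := List.getElem_of_mem hg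
    refine ⟨(toPerm 315 sub0.gens[k].1, toPerm 224 (subR[k]'(by omega)).1), ?_, rfl⟩
    exact List.mem_iff_getElem.mpr ⟨k, by rw [List.length_zipWith]; omega, by simp⟩

theorem matsOk_getElem : ∀ {xs : List TriN} {rs : List (ℕ × ℕ)}, matsOk xs rs = true →
    ∀ k (h : k < rs.length), ∃ x, xs[k]? = some x ∧ matOk x rs[k].1 = true := by
  intro xs
  induction xs with
  | nil => intro rs h k hk; cases rs <;> simp [matsOk] at h hk
  | cons x xs ih =>
    intro rs h k hk
    cases rs with
    | nil => simp at hk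
    | cons r rs =>
      simp only [matsOk, Bool.and_eq_true] at h
      cases k with
      | zero => exact ⟨x, by simp, h.1⟩
      | succ k => simpa using ih h.2 k (by simpa using hk)

/-- The non-zero isotropic vectors. -/
abbrev Iso (F : Type) [Field F] : Type := {v : Fin 3 → F // v ≠ 0 ∧ Cfsg.hermForm 3 F 3 v v = 0}

theorem K_iso {F : Type} [Field F] [Fintype F] (hF : Fintype.card F = 3 ^ 2) :
    Nonempty (K ≃* Cfsg.PSU 3 F 3) := by
  classical
  obtain ⟨σ, hσi, hσa, hσs, hσm, hσ0, hσ1, hσc⟩ := exists_embedding hF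
  have hσb : Function.Bijective σ := (Fintype.bijective_iff_injective_and_card σ).mpr
    ⟨hσi, by rw [hF]; rfl⟩
  have hmul : ∀ x y, toMat σ (nmul x y) = toMat σ x * toMat σ y := by
    intro x y
    ext i j
    fin_cases i <;> fin_cases j <;>
      simp [toMat, nmul, rmul, rdot, ntr, Matrix.mul_apply, Fin.sum_univ_three, hσa, hσm]
  have hone : toMat σ nineOne = 1 := by
    have e : nineOne = (((1,0),0,0),(0,(1,0),0),(0,0,(1,0))) := by decide +kernel
    rw [e]
    ext i j
    fin_cases i <;> fin_cases j <;> simp [toMat, hσ0, hσ1]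
  have htr : ∀ x, toMat σ (ntr x) = (toMat σ x)ᵀ := by
    intro x
    ext i j
    fin_cases i <;> fin_cases j <;> rfl
  have hbar : ∀ x, toMat σ (mbar x) = (toMat σ x).map (conjHom hF) := by
    intro x
    ext i j
    fin_cases i <;> fin_cases j <;> simp [toMat, mbar, rbar, conjHom_apply, hσc]
  let vec : Nine × Nine × Nine → (Fin 3 → F) := fun v => ![σ v.1, σ v.2.1, σ v.2.2]
  have hvi : Function.Injective vec := fun v w h => by
    have := fun i => congrFun h i
    exact Prod.ext (hσi (by simpa [vec] using this 0))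
      (Prod.ext (hσi (by simpa [vec] using this 1)) (hσi (by simpa [vec] using this 2)))
  have hvz : ∀ v, vec v = 0 ↔ v = 0 := by
    intro v
    constructor
    · intro h
      refine hvi (h.trans ?_)
      funext i
      fin_cases i <;> simp [vec, hσ0]
    · rintro rfl
      funext i
      fin_cases i <;> simp [vec, hσ0]
  have hherm : ∀ v, Cfsg.hermForm 3 F 3 (vec v) (vec v) = σ (rdot v (rbar v)) := by
    intro v
    simp [Cfsg.hermForm, vec, Fin.sum_univ_three, rdot, rbar, hσa, hσm, hσc]
  have hok := iso_eq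
  simp only [isoOk, Bool.and_eq_true, decide_eq_true_eq, List.all_eq_true, beq_iff_eq,
    List.mem_range] at hok
  obtain ⟨⟨⟨hnd, hlen⟩, hlt⟩, hiff⟩ := hok
  have hrt := vec_roundtrip
  simp only [List.all_eq_true, beq_iff_eq, List.mem_range] at hrt
  have hin : ∀ k : Fin 224, isoTri k ≠ 0 ∧ rdot (isoTri k) (rbar (isoTri k)) = 0 := by
    intro k
    have hk : (k : ℕ) < isoList.length := by rw [hlen]; exact k.isLt
    have hm : isoList.getD k 0 ∈ isoList := by
      rw [List.getD_eq_getElem _ _ hk]; exact List.getElem_mem _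
    have h := hiff _ (hlt _ hm)
    rw [List.contains_iff_mem.mpr hm] at h
    simpa [isoTri] using h
  let f : Fin 224 → Iso F := fun k =>
    ⟨vec (isoTri k), fun h => (hin k).1 ((hvz _).mp h), by rw [hherm, (hin k).2, hσ0]⟩
  have hfb : Function.Bijective f := by
    constructor
    · intro a b h
      have h1 := hvi (congrArg Subtype.val h)
      have h2 := congrArg vecCode h1
      have ha : (a : ℕ) < isoList.length := by rw [hlen]; exact a.isLt
      have hb : (b : ℕ) < isoList.length := by rw [hlen]; exact b.isLt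
      simp only [isoTri, List.getD_eq_getElem _ _ ha, List.getD_eq_getElem _ _ hb] at h2
      rw [hrt _ (hlt _ (List.getElem_mem _)), hrt _ (hlt _ (List.getElem_mem _))] at h2
      exact Fin.ext ((List.Nodup.getElem_inj_iff hnd).mp h2)
    · rintro ⟨v, hv0, hv⟩
      obtain ⟨w, rfl⟩ : ∃ w, vec w = v := by
        obtain ⟨a, ha⟩ := hσb.2 (v 0)
        obtain ⟨b, hb⟩ := hσb.2 (v 1)
        obtain ⟨c, hc⟩ := hσb.2 (v 2)
        exact ⟨(a, b, c), by funext i; fin_cases i <;> simp [vec, ha, hb, hc]⟩
      rw [hherm, ← hσ0] at hv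
      have hw : vecCode w < 729 := by
        have := (code_roundtrip w.1).2
        have := (code_roundtrip w.2.1).2
        have := (code_roundtrip w.2.2).2
        simp only [vecCode]; omega
      have hwe : vecTri (vecCode w) = w := by
        have h1 := (code_roundtrip w.1).2
        have h2 := (code_roundtrip w.2.1).2
        have h3 := (code_roundtrip w.2.2).2
        simp only [vecTri, vecCode]
        rw [show (81 * code w.1 + 9 * code w.2.1 + code w.2.2) / 81 % 9 = code w.1 by omega,
          show (81 * code w.1 + 9 * code w.2.1 + code w.2.2) / 9 % 9 = code w.2.1 by omega,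
          show (81 * code w.1 + 9 * code w.2.1 + code w.2.2) % 9 = code w.2.2 by omega,
          (code_roundtrip w.1).1, (code_roundtrip w.2.1).1, (code_roundtrip w.2.2).1]
      have h := hiff _ hw
      rw [hwe] at h
      have hm : vecCode w ∈ isoList := by
        rw [← List.contains_iff_mem, ← h]
        simp [hσi hv, show w ≠ 0 from fun e => hv0 ((hvz w).mpr e)]
      obtain ⟨k, hk, hke⟩ := List.getElem_of_mem hm
      refine ⟨⟨k, by rw [← hlen]; exact hk⟩, Subtype.ext ?_⟩
      show vec (isoTri k) = vec w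
      rw [isoTri, List.getD_eq_getElem _ _ hk, hke, hwe]
  let ef : Fin 224 ≃ Iso F := Equiv.ofBijective f hfb
  let tm : Cfsg.SU 3 F 3 →* Matrix (Fin 3) (Fin 3) F :=
    (Cfsg.slToMat 3 F).comp (Cfsg.SU 3 F 3).subtype
  have hcanc : ∀ (g : Cfsg.SU 3 F 3) (v : Fin 3 → F), tm g⁻¹ *ᵥ (tm g *ᵥ v) = v := fun g v => by
    rw [Matrix.mulVec_mulVec, ← map_mul, inv_mul_cancel, map_one, Matrix.one_mulVec]
  have hcanc' : ∀ (g : Cfsg.SU 3 F 3) (v : Fin 3 → F), tm g *ᵥ (tm g⁻¹ *ᵥ v) = v := fun g v => by
    rw [Matrix.mulVec_mulVec, ← map_mul, mul_inv_cancel, map_one, Matrix.one_mulVec]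
  let mv : Cfsg.SU 3 F 3 → Iso F → Iso F := fun g v => ⟨tm g *ᵥ v.1,
    fun h => v.2.1 (by rw [← hcanc g v.1, h, Matrix.mulVec_zero]), (g.2 v.1 v.1).trans v.2.2⟩
  let mulV : Cfsg.SU 3 F 3 →* Equiv.Perm (Iso F) :=
    { toFun := fun g =>
        { toFun := mv g
          invFun := mv g⁻¹
          left_inv := fun v => Subtype.ext (hcanc g v.1)
          right_inv := fun v => Subtype.ext (hcanc' g v.1) }
      map_one' := Equiv.ext fun v => Subtype.ext (by
        show tm 1 *ᵥ v.1 = v.1
        rw [map_one, Matrix.one_mulVec])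
      map_mul' := fun g h => Equiv.ext fun v => Subtype.ext (by
        show tm (g * h) *ᵥ v.1 = tm g *ᵥ (tm h *ᵥ v.1)
        rw [map_mul, Matrix.mulVec_mulVec]) }
  let φ : Cfsg.SU 3 F 3 →* Perm (Fin 224) := ef.symm.permCongrHom.toMonoidHom.comp mulV
  let R : Subgroup (Perm (Fin 224)) := (pairGrp 315 224 sub0.gens subR).map (MonoidHom.snd _ _)
  have hRφ : R ≤ φ.range := by
    rw [Subgroup.map_le_iff_le_comap]
    refine (Subgroup.closure_le _).mpr ?_
    intro x hx
    obtain ⟨k, hk, rfl⟩ := List.getElem_of_mem hx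
    have hkR : k < subR.length := by
      simp only [List.length_zipWith] at hk
      omega
    obtain ⟨X, -, hX⟩ := matsOk_getElem mats_eq k hkR
    simp only [matOk, Bool.and_eq_true, decide_eq_true_eq, List.all_eq_true, List.mem_range] at hX
    obtain ⟨⟨hd, hu⟩, hact⟩ := hX
    let M : Matrix.SpecialLinearGroup (Fin 3) F := ⟨toMat σ X, by
      rw [← hσ1, ← hd]
      simp only [toMat, ndet, Matrix.det_fin_three, hσa, hσs, hσm]
      simp⟩
    have hM : M ∈ Cfsg.SU 3 F 3 := (mem_SU_iff hF M).2 (by
      show (toMat σ X)ᵀ * (toMat σ X).map (conjHom hF) = 1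
      rw [← htr, ← hbar, ← hmul, hu, hone])
    have hgen : genOk 224 (subR[k]'hkR) = true := by
      have h : subR.all (genOk 224) = true := by decide +kernel
      exact List.all_eq_true.mp h _ (List.getElem_mem _)
    refine ⟨⟨M, hM⟩, ?_⟩
    simp only [List.getElem_zipWith, MonoidHom.coe_snd]
    refine Equiv.ext fun j => ef.injective (Subtype.ext ?_)
    show (f (φ ⟨M, hM⟩ j)).1 = _
    have h1 : f (φ ⟨M, hM⟩ j) = mulV ⟨M, hM⟩ (f j) := by
      show ef (ef.symm.permCongr (mulV ⟨M, hM⟩) j) = _
      simp [Equiv.permCongr_apply, ef]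
    rw [h1]
    show toMat σ X *ᵥ vec (isoTri j) = vec (isoTri ((toPerm 224 (subR[k]'hkR).1 j : Fin 224) : ℕ))
    rw [repr_toPerm_of_genOk hgen j, hact j j.isLt]
    funext i
    fin_cases i <;> simp [toMat, vec, rdot, Matrix.mulVec, dotProduct, Fin.sum_univ_three, hσa, hσm]
  -- the two projections
  let T := pairGrp 315 224 sub0.gens subR
  have hcT : Nat.card T = 6048 := graph_card
  let p1 : T →* K := ((MonoidHom.fst _ _).comp T.subtype).codRestrict K fun x => by
    rw [← fst_map]; exact ⟨x.1, x.2, rfl⟩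
  let p2 : T →* φ.range := ((MonoidHom.snd _ _).comp T.subtype).codRestrict φ.range fun x =>
    hRφ ⟨x.1, x.2, rfl⟩
  have h1s : Function.Surjective p1 := by
    rintro ⟨k, hk⟩
    rw [← fst_map] at hk
    obtain ⟨x, hx, he⟩ := hk
    exact ⟨⟨x, hx⟩, Subtype.ext he⟩
  have h1b : Function.Bijective p1 := (Nat.bijective_iff_surjective_and_card p1).mpr
    ⟨h1s, by rw [hcT, card_K]⟩
  have h2i : Function.Injective p2 := by
    refine (injective_iff_map_eq_one p2).mpr fun x hx => Subtype.ext ?_
    exact snd_injOn (L := graph0) (rest := graph.tail) graph_pairs graph_chk graph_above x.2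
      (congrArg Subtype.val hx)
  have hSU : Nat.card (Cfsg.SU 3 F 3) = 6048 := by
    have h1 := card_SU (q := 3) hF (n := 3) (by norm_num)
    rw [card_GU hF] at h1
    norm_num [Finset.prod_range_succ, Nat.even_add_one] at h1
    rw [Nat.card_eq_fintype_card]; omega
  have hφs : Nat.card φ.range ≤ 6048 := by
    rw [← hSU]
    exact Nat.card_le_card_of_surjective φ.rangeRestrict φ.rangeRestrict_surjective
  have hR : Nat.card φ.range = 6048 := le_antisymm hφs (hcT ▸ Nat.card_le_card_of_injective p2 h2i)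
  have h2b : Function.Bijective p2 := (Nat.bijective_iff_injective_and_card p2).mpr
    ⟨h2i, by rw [hcT, hR]⟩
  have hφb : Function.Bijective φ.rangeRestrict := (Nat.bijective_iff_surjective_and_card _).mpr
    ⟨φ.rangeRestrict_surjective, by rw [hSU, hR]⟩
  have hZ : Subgroup.center (Cfsg.SU 3 F 3) = ⊥ := by
    rw [← Subgroup.card_eq_one, card_center_SU hF (by norm_num)]
    norm_num
  exact ⟨(MulEquiv.ofBijective p1 h1b).symm.trans ((MulEquiv.ofBijective p2 h2b).trans
    ((MulEquiv.ofBijective φ.rangeRestrict hφb).symm.trans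
      (QuotientGroup.quotientBot.symm.trans (QuotientGroup.quotientMulEquivOfEq hZ.symm))))⟩

end Cfsg.Agent.Lib.Recognition.J2Rank3
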