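import Mathlib.GroupTheory.OrderOfElement
import Mathlib.GroupTheory.Solvable
import Mathlib.GroupTheory.Perm.Cycle.Type
import Mathlib.GroupTheory.QuotientGroup.Basic
import Mathlib.Logic.Small.Basic
import Mathlib.Tactic

/-!
Groups with the same set of element orders.
-/

set_option autoImplicit false
set_option linter.style.haveILetI false

namespace Cfsg.Agent.Lib.Recognition

/-- If the kernel of `f` has prime exponent `p`, the order of an element is that of its image or
`p` times it. -/
theorem orderOf_eq_or_prime_mul {H G : Type*} [Group H] [Group G] [Finite H] (f : H →* G) {p : ℕ}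
    (hp : p.Prime) (hk : ∀ x : H, f x = 1 → x ^ p = 1) (x : H) :
    orderOf x = orderOf (f x) ∨ orderOf x = p * orderOf (f x) := by
  obtain ⟨c, hc⟩ := orderOf_map_dvd f x
  have h1 : f (x ^ orderOf (f x)) = 1 := by rw [map_pow, pow_orderOf_eq_one]
  have h2 : x ^ (orderOf (f x) * p) = 1 := by rw [pow_mul]; exact hk _ h1
  have h3 : orderOf x ∣ orderOf (f x) * p := orderOf_dvd_of_pow_eq_one h2
  have hm : 0 < orderOf (f x) := by
    rcases Nat.eq_zero_or_pos (orderOf (f x)) with h | h
    · have := orderOf_pos x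
      rw [hc, h, zero_mul] at this
      omega
    · exact h
  rw [hc] at h3
  rcases (Nat.dvd_prime hp).1 (Nat.dvd_of_mul_dvd_mul_left hm h3) with h | h
  · left; rw [hc, h, mul_one]
  · right; rw [hc, h, mul_comm]

/-- In `G`, with `V` normal of exponent `p`: the lcm of the orders of elements of one coset of `V`
is the order of one of them. -/
theorem exists_orderOf_eq_lcm {G ι : Type*} [Group G] [Finite G] [Fintype ι] [Nonempty ι]
    (V : Subgroup G) [V.Normal] {p : ℕ} (hp : p.Prime) (hV : ∀ v ∈ V, v ^ p = 1)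
    (x : ι → G) (hx : ∀ i j, (x i : G ⧸ V) = x j) :
    ∃ i, ∀ j, orderOf (x j) ∣ orderOf (x i) := by
  have h := fun i => orderOf_eq_or_prime_mul (QuotientGroup.mk' V) hp
    (fun y hy => hV y ((QuotientGroup.eq_one_iff y).1 hy)) (x i)
  obtain ⟨i, -, hi⟩ := Finset.exists_max_image Finset.univ (fun i => orderOf (x i)) Finset.univ_nonempty
  refine ⟨i, fun j => ?_⟩
  have hle := hi j (Finset.mem_univ _)
  have hij : QuotientGroup.mk' V (x j) = QuotientGroup.mk' V (x i) := hx j i
  have hj := h j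
  rw [hij] at hj
  have hpos : 0 < orderOf (QuotientGroup.mk' V (x i)) := orderOf_pos _
  rcases hj with hj | hj <;> rcases h i with h' | h'
  · rw [hj, h']
  · rw [hj, h']; exact Dvd.intro_left p rfl
  · exfalso
    rw [hj, h'] at hle
    have := Nat.mul_le_mul_right (orderOf (QuotientGroup.mk' V (x i))) hp.two_le
    omega
  · rw [hj, h']

/-- The fibre power of `G` over `G ⧸ V`. -/
def fibrePower {G : Type*} [Group G] (V : Subgroup G) [V.Normal] (ι : Type*) : Subgroup (ι → G) where
  carrier := {x | ∀ i j, QuotientGroup.mk' V (x i) = QuotientGroup.mk' V (x j)}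
  mul_mem' := fun {a b} ha hb i j => by simp only [Pi.mul_apply, map_mul, ha i j, hb i j]
  one_mem' := fun i j => by simp
  inv_mem' := fun {a} ha i j => by simp only [Pi.inv_apply, map_inv, ha i j]

theorem range_orderOf_fibrePower {G ι : Type*} [Group G] [Finite G] [Fintype ι] [Nonempty ι]
    (V : Subgroup G) [V.Normal] {p : ℕ} (hp : p.Prime) (hV : ∀ v ∈ V, v ^ p = 1) :
    Set.range (orderOf : fibrePower V ι → ℕ) = Set.range (orderOf : G → ℕ) := by
  ext m
  constructor
  · rintro ⟨x, rfl⟩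
    obtain ⟨i, hi⟩ := exists_orderOf_eq_lcm V hp hV x.1 x.2
    refine ⟨x.1 i, Nat.dvd_antisymm ?_ (orderOf_dvd_of_pow_eq_one (Subtype.ext (funext fun j => ?_)))⟩
    · exact orderOf_map_dvd ((Pi.evalMonoidHom (fun _ : ι => G) i).comp (fibrePower V ι).subtype) x
    · rw [SubmonoidClass.coe_pow, Pi.pow_apply, OneMemClass.coe_one, Pi.one_apply]
      exact orderOf_dvd_iff_pow_eq_one.1 (hi j)
  · rintro ⟨g, rfl⟩
    refine ⟨⟨fun _ => g, fun _ _ => rfl⟩, ?_⟩
    rw [← Subgroup.orderOf_coe]
    exact orderOf_injective (MonoidHom.pi fun _ : ι => MonoidHom.id G)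
      (fun a b hab => congrFun hab (Classical.arbitrary ι)) g

/-- A finite group is isomorphic to one in `Type`. -/
theorem exists_small_model (G : Type*) [Group G] [Finite G] :
    ∃ (H : Type) (_ : Group H) (_ : Fintype H), Nonempty (G ≃* H) := by
  classical
  haveI := Fintype.ofFinite G
  let f : G →* Equiv.Perm (Fin (Fintype.card G)) :=
    ((Fintype.equivFin G).permCongrHom.toMonoidHom).comp (MulAction.toPermHom G G)
  have hf : Function.Injective f :=
    (Fintype.equivFin G).permCongrHom.injective.comp MulAction.toPerm_injective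
  exact ⟨f.range, inferInstance, Fintype.ofFinite _, ⟨MonoidHom.ofInjective hf⟩⟩

theorem range_orderOf_congr {G H : Type*} [Group G] [Group H] (e : G ≃* H) :
    Set.range (orderOf : G → ℕ) = Set.range (orderOf : H → ℕ) := by
  ext m
  exact ⟨fun ⟨g, hg⟩ => ⟨e g, by rw [e.orderOf_eq, hg]⟩,
    fun ⟨h, hh⟩ => ⟨e.symm h, by rw [e.symm.orderOf_eq, hh]⟩⟩

/-- A group with a nontrivial normal subgroup of prime exponent has arbitrarily large isospectral
groups. -/
theorem exists_large_isospectral {G : Type*} [Group G] [Finite G]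
    (V : Subgroup G) [V.Normal] (hne : V ≠ ⊥) {p : ℕ} (hp : p.Prime) (hV : ∀ v ∈ V, v ^ p = 1)
    (N : ℕ) : ∃ (H : Type) (_ : Group H) (_ : Fintype H),
      N < Fintype.card H ∧ Set.range (orderOf : H → ℕ) = Set.range (orderOf : G → ℕ) := by
  classical
  obtain ⟨H, iG, iF, ⟨e⟩⟩ := exists_small_model (fibrePower V (Fin (N + 1)))
  refine ⟨H, iG, iF, ?_, by rw [← range_orderOf_congr e, range_orderOf_fibrePower V hp hV]⟩
  rw [← Nat.card_eq_fintype_card, ← Nat.card_congr e.toEquiv]
  haveI : Nontrivial V := V.nontrivial_iff_ne_bot.2 hne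
  let emb : (Fin (N + 1) → V) → fibrePower V (Fin (N + 1)) := fun v => ⟨fun i => v i, fun i j => by
    have h : ∀ k, QuotientGroup.mk' V (v k : G) = 1 := fun k => (QuotientGroup.eq_one_iff _).2 (v k).2
    rw [h i, h j]⟩
  have := Nat.card_le_card_of_injective emb (fun a b h =>
    funext fun i => Subtype.ext (congrFun (congrArg Subtype.val h) i))
  rw [Nat.card_fun, Nat.card_fin] at this
  have h2 : N + 1 < Nat.card V ^ (N + 1) := (N + 1).lt_pow_self Finite.one_lt_card
  omega

/-- A nontrivial solvable normal subgroup contains a nontrivial normal elementary abelian one. -/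
theorem exists_elementary_le {G : Type*} [Group G] [Finite G] (K : Subgroup G) [K.Normal]
    (hK : K ≠ ⊥) (hs : Group.IsSolvable K) :
    ∃ (V : Subgroup G) (p : ℕ), V.Normal ∧ V ≠ ⊥ ∧ V ≤ K ∧ p.Prime ∧ (∀ v ∈ V, v ^ p = 1) ∧
      ∀ u ∈ V, ∀ v ∈ V, u * v = v * u := by
  classical
  obtain ⟨n, hn⟩ := hs.solvable
  have hn' : (Subgroup.map K.subtype (derivedSeries K n)) = ⊥ := by rw [hn, Subgroup.map_bot]
  have hex : ∃ i, Subgroup.map K.subtype (derivedSeries K i) = ⊥ := ⟨n, hn'⟩
  have h0 : Nat.find hex ≠ 0 := by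
    intro h
    have := Nat.find_spec hex
    rw [h, derivedSeries_zero, ← MonoidHom.range_eq_map, Subgroup.range_subtype] at this
    exact hK this
  obtain ⟨i, hi⟩ := Nat.exists_eq_succ_of_ne_zero h0
  set A := Subgroup.map K.subtype (derivedSeries K i) with hA
  have hAne : A ≠ ⊥ := Nat.find_min hex (by omega)
  have hAc : ∀ u ∈ A, ∀ v ∈ A, u * v = v * u := by
    have h := Nat.find_spec hex
    rw [hi, derivedSeries_succ, Subgroup.map_commutator] at h
    intro u hu v hv
    exact (Subgroup.commutator_eq_bot_iff_le_centralizer.1 h hu v hv).symm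
  haveI : A.Normal := ConjAct.normal_of_characteristic_of_normal
  haveI : Nontrivial A := A.nontrivial_iff_ne_bot.2 hAne
  obtain ⟨p, hp, hpd⟩ := Nat.exists_prime_and_dvd (n := Nat.card A) Finite.one_lt_card.ne'
  haveI := Fact.mk hp
  obtain ⟨x, hx⟩ := exists_prime_orderOf_dvd_card' p hpd
  let V : Subgroup G :=
    { carrier := {v | v ∈ A ∧ v ^ p = 1}
      one_mem' := ⟨one_mem _, one_pow _⟩
      mul_mem' := fun {u v} hu hv => ⟨mul_mem hu.1 hv.1, by
        rw [Commute.mul_pow (hAc u hu.1 v hv.1), hu.2, hv.2, one_mul]⟩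
      inv_mem' := fun {u} hu => ⟨inv_mem hu.1, by rw [inv_pow, hu.2, inv_one]⟩ }
  refine ⟨V, p, ⟨fun v hv g => ⟨‹A.Normal›.conj_mem v hv.1 g, by rw [conj_pow, hv.2, mul_one, mul_inv_cancel]⟩⟩,
    ?_, fun v hv => Subgroup.map_subtype_le _ hv.1, hp, fun v hv => hv.2, fun u hu v hv => hAc u hu.1 v hv.1⟩
  intro h
  have hxV : (x : G) ∈ V := ⟨x.2, by rw [← Subgroup.coe_pow, ← hx, pow_orderOf_eq_one, OneMemClass.coe_one]⟩
  rw [h, Subgroup.mem_bot, ← orderOf_eq_one_iff, Subgroup.orderOf_coe, hx] at hxV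
  exact hp.ne_one hxV

end Cfsg.Agent.Lib.Recognition
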