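import Mathlib

/-!
The 240 matrices of the group `2.S₅⁻` in dimension 4 over the field with 7 elements.
-/

set_option autoImplicit false

namespace Cfsg.Agent.Lib.Recognition.SpinFive

/-- First generator. -/
def genA : List ℕ := [0,0,2,3,0,0,3,5,3,2,4,4,2,4,4,3]

/-- Second generator. -/
def genB : List ℕ := [0,0,0,1,0,0,6,0,0,1,3,5,6,0,2,3]

/-- Each element with its order and the indices of its products with the generators. -/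
def table : List (List ℕ × ℕ × ℕ × ℕ) := [
  ([1,0,0,0,0,1,0,0,0,0,1,0,0,0,0,1], 1, 1, 2),
  ([0,0,2,3,0,0,3,5,3,2,4,4,2,4,4,3], 8, 3, 4),
  ([0,0,0,1,0,0,6,0,0,1,3,5,6,0,2,3], 5, 5, 6),
  ([5,2,6,3,5,5,4,6,6,3,2,5,4,6,2,2], 4, 7, 8),
  ([4,2,5,5,2,3,5,2,3,4,4,0,4,4,0,3], 12, 9, 10),
  ([2,4,4,3,4,5,3,3,5,5,0,4,5,2,4,0], 12, 11, 12),
  ([6,0,2,3,0,6,4,2,2,3,4,2,4,2,5,4], 5, 13, 14),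
  ([3,3,3,2,3,4,2,4,2,3,0,0,3,5,0,0], 8, 15, 16),
  ([4,6,1,2,1,4,5,1,2,2,6,3,5,2,4,6], 5, 17, 18),
  ([4,2,5,1,5,4,6,5,5,1,6,3,6,5,4,6], 5, 19, 20),
  ([2,5,2,2,5,5,2,5,0,4,1,2,4,0,2,6], 12, 21, 22),
  ([4,6,2,2,1,4,5,2,1,2,6,3,5,1,4,6], 5, 23, 24),
  ([4,4,0,3,4,3,3,0,3,0,3,3,0,4,3,4], 12, 25, 26),
  ([5,2,4,0,2,2,0,3,2,2,2,1,2,5,1,5], 12, 27, 28),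
  ([4,2,5,4,5,4,3,5,5,4,6,0,3,5,0,6], 5, 29, 30),
  ([6,0,0,0,0,6,0,0,0,0,6,0,0,0,0,6], 2, 31, 32),
  ([5,3,3,3,3,2,3,4,0,0,4,2,0,0,2,3], 4, 33, 34),
  ([0,3,3,3,3,0,3,4,3,3,4,0,3,4,0,3], 4, 35, 36),
  ([5,1,1,1,6,5,6,1,4,6,1,6,1,4,1,1], 3, 37, 38),
  ([3,0,3,3,0,4,3,4,3,3,0,4,3,4,4,0], 4, 39, 40),
  ([6,5,1,4,2,6,3,1,4,6,2,2,1,4,5,2], 6, 41, 42),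
  ([3,5,0,3,2,3,4,0,0,3,3,2,4,0,5,3], 3, 43, 44),
  ([5,2,5,4,2,2,4,2,5,1,3,4,1,2,4,4], 8, 45, 23),
  ([3,5,0,0,5,4,0,0,3,3,2,4,3,4,4,5], 4, 32, 1),
  ([5,2,4,6,5,5,1,4,4,6,1,5,1,4,2,1], 3, 46, 47),
  ([6,5,4,6,2,6,1,4,1,4,2,2,3,1,5,2], 6, 48, 49),
  ([4,0,2,6,0,3,6,5,4,3,1,6,3,3,6,6], 8, 50, 51),
  ([5,1,4,6,6,5,1,4,1,1,1,6,6,1,1,1], 3, 52, 53),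
  ([0,4,3,4,4,0,4,4,6,2,6,1,2,1,1,1], 8, 54, 55),
  ([2,5,1,5,5,5,5,6,4,5,4,3,5,3,3,3], 8, 56, 57),
  ([3,5,0,6,2,3,1,0,0,6,0,0,1,0,0,0], 5, 16, 0),
  ([0,0,5,4,0,0,4,2,4,5,3,3,5,3,3,4], 8, 58, 59),
  ([0,0,0,6,0,0,1,0,0,6,4,2,1,0,5,4], 10, 60, 61),
  ([1,4,1,2,3,1,5,1,2,2,3,1,5,2,6,3], 10, 62, 63),
  ([4,3,5,1,3,3,1,2,5,4,2,5,4,2,5,5], 8, 64, 65),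
  ([1,4,5,1,3,1,6,5,5,1,3,5,6,5,2,3], 10, 66, 67),
  ([4,3,5,3,3,3,3,2,0,4,2,2,4,0,2,5], 12, 68, 69),
  ([5,6,0,6,6,2,6,0,1,5,5,1,5,6,1,2], 8, 70, 71),
  ([6,1,4,6,6,6,1,4,1,1,2,6,6,1,1,2], 6, 72, 39),
  ([1,4,2,2,3,1,5,2,1,2,3,1,5,1,6,3], 10, 59, 3),
  ([4,3,1,6,3,3,6,6,3,0,5,1,0,4,1,2], 12, 73, 74),
  ([4,4,5,3,4,3,3,2,3,5,0,0,5,4,0,0], 12, 75, 76),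
  ([3,1,6,2,6,3,5,6,5,2,4,6,5,5,1,4], 4, 77, 78),
  ([6,5,5,1,5,1,1,2,6,0,1,5,0,1,5,6], 8, 79, 80),
  ([4,0,1,5,0,4,2,1,5,3,3,0,4,5,0,3], 4, 81, 82),
  ([2,5,3,1,2,2,6,3,3,1,6,2,6,3,5,6], 6, 83, 84),
  ([3,4,0,3,4,4,3,0,6,1,1,5,1,1,5,6], 12, 85, 86),
  ([1,4,1,1,3,1,6,1,2,1,0,3,6,2,4,0], 6, 87, 88),
  ([3,4,4,0,4,4,0,3,3,5,2,2,5,4,2,5], 12, 89, 90),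
  ([1,4,5,2,3,1,5,5,5,2,6,3,5,5,4,6], 4, 91, 92),
  ([4,0,5,3,0,4,4,5,1,5,3,0,2,1,0,3], 4, 93, 94),
  ([1,2,4,4,2,6,4,3,1,1,5,6,1,6,6,2], 4, 95, 52),
  ([3,4,4,5,4,4,5,3,1,5,5,2,5,6,2,2], 8, 61, 5),
  ([1,4,2,1,3,1,6,2,1,1,0,3,6,1,4,0], 6, 74, 96),
  ([3,1,5,2,6,3,5,5,6,2,4,6,5,6,1,4], 4, 97, 98),
  ([3,3,6,6,3,4,6,1,6,6,4,4,6,1,4,3], 4, 99, 77),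
  ([6,1,1,1,6,6,6,1,4,6,2,6,1,4,1,2], 6, 100, 101),
  ([2,1,1,1,1,5,1,6,4,4,6,5,4,3,5,1], 4, 102, 81),
  ([2,5,1,4,2,2,3,1,1,4,5,2,3,1,5,5], 4, 103, 104),
  ([3,5,2,2,5,4,2,5,4,3,3,0,3,3,0,4], 12, 105, 106),
  ([5,3,3,4,3,2,4,4,2,2,0,3,2,5,3,0], 12, 107, 108),
  ([1,0,5,4,0,1,3,5,5,4,3,5,3,5,2,3], 10, 109, 110),
  ([0,3,5,5,3,0,5,2,4,3,5,3,3,3,3,2], 12, 111, 29),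
  ([5,1,3,5,6,5,2,3,6,3,2,6,4,6,1,2], 4, 112, 113),
  ([3,0,6,1,0,3,6,6,2,3,1,2,4,2,5,1], 10, 114, 115),
  ([6,5,0,4,5,1,4,0,2,2,5,2,2,5,2,2], 12, 116, 66),
  ([3,0,3,4,0,4,4,4,5,5,3,5,5,2,5,4], 12, 104, 7),
  ([6,5,6,1,2,6,6,6,2,3,4,0,4,2,0,4], 5, 117, 118),
  ([0,1,0,0,6,0,0,0,3,5,0,6,2,3,1,0], 4, 119, 120),
  ([4,5,4,3,5,3,3,3,5,2,6,2,2,2,2,1], 8, 121, 122),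
  ([5,3,3,0,4,5,0,3,3,0,6,2,0,3,5,6], 10, 123, 124),
  ([1,0,6,2,0,6,2,1,6,5,5,1,5,1,1,2], 8, 125, 87),
  ([3,4,6,1,4,4,1,1,4,0,2,6,0,3,6,5], 12, 96, 126),
  ([1,5,3,0,2,1,0,3,3,0,2,4,0,3,3,2], 5, 127, 128),
  ([1,1,5,6,1,6,6,2,6,5,3,3,5,1,3,4], 8, 129, 130),
  ([0,1,3,5,6,0,2,3,0,0,0,6,0,0,1,0], 4, 131, 132),
  ([4,5,3,3,5,3,3,4,0,0,2,3,0,0,3,5], 4, 49, 133),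
  ([1,6,6,2,6,6,2,1,3,4,0,3,4,4,3,0], 8, 134, 100),
  ([5,6,0,4,1,5,3,0,1,4,1,1,3,1,6,1], 3, 135, 79),
  ([3,0,2,3,0,3,4,2,6,1,1,2,6,6,5,1], 10, 106, 9),
  ([6,5,5,6,5,1,6,2,2,1,6,5,1,5,5,1], 8, 118, 136),
  ([6,1,4,3,1,1,3,3,2,6,3,0,6,5,0,4], 8, 137, 138),
  ([2,1,6,3,6,2,4,6,0,3,6,6,4,0,1,6], 6, 139, 121),
  ([4,3,0,4,3,3,4,0,1,6,6,2,6,6,2,1], 12, 140, 141),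
  ([6,3,6,6,4,6,1,6,5,6,0,4,1,5,3,0], 3, 142, 125),
  ([6,5,2,3,2,6,4,2,6,1,4,0,6,6,0,4], 5, 22, 143),
  ([4,0,2,5,0,3,5,5,2,1,5,5,1,5,5,2], 8, 144, 145),
  ([5,6,1,2,6,2,2,6,6,5,5,6,5,1,6,2], 8, 146, 147),
  ([6,1,1,2,6,6,5,1,4,0,5,4,0,4,3,5], 10, 148, 89),
  ([5,1,6,3,6,5,4,6,3,5,2,6,2,3,1,2], 4, 108, 11),
  ([0,4,1,2,4,0,2,6,5,2,5,5,2,2,5,2], 8, 149, 150),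
  ([5,4,0,0,4,2,0,0,3,3,3,2,3,4,2,4], 4, 151, 119),
  ([5,5,1,4,2,5,3,1,4,6,1,2,1,4,5,1], 3, 138, 152),
  ([0,1,5,6,1,0,6,2,2,6,1,5,6,5,5,6], 8, 153, 154),
  ([4,5,0,3,2,4,4,0,0,3,4,2,4,0,5,4], 6, 65, 155),
  ([6,3,5,6,4,6,1,5,6,6,0,4,1,6,3,0], 3, 126, 73),
  ([6,2,4,0,5,6,0,4,4,0,5,3,0,4,4,5], 10, 156, 157),
  ([5,4,2,5,4,2,5,5,3,4,2,6,4,4,6,5], 8, 158, 159),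
  ([5,5,4,6,2,5,1,4,1,4,1,2,3,1,5,1], 3, 160, 35),
  ([2,1,0,3,6,2,4,0,6,3,6,6,4,6,1,6], 6, 80, 161),
  ([5,6,2,2,6,2,2,5,4,0,2,5,0,3,5,5], 12, 110, 13),
  ([6,1,4,0,6,6,0,4,1,2,5,4,5,1,3,5], 10, 150, 162),
  ([5,6,1,4,1,5,3,1,0,4,1,1,3,0,6,1], 3, 122, 163),
  ([4,4,4,5,4,3,5,3,5,4,0,0,4,2,0,0], 8, 0, 164),
  ([3,1,6,5,6,3,2,6,5,5,1,4,2,5,3,1], 10, 165, 166),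
  ([3,5,2,6,2,3,1,2,2,6,1,4,1,2,3,1], 10, 167, 168),
  ([5,2,5,5,2,2,5,2,0,3,6,5,3,0,5,1], 12, 143, 169),
  ([3,1,5,5,6,3,2,5,6,5,1,4,2,6,3,1], 10, 170, 45),
  ([3,3,0,4,3,4,4,0,4,0,4,4,0,3,4,3], 12, 171, 172),
  ([2,5,3,0,5,5,0,4,5,5,5,6,5,2,6,2], 12, 173, 174),
  ([3,5,2,3,2,3,4,2,2,3,1,0,4,2,0,1], 10, 175, 111),
  ([4,2,0,1,5,4,6,0,0,1,0,0,6,0,0,0], 10, 164, 15),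
  ([5,5,3,5,5,2,5,4,4,0,4,3,0,3,3,3], 12, 92, 176),
  ([2,3,4,0,4,2,0,4,1,2,1,6,5,1,1,1], 5, 147, 177),
  ([6,2,6,1,2,1,1,1,0,3,4,3,3,0,3,3], 12, 178, 179),
  ([6,6,6,1,1,6,6,6,5,1,4,6,6,5,1,4], 5, 180, 129),
  ([1,2,1,6,5,1,1,1,5,4,3,0,3,5,0,3], 10, 136, 181),
  ([6,2,6,0,2,1,0,1,5,1,1,2,1,2,2,6], 8, 94, 182),
  ([6,6,1,4,1,6,3,1,0,4,2,1,3,0,6,2], 6, 183, 54),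
  ([0,0,3,5,0,0,5,4,5,3,3,3,3,2,3,4], 12, 98, 184),
  ([0,0,6,0,0,0,0,6,1,0,0,0,0,1,0,0], 4, 76, 185),
  ([4,6,2,6,1,4,1,2,1,6,6,6,1,1,1,6], 5, 86, 140),
  ([4,4,6,5,4,3,5,1,5,6,6,6,6,2,6,1], 8, 186, 123),
  ([2,6,3,0,6,5,0,4,1,6,3,4,6,6,4,4], 12, 166, 17),
  ([0,3,6,6,4,0,1,6,5,6,1,4,1,5,3,1], 6, 57, 187),
  ([1,6,6,5,1,1,2,6,3,0,2,3,0,3,4,2], 5, 90, 188),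
  ([6,6,2,1,6,1,1,5,1,2,4,4,2,6,4,3], 8, 189, 180),
  ([2,6,1,5,6,5,5,6,0,6,2,1,6,0,1,5], 8, 38, 190),
  ([0,3,4,2,4,0,5,4,3,2,0,4,5,3,3,0], 4, 159, 191),
  ([6,6,0,4,1,6,3,0,1,4,2,1,3,1,6,2], 6, 51, 192),
  ([1,5,5,2,5,6,2,2,4,3,3,2,3,3,2,4], 8, 193, 131),
  ([5,5,0,4,5,2,4,0,5,3,3,4,3,2,4,4], 12, 168, 19),
  ([2,3,4,2,4,2,5,4,1,0,5,4,0,1,3,5], 4, 145, 194),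
  ([4,3,3,0,3,3,0,4,4,2,5,5,2,3,5,2], 12, 188, 148),
  ([1,6,3,0,1,1,0,3,6,5,2,3,2,6,4,2], 5, 195, 149),
  ([1,2,2,1,2,6,1,5,5,6,1,2,6,2,2,6], 8, 181, 117),
  ([1,5,1,0,5,6,0,6,2,6,6,5,6,5,5,1], 8, 196, 93),
  ([4,6,1,6,1,4,1,1,2,6,6,6,1,2,1,6], 5, 154, 197),
  ([4,4,3,0,4,3,0,4,0,3,3,3,3,0,3,4], 12, 198, 62),
  ([3,3,1,2,3,4,2,6,2,1,1,1,1,5,1,6], 8, 124, 199),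
  ([1,2,5,4,5,1,3,5,1,6,3,0,1,1,0,3], 10, 169, 21),
  ([3,0,5,2,0,4,2,2,5,6,2,2,6,2,2,5], 8, 194, 200),
  ([2,1,6,5,1,5,5,1,1,2,2,1,2,6,1,5], 8, 177, 201),
  ([4,2,0,4,5,4,3,0,0,4,4,5,3,0,2,4], 6, 202, 203),
  ([2,3,1,0,4,2,0,1,4,2,5,4,5,4,3,5], 4, 204, 68),
  ([2,2,2,1,2,5,1,5,2,5,3,0,5,5,0,4], 8, 205, 114),
  ([0,3,5,6,4,0,1,5,6,6,1,4,1,6,3,1], 6, 179, 206),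
  ([5,1,1,2,1,2,2,6,1,5,1,0,5,6,0,6], 8, 128, 156),
  ([0,3,6,5,3,0,5,1,2,5,2,2,5,5,2,5], 8, 162, 195),
  ([0,3,3,2,4,0,5,3,4,2,0,4,5,4,3,0], 4, 207, 70),
  ([5,1,3,4,1,2,4,4,2,5,2,3,5,5,3,5], 8, 42, 208),
  ([0,0,1,0,0,0,0,1,6,0,0,0,0,6,0,0], 4, 209, 75),
  ([3,1,6,1,6,3,6,6,5,1,1,1,6,5,6,1], 10, 210, 153),
  ([6,6,5,1,1,6,6,5,6,1,4,6,6,6,1,4], 5, 172, 25),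
  ([1,5,5,1,5,6,1,2,2,1,0,1,1,5,1,0], 8, 203, 43),
  ([4,0,1,6,0,4,1,1,5,4,6,5,3,5,2,6], 5, 211, 205),
  ([5,1,6,2,1,2,2,1,0,1,5,6,1,0,6,2], 8, 212, 37),
  ([0,4,3,5,3,0,2,3,4,5,0,3,2,4,4,0], 4, 213, 158),
  ([2,3,1,2,4,2,5,1,4,0,1,6,0,4,1,1], 5, 174, 27),
  ([2,2,5,2,2,5,2,2,1,2,0,3,2,6,3,0], 8, 214, 112),
  ([3,4,2,4,4,4,4,5,0,3,5,5,3,0,5,2], 12, 215, 204),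
  ([4,0,5,4,0,4,3,5,1,6,6,5,1,1,2,6], 5, 10, 105),
  ([0,4,4,5,3,0,2,4,3,5,0,3,2,3,4,0], 4, 71, 216),
  ([3,1,5,1,6,3,6,5,6,1,1,1,6,6,6,1], 10, 141, 85),
  ([2,4,4,4,4,5,4,3,0,0,3,5,0,0,5,4], 4, 217, 218),
  ([0,4,4,4,4,0,4,3,4,4,3,0,4,3,0,4], 4, 219, 160),
  ([2,6,6,6,1,2,1,6,3,1,6,1,6,3,6,6], 6, 190, 212),
  ([4,0,4,4,0,3,4,3,4,4,0,3,4,3,3,0], 4, 220, 72),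
  ([1,2,6,3,5,1,4,6,3,1,5,5,6,3,2,5], 3, 208, 221),
  ([2,5,2,3,5,5,3,5,2,6,4,3,6,5,3,3], 8, 24, 170),
  ([4,2,0,0,2,3,0,0,4,4,5,3,4,3,3,2], 4, 2, 31),
  ([1,2,3,1,5,1,6,3,6,3,5,5,4,6,2,5], 3, 133, 222),
  ([3,0,5,1,0,4,1,2,3,4,6,1,4,4,1,1], 8, 192, 223),
  ([2,6,3,1,1,2,6,3,6,6,6,1,1,6,6,6], 6, 224, 95),
  ([0,3,4,3,3,0,3,3,1,5,1,6,5,6,6,6], 8, 225, 183),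
  ([5,2,6,2,2,2,2,1,3,2,3,4,2,4,4,4], 8, 187, 226),
  ([2,3,0,0,3,5,0,0,4,4,4,5,4,3,5,3], 4, 120, 227),
  ([0,4,2,1,3,0,6,2,1,1,6,3,6,1,4,6], 3, 228, 178),
  ([6,2,4,6,5,6,1,4,4,6,2,5,1,4,2,2], 6, 218, 33),
  ([6,6,4,4,6,1,4,3,4,4,1,1,4,3,1,6], 4, 84, 46),
  ([6,2,2,5,2,1,5,5,3,4,4,5,4,4,5,3], 8, 132, 229),
  ([1,1,6,3,6,1,4,6,0,3,5,6,4,0,1,5], 3, 55, 225),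
  ([0,6,2,1,6,0,1,5,5,1,6,2,1,2,2,1], 8, 197, 210),
  ([4,4,1,1,4,3,1,6,1,1,3,3,1,6,3,4], 4, 78, 230),
  ([2,3,5,2,3,5,2,2,4,3,5,1,3,3,1,2], 8, 191, 213),
  ([0,6,4,2,1,0,5,4,0,0,0,1,0,0,6,0], 4, 229, 193),
  ([0,4,1,1,3,0,6,1,2,1,6,3,6,2,4,6], 3, 226, 56),
  ([1,6,6,6,1,1,1,6,3,1,5,1,6,3,6,5], 3, 231, 134),
  ([2,6,1,4,1,2,3,1,4,2,5,1,5,4,6,5], 4, 12, 107),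
  ([1,1,0,3,6,1,4,0,6,3,5,6,4,6,1,5], 3, 223, 50),
  ([2,1,0,1,1,5,1,0,6,2,2,6,2,1,6,5], 8, 216, 207),
  ([5,4,6,5,3,5,2,6,3,0,6,1,0,3,6,6], 10, 28, 173),
  ([3,0,2,4,0,3,3,2,6,2,4,0,5,6,0,4], 4, 182, 196),
  ([5,4,3,5,3,5,2,3,6,0,2,3,0,6,4,2], 4, 200, 144),
  ([5,4,6,0,3,5,0,6,3,5,2,3,2,3,4,2], 4, 69, 215),
  ([2,6,4,3,6,5,3,3,5,2,5,4,2,2,4,2], 8, 221, 41),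
  ([3,2,0,4,5,3,3,0,0,4,3,5,3,0,2,3], 3, 232, 64),
  ([1,1,2,6,6,1,1,2,1,6,3,1,1,1,6,3], 10, 26, 171),
  ([2,6,4,2,1,2,5,4,1,4,5,1,3,1,6,5], 4, 233, 214),
  ([5,1,4,0,1,2,0,3,6,1,4,3,1,1,3,3], 12, 18, 165),
  ([5,5,5,6,5,2,6,2,5,2,4,0,2,2,0,3], 8, 115, 211),
  ([2,6,6,5,6,5,5,1,6,2,6,0,2,1,0,1], 8, 157, 127),
  ([1,2,2,6,2,6,6,5,1,0,6,2,0,6,2,1], 8, 161, 135),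
  ([3,0,6,2,0,3,5,6,2,4,4,0,3,2,0,4], 4, 234, 102),
  ([3,2,3,4,2,4,4,4,2,5,1,5,5,5,5,6], 8, 163, 139),
  ([1,1,1,6,6,1,1,1,2,6,3,1,1,2,6,3], 10, 130, 189),
  ([1,5,3,1,2,1,6,3,3,1,5,2,6,3,5,5], 3, 34, 217),
  ([6,0,1,5,0,1,5,6,1,2,2,6,2,6,6,5], 8, 88, 142),
  ([3,3,2,4,3,4,4,5,4,2,0,0,2,3,0,0], 12, 185, 209),
  ([3,2,4,4,2,4,4,3,0,0,5,4,0,0,4,2], 4, 222, 48),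
  ([6,2,2,6,2,1,6,5,5,6,0,6,6,2,6,0], 8, 44, 202),
  ([1,5,1,6,5,6,6,6,0,4,3,4,4,0,4,4], 12, 206, 228),
  ([1,6,3,1,1,1,6,3,6,6,5,1,1,6,6,5], 3, 40, 220),
  ([5,5,2,5,5,2,5,5,6,5,0,4,5,1,4,0], 8, 113, 233),
  ([5,4,3,0,3,5,0,3,6,5,6,1,2,6,6,6], 10, 201, 146),
  ([0,6,0,0,1,0,0,0,4,2,0,1,5,4,6,0], 4, 227, 151),
  ([2,4,4,0,3,2,0,4,4,0,1,5,0,4,2,1], 5, 199, 186),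
  ([6,3,6,5,4,6,2,6,5,5,4,6,2,5,1,4], 5, 235, 198),
  ([3,4,2,6,4,4,6,5,2,3,5,2,3,5,2,2], 8, 155, 232),
  ([6,3,2,6,4,6,1,2,2,6,4,2,1,2,5,4], 5, 236, 116),
  ([6,3,5,5,4,6,2,5,6,5,4,6,2,6,1,4], 5, 4, 58),
  ([4,6,1,5,1,4,2,1,2,5,3,1,2,2,6,3], 4, 230, 99),
  ([6,3,2,5,4,6,2,2,2,5,1,4,2,2,3,1], 4, 176, 237),
  ([6,5,3,3,5,1,3,4,6,6,2,1,6,1,1,5], 4, 53, 224),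
  ([4,3,3,2,3,3,2,4,6,2,2,5,2,1,5,5], 8, 6, 60),
  ([4,6,2,5,1,4,2,2,1,5,3,1,2,1,6,3], 4, 184, 238),
  ([5,6,6,6,6,2,6,1,3,3,1,2,3,4,2,6], 4, 82, 234),
  ([0,0,4,2,0,0,2,3,2,4,4,4,4,5,4,3], 12, 238, 97),
  ([1,1,3,3,1,6,3,4,3,3,6,6,3,4,6,1], 4, 47, 83),
  ([2,2,0,3,2,5,3,0,2,4,4,3,4,5,3,3], 12, 20, 167),
  ([6,1,1,5,1,1,5,6,4,3,0,4,3,3,4,0], 8, 101, 231),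
  ([2,1,5,5,1,5,5,2,3,0,5,2,0,4,2,2], 12, 14, 109),
  ([1,2,0,3,2,6,3,0,5,5,2,5,5,2,5,5], 12, 67, 236),
  ([2,2,4,2,2,5,2,3,3,0,3,4,0,4,4,4], 12, 237, 91),
  ([1,6,3,4,6,6,4,4,5,1,4,0,1,2,0,3], 8, 152, 239),
  ([0,4,2,2,4,0,2,5,3,4,2,4,4,4,4,5], 12, 30, 175),
  ([4,0,4,3,0,3,3,3,2,2,4,2,2,5,2,3], 12, 8, 103),
  ([2,2,6,3,5,2,4,6,3,1,6,5,6,3,2,6], 6, 239, 137),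
  ([2,2,3,1,5,2,6,3,6,3,6,5,4,6,2,6], 6, 36, 219),
  ([3,3,4,0,3,4,0,3,0,4,4,4,4,0,4,3], 12, 63, 235)]

end Cfsg.Agent.Lib.Recognition.SpinFive
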