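import Mathlib
import Cfsg.Agent.Lib.Recognition.SpinFiveData

/-!
A group `2.S₅⁻` of order 240 acting without fixed points on the 4-space over the field with 7 elements.
-/

set_option autoImplicit false
set_option linter.style.haveILetI false

namespace Cfsg.Agent.Lib.Recognition.SpinFive

open Matrix

/-- The matrix coded by a list. -/
def toMat (A : List ℕ) : Matrix (Fin 4) (Fin 4) (ZMod 7) := fun i j => ((A.getD (4 * i.val + j.val) 0 : ℕ) : ZMod 7)

/-- One entry of a product. -/
def entry (A B : List ℕ) (i j : ℕ) : ℕ :=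
  (A.getD (4 * i) 0 * B.getD j 0 + A.getD (4 * i + 1) 0 * B.getD (4 + j) 0 +
    A.getD (4 * i + 2) 0 * B.getD (8 + j) 0 + A.getD (4 * i + 3) 0 * B.getD (12 + j) 0) % 7

/-- The product of coded matrices. -/
def mulL (A B : List ℕ) : List ℕ := (List.range 16).map fun k => entry A B (k / 4) (k % 4)

/-- The sum of coded matrices. -/
def addL (A B : List ℕ) : List ℕ := (List.range 16).map fun k => (A.getD k 0 + B.getD k 0) % 7

def oneL : List ℕ := [1,0,0,0, 0,1,0,0, 0,0,1,0, 0,0,0,1]

def negOneL : List ℕ := [6,0,0,0, 0,6,0,0, 0,0,6,0, 0,0,0,6]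

def zeroL : List ℕ := [0,0,0,0, 0,0,0,0, 0,0,0,0, 0,0,0,0]

/-- Powers `A^0, …, A^n`, and their running sum. -/
def iter (A : List ℕ) : ℕ → List ℕ × List ℕ
  | 0 => (oneL, zeroL)
  | n + 1 => let p := iter A n; (mulL p.1 A, addL p.2 p.1)

theorem toMat_mulL (A B : List ℕ) : toMat (mulL A B) = toMat A * toMat B := by
  ext i j
  have hk : 4 * i.val + j.val < 16 := by omega
  have h1 : (4 * i.val + j.val) / 4 = i.val := by omega
  have h2 : (4 * i.val + j.val) % 4 = j.val := by omega
  simp only [toMat, mulL, Matrix.mul_apply, Fin.sum_univ_four]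
  rw [List.getD_eq_getElem?_getD, List.getElem?_map, List.getElem?_range hk, Option.map_some, Option.getD_some, h1, h2]
  unfold entry
  rw [ZMod.natCast_mod]
  push_cast
  simp

theorem toMat_addL (A B : List ℕ) : toMat (addL A B) = toMat A + toMat B := by
  ext i j
  have hk : 4 * i.val + j.val < 16 := by omega
  simp only [toMat, addL, Matrix.add_apply]
  rw [List.getD_eq_getElem?_getD, List.getElem?_map, List.getElem?_range hk, Option.map_some, Option.getD_some, ZMod.natCast_mod]
  push_cast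
  rfl

theorem toMat_oneL : toMat oneL = 1 := by decide +kernel

theorem toMat_negOneL : toMat negOneL = -1 := by decide +kernel

theorem toMat_zeroL : toMat zeroL = 0 := by decide +kernel

theorem toMat_iter (A : List ℕ) (n : ℕ) :
    toMat (iter A n).1 = toMat A ^ n ∧ toMat (iter A n).2 = ∑ k ∈ Finset.range n, toMat A ^ k := by
  induction n with
  | zero => simp [iter, toMat_oneL, toMat_zeroL]
  | succ n ih =>
    obtain ⟨h1, h2⟩ := ih
    simp only [iter]
    rw [toMat_mulL, toMat_addL, h1, h2, pow_succ, Finset.sum_range_succ]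
    exact ⟨rfl, rfl⟩

/-- The test run on each entry of the table. -/
def good (e : List ℕ × ℕ × ℕ × ℕ) : Bool :=
  (mulL e.1 genA == (table.getD e.2.2.1 ([], 0, 0, 0)).1) && (mulL e.1 genB == (table.getD e.2.2.2 ([], 0, 0, 0)).1) &&
  decide (e.2.2.1 < table.length) && decide (e.2.2.2 < table.length) &&
  ((e.1 == oneL && e.2.1 == 1) ||
    (List.elem e.2.1 [2, 3, 4, 5, 6, 8, 10, 12] && ((iter e.1 e.2.1).1 == oneL) && ((iter e.1 e.2.1).2 == zeroL) &&
      ((List.range e.2.1).all fun k => k == 0 || (iter e.1 k).1 != oneL) &&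
      (e.2.1 % 2 == 1 || (iter e.1 (e.2.1 / 2)).1 == negOneL)))

theorem table_good : table.all good = true := by decide +kernel

theorem one_mem_table : (table.getD 0 ([], 0, 0, 0)).1 = oneL ∧ 0 < table.length := by decide +kernel

/-- Distinct codes of a matrix with reduced entries give distinct matrices, in the cases needed. -/
theorem table_reduced : (table.all fun e => e.1.length == 16 && e.1.all (fun x => decide (x < 7))) = true := by decide +kernel

theorem eq_of_toMat_eq {A B : List ℕ} (hA : A.length = 16) (hB : B.length = 16) (hA7 : ∀ x ∈ A, x < 7) (hB7 : ∀ x ∈ B, x < 7)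
    (h : toMat A = toMat B) : A = B := by
  refine List.ext_getElem (hA.trans hB.symm) fun k h1 h2 => ?_
  have hk : k < 16 := hA ▸ h1
  have h3 := congrFun (congrFun h ⟨k / 4, by omega⟩) ⟨k % 4, by omega⟩
  simp only [toMat] at h3
  rw [show 4 * (k / 4) + k % 4 = k by omega, List.getD_eq_getElem _ _ h1, List.getD_eq_getElem _ _ h2,
    ZMod.natCast_eq_natCast_iff, Nat.ModEq, Nat.mod_eq_of_lt (hA7 _ (List.getElem_mem h1)), Nat.mod_eq_of_lt (hB7 _ (List.getElem_mem h2))] at h3
  exact h3

theorem iter_reduced (A : List ℕ) : ∀ n, (iter A n).1.length = 16 ∧ ∀ x ∈ (iter A n).1, x < 7 := by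
  intro n
  cases n with
  | zero => show oneL.length = 16 ∧ ∀ x ∈ oneL, x < 7; decide
  | succ n =>
    simp only [iter, mulL]
    refine ⟨by simp, fun x hx => ?_⟩
    obtain ⟨k, -, rfl⟩ := List.mem_map.1 hx
    exact Nat.mod_lt _ (by norm_num)

/-- The first generator as a unit. -/
def unitA : GL (Fin 4) (ZMod 7) :=
  ⟨toMat genA, toMat (iter genA 7).1, by rw [← toMat_mulL]; decide +kernel, by rw [← toMat_mulL]; decide +kernel⟩

/-- The second generator as a unit. -/
def unitB : GL (Fin 4) (ZMod 7) :=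
  ⟨toMat genB, toMat (iter genB ((table.getD (table.getD 0 ([], 0, 0, 0)).2.2.2 ([], 0, 0, 0)).2.1 - 1)).1,
    by rw [← toMat_mulL]; decide +kernel, by rw [← toMat_mulL]; decide +kernel⟩

/-- The group. -/
def spinFive : Subgroup (GL (Fin 4) (ZMod 7)) := Subgroup.closure {unitA, unitB}

theorem mem_table (U : GL (Fin 4) (ZMod 7)) (h : U ∈ spinFive) :
    ∃ e ∈ table, (U : Matrix (Fin 4) (Fin 4) (ZMod 7)) = toMat e.1 := by
  have hall := List.all_eq_true.1 table_good
  have hU : U ∈ Submonoid.closure ({unitA, unitB} : Set (GL (Fin 4) (ZMod 7))) := by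
    rw [← Subgroup.closure_toSubmonoid_of_finite]; exact h
  induction hU using Submonoid.closure_induction_right with
  | one =>
    refine ⟨table.getD 0 ([], 0, 0, 0), ?_, ?_⟩
    · rw [List.getD_eq_getElem _ _ one_mem_table.2]; exact List.getElem_mem _
    · rw [one_mem_table.1, toMat_oneL, Units.val_one]
  | mul_right x hx y hy ih =>
    have hx' : x ∈ spinFive := Subgroup.le_closure_toSubmonoid _ hx
    obtain ⟨e, he, hxe⟩ := ih hx'
    have hg := hall e he
    simp only [good, Bool.and_eq_true, beq_iff_eq, decide_eq_true_eq] at hg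
    obtain ⟨⟨⟨⟨ha, hb⟩, hla⟩, hlb⟩, -⟩ := hg
    rcases hy with rfl | rfl
    · refine ⟨table.getD e.2.2.1 ([], 0, 0, 0), by rw [List.getD_eq_getElem _ _ hla]; exact List.getElem_mem _, ?_⟩
      rw [← ha, toMat_mulL, Units.val_mul, hxe]
      rfl
    · refine ⟨table.getD e.2.2.2 ([], 0, 0, 0), by rw [List.getD_eq_getElem _ _ hlb]; exact List.getElem_mem _, ?_⟩
      rw [← hb, toMat_mulL, Units.val_mul, hxe]
      rfl

/-- Orders, norms and the involution. -/
theorem spec (U : GL (Fin 4) (ZMod 7)) (h : U ∈ spinFive) (h1 : U ≠ 1) :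
    orderOf U ∈ ({2, 3, 4, 5, 6, 8, 10, 12} : Set ℕ) ∧
    (∑ k ∈ Finset.range (orderOf U), (U : Matrix (Fin 4) (Fin 4) (ZMod 7)) ^ k) = 0 ∧
    (Even (orderOf U) → U ^ (orderOf U / 2) = -1) := by
  obtain ⟨e, he, hU⟩ := mem_table U h
  have hg := List.all_eq_true.1 table_good e he
  simp only [good, Bool.and_eq_true, Bool.or_eq_true, beq_iff_eq, decide_eq_true_eq] at hg
  obtain ⟨-, ⟨h0, -⟩ | ⟨⟨⟨⟨hm, hp⟩, hs⟩, hmin⟩, hhalf⟩⟩ := hg
  · exact absurd (Units.ext (by rw [hU, h0, toMat_oneL, Units.val_one])) h1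
  rw [List.elem_eq_mem, decide_eq_true_eq] at hm
  have hmpos : 0 < e.2.1 := by
    rcases Nat.eq_zero_or_pos e.2.1 with h' | h'
    · rw [h'] at hm; simp at hm
    · exact h'
  have hord : orderOf U = e.2.1 := by
    rw [orderOf_eq_iff hmpos]
    refine ⟨Units.ext ?_, fun k hk hk0 hpow => ?_⟩
    · rw [Units.val_pow_eq_pow_val, hU, ← (toMat_iter e.1 _).1, hp, toMat_oneL, Units.val_one]
    · have hb := List.all_eq_true.1 hmin k (List.mem_range.2 hk)
      simp only [Bool.or_eq_true, beq_iff_eq, bne_iff_ne] at hb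
      refine (hb.resolve_left hk0.ne') (eq_of_toMat_eq (iter_reduced _ _).1 rfl (iter_reduced _ _).2 (by decide) ?_)
      rw [(toMat_iter e.1 k).1, ← hU, ← Units.val_pow_eq_pow_val, hpow, toMat_oneL, Units.val_one]
  rw [hord]
  refine ⟨by simpa using hm, ?_, fun hev => Units.ext ?_⟩
  · rw [hU, ← (toMat_iter e.1 _).2, hs, toMat_zeroL]
  · rcases hhalf with h' | h'
    · rw [Nat.even_iff] at hev; omega
    · rw [Units.val_pow_eq_pow_val, hU, ← (toMat_iter e.1 _).1, h', toMat_negOneL, Units.val_neg, Units.val_one]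

theorem negOne_mem : (-1 : GL (Fin 4) (ZMod 7)) ∈ spinFive := by
  have h : (-1 : GL (Fin 4) (ZMod 7)) = unitA ^ 4 := Units.ext (by
    rw [Units.val_pow_eq_pow_val, Units.val_neg, Units.val_one, ← toMat_negOneL]
    show toMat negOneL = toMat genA ^ 4
    rw [← (toMat_iter genA 4).1]
    decide +kernel)
  rw [h]
  exact pow_mem (Subgroup.subset_closure (Set.mem_insert _ _)) 4

theorem witnesses : (∃ U ∈ spinFive, orderOf U = 8) ∧ (∃ U ∈ spinFive, orderOf U = 10) ∧ ∃ U ∈ spinFive, orderOf U = 12 := by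
  have hA : unitA ∈ spinFive := Subgroup.subset_closure (Set.mem_insert _ _)
  have hB : unitB ∈ spinFive := Subgroup.subset_closure (Set.mem_insert_of_mem _ rfl)
  have key : ∀ (U : GL (Fin 4) (ZMod 7)) (A : List ℕ) (m : ℕ), (U : Matrix (Fin 4) (Fin 4) (ZMod 7)) = toMat A → 0 < m →
      ((iter A m).1 = oneL) → (∀ k < m, k = 0 ∨ toMat (iter A k).1 ≠ toMat oneL) → orderOf U = m := by
    intro U A m hU hm hp hmin
    rw [orderOf_eq_iff hm]
    refine ⟨Units.ext ?_, fun k hk hk0 hpow => ?_⟩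
    · rw [Units.val_pow_eq_pow_val, hU, ← (toMat_iter A _).1, hp, toMat_oneL, Units.val_one]
    · refine (hmin k hk).resolve_left hk0.ne' ?_
      rw [(toMat_iter A k).1, ← hU, ← Units.val_pow_eq_pow_val, hpow, toMat_oneL, Units.val_one]
  refine ⟨⟨unitA, hA, key _ genA 8 rfl (by norm_num) (by decide +kernel) (by decide +kernel)⟩,
    ⟨unitA ^ 4 * unitB, mul_mem (pow_mem hA 4) hB, key _ (mulL (iter genA 4).1 genB) 10 ?_ (by norm_num) (by decide +kernel) (by decide +kernel)⟩,
    ⟨unitA * unitB, mul_mem hA hB, key _ (mulL genA genB) 12 ?_ (by norm_num) (by decide +kernel) (by decide +kernel)⟩⟩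
  · rw [toMat_mulL, (toMat_iter genA 4).1, Units.val_mul, Units.val_pow_eq_pow_val]; rfl
  · rw [toMat_mulL, Units.val_mul]; rfl

end Cfsg.Agent.Lib.Recognition.SpinFive
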