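import Mathlib
import Cfsg.Agent.Lib.AltOrders.Basic
import Cfsg.Agent.Lib.Recognition.SpinFive

/-!
`(7⁴ × 3¹²⁰) ⋊ 2.S₅⁻` has the spectrum of `A₁₀`.
-/

set_option autoImplicit false
set_option linter.style.haveILetI false

namespace Cfsg.Agent.Lib.Recognition

open Cfsg.Agent.Lib.AltOrders

/-- The element orders of `A₁₀`. -/
def tenOrders : Finset ℕ := {1, 2, 3, 4, 5, 6, 7, 8, 9, 10, 12, 15, 21}

/-- Pairs (lcm, parity) of multisets of parts at least 2 with sum at most `b`. -/
def reachPairs : ℕ → Finset (ℕ × ℕ)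
  | 0 => {(1, 0)}
  | b + 1 => reachPairs b ∪ (Finset.range (b + 2)).biUnion fun a =>
      if h : 2 ≤ a then (reachPairs (b + 1 - a)).image fun x => (Nat.lcm a x.1, (a + 1 + x.2) % 2) else ∅

theorem reachPairs_mono : ∀ {a b : ℕ}, a ≤ b → reachPairs a ⊆ reachPairs b := by
  intro a b h
  induction h with
  | refl => exact subset_rfl
  | step h ih =>
    refine ih.trans ?_
    rw [reachPairs]
    exact Finset.subset_union_left

theorem mem_reachPairs (s : Multiset ℕ) : ∀ b, s.sum ≤ b → (∀ a ∈ s, 2 ≤ a) → (s.lcm, (s.sum + Multiset.card s) % 2) ∈ reachPairs b := by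
  induction s using Multiset.induction with
  | empty =>
    intro b _ _
    exact reachPairs_mono (Nat.zero_le b) (by simp [reachPairs])
  | cons a s ih =>
    intro b hb h2
    have ha : 2 ≤ a := h2 a (Multiset.mem_cons_self a s)
    rw [Multiset.sum_cons] at hb
    obtain ⟨c, rfl⟩ := Nat.exists_eq_succ_of_ne_zero (show b ≠ 0 by omega)
    rw [reachPairs, Finset.mem_union]
    right
    rw [Finset.mem_biUnion]
    refine ⟨a, Finset.mem_range.2 (by omega), ?_⟩
    rw [dif_pos ha, Finset.mem_image]
    refine ⟨_, ih (c + 1 - a) (by omega) (fun x hx => h2 x (Multiset.mem_cons_of_mem hx)), ?_⟩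
    rw [Multiset.lcm_cons, Multiset.sum_cons, Multiset.card_cons]
    refine Prod.ext rfl ?_
    show (a + 1 + (s.sum + Multiset.card s) % 2) % 2 = _
    omega

theorem reach_ten : ∀ x ∈ reachPairs 10, x.2 = 0 → x.1 ∈ tenOrders := by decide +kernel

theorem alt10_spectrum : Set.range (orderOf : alternatingGroup (Fin 10) → ℕ) = (tenOrders : Set ℕ) := by
  ext n
  constructor
  · rintro ⟨g, rfl⟩
    obtain ⟨h1, h2, h3, h4⟩ := cycleType_spec g
    rw [h1]
    exact reach_ten _ (mem_reachPairs _ 10 h2 h3) (Nat.even_iff.1 h4)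
  · intro hn
    have key : ∀ l : List ℕ, (l.sum ≤ 10 ∧ (∀ a ∈ l, 2 ≤ a) ∧ (l.sum + l.length) % 2 = 0) → ∀ v, (l : Multiset ℕ).lcm = v →
        v ∈ Set.range (orderOf : alternatingGroup (Fin 10) → ℕ) := by
      rintro l ⟨h1, h2, h3⟩ v rfl
      obtain ⟨g, hg⟩ := exists_orderOf_eq (n := 10) (l : Multiset ℕ) (by simpa using h1) (by simpa using h2)
        (Nat.even_iff.2 (by simpa using h3))
      exact ⟨g, hg⟩
    simp only [tenOrders, Finset.coe_insert, Finset.coe_singleton, Set.mem_insert_iff, Set.mem_singleton_iff] at hn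
    rcases hn with rfl | rfl | rfl | rfl | rfl | rfl | rfl | rfl | rfl | rfl | rfl | rfl | rfl
    · exact key [] (by decide) _ (by decide +kernel)
    · exact key [2, 2] (by decide) _ (by decide +kernel)
    · exact key [3] (by decide) _ (by decide +kernel)
    · exact key [4, 2] (by decide) _ (by decide +kernel)
    · exact key [5] (by decide) _ (by decide +kernel)
    · exact key [6, 2] (by decide) _ (by decide +kernel)
    · exact key [7] (by decide) _ (by decide +kernel)
    · exact key [8, 2] (by decide) _ (by decide +kernel)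
    · exact key [9] (by decide) _ (by decide +kernel)
    · exact key [5, 2, 2] (by decide) _ (by decide +kernel)
    · exact key [6, 4] (by decide) _ (by decide +kernel)
    · exact key [5, 3] (by decide) _ (by decide +kernel)
    · exact key [7, 3] (by decide) _ (by decide +kernel)

namespace TenModel

open SpinFive Matrix

/-- The group acting. -/
abbrev H : Subgroup (GL (Fin 4) (ZMod 7)) := spinFive

/-- The central involution. -/
def z : H := ⟨-1, negOne_mem⟩

theorem z_comm (x : H) : z * x = x * z := Subtype.ext (by simp [z])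

/-- Antisymmetric functions on `H`. -/
def anti : AddSubgroup (H → ZMod 3) where
  carrier := {f | ∀ x, f (z * x) = -f x}
  add_mem' := fun {f g} hf hg x => by simp only [Pi.add_apply, hf x, hg x]; ring
  zero_mem' := fun x => by simp
  neg_mem' := fun {f} hf x => by simp only [Pi.neg_apply, hf x]

/-- The module. -/
abbrev M := (Fin 4 → ZMod 7) × anti

/-- The action of one element. -/
def act (h : H) (v : M) : M :=
  (((h : GL (Fin 4) (ZMod 7)) : Matrix (Fin 4) (Fin 4) (ZMod 7)) *ᵥ v.1,
    ⟨fun x => (v.2 : H → ZMod 3) (x * h), fun x => by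
      show (v.2 : H → ZMod 3) (z * x * h) = -(v.2 : H → ZMod 3) (x * h)
      rw [mul_assoc]; exact v.2.2 (x * h)⟩)

theorem act_one (v : M) : act 1 v = v := by
  refine Prod.ext (by simp [act]) (Subtype.ext (funext fun x => ?_))
  show (v.2 : H → ZMod 3) (x * 1) = _
  rw [mul_one]

theorem act_mul (a b : H) (v : M) : act (a * b) v = act a (act b v) := by
  refine Prod.ext (by simp [act, Matrix.mulVec_mulVec]) (Subtype.ext (funext fun x => ?_))
  show (v.2 : H → ZMod 3) (x * (a * b)) = (v.2 : H → ZMod 3) (x * a * b)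
  rw [mul_assoc]

theorem act_add (h : H) (v w : M) : act h (v + w) = act h v + act h w :=
  Prod.ext (Matrix.mulVec_add ((h : GL (Fin 4) (ZMod 7)) : Matrix (Fin 4) (Fin 4) (ZMod 7)) v.1 w.1) (Subtype.ext rfl)

/-- The action as automorphisms. -/
def actHom : H →* MulAut (Multiplicative M) where
  toFun h :=
    { toFun := fun v => Multiplicative.ofAdd (act h v.toAdd)
      invFun := fun v => Multiplicative.ofAdd (act h⁻¹ v.toAdd)
      left_inv := fun v => Multiplicative.toAdd.injective (show act h⁻¹ (act h v.toAdd) = v.toAdd by rw [← act_mul, inv_mul_cancel, act_one])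
      right_inv := fun v => Multiplicative.toAdd.injective (show act h (act h⁻¹ v.toAdd) = v.toAdd by rw [← act_mul, mul_inv_cancel, act_one])
      map_mul' := fun v w => Multiplicative.toAdd.injective (act_add h v.toAdd w.toAdd) }
  map_one' := MulEquiv.ext fun v => Multiplicative.toAdd.injective (act_one _)
  map_mul' a b := MulEquiv.ext fun v => Multiplicative.toAdd.injective (act_mul a b _)

/-- The semidirect product. -/
abbrev G := SemidirectProduct (Multiplicative M) H actHom

instance : Finite G := Finite.of_equiv _ SemidirectProduct.equivProd.symm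

theorem pow_eq_inl (g : G) {m : ℕ} (hm : g.right ^ m = 1) : g ^ m = SemidirectProduct.inl (g ^ m).left := by
  refine SemidirectProduct.ext rfl ?_
  have h : SemidirectProduct.rightHom (g ^ m) = 1 := by rw [map_pow]; exact hm
  exact h

theorem fixed_left (g : G) {m : ℕ} (hm : g.right ^ m = 1) : act g.right (g ^ m).left.toAdd = (g ^ m).left.toAdd := by
  have hr : (g ^ m).right = 1 := by
    have h : SemidirectProduct.rightHom (g ^ m) = 1 := by rw [map_pow]; exact hm
    exact h
  have hc : (g * g ^ m).left = (g ^ m * g).left := by rw [← pow_succ', ← pow_succ]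
  rw [SemidirectProduct.mul_left, SemidirectProduct.mul_left, hr, map_one, MulAut.one_apply, mul_comm (g ^ m).left] at hc
  exact congrArg Multiplicative.toAdd (mul_left_cancel hc)

theorem fixed_first (h : H) (h1 : h ≠ 1) (v : Fin 4 → ZMod 7)
    (hv : ((h : GL (Fin 4) (ZMod 7)) : Matrix (Fin 4) (Fin 4) (ZMod 7)) *ᵥ v = v) : v = 0 := by
  obtain ⟨hmem, hsum, -⟩ := spec (h : GL (Fin 4) (ZMod 7)) h.2 (fun e => h1 (Subtype.ext e))
  set A := ((h : GL (Fin 4) (ZMod 7)) : Matrix (Fin 4) (Fin 4) (ZMod 7))
  have hk : ∀ k : ℕ, A ^ k *ᵥ v = v := by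
    intro k
    induction k with
    | zero => simp
    | succ k ih => rw [pow_succ, ← Matrix.mulVec_mulVec, hv, ih]
  have h0 : (0 : Fin 4 → ZMod 7) = orderOf (h : GL (Fin 4) (ZMod 7)) • v := by
    rw [← Matrix.zero_mulVec v, ← hsum, Matrix.sum_mulVec, Finset.sum_congr rfl (fun k _ => hk k), Finset.sum_const, Finset.card_range]
  funext i
  have hi := congrFun h0 i
  simp only [Pi.zero_apply, Pi.smul_apply] at hi ⊢
  have hnz : ((2 : ℕ) : ZMod 7) ≠ 0 ∧ ((3 : ℕ) : ZMod 7) ≠ 0 ∧ ((4 : ℕ) : ZMod 7) ≠ 0 ∧ ((5 : ℕ) : ZMod 7) ≠ 0 ∧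
      ((6 : ℕ) : ZMod 7) ≠ 0 ∧ ((8 : ℕ) : ZMod 7) ≠ 0 ∧ ((10 : ℕ) : ZMod 7) ≠ 0 ∧ ((12 : ℕ) : ZMod 7) ≠ 0 := by decide +kernel
  haveI : Fact (Nat.Prime 7) := ⟨by norm_num⟩
  rw [nsmul_eq_mul, eq_comm, mul_eq_zero] at hi
  refine hi.resolve_left ?_
  simp only [Set.mem_insert_iff, Set.mem_singleton_iff] at hmem
  obtain ⟨n2, n3, n4, n5, n6, n8, n10, n12⟩ := hnz
  rcases hmem with e | e | e | e | e | e | e | e <;> rw [e] <;> assumption

theorem fixed_second (h : H) (hz : ∃ k : ℕ, h ^ k = z) (f : anti) (hf : ∀ x, (f : H → ZMod 3) (x * h) = (f : H → ZMod 3) x) : f = 0 := by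
  obtain ⟨k, hk⟩ := hz
  have hkk : ∀ k : ℕ, ∀ x, (f : H → ZMod 3) (x * h ^ k) = (f : H → ZMod 3) x := by
    intro k
    induction k with
    | zero => simp
    | succ k ih => intro x; rw [pow_succ, ← mul_assoc, hf, ih]
  refine Subtype.ext (funext fun x => ?_)
  have h1 := hkk k x
  rw [hk, ← z_comm, f.2 x] at h1
  show (f : H → ZMod 3) x = 0
  exact (show ∀ y : ZMod 3, -y = y → y = 0 by decide) _ h1

theorem exponent_module (v : Multiplicative M) : v ^ 21 = 1 := by
  apply Multiplicative.toAdd.injective
  rw [toAdd_pow, toAdd_one]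
  refine Prod.ext (funext fun i => ?_) (Subtype.ext (funext fun x => ?_))
  · show (21 : ℕ) • v.toAdd.1 i = 0
    rw [nsmul_eq_mul, show ((21 : ℕ) : ZMod 7) = 0 from by decide, zero_mul]
  · show (21 : ℕ) • (v.toAdd.2 : H → ZMod 3) x = 0
    rw [nsmul_eq_mul, show ((21 : ℕ) : ZMod 3) = 0 from by decide, zero_mul]

theorem spectrum : Set.range (orderOf : G → ℕ) = (tenOrders : Set ℕ) := by
  ext n
  constructor
  · rintro ⟨g, rfl⟩
    by_cases h1 : g.right = 1
    · have hg : g ^ 21 = 1 := by
        rw [← SemidirectProduct.inl_left_mul_inr_right g, h1, map_one, mul_one, ← map_pow, exponent_module, map_one]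
      have hd := Nat.mem_divisors.2 ⟨orderOf_dvd_of_pow_eq_one hg, by norm_num⟩
      rw [show Nat.divisors 21 = {1, 3, 7, 21} from by decide] at hd
      simp only [Finset.mem_insert, Finset.mem_singleton] at hd
      rcases hd with e | e | e | e <;> rw [e] <;> decide
    obtain ⟨hmem, -, hhalf⟩ := spec (g.right : GL (Fin 4) (ZMod 7)) g.right.2 (fun e => h1 (Subtype.ext e))
    rw [Subgroup.orderOf_coe] at hmem hhalf
    set m := orderOf g.right with hm
    have hgm : g.right ^ m = 1 := pow_orderOf_eq_one _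
    have hfix := fixed_left g hgm
    have h7 : (g ^ m).left.toAdd.1 = 0 := fixed_first _ h1 _ (congrArg Prod.fst hfix)
    have hdvd : m ∣ orderOf g := orderOf_map_dvd SemidirectProduct.rightHom g
    by_cases hev : Even m
    · have h3 : (g ^ m).left.toAdd.2 = 0 :=
        fixed_second g.right ⟨m / 2, Subtype.ext (hhalf hev)⟩ _ fun x => congrFun (congrArg Subtype.val (congrArg Prod.snd hfix)) x
      have hone : g ^ m = 1 := by
        rw [pow_eq_inl g hgm, show (g ^ m).left = 1 from Multiplicative.toAdd.injective (Prod.ext h7 h3), map_one]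
      rw [show orderOf g = m from Nat.dvd_antisymm (orderOf_dvd_of_pow_eq_one hone) hdvd]
      simp only [Set.mem_insert_iff, Set.mem_singleton_iff] at hmem
      rcases hmem with e | e | e | e | e | e | e | e <;> rw [e] <;> decide
    · have hone : g ^ (m * 3) = 1 := by
        rw [pow_mul, pow_eq_inl g hgm, ← map_pow]
        have : (g ^ m).left ^ 3 = 1 := by
          apply Multiplicative.toAdd.injective
          rw [toAdd_pow, toAdd_one]
          refine Prod.ext ?_ (Subtype.ext (funext fun x => ?_))
          · show (3 : ℕ) • (g ^ m).left.toAdd.1 = 0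
            rw [h7, smul_zero]
          · show (3 : ℕ) • ((g ^ m).left.toAdd.2 : H → ZMod 3) x = 0
            rw [nsmul_eq_mul, show ((3 : ℕ) : ZMod 3) = 0 from by decide, zero_mul]
        rw [this, map_one]
      have hd := orderOf_dvd_of_pow_eq_one hone
      simp only [Set.mem_insert_iff, Set.mem_singleton_iff] at hmem
      have hd' := Nat.mem_divisors.2 ⟨hd, by omega⟩
      rcases hmem with e | e | e | e | e | e | e | e <;> rw [e] at hd' hdvd hev <;>
        first
          | exact absurd (by decide) hev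
          | (rw [show Nat.divisors (3 * 3) = {1, 3, 9} from by decide] at hd'
             simp only [Finset.mem_insert, Finset.mem_singleton] at hd'
             rcases hd' with e' | e' | e' <;> rw [e'] <;> decide)
          | (rw [show Nat.divisors (5 * 3) = {1, 3, 5, 15} from by decide] at hd'
             simp only [Finset.mem_insert, Finset.mem_singleton] at hd'
             rcases hd' with e' | e' | e' | e' <;> rw [e'] <;> decide)
  · intro hn
    obtain ⟨⟨u8, hu8, o8⟩, ⟨u10, hu10, o10⟩, ⟨u12, hu12, o12⟩⟩ := witnesses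
    have hinr : ∀ x : H, orderOf x ∈ Set.range (orderOf : G → ℕ) := fun x =>
      ⟨SemidirectProduct.inr x, orderOf_injective _ SemidirectProduct.inr_injective x⟩
    have e8 : orderOf (⟨u8, hu8⟩ : H) = 8 := by rw [Subgroup.orderOf_mk, o8]
    have e10 : orderOf (⟨u10, hu10⟩ : H) = 10 := by rw [Subgroup.orderOf_mk, o10]
    have e12 : orderOf (⟨u12, hu12⟩ : H) = 12 := by rw [Subgroup.orderOf_mk, o12]
    have hdivs : ∀ (x : H) (d : ℕ), d ∣ orderOf x → d ∈ Set.range (orderOf : G → ℕ) := fun x d hd => by
      have := hinr (x ^ (orderOf x / d))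
      rwa [orderOf_pow_orderOf_div (orderOf_pos x).ne' hd] at this
    have hdivG : ∀ (x : G) (d : ℕ), d ∣ orderOf x → d ∈ Set.range (orderOf : G → ℕ) := fun x d hd =>
      ⟨x ^ (orderOf x / d), orderOf_pow_orderOf_div (orderOf_pos x).ne' hd⟩
    -- an antisymmetric delta function
    classical
    have hz1 : z ≠ 1 := fun h => by
      have := congrArg (fun x : H => ((x : GL (Fin 4) (ZMod 7)) : Matrix (Fin 4) (Fin 4) (ZMod 7)) 0 0) h
      simp [z] at this
      exact absurd this (by decide)
    have hzz : z * z = 1 := Subtype.ext (by simp [z])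
    let δ : anti := ⟨fun x => if x = 1 then 1 else if x = z then -1 else 0, fun x => by
      by_cases h : x = 1
      · subst h; simp [hz1]
      by_cases h' : x = z
      · subst h'; simp [hzz, hz1]
      have e1 : z * x ≠ 1 := fun e => h' (by rw [← mul_left_cancel_iff (a := z), e, hzz])
      have e2 : z * x ≠ z := fun e => h (mul_eq_left.1 e)
      simp [h, h', e1, e2]⟩
    -- lifting an element of odd order
    have lift3 : ∀ (x : H), (orderOf x = 3 ∨ orderOf x = 5) → orderOf x * 3 ∈ Set.range (orderOf : G → ℕ) := by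
      intro x hx
      let g : G := ⟨Multiplicative.ofAdd ((0, δ) : M), x⟩
      set q := orderOf x
      have hq : q.Prime := by rcases hx with h | h <;> rw [h] <;> norm_num
      have hr : g.right ^ q = 1 := pow_orderOf_eq_one x
      have hval : ∀ k ≤ q, ((g ^ k).left.toAdd.2 : H → ZMod 3) 1 = if k = 0 then 0 else 1 := by
        intro k
        induction k with
        | zero => intro _; simp
        | succ k ih =>
          intro hk
          have hrk : (g ^ k).right = x ^ k := map_pow SemidirectProduct.rightHom g k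
          have h1 := ih (by omega)
          rw [pow_succ, SemidirectProduct.mul_left, hrk, if_neg (Nat.succ_ne_zero k)]
          show ((g ^ k).left.toAdd.2 : H → ZMod 3) 1 + (δ : H → ZMod 3) (1 * x ^ k) = 1
          rw [h1, one_mul]
          rcases Nat.eq_zero_or_pos k with rfl | hk0
          · simp [δ]
          · have hne1 : x ^ k ≠ 1 := pow_ne_one_of_lt_orderOf hk0.ne' (by omega)
            have hnez : x ^ k ≠ z := by
              intro e
              have h2 : x ^ (2 * k) = 1 := by rw [mul_comm, pow_mul, e, sq, hzz]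
              have h3 := orderOf_dvd_of_pow_eq_one h2
              rcases (Nat.Prime.dvd_mul hq).1 h3 with h4 | h4
              · have := Nat.le_of_dvd two_pos h4
                rcases hx with h | h <;> omega
              · have := Nat.le_of_dvd hk0 h4
                omega
            rw [if_neg hk0.ne']
            simp [δ, hne1, hnez]
      have hne : g ^ q ≠ 1 := fun e => by
        have h5 := hval q le_rfl
        rw [e, if_neg hq.ne_zero] at h5
        simp at h5
      have h3q : g ^ (q * 3) = 1 := by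
        rw [pow_mul, pow_eq_inl g hr, ← map_pow]
        have h7 : (g ^ q).left.toAdd.1 = 0 :=
          fixed_first _ (fun e => hq.ne_one (show orderOf x = 1 by rw [show x = 1 from e, orderOf_one])) _ (congrArg Prod.fst (fixed_left g hr))
        have h6 : (g ^ q).left ^ 3 = 1 := by
          apply Multiplicative.toAdd.injective
          rw [toAdd_pow, toAdd_one]
          refine Prod.ext ?_ (Subtype.ext (funext fun y => ?_))
          · show (3 : ℕ) • (g ^ q).left.toAdd.1 = 0
            rw [h7, smul_zero]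
          · show (3 : ℕ) • ((g ^ q).left.toAdd.2 : H → ZMod 3) y = 0
            rw [nsmul_eq_mul, show ((3 : ℕ) : ZMod 3) = 0 from by decide, zero_mul]
        rw [h6, map_one]
      obtain ⟨c, hc⟩ : q ∣ orderOf g := orderOf_map_dvd SemidirectProduct.rightHom g
      have hc3 : c ∣ 3 := Nat.dvd_of_mul_dvd_mul_left hq.pos (hc ▸ orderOf_dvd_of_pow_eq_one h3q)
      rcases (Nat.dvd_prime Nat.prime_three).1 hc3 with rfl | rfl
      · exact absurd (by rw [mul_one] at hc; rw [← hc]; exact pow_orderOf_eq_one g) hne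
      · exact ⟨g, hc⟩
    have h21 : (21 : ℕ) ∈ Set.range (orderOf : G → ℕ) := by
      let v : Multiplicative M := Multiplicative.ofAdd ((fun _ => 1, δ) : M)
      refine ⟨SemidirectProduct.inl v, ?_⟩
      rw [orderOf_injective _ SemidirectProduct.inl_injective]
      have hd := Nat.mem_divisors.2 ⟨orderOf_dvd_of_pow_eq_one (exponent_module v), by norm_num⟩
      rw [show Nat.divisors 21 = {1, 3, 7, 21} from by decide] at hd
      simp only [Finset.mem_insert, Finset.mem_singleton] at hd
      have hno : ∀ k : ℕ, v ^ k = 1 → (k : ZMod 7) = 0 ∧ (k : ZMod 3) = 0 := fun k hk => by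
        have h1 := congrFun (congrArg (fun w : Multiplicative M => w.toAdd.1) hk) 0
        have h2 := congrFun (congrArg (fun w : Multiplicative M => (w.toAdd.2 : H → ZMod 3)) hk) 1
        simp only [v, toAdd_pow, toAdd_ofAdd] at h1 h2
        constructor
        · simpa using h1
        · simpa [δ] using h2
      obtain ⟨k7, k3⟩ := hno _ (pow_orderOf_eq_one v)
      rcases hd with e | e | e | e
      · rw [e] at k7; exact absurd k7 (by decide)
      · rw [e] at k7; exact absurd k7 (by decide)
      · rw [e] at k3; exact absurd k3 (by decide)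
      · exact e
    have h3 : orderOf ((⟨u12, hu12⟩ : H) ^ 4) = 3 := by rw [orderOf_pow' _ (by norm_num : (4 : ℕ) ≠ 0), e12]; rfl
    have h5 : orderOf ((⟨u10, hu10⟩ : H) ^ 2) = 5 := by rw [orderOf_pow' _ (by norm_num : (2 : ℕ) ≠ 0), e10]; rfl
    obtain ⟨g21, hg21⟩ := h21
    simp only [tenOrders, Finset.coe_insert, Finset.coe_singleton, Set.mem_insert_iff, Set.mem_singleton_iff] at hn
    rcases hn with rfl | rfl | rfl | rfl | rfl | rfl | rfl | rfl | rfl | rfl | rfl | rfl | rfl
    · exact ⟨1, orderOf_one⟩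
    · exact hdivs (⟨u8, hu8⟩ : H) 2 (by rw [e8]; decide)
    · exact hdivs (⟨u12, hu12⟩ : H) 3 (by rw [e12]; decide)
    · exact hdivs (⟨u8, hu8⟩ : H) 4 (by rw [e8]; decide)
    · exact hdivs (⟨u10, hu10⟩ : H) 5 (by rw [e10]; decide)
    · exact hdivs (⟨u12, hu12⟩ : H) 6 (by rw [e12]; decide)
    · exact hdivG g21 7 (hg21.symm ▸ by decide)
    · exact hdivs (⟨u8, hu8⟩ : H) 8 (by rw [e8])
    · have := lift3 _ (Or.inl h3); rwa [h3] at this
    · exact hdivs (⟨u10, hu10⟩ : H) 10 (by rw [e10])
    · exact hdivs (⟨u12, hu12⟩ : H) 12 (by rw [e12])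
    · have := lift3 _ (Or.inr h5); rwa [h5] at this
    · exact ⟨g21, hg21⟩

/-- Translations by the second summand. -/
def threePart : Subgroup G :=
  Subgroup.map SemidirectProduct.inl
    { carrier := {v : Multiplicative M | v.toAdd.1 = 0}
      mul_mem' := fun {a b} ha hb => by simp only [Set.mem_ofPred_eq, toAdd_mul, Prod.fst_add] at *; rw [ha, hb, add_zero]
      one_mem' := rfl
      inv_mem' := fun {a} ha => by simp only [Set.mem_ofPred_eq, toAdd_inv, Prod.fst_neg] at *; rw [ha, neg_zero] }

instance : threePart.Normal := ⟨by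
  rintro _ ⟨v, hv, rfl⟩ g
  refine ⟨actHom g.right v, ?_, ?_⟩
  · show ((g.right : GL (Fin 4) (ZMod 7)) : Matrix (Fin 4) (Fin 4) (ZMod 7)) *ᵥ v.toAdd.1 = 0
    rw [show v.toAdd.1 = 0 from hv, Matrix.mulVec_zero]
  · conv_rhs => rw [← SemidirectProduct.inl_left_mul_inr_right g]
    rw [SemidirectProduct.inl_aut, _root_.mul_inv_rev]
    rw [show SemidirectProduct.inl (φ := actHom) g.left * SemidirectProduct.inr g.right * SemidirectProduct.inl v * ((SemidirectProduct.inr g.right)⁻¹ * (SemidirectProduct.inl g.left)⁻¹) =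
      SemidirectProduct.inl (φ := actHom) g.left * (SemidirectProduct.inr g.right * SemidirectProduct.inl v * (SemidirectProduct.inr g.right)⁻¹) * (SemidirectProduct.inl g.left)⁻¹ by group]
    rw [← map_inv SemidirectProduct.inr, ← SemidirectProduct.inl_aut, ← map_inv SemidirectProduct.inl, ← map_mul, ← map_mul, mul_inv_cancel_comm]⟩

theorem threePart_exponent : ∀ v ∈ threePart, v ^ 3 = 1 := by
  rintro _ ⟨v, hv, rfl⟩
  rw [← map_pow]
  have : v ^ 3 = 1 := by
    apply Multiplicative.toAdd.injective
    rw [toAdd_pow, toAdd_one]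
    refine Prod.ext ?_ (Subtype.ext (funext fun x => ?_))
    · show (3 : ℕ) • v.toAdd.1 = 0
      rw [show v.toAdd.1 = 0 from hv, smul_zero]
    · show (3 : ℕ) • (v.toAdd.2 : H → ZMod 3) x = 0
      rw [nsmul_eq_mul, show ((3 : ℕ) : ZMod 3) = 0 from by decide, zero_mul]
  rw [this, map_one]

theorem threePart_ne_bot : threePart ≠ ⊥ := by
  classical
  have hz1 : z ≠ 1 := fun h => by
    have := congrArg (fun x : H => ((x : GL (Fin 4) (ZMod 7)) : Matrix (Fin 4) (Fin 4) (ZMod 7)) 0 0) h
    simp [z] at this
    exact absurd this (by decide)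
  have hzz : z * z = 1 := Subtype.ext (by simp [z])
  let δ : anti := ⟨fun x => if x = 1 then 1 else if x = z then -1 else 0, fun x => by
    by_cases h : x = 1
    · subst h; simp [hz1]
    by_cases h' : x = z
    · subst h'; simp [hzz, hz1]
    have e1 : z * x ≠ 1 := fun e => h' (by rw [← mul_left_cancel_iff (a := z), e, hzz])
    have e2 : z * x ≠ z := fun e => h (mul_eq_left.1 e)
    simp [h, h', e1, e2]⟩
  intro h
  have hm : SemidirectProduct.inl (φ := actHom) (Multiplicative.ofAdd ((0, δ) : M)) ∈ threePart := ⟨_, rfl, rfl⟩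
  rw [h, Subgroup.mem_bot] at hm
  have h2 := congrArg (fun g : G => (g.left.toAdd.2 : H → ZMod 3) 1) hm
  simp [δ] at h2

end TenModel

end Cfsg.Agent.Lib.Recognition
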