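import Cfsg.Agent.Lib.Recognition.J2Model
import Cfsg.Agent.Lib.Recognition.TenSpectrum
import Cfsg.Agent.Lib.Recognition.Spectrum

/-!
Element orders of the Hall-Janko group and of the symmetric group of degree 8.
-/

set_option autoImplicit false

namespace Cfsg.Agent.Lib.Recognition.J2

open Cfsg.Agent.Lib.Compute Equiv

/-- The element orders of `J₂` and of `S₈`. -/
def jOrders : Finset ℕ := {1, 2, 3, 4, 5, 6, 7, 8, 10, 12, 15}

theorem reach_eight : ∀ x ∈ reachPairs 8, x.1 ∈ jOrders := by decide +kernel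

theorem perm_eight_spectrum : Set.range (orderOf : Perm (Fin 8) → ℕ) = (jOrders : Set ℕ) := by
  ext n
  constructor
  · rintro ⟨g, rfl⟩
    rw [← Perm.lcm_cycleType]
    exact reach_eight _ (mem_reachPairs _ 8 (by simpa using Perm.sum_cycleType_le g)
      fun _ h => Perm.two_le_of_mem_cycleType h)
  · intro hn
    have key : ∀ l : List ℕ, (l.sum ≤ 8 ∧ ∀ a ∈ l, 2 ≤ a) → ∀ v, (l : Multiset ℕ).lcm = v →
        v ∈ Set.range (orderOf : Perm (Fin 8) → ℕ) := by
      rintro l ⟨h1, h2⟩ v rfl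
      obtain ⟨g, hg⟩ := (Perm.exists_with_cycleType_iff (Fin 8)).mpr
        ⟨show (l : Multiset ℕ).sum ≤ Fintype.card (Fin 8) by simpa using h1, by simpa using h2⟩
      exact ⟨g, by rw [← Perm.lcm_cycleType, hg]⟩
    simp only [jOrders, Finset.coe_insert, Finset.coe_singleton, Set.mem_insert_iff, Set.mem_singleton_iff] at hn
    rcases hn with rfl | rfl | rfl | rfl | rfl | rfl | rfl | rfl | rfl | rfl | rfl
    · exact key [] (by decide) _ (by decide +kernel)
    · exact key [2] (by decide) _ (by decide +kernel)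
    · exact key [3] (by decide) _ (by decide +kernel)
    · exact key [4] (by decide) _ (by decide +kernel)
    · exact key [5] (by decide) _ (by decide +kernel)
    · exact key [6] (by decide) _ (by decide +kernel)
    · exact key [7] (by decide) _ (by decide +kernel)
    · exact key [8] (by decide) _ (by decide +kernel)
    · exact key [5, 2] (by decide) _ (by decide +kernel)
    · exact key [4, 3] (by decide) _ (by decide +kernel)
    · exact key [5, 3] (by decide) _ (by decide +kernel)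

theorem repr_pow {n : ℕ} {σ : Perm (Fin n)} {f : ℕ → ℕ} (h : Repr σ f) (k : ℕ) :
    Repr (σ ^ k) (iter f k) := by
  induction k with
  | zero => intro i; simp [iter]
  | succ k ih => intro i; rw [pow_succ, Perm.mul_apply, ih (σ i), h i]; rfl

theorem pow_eq_one_of_bases {σ : Perm (Fin 315)} {f : ℕ → ℕ} (hr : Repr σ f) (hσ : σ ∈ GP) {n : ℕ}
    (h : (cert.map Lvl.base).all (fun x => Nat.beq (iter f n x) x) = true) : σ ^ n = 1 := by
  refine eq_one_of_fix_bases cert_chk (pow_mem hσ n) fun L hL b hb => Fin.ext ?_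
  rw [repr_pow hr n b]
  have := List.all_eq_true.mp h _ (List.mem_map.mpr ⟨L, hL, rfl⟩)
  rw [Nat.beq_eq, ← hb] at this
  exact this

theorem cert_hc : chk 315 (cert0 :: certRest) = true := cert_eq ▸ cert_chk

theorem rest_eq : certRest = [cert1, cert2, cert3] := rfl

theorem tperm0_mem (q : ℕ) : Repr (tperm 315 cert0 q) (tfun cert0 q) ∧ tperm 315 cert0 q ∈ GP := by
  have h := cert_hc
  simp only [chk, Bool.and_eq_true] at h
  obtain ⟨-, hg, ht, -, -, -⟩ := lvlOk_iff h.1
  obtain ⟨h1, h2⟩ := trans_spec (rest := certRest) hg ht q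
  exact ⟨h1, show tperm 315 cert0 q ∈ grp 315 cert from cert_eq ▸ h2⟩

theorem rest_le : grp 315 certRest ≤ GP := by
  intro σ hσ
  show σ ∈ grp 315 cert
  rw [cert_eq]
  have h := cert_hc
  simp only [chk, Bool.and_eq_true] at h
  exact grp_rest_le h.1 hσ

theorem rest_elem {σ : Perm (Fin 315)} (hσ : σ ∈ grp 315 certRest) :
    ∃ a ≤ cert1.trans.length, ∃ b ≤ cert2.trans.length, ∃ c ≤ cert3.trans.length,
      σ = siftPerm 315 certRest [a, b, c] := by
  rw [rest_eq] at hσ ⊢
  have h := rest_chk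
  rw [rest_eq] at h
  obtain ⟨a, ha, τ, hτ, rfl⟩ := exists_decomp h hσ
  simp only [chk, Bool.and_eq_true] at h
  obtain ⟨b, hb, υ, hυ, rfl⟩ := exists_decomp (show chk 315 [cert2, cert3] = true by simp only [chk, h.2.1, h.2.2.1, Bool.and_self]) hτ
  obtain ⟨c, hc, ω, hω, rfl⟩ := exists_decomp (show chk 315 [cert3] = true by simp only [chk, h.2.2.1, Bool.and_self]) hυ
  have : ω = 1 := by simpa [grp] using hω
  subst this
  exact ⟨a, ha, b, hb, c, hc, by simp [siftPerm]⟩

theorem elem_repr (i : ℕ) (js : List ℕ) :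
    Repr (tperm 315 cert0 (subRep.getD i 0) * siftPerm 315 certRest js)
        (fun y => tfun cert0 (subRep.getD i 0) (sift certRest js y)) ∧
      tperm 315 cert0 (subRep.getD i 0) * siftPerm 315 certRest js ∈ GP :=
  ⟨(tperm0_mem _).1.mul (sift_spec rest_chk js).1,
    mul_mem (tperm0_mem _).2 (rest_le (sift_spec rest_chk js).2)⟩

theorem pow_exists {σ : Perm (Fin 315)} (hσ : σ ∈ GP) : ∃ n ∈ expList, σ ^ n = 1 := by
  set b : Fin 315 := ⟨cert0.base, base_lt⟩ with hb
  have hs := List.all_eq_true.mp subOk_eq (σ b : ℕ) (List.mem_range.mpr (σ b).isLt)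
  cases hw : subWit[(σ b : ℕ)]? with
  | none => rw [hw] at hs; simp at hs
  | some e =>
    obtain ⟨i, js⟩ := e
    simp only [hw, Bool.and_eq_true, Nat.blt_eq, Nat.beq_eq] at hs
    obtain ⟨hi, he⟩ := hs
    set t := tperm 315 cert0 (subRep.getD i 0)
    obtain ⟨hrh, hh⟩ := sift_spec rest_chk js
    set h := siftPerm 315 certRest js
    have hfixb : ∀ τ ∈ grp 315 certRest, τ b = b := fun τ hτ =>
      ((mem_grp_rest_iff cert_hc b rfl τ).mp hτ).2
    have hbt : h (t b) = σ b := Fin.ext (by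
      rw [hrh (t b), (tperm0_mem _).1 b]; exact he)
    have hk : t⁻¹ * (h⁻¹ * σ * h) ∈ grp 315 certRest := by
      rw [mem_grp_rest_iff cert_hc b rfl]
      refine ⟨cert_eq ▸ (mul_mem (inv_mem (tperm0_mem _).2) (mul_mem (mul_mem (inv_mem (rest_le hh)) hσ) (rest_le hh)) : _ ∈ GP), ?_⟩
      simp only [Perm.mul_apply, hfixb h hh, ← hbt, Perm.inv_def, Equiv.symm_apply_apply]
    obtain ⟨a, ha, c, hc, d, hd, hkk⟩ := rest_elem hk
    have hconj : h⁻¹ * σ * h = t * siftPerm 315 certRest [a, c, d] := by rw [← hkk, mul_inv_cancel_left]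
    have hE := expOk_eq hi
    simp only [expOk, List.all_eq_true, List.any_eq_true, List.mem_range] at hE
    obtain ⟨n, hn, hn'⟩ := hE a (by omega) c (by omega) d (by omega)
    refine ⟨n, hn, ?_⟩
    obtain ⟨hr, hm⟩ := elem_repr i [a, c, d]
    have hpow := pow_eq_one_of_bases hr hm (List.all_eq_true.mpr hn')
    rw [← hconj] at hpow
    have h2 : σ = h * (h⁻¹ * σ * h) * h⁻¹ := by group
    rw [h2, conj_pow, hpow]; group

/-- The witness check for one element order. -/
def witOrd (n i : ℕ) (js : List ℕ) : Bool :=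
  ((cert.map Lvl.base).all fun x => Nat.beq (iter (fun y => tfun cert0 (subRep.getD i 0) (sift certRest js y)) n x) x) &&
  n.primeFactorsList.all fun p =>
    (cert.map Lvl.base).any fun x => !Nat.beq (iter (fun y => tfun cert0 (subRep.getD i 0) (sift certRest js y)) (n / p) x) x

theorem exists_order {n i : ℕ} {js : List ℕ} (hn : 0 < n) (h : witOrd n i js = true) :
    ∃ σ : GP, orderOf σ = n := by
  obtain ⟨hr, hm⟩ := elem_repr i js
  refine ⟨⟨_, hm⟩, ?_⟩
  rw [Subgroup.orderOf_mk]
  simp only [witOrd, Bool.and_eq_true] at h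
  refine orderOf_eq_of_pow_and_pow_div_prime hn (pow_eq_one_of_bases hr hm h.1) fun p hp hpn e => ?_
  have := List.all_eq_true.mp h.2 p ((Nat.mem_primeFactorsList hn.ne').mpr ⟨hp, hpn⟩)
  obtain ⟨x, hx, hx'⟩ := List.any_eq_true.mp this
  obtain ⟨L, hL, rfl⟩ := List.mem_map.mp hx
  have hlt : L.base < 315 := by
    have hall : (cert.map Lvl.base).all (fun x => Nat.blt x 315) = true := by decide +kernel
    simpa using List.all_eq_true.mp hall L.base (List.mem_map.mpr ⟨L, hL, rfl⟩)
  have := repr_pow hr (n / p) ⟨L.base, hlt⟩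
  rw [e] at this
  simp only [Perm.one_apply] at this
  rw [Bool.not_eq_true', ← Bool.not_eq_true, Nat.beq_eq] at hx'
  exact hx' this.symm

theorem j2_spectrum : Set.range (orderOf : Cfsg.Spor.J2 → ℕ) = (jOrders : Set ℕ) := by
  rw [range_orderOf_congr j2Equiv]
  ext m
  constructor
  · rintro ⟨σ, rfl⟩
    obtain ⟨n, hn, he⟩ := pow_exists σ.2
    have hd := orderOf_dvd_of_pow_eq_one he
    rw [Subgroup.orderOf_coe] at hd
    simp only [expList, List.mem_cons, List.not_mem_nil, or_false] at hn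
    have key : ∀ d ≤ 15, (d ∣ 7 ∨ d ∣ 8 ∨ d ∣ 10 ∨ d ∣ 12 ∨ d ∣ 15) → d ∈ jOrders := by decide +kernel
    refine key _ ?_ ?_
    · rcases hn with rfl | rfl | rfl | rfl | rfl <;> exact le_trans (Nat.le_of_dvd (by norm_num) hd) (by norm_num)
    · rcases hn with rfl | rfl | rfl | rfl | rfl <;> simp [hd]
  · intro hm
    obtain ⟨a, ha⟩ := exists_order (n := 7) (i := 1) (js := [0, 5, 1]) (by norm_num) (by decide +kernel)
    obtain ⟨b, hb⟩ := exists_order (n := 8) (i := 0) (js := [1, 0, 2]) (by norm_num) (by decide +kernel)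
    obtain ⟨c, hc⟩ := exists_order (n := 10) (i := 0) (js := [1, 2, 3]) (by norm_num) (by decide +kernel)
    obtain ⟨d, hd⟩ := exists_order (n := 12) (i := 0) (js := [1, 0, 3]) (by norm_num) (by decide +kernel)
    obtain ⟨e, he⟩ := exists_order (n := 15) (i := 2) (js := [0, 1, 2]) (by norm_num) (by decide +kernel)
    have hdiv : ∀ (x : GP) (k : ℕ), k ∣ orderOf x → k ∈ Set.range (orderOf : GP → ℕ) := fun x k hk =>
      ⟨x ^ (orderOf x / k), orderOf_pow_orderOf_div (orderOf_pos x).ne' hk⟩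
    simp only [jOrders, Finset.coe_insert, Finset.coe_singleton, Set.mem_insert_iff, Set.mem_singleton_iff] at hm
    rcases hm with rfl | rfl | rfl | rfl | rfl | rfl | rfl | rfl | rfl | rfl | rfl
    · exact ⟨1, orderOf_one⟩
    · exact hdiv b 2 (by rw [hb]; decide)
    · exact hdiv d 3 (by rw [hd]; decide)
    · exact hdiv b 4 (by rw [hb]; decide)
    · exact hdiv c 5 (by rw [hc]; decide)
    · exact hdiv d 6 (by rw [hd]; decide)
    · exact ⟨a, ha⟩
    · exact ⟨b, hb⟩
    · exact ⟨c, hc⟩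
    · exact ⟨d, hd⟩
    · exact ⟨e, he⟩

end Cfsg.Agent.Lib.Recognition.J2
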