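import Cfsg.Agent.Lib.Compute.CertTools

/-!
A search tree for natural number keys.
-/

set_option autoImplicit false

namespace Cfsg.Agent.Lib.Recognition.J2

export Cfsg.Agent.Lib.Compute (Lvl)

/-- A search tree. -/
inductive Tree where
  | nil
  | node (key val : ℕ) (l r : Tree)

/-- Lookup. -/
def Tree.find : Tree → ℕ → Option ℕ
  | .nil, _ => none
  | .node k v l r, x =>
    match Nat.ble k x, Nat.ble x k with
    | true, true => some v
    | true, false => r.find x
    | false, _ => l.find x

end Cfsg.Agent.Lib.Recognition.J2
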