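import Mathlib

/-!
# Element orders of PSL(2,13)
-/

set_option autoImplicit false

namespace Cfsg.Agent.Lib.Recognition.L213

open Matrix

/-- Two by two matrices over the field with thirteen elements. -/
abbrev M2 : Type := Matrix (Fin 2) (Fin 2) (ZMod 13)

/-- A matrix from a code. -/
def dec (c : ℕ) : M2 :=
  !![((c % 13 : ℕ) : ZMod 13), ((c / 13 % 13 : ℕ) : ZMod 13);
     ((c / 169 % 13 : ℕ) : ZMod 13), ((c / 2197 % 13 : ℕ) : ZMod 13)]

/-- A code from a matrix. -/
def cod (M : M2) : ℕ := (M 0 0).val + 13 * (M 0 1).val + 169 * (M 1 0).val + 2197 * (M 1 1).val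

/-- Evaluate the argument first. -/
def force (n : ℕ) (f : ℕ → ℕ) : ℕ :=
  match n with
  | 0 => f 0
  | m + 1 => f (m + 1)

theorem force_eq (n : ℕ) (f : ℕ → ℕ) : force n f = f n := by cases n <;> rfl

/-- The product of two codes. -/
def mulc (x y : ℕ) : ℕ :=
  force x fun x => force y fun y =>
    (x % 13 * (y % 13) + x / 13 % 13 * (y / 169 % 13)) % 13 +
    13 * ((x % 13 * (y / 13 % 13) + x / 13 % 13 * (y / 2197 % 13)) % 13) +
    169 * ((x / 169 % 13 * (y % 13) + x / 2197 % 13 * (y / 169 % 13)) % 13) +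
    2197 * ((x / 169 % 13 * (y / 13 % 13) + x / 2197 % 13 * (y / 2197 % 13)) % 13)

/-- A power of a code. -/
def powc (x : ℕ) : ℕ → ℕ
  | 0 => 2198
  | n + 1 => mulc (powc x n) x

theorem dec_digits (a b c d : ℕ) (ha : a < 13) (hb : b < 13) (hc : c < 13) (hd : d < 13) :
    dec (a + 13 * b + 169 * c + 2197 * d)
      = !![(a : ZMod 13), (b : ZMod 13); (c : ZMod 13), (d : ZMod 13)] := by
  have h1 : (a + 13 * b + 169 * c + 2197 * d) % 13 = a := by omega
  have h2 : (a + 13 * b + 169 * c + 2197 * d) / 13 % 13 = b := by omega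
  have h3 : (a + 13 * b + 169 * c + 2197 * d) / 169 % 13 = c := by omega
  have h4 : (a + 13 * b + 169 * c + 2197 * d) / 2197 % 13 = d := by omega
  rw [dec, h1, h2, h3, h4]

theorem dec_mulc (x y : ℕ) : dec (mulc x y) = dec x * dec y := by
  rw [mulc, force_eq, force_eq, dec_digits _ _ _ _ (Nat.mod_lt _ (by norm_num))
    (Nat.mod_lt _ (by norm_num)) (Nat.mod_lt _ (by norm_num)) (Nat.mod_lt _ (by norm_num))]
  ext i j
  fin_cases i <;> fin_cases j <;>
    simp [dec, Matrix.mul_apply, Fin.sum_univ_two]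

theorem dec_one : dec 2198 = 1 := by
  ext i j; fin_cases i <;> fin_cases j <;> simp [dec]

theorem dec_powc (x : ℕ) : ∀ n, dec (powc x n) = dec x ^ n
  | 0 => by rw [pow_zero]; exact dec_one
  | n + 1 => by rw [powc, dec_mulc, dec_powc x n, pow_succ]

theorem dec_cod (M : M2) : dec (cod M) = M := by
  rw [cod, dec_digits _ _ _ _ (ZMod.val_lt _) (ZMod.val_lt _) (ZMod.val_lt _) (ZMod.val_lt _)]
  ext i j; fin_cases i <;> fin_cases j <;> simp

theorem cod_lt (M : M2) : cod M < 28561 := by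
  have := ZMod.val_lt (M 0 0); have := ZMod.val_lt (M 0 1); have := ZMod.val_lt (M 1 0)
  have := ZMod.val_lt (M 1 1); simp only [cod]; omega

/-- The scalar test. -/
def isSgn (c : ℕ) : Bool := c == 2198 || c == 26376

theorem power_check : ((List.range 28561).all fun c =>
    !((c % 13 * (c / 2197 % 13) + 12 * (c / 13 % 13) * (c / 169 % 13)) % 13 == 1) ||
      (isSgn (powc c 6) || isSgn (powc c 7) || isSgn (powc c 13))) = true := by decide +kernel

theorem sgn_scalar {c : ℕ} (h : isSgn c = true) : ∃ s : ZMod 13, dec c = Matrix.scalar (Fin 2) s := by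
  simp only [isSgn, Bool.or_eq_true, beq_iff_eq] at h
  rcases h with rfl | rfl
  · exact ⟨1, by rw [dec_one, map_one]⟩
  · refine ⟨-1, ?_⟩
    rw [show dec 26376 = !![(-1 : ZMod 13), 0; 0, -1] by
      rw [show (26376 : ℕ) = 12 + 13 * 0 + 169 * 0 + 2197 * 12 by norm_num, dec_digits _ _ _ _ (by norm_num) (by norm_num) (by norm_num) (by norm_num)]
      simp [show (12 : ZMod 13) = -1 from rfl]]
    ext i j; fin_cases i <;> fin_cases j <;> simp

theorem not_scalar {c : ℕ} (hc : isSgn c = false) (hlt : c < 28561)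
    (hdet : (c % 13 * (c / 2197 % 13) + 12 * (c / 13 % 13) * (c / 169 % 13)) % 13 = 1) (s : ZMod 13) :
    dec c ≠ Matrix.scalar (Fin 2) s := by
  intro h
  have h01 := congrFun (congrFun h 0) 1
  have h10 := congrFun (congrFun h 1) 0
  have h00 := congrFun (congrFun h 0) 0
  have h11 := congrFun (congrFun h 1) 1
  simp [dec] at h01 h10 h00 h11
  have hb : c / 13 % 13 = 0 := by
    have := congrArg ZMod.val h01; rwa [ZMod.val_natCast, ZMod.val_zero] at this
  have hc' : c / 169 % 13 = 0 := by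
    have := congrArg ZMod.val h10; rwa [ZMod.val_natCast, ZMod.val_zero] at this
  have had : c % 13 = c / 2197 % 13 := by
    have := congrArg ZMod.val (h00.trans h11.symm)
    rwa [ZMod.val_natCast, ZMod.val_natCast] at this
  have key : ∀ a < 13, (a * a) % 13 = 1 → a = 1 ∨ a = 12 := by decide
  rw [hb, hc', ← had] at hdet
  simp only [mul_zero, add_zero] at hdet
  simp only [isSgn, Bool.or_eq_false_iff, beq_eq_false_iff_ne] at hc
  have := key _ (Nat.mod_lt c (by norm_num)) hdet
  omega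

/-- `SL(2,13)`. -/
abbrev SL213 : Type := Matrix.SpecialLinearGroup (Fin 2) (ZMod 13)

theorem mem_center_iff' (x : SL213) :
    x ∈ Subgroup.center SL213 ↔ ∃ s : ZMod 13, (x : M2) = Matrix.scalar (Fin 2) s := by
  rw [Matrix.SpecialLinearGroup.mem_center_iff]
  constructor
  · rintro ⟨s, -, hs⟩; exact ⟨s, hs.symm⟩
  · rintro ⟨s, hs⟩
    refine ⟨s, ?_, hs.symm⟩
    have := x.2
    rw [hs] at this
    simpa using this

theorem det_code (c : ℕ) : (dec c).det = 1 ↔
    (c % 13 * (c / 2197 % 13) + 12 * (c / 13 % 13) * (c / 169 % 13)) % 13 = 1 := by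
  rw [Matrix.det_fin_two]
  have e : dec c 0 0 * dec c 1 1 - dec c 0 1 * dec c 1 0
      = (((c % 13 * (c / 2197 % 13) + 12 * (c / 13 % 13) * (c / 169 % 13)) % 13 : ℕ) : ZMod 13) := by
    rw [ZMod.natCast_mod]
    simp [dec, show ((12 : ℕ) : ZMod 13) = -1 from rfl]
    rw [show (12 : ZMod 13) = -1 from rfl]
    ring
  rw [e]
  constructor
  · intro h
    haveI : Fact (1 < 13) := ⟨by norm_num⟩
    have := congrArg ZMod.val h
    rwa [ZMod.val_natCast, Nat.mod_mod, ZMod.val_one] at this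
  · intro h; rw [h, Nat.cast_one]

/-- `PSL(2,13)`. -/
abbrev PSL213 : Type := SL213 ⧸ Subgroup.center SL213

theorem pow_cases (g : PSL213) : g ^ 6 = 1 ∨ g ^ 7 = 1 ∨ g ^ 13 = 1 := by
  obtain ⟨x, rfl⟩ := QuotientGroup.mk_surjective g
  have h := power_check
  simp only [List.all_eq_true, List.mem_range, Bool.or_eq_true, Bool.not_eq_true', beq_eq_false_iff_ne] at h
  have hd := (det_code (cod (x : M2))).mp (by rw [dec_cod]; exact x.2)
  have key : ∀ n, isSgn (powc (cod (x : M2)) n) = true → (QuotientGroup.mk x : PSL213) ^ n = 1 := by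
    intro n hn
    rw [← QuotientGroup.mk_pow, QuotientGroup.eq_one_iff, mem_center_iff']
    obtain ⟨s, hs⟩ := sgn_scalar hn
    rw [dec_powc, dec_cod] at hs
    exact ⟨s, by rw [Matrix.SpecialLinearGroup.coe_pow]; exact hs⟩
  rcases (h _ (cod_lt _)).resolve_left (fun h => h hd) with (h6 | h7) | h13
  exacts [Or.inl (key _ h6), Or.inr (Or.inl (key _ h7)), Or.inr (Or.inr (key _ h13))]

/-- The order test of a code. -/
def ordTest (c n : ℕ) : Bool :=
  decide (c < 28561) &&
  (c % 13 * (c / 2197 % 13) + 12 * (c / 13 % 13) * (c / 169 % 13)) % 13 == 1 && isSgn (powc c n) &&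
    (List.range n).all fun k => k == 0 || !(n % k == 0) || (!isSgn (powc c k) &&
      decide (powc c k < 28561) &&
      (powc c k % 13 * (powc c k / 2197 % 13) + 12 * (powc c k / 13 % 13) * (powc c k / 169 % 13)) % 13 == 1)

theorem exists_order {n : ℕ} (hn : 0 < n) (c : ℕ) (h : ordTest c n = true) :
    ∃ g : PSL213, orderOf g = n := by
  simp only [ordTest, Bool.and_eq_true, decide_eq_true_eq, beq_iff_eq, List.all_eq_true,
    List.mem_range, Bool.or_eq_true, Bool.not_eq_true', beq_eq_false_iff_ne] at h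
  obtain ⟨⟨⟨-, hd⟩, hs⟩, hall⟩ := h
  let x : SL213 := ⟨dec c, (det_code c).mpr hd⟩
  have key : ∀ k, isSgn (powc c k) = true → (QuotientGroup.mk x : PSL213) ^ k = 1 := by
    intro k hk
    rw [← QuotientGroup.mk_pow, QuotientGroup.eq_one_iff, mem_center_iff']
    obtain ⟨s, hs⟩ := sgn_scalar hk
    rw [dec_powc] at hs
    exact ⟨s, by rw [Matrix.SpecialLinearGroup.coe_pow]; exact hs⟩
  refine ⟨QuotientGroup.mk x, ?_⟩
  have hdvd := orderOf_dvd_of_pow_eq_one (key n hs)
  by_contra hne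
  set m := orderOf (QuotientGroup.mk x : PSL213) with hm
  have hm0 : m ≠ 0 := fun h0 => hn.ne' (Nat.eq_zero_of_zero_dvd (h0 ▸ hdvd))
  have hlt : m < n := lt_of_le_of_ne (Nat.le_of_dvd hn hdvd) hne
  rcases hall m hlt with (h0 | h0) | ⟨⟨h1, h2⟩, h3⟩
  · exact hm0 h0
  · exact h0 (Nat.mod_eq_zero_of_dvd hdvd)
  · have hp := pow_orderOf_eq_one (QuotientGroup.mk x : PSL213)
    rw [← hm, ← QuotientGroup.mk_pow, QuotientGroup.eq_one_iff, mem_center_iff'] at hp
    obtain ⟨s, hs'⟩ := hp
    rw [Matrix.SpecialLinearGroup.coe_pow] at hs'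
    exact not_scalar h1 h2 h3 s (by rw [dec_powc]; exact hs')

theorem orders : (∃ g : PSL213, orderOf g = 6) ∧ (∃ g : PSL213, orderOf g = 7) ∧
    (∃ g : PSL213, orderOf g = 13) :=
  ⟨exists_order (by norm_num) 9113 (by decide +kernel), exists_order (by norm_num) 6916 (by decide +kernel),
    exists_order (by norm_num) 4719 (by decide +kernel)⟩

end Cfsg.Agent.Lib.Recognition.L213
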