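import Cfsg.Agent.Lib.Recognition.L34SplitData
import Cfsg.Agent.Lib.Recognition.TwoSplitFree
import Cfsg.Agent.Lib.Compute.PlaneFour
import Cfsg.Agent.Lib.Compute.MultReduce

/-!
# An elementary abelian 2-group of stem type over PSL3(4) has order at most 4
-/

set_option autoImplicit false
set_option maxRecDepth 100000

namespace Cfsg.Agent.Lib.Recognition.L34Split

open Equiv
open Cfsg.Agent.Lib.Compute
open Cfsg.Agent.Lib.Recognition.TwoSplitFree

theorem cert3_ok : chk 24 cert3 = true := by decide +kernel

theorem gens_ok : ((List.range l34Base.length).all fun i =>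
    memOk 24 cert3 (l34Base.getD i 0) (l34Wit.getD i [])) = true := by decide +kernel

theorem tab_ok : l34Tab.tabOk 24 l34Base = true := by decide +kernel

theorem cert_ok : certFree l34Tab 24 cert3 l34Free l34Len l34Rows l34Pos = true := by
  decide +kernel

theorem slp_ok : chk 24 l34S = true ∧ slpOk 24 l34Base l34Steps = true ∧
    slpCovers l34Base l34Steps l34S = true := by decide +kernel

/-- The function of a word in the generators. -/
def appW (w : List ℕ) (x : ℕ) : ℕ := w.foldr (fun i y => app (l34Base.getD i 0) y) x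

/-- The word of the row of a position and the word of its target. -/
def freeWords (h : ℕ) : List ℕ × List ℕ :=
  (l34Tab.wd (h / l34Tab.k) ++ [h % l34Tab.k], l34Tab.wd (l34Tab.next (h / l34Tab.k) (h % l34Tab.k)))

theorem free_ok : ∀ h ∈ l34Free, (∀ i ∈ (freeWords h).1, i < l34Base.length) ∧
    (∀ i ∈ (freeWords h).2, i < l34Base.length) ∧
    ∀ x < 24, appW (freeWords h).1 x = appW (freeWords h).2 x := by decide +kernel

theorem free_eq : ∃ a b : ℕ, l34Free = [a, b] := ⟨_, _, rfl⟩

theorem card_ker_le_four {Δ : Type*} [Group Δ] [Finite Δ] (τ : Δ →* grp 24 cert3)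
    (hτ : Function.Surjective τ) (hcen : τ.ker ≤ Subgroup.center Δ)
    (hd : τ.ker ≤ commutator Δ) (hexp : ∀ x ∈ τ.ker, x ^ 2 = 1) : Nat.card τ.ker ≤ 4 := by
  classical
  letI : CommGroup τ.ker :=
    { (inferInstance : Group τ.ker) with
      mul_comm := fun a b => Subtype.ext (Subgroup.mem_center_iff.mp (hcen b.2) a) }
  haveI : Fact (Nat.Prime 2) := ⟨Nat.prime_two⟩
  have hgens := gens_ok
  simp only [List.all_eq_true, List.mem_range] at hgens
  have hgm : ∀ i < l34Base.length, Valid 24 (l34Base.getD i 0) ∧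
      toPerm 24 (l34Base.getD i 0) ∈ grp 24 cert3 :=
    fun i hi => mem_grp_of_memOk cert3_ok (hgens i hi)
  let gi : ℕ → grp 24 cert3 := fun i =>
    if h : i < l34Base.length then ⟨_, (hgm i h).2⟩ else 1
  choose G hG using fun i => hτ (gi i)
  have hG' : ∀ i < l34Base.length,
      ((τ (G i) : grp 24 cert3) : Perm (Fin 24)) = toPerm 24 (l34Base.getD i 0) := fun i hi => by
    rw [hG]; simp only [gi, dif_pos hi]
  have hW : ∀ w : List ℕ, (∀ i ∈ w, i < l34Base.length) →
      Repr ((τ (w.map G).prod : grp 24 cert3) : Perm (Fin 24)) (appW w) := by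
    intro w
    induction w with
    | nil => intro _ x; simp [appW]
    | cons i w ih =>
      intro hw x
      have hi := hw i List.mem_cons_self
      rw [List.map_cons, List.prod_cons, map_mul, Subgroup.coe_mul, Perm.mul_apply, hG' i hi,
        (hgm i hi).1.repr, ih (fun j hj => hw j (List.mem_cons_of_mem _ hj))]
      rfl
  let tail : ℕ → Δ := fun h =>
    ((freeWords h).1.map G).prod * (((freeWords h).2.map G).prod)⁻¹
  have htail : ∀ h ∈ l34Free, tail h ∈ τ.ker := by
    intro h hh
    obtain ⟨h1, h2, h3⟩ := free_ok h hh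
    rw [MonoidHom.mem_ker, map_mul, map_inv, mul_inv_eq_one]
    exact Subtype.ext ((hW _ h1).eq (hW _ h2) h3)
  obtain ⟨a, b, hab⟩ := free_eq
  let u : τ.ker := ⟨tail a, htail a (by simp [hab])⟩
  let v : τ.ker := ⟨tail b, htail b (by simp [hab])⟩
  set K : Subgroup τ.ker := Subgroup.closure {u, v} with hK
  have hsq : ∀ x : τ.ker, x * x = 1 := fun x => Subtype.ext (by
    rw [Subgroup.coe_mul, ← sq, hexp _ x.2]; rfl)
  have hcardK : Nat.card K ≤ 4 := by
    let f : Bool × Bool → K := fun p =>
      ⟨(if p.1 then u else 1) * (if p.2 then v else 1), mul_mem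
        (by split
            · exact Subgroup.subset_closure (Or.inl rfl)
            · exact one_mem _)
        (by split
            · exact Subgroup.subset_closure (Or.inr rfl)
            · exact one_mem _)⟩
    have hsurj : Function.Surjective f := by
      rintro ⟨x, hx⟩
      induction hx using Subgroup.closure_induction with
      | mem y hy =>
        rcases hy with rfl | rfl
        · exact ⟨(true, false), Subtype.ext (by simp [f])⟩
        · exact ⟨(false, true), Subtype.ext (by simp [f])⟩
      | one => exact ⟨(false, false), Subtype.ext (by simp [f])⟩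
      | mul y z _ _ hy hz =>
        obtain ⟨⟨p1, p2⟩, hp⟩ := hy
        obtain ⟨⟨q1, q2⟩, hq⟩ := hz
        refine ⟨(xor p1 q1, xor p2 q2), Subtype.ext ?_⟩
        have ep : (if p1 then u else 1) * (if p2 then v else 1) = y := congrArg Subtype.val hp
        have eq' : (if q1 then u else 1) * (if q2 then v else 1) = z := congrArg Subtype.val hq
        show (if xor p1 q1 then u else 1) * (if xor p2 q2 then v else 1) = y * z
        rw [← ep, ← eq', mul_mul_mul_comm]
        cases p1 <;> cases p2 <;> cases q1 <;> cases q2 <;> simp [hsq]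
      | inv y _ hy =>
        obtain ⟨p, hp⟩ := hy
        refine ⟨p, Subtype.ext ?_⟩
        rw [congrArg Subtype.val hp]
        exact (inv_eq_of_mul_eq_one_left (hsq y)).symm
    calc Nat.card K ≤ Nat.card (Bool × Bool) := Nat.card_le_card_of_surjective f hsurj
      _ = 4 := by simp
  by_cases htop : K = ⊤
  · rw [htop, Subgroup.card_top] at hcardK
    exact hcardK
  exfalso
  obtain ⟨x, -, hx⟩ := SetLike.exists_of_lt (lt_of_le_of_ne le_top htop)
  have hdvd : 2 ∣ Nat.card (τ.ker ⧸ K) := by
    have ho : orderOf (QuotientGroup.mk x : τ.ker ⧸ K) = 2 :=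
      orderOf_eq_prime (by rw [← QuotientGroup.mk_pow, sq, hsq]; rfl)
        (fun h => hx ((QuotientGroup.eq_one_iff x).mp h))
    rw [← ho]
    exact orderOf_dvd_natCard _
  obtain ⟨A', hA'⟩ := exists_index_eq_prime hdvd
  set A : Subgroup τ.ker := A'.comap (QuotientGroup.mk' K) with hA
  have hAi : A.index = 2 := by
    rw [hA, Subgroup.index_comap_of_surjective _ (QuotientGroup.mk'_surjective K), hA']
  have hKA : ∀ y ∈ K, y ∈ A := fun y hy => by
    rw [hA, Subgroup.mem_comap, QuotientGroup.mk'_apply, (QuotientGroup.eq_one_iff y).mpr hy]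
    exact one_mem _
  set N : Subgroup Δ := A.map τ.ker.subtype with hN
  have hNle : N ≤ τ.ker := Subgroup.map_subtype_le A
  haveI : N.Normal := ⟨fun y hy g => by
    rw [Subgroup.mem_center_iff.mp (hcen (hNle hy)) g, mul_inv_cancel_right]; exact hy⟩
  obtain ⟨w, hw⟩ : ∃ w : τ.ker, w ∉ A := by
    by_contra hall
    push_neg at hall
    have : A = ⊤ := eq_top_iff.mpr fun y _ => hall y
    rw [this, Subgroup.index_top] at hAi
    omega
  let τ' : Δ ⧸ N →* grp 24 cert3 := QuotientGroup.lift N τ hNle
  have hs' : Function.Surjective τ' := fun y => by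
    obtain ⟨d, rfl⟩ := hτ y
    exact ⟨QuotientGroup.mk d, rfl⟩
  have hk' : ∀ q ∈ τ'.ker, ∃ y : τ.ker, QuotientGroup.mk (y : Δ) = q := by
    intro q hq
    induction q using QuotientGroup.induction_on with
    | _ d => exact ⟨⟨d, hq⟩, rfl⟩
  have hc' : τ'.ker ≤ Subgroup.center (Δ ⧸ N) := by
    intro q hq
    obtain ⟨y, rfl⟩ := hk' q hq
    refine Subgroup.mem_center_iff.mpr fun r => ?_
    induction r using QuotientGroup.induction_on with
    | _ d => rw [← QuotientGroup.mk_mul, ← QuotientGroup.mk_mul,
        Subgroup.mem_center_iff.mp (hcen y.2) d]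
  have hfree : ∀ h ∈ l34Free, wordImg l34Tab (fun i => (QuotientGroup.mk (G i) : Δ ⧸ N))
      (h / l34Tab.k) * (QuotientGroup.mk (G (h % l34Tab.k)) : Δ ⧸ N) =
      wordImg l34Tab (fun i => (QuotientGroup.mk (G i) : Δ ⧸ N))
        (l34Tab.next (h / l34Tab.k) (h % l34Tab.k)) := by
    intro h hh
    have hmk : ∀ l : List ℕ, (l.map fun i => (QuotientGroup.mk (G i) : Δ ⧸ N)).prod =
        QuotientGroup.mk ((l.map G).prod) := fun l => by
      induction l with
      | nil => rfl
      | cons i l ih => rw [List.map_cons, List.prod_cons, ih, List.map_cons, List.prod_cons]; rfl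
    have hin : (⟨tail h, htail h hh⟩ : τ.ker) ∈ K := by
      have hh' := hh
      rw [hab, List.mem_cons, List.mem_singleton] at hh'
      rcases hh' with rfl | rfl
      · exact Subgroup.subset_closure (Or.inl rfl)
      · exact Subgroup.subset_closure (Or.inr rfl)
    have h1 : (QuotientGroup.mk (tail h) : Δ ⧸ N) = 1 :=
      (QuotientGroup.eq_one_iff _).mpr ⟨_, hKA _ hin, rfl⟩
    rw [QuotientGroup.mk_mul, QuotientGroup.mk_inv, mul_inv_eq_one, ← hmk, ← hmk] at h1
    simp only [freeWords, List.map_append, List.prod_append, List.map_cons, List.map_nil,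
      List.prod_cons, List.prod_nil, mul_one] at h1
    exact h1
  have hone := eq_one_of_twoSplit_free (gens := l34Base) (wit := l34Wit) cert3_ok τ' hs' hc'
    (z := QuotientGroup.mk (w : Δ)) (show τ w = 1 from w.2)
    (by
      have h2 := Subgroup.mem_map_of_mem (QuotientGroup.mk' N) (hd w.2)
      rw [commutator_def, Subgroup.map_commutator,
        Subgroup.map_top_of_surjective _ (QuotientGroup.mk'_surjective N)] at h2
      exact h2)
    (by rw [← QuotientGroup.mk_pow, hexp _ w.2]; rfl)
    (fun q hq => by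
      obtain ⟨y, rfl⟩ := hk' q hq
      by_cases hy : y ∈ A
      · exact Or.inl ((QuotientGroup.eq_one_iff _).mpr ⟨y, hy, rfl⟩)
      · right
        refine QuotientGroup.eq.mpr ⟨y⁻¹ * w, ?_, rfl⟩
        refine (Subgroup.mul_mem_iff_of_index_two hAi).mpr ?_
        simp [hy, hw])
    gens_ok l34Tab tab_ok (fun i => (QuotientGroup.mk (G i) : Δ ⧸ N)) hG' hfree cert_ok
    slp_ok.1 slp_ok.2.1 slp_ok.2.2 (d := 315) (by decide +kernel) (by norm_num)
  obtain ⟨y, hy, hye⟩ := (QuotientGroup.eq_one_iff _).mp hone
  exact hw (Subtype.ext hye ▸ hy)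

end Cfsg.Agent.Lib.Recognition.L34Split
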