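import Cfsg.Agent.Lib.Recognition.M23CodeModules

/-!
# Extensions by the cocode module: at most one non-split class

The difference of two extensions with non-zero extra form splits, and a complement in it is the
graph of an isomorphism.
-/

set_option autoImplicit false

namespace Cfsg.Agent.Lib.Recognition.M23Tail

open Cfsg Tail

/-- An extension by the cocode module, presented by a map from words. -/
structure CocodeExt {E : Type*} [Group E] (π : E →* Spor.M23)
    (θ : (GolayPt → ZMod 2) → E) : Prop where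
  surj : Function.Surjective π
  add : ∀ v w, θ (v + w) = θ v * θ w
  range : ∀ e, π e = 1 ↔ ∃ w, θ w = e
  ker : ∀ w, θ w = 1 ↔ (w ∈ golayCode ∨ w + Pi.single none 1 ∈ golayCode)
  conj : ∀ e w, e * θ w = θ (w ∘ ⇑((π e).1.symm)) * e

namespace CocodeExt

variable {E : Type*} [Group E] {π : E →* Spor.M23} {θ : (GolayPt → ZMod 2) → E}

theorem map_zero (h : CocodeExt π θ) : θ 0 = 1 := by
  have := h.add 0 0
  rw [add_zero] at this
  exact mul_eq_left.mp this.symm

theorem sq (h : CocodeExt π θ) (w : GolayPt → ZMod 2) : θ w * θ w = 1 := by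
  rw [← h.add, show w + w = 0 from funext fun p => CharTwo.add_self_eq_zero _, h.map_zero]

theorem inv (h : CocodeExt π θ) (w : GolayPt → ZMod 2) : (θ w)⁻¹ = θ w :=
  inv_eq_of_mul_eq_one_right (h.sq w)

theorem eq_of_sum (h : CocodeExt π θ) {v w : GolayPt → ZMod 2}
    (hs : ∀ k, ∑ p, (v + w) p * ParkerM23.ev k p = 0) : θ v = θ w := by
  have h1 := (h.ker (v + w)).mpr ((dual_ker_iff _).mpr hs)
  rw [h.add, mul_eq_one_iff_eq_inv, h.inv] at h1
  exact h1

theorem eq_dualVec (h : CocodeExt π θ) (w : GolayPt → ZMod 2) :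
    θ w = θ (dualVec fun k => ∑ p, w p * ParkerM23.ev k p) :=
  h.eq_of_sum fun k => by
    simp only [Pi.add_apply, add_mul, Finset.sum_add_distrib, sum_dualVec_ev]
    exact CharTwo.add_self_eq_zero _

theorem setup (h : CocodeExt π θ) :
    Setup CocodeData.cert cocodeG π (fun v => θ (dualVec v)) where
  surj := h.surj
  add v w := by rw [dualVec_add, h.add]
  inj v w e := by
    simp only at e
    have h1 : θ (dualVec v + dualVec w) = 1 := by rw [h.add, e, h.sq]
    have h2 := (dual_ker_iff _).mp ((h.ker _).mp h1)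
    funext k
    have h3 := h2 k
    simp only [Pi.add_apply, add_mul, Finset.sum_add_distrib, sum_dualVec_ev] at h3
    exact CharTwo.add_eq_zero.mp h3
  ker e := by
    constructor
    · intro he
      obtain ⟨w, rfl⟩ := (h.range e).mp he
      exact ⟨_, (h.eq_dualVec w).symm⟩
    · rintro ⟨v, rfl⟩
      exact (h.range _).mpr ⟨_, rfl⟩
  conjX a ha e he v := by
    rw [h.conj, he, h.eq_of_sum (dualVec_conj_ker (cocodeMat_x ha) v)]
  conjG g I hI e he v := by
    rw [h.conj, he, h.eq_of_sum (dualVec_conj_ker (cocodeMat_g hI) v)]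

theorem lamVal_eq_one (h : CocodeExt π θ) [Finite E]
    (hns : ∀ H : Subgroup E, H ⊓ π.ker = ⊥ → H ⊔ π.ker ≠ ⊤) {x : ℕ → E} (hx : IsLift π x)
    {t : ℕ → Vec} (ht : HasTails x (fun v => θ (dualVec v)) t) :
    lamVal CocodeData.cert t = 1 := by
  rcases Compute.zmod2_cases (lamVal CocodeData.cert t) with h0 | h1
  · obtain ⟨H, h2, h3⟩ := exists_complement cocode_good h.setup cocode_gOk hx ht h0
    exact absurd h3 (hns H h2)
  · exact h1

end CocodeExt

section Difference

variable {E E' : Type*} [Group E] [Group E'] {π : E →* Spor.M23} {π' : E' →* Spor.M23}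
  {θ : (GolayPt → ZMod 2) → E} {θ' : (GolayPt → ZMod 2) → E'}

/-- Pairs over the same element of the quotient. -/
def fiberProd (π : E →* Spor.M23) (π' : E' →* Spor.M23) : Subgroup (E × E') :=
  MonoidHom.eqLocus (π.comp (MonoidHom.fst E E')) (π'.comp (MonoidHom.snd E E'))

theorem mem_fiberProd {p : E × E'} : p ∈ fiberProd π π' ↔ π p.1 = π' p.2 := Iff.rfl

/-- The diagonal copy of the module. -/
def diagSub (h : CocodeExt π θ) (h' : CocodeExt π' θ') : Subgroup (fiberProd π π') where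
  carrier := {p | ∃ w, p.1 = (θ w, θ' w)}
  one_mem' := ⟨0, by rw [h.map_zero, h'.map_zero]; rfl⟩
  mul_mem' := by
    rintro p q ⟨v, hv⟩ ⟨w, hw⟩
    exact ⟨v + w, by rw [Subgroup.coe_mul, hv, hw, h.add, h'.add, Prod.mk_mul_mk]⟩
  inv_mem' := by
    rintro p ⟨v, hv⟩
    exact ⟨v, by rw [Subgroup.coe_inv, hv, Prod.inv_mk, h.inv, h'.inv]⟩

theorem diagSub_normal (h : CocodeExt π θ) (h' : CocodeExt π' θ') :
    (diagSub h h').Normal := by
  constructor
  rintro p ⟨w, hw⟩ g
  refine ⟨w ∘ ⇑((π g.1.1).1.symm), Prod.ext ?_ ?_⟩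
  · show g.1.1 * p.1.1 * g.1.1⁻¹ = _
    rw [hw, h.conj, mul_inv_cancel_right]
  · show g.1.2 * p.1.2 * g.1.2⁻¹ = _
    rw [hw, h'.conj, mul_inv_cancel_right, ← mem_fiberProd.mp g.2]

/-- Two non-split extensions are isomorphic. -/
theorem nonempty_mulEquiv [Finite E] [Finite E'] (h : CocodeExt π θ) (h' : CocodeExt π' θ')
    (hns : ∀ H : Subgroup E, H ⊓ π.ker = ⊥ → H ⊔ π.ker ≠ ⊤)
    (hns' : ∀ H : Subgroup E', H ⊓ π'.ker = ⊥ → H ⊔ π'.ker ≠ ⊤) : Nonempty (E ≃* E') := by
  classical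
  haveI := diagSub_normal h h'
  set X := fiberProd π π'
  set Δ := diagSub h h'
  obtain ⟨x, hx⟩ := h.setup.exists_lift
  obtain ⟨x', hx'⟩ := h'.setup.exists_lift
  obtain ⟨t, ht⟩ := h.setup.exists_tails hx
  obtain ⟨t', ht'⟩ := h'.setup.exists_tails hx'
  let πX : X →* Spor.M23 := (π.comp (MonoidHom.fst E E')).comp X.subtype
  let πD : X ⧸ Δ →* Spor.M23 := QuotientGroup.lift Δ πX (by
    rintro p ⟨w, hw⟩
    show π p.1.1 = 1
    rw [hw]
    exact (h.range _).mpr ⟨w, rfl⟩)
  have hmem : ∀ v, ((θ (dualVec v), 1) : E × E') ∈ X := fun v =>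
    mem_fiberProd.mpr (by rw [map_one]; exact (h.range _).mpr ⟨_, rfl⟩)
  let νD : Vec → X ⧸ Δ := fun v => QuotientGroup.mk ⟨(θ (dualVec v), 1), hmem v⟩
  have hnv : ∀ v, θ' (dualVec v) = 1 → v = 0 := fun v hv =>
    h'.setup.inj (show θ' (dualVec v) = θ' (dualVec 0) by rw [hv, h'.setup.map_zero])
  -- moving the second coordinate to the first
  have hshift : ∀ (p : X) (b : Vec) (hq : ((p.1.1 * θ (dualVec b), p.1.2 * θ' (dualVec b)) :
      E × E') ∈ X), (QuotientGroup.mk p : X ⧸ Δ) = QuotientGroup.mk ⟨_, hq⟩ := by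
    intro p b hq
    rw [QuotientGroup.eq]
    exact ⟨dualVec b, Prod.ext (inv_mul_cancel_left _ _) (inv_mul_cancel_left _ _)⟩
  have hker : ∀ v, πD (νD v) = 1 := fun v => (h.range _).mpr ⟨_, rfl⟩
  have hconj : ∀ (M : List ℕ) (σ : Spor.M23), CocodeMat M σ → ∀ q, πD q = σ → ∀ v,
      q * νD v = νD (mapply M v) * q := by
    intro M σ hM q hq v
    obtain ⟨p, rfl⟩ := QuotientGroup.mk_surjective q
    show QuotientGroup.mk (p * _) = QuotientGroup.mk (_ * p)
    congr 1
    refine Subtype.ext (Prod.ext ?_ ?_)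
    · show p.1.1 * θ (dualVec v) = θ (dualVec (mapply M v)) * p.1.1
      rw [h.conj, show π p.1.1 = σ from hq, h.eq_of_sum (dualVec_conj_ker hM v)]
    · show p.1.2 * 1 = 1 * p.1.2
      rw [mul_one, one_mul]
  have SD : Setup CocodeData.cert cocodeG πD νD := by
    refine ⟨fun σ => ?_, fun v w => ?_, fun v w e => ?_, fun q => ?_, ?_, ?_⟩
    · obtain ⟨e, he⟩ := h.surj σ
      obtain ⟨e', he'⟩ := h'.surj σ
      exact ⟨QuotientGroup.mk ⟨(e, e'), mem_fiberProd.mpr (he.trans he'.symm)⟩, he⟩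
    · show (QuotientGroup.mk _ : X ⧸ Δ) = QuotientGroup.mk (_ * _)
      congr 1
      exact Subtype.ext (Prod.ext (h.setup.add v w) (one_mul (1 : E')).symm)
    · obtain ⟨u, hu⟩ := QuotientGroup.eq.mp e
      have h1 : θ' u = 1 := (congrArg Prod.snd hu).symm.trans (by simp)
      have h2 : θ u = 1 := (h.ker u).mpr ((h'.ker u).mp h1)
      have h3 : (θ (dualVec v))⁻¹ * θ (dualVec w) = θ u := congrArg Prod.fst hu
      rw [h2, inv_mul_eq_one] at h3
      exact h.setup.inj h3
    · refine ⟨fun hq => ?_, ?_⟩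
      · obtain ⟨p, rfl⟩ := QuotientGroup.mk_surjective q
        obtain ⟨a, ha⟩ := (h.setup.ker p.1.1).mp hq
        obtain ⟨b, hb⟩ := (h'.setup.ker p.1.2).mp ((mem_fiberProd.mp p.2).symm.trans hq)
        refine ⟨a + b, ((hshift p b (mem_fiberProd.mpr ?_)).trans ?_).symm⟩
        · rw [map_mul, map_mul, mem_fiberProd.mp p.2, (h.range _).mpr ⟨_, rfl⟩,
            (h'.range _).mpr ⟨_, rfl⟩]
        · show _ = QuotientGroup.mk _
          congr 1
          refine Subtype.ext (Prod.ext ?_ ?_)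
          · show p.1.1 * θ (dualVec b) = θ (dualVec (a + b))
            rw [← ha, ← h.add, ← dualVec_add]
          · show p.1.2 * θ' (dualVec b) = 1
            rw [← hb]; exact h'.sq _
      · rintro ⟨v, rfl⟩; exact hker v
    · exact fun a ha e he v => hconj _ _ (cocodeMat_x ha) e he v
    · exact fun g I hI e he v => hconj _ _ (cocodeMat_g hI) e he v
  let xX : ℕ → X := fun a => ⟨(x a, x' a), mem_fiberProd.mpr ((hx.1 a).trans (hx'.1 a).symm)⟩
  have hxD : IsLift πD (fun a => (QuotientGroup.mk (xX a) : X ⧸ Δ)) :=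
    ⟨hx.1, fun a ha => by
      show ((QuotientGroup.mk (xX a)) : X ⧸ Δ) = QuotientGroup.mk 1
      congr 1
      exact Subtype.ext (Prod.ext (hx.2 a ha) (hx'.2 a ha))⟩
  have htD : HasTails (fun a => (QuotientGroup.mk (xX a) : X ⧸ Δ)) νD (fun i => t i + t' i) := by
    intro a b hab hb
    have e1 := ht a b hab hb
    have e2 := ht' a b hab hb
    have hw : ((ruleW a b).map fun c => (QuotientGroup.mk (xX c) : X ⧸ Δ)).prod =
        QuotientGroup.mk ((ruleW a b).map xX).prod := by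
      rw [← QuotientGroup.mk'_apply, map_list_prod, List.map_map]
      rfl
    rw [hw]
    set W := ((ruleW a b).map xX).prod with hW
    have hW1 : W.1.1 = ((ruleW a b).map x).prod := by
      show ((MonoidHom.fst E E').comp X.subtype) W = _
      rw [hW, map_list_prod, List.map_map]; rfl
    have hW2 : W.1.2 = ((ruleW a b).map x').prod := by
      show ((MonoidHom.snd E E').comp X.subtype) W = _
      rw [hW, map_list_prod, List.map_map]; rfl
    show QuotientGroup.mk (xX a * xX b) = QuotientGroup.mk (_ * W)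
    rw [QuotientGroup.eq_iff_div_mem, div_eq_mul_inv]
    refine ⟨dualVec (t' (ridx a b)), Prod.ext ?_ ?_⟩
    · show x a * x b * (θ (dualVec (t (ridx a b) + t' (ridx a b))) * W.1.1)⁻¹ = _
      rw [e1, hW1, mul_inv_rev, ← mul_assoc, mul_inv_cancel_right, h.inv, ← h.add, ← dualVec_add,
        ← add_assoc, add_self_vec, zero_add]
    · show x' a * x' b * (1 * W.1.2)⁻¹ = _
      rw [e2, hW2, one_mul, mul_inv_cancel_right]
  have hl : lamVal CocodeData.cert (fun i => t i + t' i) = 0 := by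
    rw [lamVal]
    simp only [Pi.add_apply]
    rw [evm_add]
    show lamVal CocodeData.cert t + lamVal CocodeData.cert t' = 0
    rw [h.lamVal_eq_one hns hx ht, h'.lamVal_eq_one hns' hx' ht']
    exact CharTwo.add_self_eq_zero 1
  obtain ⟨K, hK1, hK2⟩ := exists_complement cocode_good SD cocode_gOk hxD htD hl
  set S := K.comap (QuotientGroup.mk' Δ) with hS
  have hzero : ∀ v, νD v ∈ K → v = 0 := fun v hv => by
    have := (Subgroup.eq_bot_iff_forall _).mp hK1 _
      (Subgroup.mem_inf.mpr ⟨hv, MonoidHom.mem_ker.mpr (hker v)⟩)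
    exact SD.inj (this.trans SD.map_zero.symm)
  have hsplit : ∀ p : X, ∃ c : Vec, ∀ hq, (⟨(p.1.1 * θ (dualVec c), p.1.2), hq⟩ : X) ∈ S := by
    intro p
    have hm : (QuotientGroup.mk p : X ⧸ Δ) ∈ ((K ⊔ πD.ker : Subgroup _) : Set (X ⧸ Δ)) := by
      rw [hK2]; trivial
    rw [Subgroup.mul_normal] at hm
    obtain ⟨k, hk, n, hn, hkn⟩ := hm
    obtain ⟨c, hc⟩ := (SD.ker n).mp (MonoidHom.mem_ker.mp hn)
    refine ⟨c, fun hq => ?_⟩
    have he : (⟨(p.1.1 * θ (dualVec c), p.1.2), hq⟩ : X) = p * ⟨_, hmem c⟩ :=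
      Subtype.ext (Prod.ext rfl (mul_one _).symm)
    show QuotientGroup.mk _ ∈ K
    rw [he, QuotientGroup.mk_mul, show QuotientGroup.mk ⟨_, hmem c⟩ = n from hc,
      ← show k * n = QuotientGroup.mk p from hkn, mul_assoc,
      show n * n = 1 by rw [← hc, ← SD.add, add_self_vec, SD.map_zero], mul_one]
    exact hk
  have hfixed : ∀ p : X, π p.1.1 = 1 → p ∈ S →
      ∃ a b : Vec, p.1.1 = θ (dualVec a) ∧ p.1.2 = θ' (dualVec b) ∧ a = b := by
    intro p hp hpS
    obtain ⟨a, ha⟩ := (h.setup.ker _).mp hp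
    obtain ⟨b, hb⟩ := (h'.setup.ker _).mp ((mem_fiberProd.mp p.2).symm.trans hp)
    have hq : ((p.1.1 * θ (dualVec b), p.1.2 * θ' (dualVec b)) : E × E') ∈ X :=
      mem_fiberProd.mpr (by
        rw [map_mul, map_mul, mem_fiberProd.mp p.2, (h.range _).mpr ⟨_, rfl⟩,
          (h'.range _).mpr ⟨_, rfl⟩])
    have hmk : νD (a + b) ∈ K := by
      have : (QuotientGroup.mk p : X ⧸ Δ) = νD (a + b) := (hshift p b hq).trans (by
        show _ = QuotientGroup.mk _
        refine congrArg QuotientGroup.mk (Subtype.ext (Prod.ext ?_ ?_))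
        · show p.1.1 * θ (dualVec b) = θ (dualVec (a + b))
          rw [← ha, ← h.add, ← dualVec_add]
        · show p.1.2 * θ' (dualVec b) = 1
          rw [← hb]; exact h'.sq _)
      rw [← this]; exact hpS
    refine ⟨a, b, ha.symm, hb.symm, ?_⟩
    exact funext fun i => CharTwo.add_eq_zero.mp (congrFun (hzero _ hmk) i)
  let p1 : S →* E := ((MonoidHom.fst E E').comp X.subtype).comp S.subtype
  let p2 : S →* E' := ((MonoidHom.snd E E').comp X.subtype).comp S.subtype
  have b1 : Function.Bijective p1 := by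
    constructor
    · rw [← MonoidHom.ker_eq_bot_iff, Subgroup.eq_bot_iff_forall]
      intro s hs
      have hs' : s.1.1.1 = 1 := MonoidHom.mem_ker.mp hs
      obtain ⟨a, b, ha, hb, hab⟩ := hfixed s.1 (by rw [hs', map_one]) s.2
      refine Subtype.ext (Subtype.ext (Prod.ext hs' ?_))
      show s.1.1.2 = 1
      have ha0 : a = 0 := h.setup.inj
        (show θ (dualVec a) = θ (dualVec 0) by rw [← ha, hs', h.setup.map_zero])
      rw [hb, ← hab, ha0]
      exact h'.setup.map_zero
    · intro e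
      obtain ⟨e', he'⟩ := h'.surj (π e)
      let p : X := ⟨(e, e'), mem_fiberProd.mpr he'.symm⟩
      obtain ⟨c, hc⟩ := hsplit p
      have hq : ((e * θ (dualVec c), e') : E × E') ∈ X := mem_fiberProd.mpr (by
        rw [map_mul, (h.range _).mpr ⟨_, rfl⟩, mul_one, he'])
      have hd : ((θ (dualVec c), θ' (dualVec c)) : E × E') ∈ X := mem_fiberProd.mpr (by
        rw [(h.range _).mpr ⟨_, rfl⟩, (h'.range _).mpr ⟨_, rfl⟩])
      have hdS : (⟨_, hd⟩ : X) ∈ S := by
        show QuotientGroup.mk _ ∈ K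
        rw [(QuotientGroup.eq_one_iff _).mpr (show (⟨_, hd⟩ : X) ∈ Δ from ⟨dualVec c, rfl⟩)]
        exact one_mem K
      refine ⟨⟨_, S.mul_mem (hc hq) hdS⟩, ?_⟩
      show e * θ (dualVec c) * θ (dualVec c) = e
      rw [mul_assoc, h.sq, mul_one]
  have b2 : Function.Bijective p2 := by
    constructor
    · rw [← MonoidHom.ker_eq_bot_iff, Subgroup.eq_bot_iff_forall]
      intro s hs
      have hs' : s.1.1.2 = 1 := MonoidHom.mem_ker.mp hs
      obtain ⟨a, b, ha, hb, hab⟩ := hfixed s.1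
        (by rw [mem_fiberProd.mp s.1.2, hs', map_one]) s.2
      refine Subtype.ext (Subtype.ext (Prod.ext ?_ hs'))
      show s.1.1.1 = 1
      rw [ha, hab, hnv b (hb.symm.trans hs')]
      exact h.setup.map_zero
    · intro e'
      obtain ⟨e, he⟩ := h.surj (π' e')
      let p : X := ⟨(e, e'), mem_fiberProd.mpr he⟩
      obtain ⟨c, hc⟩ := hsplit p
      have hq : ((e * θ (dualVec c), e') : E × E') ∈ X := mem_fiberProd.mpr (by
        rw [map_mul, (h.range _).mpr ⟨_, rfl⟩, mul_one, he])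
      exact ⟨⟨_, hc hq⟩, rfl⟩
  exact ⟨(MulEquiv.ofBijective p1 b1).symm.trans (MulEquiv.ofBijective p2 b2)⟩

end Difference

end Cfsg.Agent.Lib.Recognition.M23Tail
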