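import Cfsg.Agent.Lib.Recognition.ParkerM23Code
import Mathlib.LinearAlgebra.Basis.VectorSpace

/-!
# Twisted permutations of the loop over the point stabiliser

An element is a permutation together with a function on the subcode whose coboundary compares
the transported cocycle with the cocycle.
-/

set_option autoImplicit false

namespace Cfsg.Agent.Lib.Recognition.ParkerM23

open Cfsg Cfsg.Agent.Lib.Compute Equiv

theorem comp_mem (π : Spor.M23) (a : cInf) :
    a.1 ∘ ⇑((π : Perm GolayPt).symm) ∈ cInf := by
  refine mem_cInf.mpr ⟨(mem_M24_iff _).mp π.2.1 _ (mem_cInf.mp a.2).1, ?_⟩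
  have hn : (π : Perm GolayPt).symm none = none := by
    rw [Equiv.symm_apply_eq]; exact π.2.2.symm
  simp [Function.comp, hn, (mem_cInf.mp a.2).2]

/-- The action on the subcode. -/
def act (π : Spor.M23) (a : cInf) : cInf := ⟨a.1 ∘ ⇑((π : Perm GolayPt).symm), comp_mem π a⟩

theorem act_add (π : Spor.M23) (a b : cInf) : act π (a + b) = act π a + act π b := rfl

theorem act_one (a : cInf) : act 1 a = a := rfl

theorem act_mul (π π' : Spor.M23) (a : cInf) : act (π * π') a = act π (act π' a) := rfl

theorem act_inv_act (π : Spor.M23) (a : cInf) : act π⁻¹ (act π a) = a := by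
  rw [← act_mul, inv_mul_cancel, act_one]

theorem act_act_inv (π : Spor.M23) (a : cInf) : act π (act π⁻¹ a) = a := by
  rw [← act_mul, mul_inv_cancel, act_one]

/-- The cocycle on the subcode. -/
def th (a b : cInf) : ZMod 2 := theta a.1 b.1

/-- `f` lifts `π` to a twisted permutation. -/
def IsTwist (π : Spor.M23) (f : cInf → ZMod 2) : Prop :=
  ∀ a b, f (a + b) = f a + f b + (th (act π a) (act π b) + th a b)

theorem two_zero : ∀ x : ZMod 2, x + x = 0 := CharTwo.add_self_eq_zero

theorem isTwist_one {f : cInf → ZMod 2} (h : ∀ a b, f (a + b) = f a + f b) : IsTwist 1 f :=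
  fun a b => by rw [h, act_one, act_one, two_zero, add_zero]

theorem isTwist_mul {π π' : Spor.M23} {f f' : cInf → ZMod 2} (h : IsTwist π f)
    (h' : IsTwist π' f') : IsTwist (π * π') (fun a => f (act π' a) + f' a) := fun a b => by
  simp only [act_add, act_mul, h (act π' a) (act π' b), h' a b]
  linear_combination two_zero (th (act π' a) (act π' b))

theorem isTwist_inv {π : Spor.M23} {f : cInf → ZMod 2} (h : IsTwist π f) :
    IsTwist π⁻¹ (fun a => f (act π⁻¹ a)) := fun a b => by
  simp only [act_add, h (act π⁻¹ a) (act π⁻¹ b), act_act_inv]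
  ring

/-- A twisted permutation. -/
@[ext] structure TPerm : Type where
  perm : Spor.M23
  fn : cInf → ZMod 2
  twist : IsTwist perm fn

instance : Group TPerm where
  mul g h := ⟨g.perm * h.perm, fun a => g.fn (act h.perm a) + h.fn a, isTwist_mul g.twist h.twist⟩
  one := ⟨1, fun _ => 0, isTwist_one fun _ _ => (add_zero 0).symm⟩
  inv g := ⟨g.perm⁻¹, fun a => g.fn (act g.perm⁻¹ a), isTwist_inv g.twist⟩
  mul_assoc g h k := TPerm.ext (mul_assoc _ _ _) (funext fun a => by
    show g.fn (act h.perm (act k.perm a)) + h.fn (act k.perm a) + k.fn a =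
      g.fn (act (h.perm * k.perm) a) + (h.fn (act k.perm a) + k.fn a)
    rw [act_mul, add_assoc])
  one_mul g := TPerm.ext (one_mul _) (funext fun a => zero_add _)
  mul_one g := TPerm.ext (mul_one _) (funext fun a => add_zero _)
  inv_mul_cancel g := TPerm.ext (inv_mul_cancel _) (funext fun a => by
    show g.fn (act g.perm⁻¹ (act g.perm a)) + g.fn a = 0
    rw [act_inv_act, two_zero])

theorem mul_fn (g h : TPerm) (a : cInf) : (g * h).fn a = g.fn (act h.perm a) + h.fn a := rfl

theorem one_fn (a : cInf) : (1 : TPerm).fn a = 0 := rfl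

theorem mul_perm (g h : TPerm) : (g * h).perm = g.perm * h.perm := rfl

instance : Finite TPerm :=
  Finite.of_injective (fun g : TPerm => (g.perm, g.fn)) fun g h e => by
    obtain ⟨e1, e2⟩ := Prod.mk.inj e
    exact TPerm.ext e1 e2

theorem fn_zero (g : TPerm) : g.fn 0 = 0 := by
  have h := g.twist 0 0
  have h0 : act g.perm 0 = 0 := rfl
  rw [add_zero, h0, two_zero, two_zero, add_zero] at h
  exact h

theorem th_add_left (a b c : cInf) : th (a + b) c = th a c + th b c := theta_add_left _ _ _

theorem th_add_right (a b c : cInf) : th a (b + c) = th a b + th a c + tri a.1 b.1 c.1 :=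
  theta_add_right a.2 b.2 c.2

theorem th_symm (a b : cInf) : th a b + th b a =
    quart (a + b).1 + quart a.1 + quart b.1 + tri a.1 a.1 b.1 + tri b.1 a.1 b.1 := by
  have h1 : quart (a + b).1 = th (a + b) (a + b) := (theta_self (a + b).2).symm
  rw [h1, ← theta_self a.2, ← theta_self b.2, th_add_left, th_add_right, th_add_right]
  show _ = _ + th a a + th b b + _ + _
  linear_combination -two_zero (th a a) - two_zero (th b b) - two_zero (tri a.1 a.1 b.1) -
    two_zero (tri b.1 a.1 b.1)

theorem tri_act (π : Spor.M23) (a b c : cInf) :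
    tri (act π a).1 (act π b).1 (act π c).1 = tri a.1 b.1 c.1 := tri_comp _ _ _ _

theorem quart_act (π : Spor.M23) (a : cInf) : quart (act π a).1 = quart a.1 := quart_comp _ _

/-- The comparison of the cocycle with its transport. -/
def dif (π : Spor.M23) (a b : cInf) : ZMod 2 := th (act π a) (act π b) + th a b

theorem dif_self (π : Spor.M23) (a : cInf) : dif π a a = 0 := by
  show theta _ _ + theta _ _ = 0
  rw [theta_self (act π a).2, theta_self a.2, quart_act, two_zero]

theorem dif_comm (π : Spor.M23) (a b : cInf) : dif π a b = dif π b a := by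
  have h := th_symm (act π a) (act π b)
  rw [← act_add, quart_act, quart_act, quart_act, tri_act, tri_act, ← th_symm a b] at h
  unfold dif
  linear_combination h - two_zero (th (act π b) (act π a)) + two_zero (th a b)

theorem dif_zero (π : Spor.M23) (a : cInf) : dif π 0 a = 0 := by
  show theta (act π 0).1 _ + theta (0 : cInf).1 _ = 0
  rw [show (act π 0).1 = 0 from rfl, show ((0 : cInf) : GolayPt → ZMod 2) = 0 from rfl,
    theta_zero_left, theta_zero_left, add_zero]

theorem dif_cocycle (π : Spor.M23) (a b c : cInf) :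
    dif π a b + dif π (a + b) c = dif π b c + dif π a (b + c) := by
  simp only [dif, act_add, th_add_left, th_add_right, tri_act]
  linear_combination -two_zero (tri a.1 b.1 c.1)

/-- The elementary abelian extension cut out by the comparison. -/
@[ext] structure Ext (π : Spor.M23) : Type where
  s : ZMod 2
  v : cInf

instance (π : Spor.M23) : Add (Ext π) := ⟨fun x y => ⟨x.s + y.s + dif π x.v y.v, x.v + y.v⟩⟩
instance (π : Spor.M23) : Zero (Ext π) := ⟨⟨0, 0⟩⟩
instance (π : Spor.M23) : Neg (Ext π) := ⟨fun x => x⟩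

instance (π : Spor.M23) : AddCommGroup (Ext π) where
  nsmul := nsmulRec
  zsmul := zsmulRec
  add_assoc x y z := Ext.ext
    (show x.s + y.s + dif π x.v y.v + z.s + dif π (x.v + y.v) z.v =
        x.s + (y.s + z.s + dif π y.v z.v) + dif π x.v (y.v + z.v) by
      linear_combination dif_cocycle π x.v y.v z.v) (add_assoc _ _ _)
  zero_add x := Ext.ext
    (show 0 + x.s + dif π 0 x.v = x.s by rw [dif_zero, zero_add, add_zero]) (zero_add _)
  add_zero x := Ext.ext
    (show x.s + 0 + dif π x.v 0 = x.s by rw [dif_comm, dif_zero, add_zero, add_zero]) (add_zero _)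
  neg_add_cancel x := Ext.ext
    (show x.s + x.s + dif π x.v x.v = 0 by rw [dif_self, two_zero, add_zero])
    (show x.v + x.v = 0 from Subtype.ext (funext fun _ => two_zero _))
  add_comm x y := Ext.ext
    (show x.s + y.s + dif π x.v y.v = y.s + x.s + dif π y.v x.v by
      rw [dif_comm]; ring) (add_comm _ _)

theorem exists_twist (π : Spor.M23) : ∃ f, IsTwist π f := by
  letI : Module (ZMod 2) (Ext π) := AddCommGroup.zmodModule fun x => by
    rw [two_nsmul]; exact neg_add_cancel x
  let pr : Ext π →+ cInf := AddMonoidHom.mk' Ext.v fun _ _ => rfl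
  obtain ⟨sec, hsec⟩ := (pr.toZModLinearMap 2).exists_rightInverse_of_surjective
    (LinearMap.range_eq_top.mpr fun a => ⟨⟨0, a⟩, rfl⟩)
  refine ⟨fun a => (sec a).s, fun a b => ?_⟩
  have hv : ∀ a, (sec a).v = a := fun a => LinearMap.congr_fun hsec a
  show (sec (a + b)).s = _
  rw [map_add]
  show (sec a).s + (sec b).s + dif π (sec a).v (sec b).v = _
  rw [hv, hv]
  rfl

/-- Forgetting the function. -/
def proj : TPerm →* Spor.M23 where
  toFun g := g.perm
  map_one' := rfl
  map_mul' _ _ := rfl

theorem proj_surjective : Function.Surjective proj := fun π => by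
  obtain ⟨f, hf⟩ := exists_twist π
  exact ⟨⟨π, f, hf⟩, rfl⟩

/-- The diagonal automorphism of a word. -/
def diag (w : GolayPt → ZMod 2) : TPerm :=
  ⟨1, fun a => ∑ p, w p * a.1 p, isTwist_one fun a b => by
    simp [mul_add, Finset.sum_add_distrib]⟩

theorem diag_mem (w : GolayPt → ZMod 2) : diag w ∈ proj.ker := rfl

/-- The words, as elements of the kernel. -/
def diagHom : (GolayPt → ZMod 2) →+ Additive proj.ker :=
  AddMonoidHom.mk' (fun w => Additive.ofMul (⟨diag w, diag_mem w⟩ : proj.ker)) fun v w =>
    Additive.toMul.injective (Subtype.ext (TPerm.ext (one_mul (1 : Spor.M23)).symm (funext fun a =>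
      show (∑ p, (v + w) p * a.1 p) = (∑ p, v p * (act 1 a).1 p) + ∑ p, w p * a.1 p by
        simp [act_one, add_mul, Finset.sum_add_distrib])))

theorem diagHom_val (w : GolayPt → ZMod 2) : ((diagHom w).toMul : TPerm) = diag w := rfl

theorem diagHom_surjective : Function.Surjective diagHom := by
  intro n
  obtain ⟨⟨g, hg⟩, rfl⟩ := Additive.ofMul.surjective n
  have hp : g.perm = 1 := hg
  have hlin : ∀ a b, g.fn (a + b) = g.fn a + g.fn b := fun a b => by
    rw [g.twist a b, hp, act_one, act_one, two_zero, add_zero]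
  refine ⟨∑ i, g.fn ⟨ev i, ev_mem i⟩ • Pi.single (pos i) 1,
    Additive.toMul.injective (Subtype.ext ?_)⟩
  generalize hw : (∑ i, g.fn ⟨ev i, ev_mem i⟩ • Pi.single (pos i) (1 : ZMod 2) :
    GolayPt → ZMod 2) = w
  rw [diagHom_val, toMul_ofMul]
  refine TPerm.ext hp.symm (funext fun a => ?_)
  simp only [diag]
  subst hw
  let F : cInf →+ ZMod 2 := AddMonoidHom.mk' g.fn hlin
  have ha : a = ∑ i, a.1 (pos i) • (⟨ev i, ev_mem i⟩ : cInf) := by
    refine Subtype.ext ?_
    rw [AddSubmonoidClass.coe_finsetSum]
    exact expand a.2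
  rw [show g.fn a = F a from rfl]
  conv_rhs => rw [ha, map_sum]
  simp only [Finset.sum_apply, Pi.smul_apply, smul_eq_mul, Finset.sum_mul]
  rw [Finset.sum_comm]
  refine Finset.sum_congr rfl fun i _ => ?_
  rw [Finset.sum_eq_single (pos i) (fun p _ hp' => by simp [Pi.single_eq_of_ne hp']) (by simp)]
  rcases zmod2_cases (a.1 (pos i)) with h | h <;> simp [h, F, fn_zero]

theorem diag_eq_one_iff (w : GolayPt → ZMod 2) :
    diag w = 1 ↔ ∀ a ∈ cInf, ∑ p, w p * a p = 0 :=
  ⟨fun h a ha => congrFun (congrArg TPerm.fn h) ⟨a, ha⟩,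
    fun h => TPerm.ext rfl (funext fun a => h a.1 a.2)⟩

theorem diag_eq_one_iff_mem (w : GolayPt → ZMod 2) :
    diag w = 1 ↔ (w ∈ golayCode ∨ w + Pi.single none 1 ∈ golayCode) := by
  rw [diag_eq_one_iff]
  constructor
  · intro h
    have hb := wordOf_mem_of_inCode (dualT_ok 11).2
    set c := wordOf (bT 11) with hc
    have hcn : c none = 1 := by
      rw [hc, wordOf_none, if_pos (by decide +kernel)]
    set α := ∑ p, w p * c p with hα
    have key : w + α • (Pi.single none 1 : GolayPt → ZMod 2) ∈ golayCode := by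
      refine mem_golayCode_of_orth fun a ha => ?_
      have hs : ∀ b : GolayPt → ZMod 2, ∑ p, (Pi.single none 1 : GolayPt → ZMod 2) p * b p =
          b none := fun b => by
        rw [Finset.sum_eq_single none (fun p _ hp => by simp [Pi.single_eq_of_ne hp]) (by simp)]
        simp
      have hsum : ∑ p, (w + α • (Pi.single none 1 : GolayPt → ZMod 2)) p * a p =
          ∑ p, w p * a p + α * a none := by
        simp [add_mul, Finset.sum_add_distrib, mul_assoc, ← Finset.mul_sum, hs]
      have h' := h (a + a none • c) (mem_cInf.mpr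
        ⟨add_mem ha (Submodule.smul_mem _ _ hb), by simp [hcn, two_zero]⟩)
      simp only [Pi.add_apply, Pi.smul_apply, smul_eq_mul, mul_add, Finset.sum_add_distrib,
        mul_left_comm _ (a none), ← Finset.mul_sum, ← hα] at h'
      rw [hsum]; linear_combination h'
    rcases zmod2_cases α with hz | hz <;> rw [hz] at key
    · left; simpa using key
    · right; simpa using key
  · intro h a ha
    obtain ⟨hac, han⟩ := mem_cInf.mp ha
    rcases h with h | h
    · exact golayCode_orth h hac
    · have h2 := golayCode_orth h hac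
      simp only [Pi.add_apply, add_mul, Finset.sum_add_distrib] at h2
      rw [Finset.sum_eq_single none (f := fun p => (Pi.single none 1 : GolayPt → ZMod 2) p * a p)
        (fun p _ hp => by simp [Pi.single_eq_of_ne hp]) (by simp)] at h2
      simpa [han] using h2

theorem diag_conj (g : TPerm) (w : GolayPt → ZMod 2) :
    diag (w ∘ ⇑((g.perm : Perm GolayPt).symm)) = g * diag w * g⁻¹ := by
  refine TPerm.ext ?_ (funext fun a => ?_)
  · show (1 : Spor.M23) = g.perm * 1 * g.perm⁻¹
    rw [mul_one, mul_inv_cancel]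
  · show ∑ p, w ((g.perm : Perm GolayPt).symm p) * a.1 p =
      g.fn (act 1 (act g.perm⁻¹ a)) + ∑ p, w p * (act g.perm⁻¹ a).1 p + g.fn (act g.perm⁻¹ a)
    rw [act_one, add_right_comm, two_zero, zero_add]
    conv_lhs => rw [← Equiv.sum_comp (g.perm : Perm GolayPt)]
    refine Finset.sum_congr rfl fun p _ => ?_
    simp [act, Perm.inv_def]

end Cfsg.Agent.Lib.Recognition.ParkerM23
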