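import Cfsg.Agent.Lib.Recognition.TailCertSound
import Cfsg.Agent.Lib.Recognition.TailCertCodeData
import Cfsg.Agent.Lib.Recognition.TailCertCocodeData
import Cfsg.Agent.Lib.Recognition.ParkerM23

/-!
# The two certified modules: the subcode and its dual
-/

set_option autoImplicit false

namespace Cfsg.Agent.Lib.Recognition.M23Tail

open Cfsg Tail Cfsg.Agent.Lib.Compute
open ParkerM23 (cInf ev pos)

theorem code_good : CodeData.cert.Good where
  forms := by decide +kernel
  targets := by decide +kernel
  range := by decide +kernel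
  starts := by decide +kernel

theorem cocode_good : CocodeData.cert.Good where
  forms := by decide +kernel
  targets := by decide +kernel
  range := by decide +kernel
  starts := by decide +kernel

theorem code_lam : CodeData.cert.lam = 0 := by decide +kernel

/-- The conjugating elements of the code certificate. -/
theorem code_gTab_ok : ∀ g : Fin 3, tabOk (CodeData.gTab.getD g []) (CodeData.giTab.getD g []) := by
  decide +kernel

/-- The conjugating elements of the cocode certificate. -/
theorem cocode_gTab_ok : ∀ g : Fin 2,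
    tabOk (CocodeData.gTab.getD g []) (CocodeData.giTab.getD g []) := by
  decide +kernel

/-- The conjugating elements of the code certificate. -/
def codeG (g : ℕ) : Spor.M23 := if h : g < 3 then tabElt _ _ (code_gTab_ok ⟨g, h⟩) else 1

/-- The conjugating elements of the cocode certificate. -/
def cocodeG (g : ℕ) : Spor.M23 := if h : g < 2 then tabElt _ _ (cocode_gTab_ok ⟨g, h⟩) else 1

/-- A point-wise form of the relations between the conjugating elements and the words. -/
def gCheck (D : Cert) (gT : List (List ℕ)) : Prop :=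
  ∀ g : Fin D.infos.length, ∀ k : Fin (D.infos[g]).ys.length,
    (∀ a ∈ (D.infos[g]).ys.getD k [] ++ (D.infos[g]).vs.getD k [], a < 7) ∧
    ∀ p, tmap (gT.getD g []) (wordMap ((D.infos[g]).ys.getD k []) p) =
      wordMap ((D.infos[g]).vs.getD k []) (tmap (gT.getD g []) p)

theorem code_gCheck : gCheck CodeData.cert CodeData.gTab := by
  unfold gCheck; decide +kernel

theorem cocode_gCheck : gCheck CocodeData.cert CocodeData.gTab := by
  unfold gCheck; decide +kernel

theorem gOk_of_check {D : Cert} {gT : List (List ℕ)} {gel : ℕ → Spor.M23}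
    (hc : gCheck D gT) (happ : ∀ g < D.infos.length, ∀ p, (gel g).1 p = tmap (gT.getD g []) p) :
    GOk D gel := by
  intro g I hI k hk
  obtain ⟨hg, rfl⟩ := List.getElem?_eq_some_iff.mp hI
  obtain ⟨h1, h2⟩ := hc ⟨g, hg⟩ ⟨k, hk⟩
  simp only [Fin.getElem_fin] at h1 h2
  refine Subtype.ext (Equiv.ext fun p => ?_)
  rw [Subgroup.coe_mul, Subgroup.coe_mul, Equiv.Perm.mul_apply, Equiv.Perm.mul_apply,
    word_apply _ (fun a ha => h1 a (List.mem_append_left _ ha)),
    word_apply _ (fun a ha => h1 a (List.mem_append_right _ ha)), happ g hg, happ g hg]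
  exact h2 p

theorem code_infos_length : CodeData.cert.infos.length = 3 := by decide +kernel

theorem cocode_infos_length : CocodeData.cert.infos.length = 2 := by decide +kernel

theorem code_gOk : GOk CodeData.cert codeG :=
  gOk_of_check code_gCheck fun g hg p => by
    rw [code_infos_length] at hg
    rw [codeG, dif_pos hg]; rfl

theorem cocode_gOk : GOk CocodeData.cert cocodeG :=
  gOk_of_check cocode_gCheck fun g hg p => by
    rw [cocode_infos_length] at hg
    rw [cocodeG, dif_pos hg]; rfl

/-! ## Matrices -/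

/-- The matrix `M` describes `σ` on the subcode. -/
def CodeMat (M : List ℕ) (σ : Spor.M23) : Prop :=
  ∀ i j : Fin 11, ev j (σ.1.symm (pos i)) = if (M.getD j 0).testBit i then 1 else 0

/-- The matrix `M` describes `σ` on the dual. -/
def CocodeMat (M : List ℕ) (σ : Spor.M23) : Prop :=
  ∀ i j : Fin 11, ev i (σ.1 (pos j)) = if (M.getD j 0).testBit i then 1 else 0

theorem code_xmat : ∀ a : Fin 7, ∀ i j : Fin 11,
    ev j (tmap (xiTab.getD a []) (pos i)) =
      if ((CodeData.mats.getD a []).getD j 0).testBit i then 1 else 0 := by decide +kernel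

theorem cocode_xmat : ∀ a : Fin 7, ∀ i j : Fin 11,
    ev i (tmap (xTab.getD a []) (pos j)) =
      if ((CocodeData.mats.getD a []).getD j 0).testBit i then 1 else 0 := by decide +kernel

theorem code_gmat : ∀ g : Fin CodeData.cert.infos.length, ∀ i j : Fin 11,
    ev j (tmap (CodeData.giTab.getD g []) (pos i)) =
      if ((CodeData.cert.infos[g]).gmat.getD j 0).testBit i then 1 else 0 := by decide +kernel

theorem cocode_gmat : ∀ g : Fin CocodeData.cert.infos.length, ∀ i j : Fin 11,
    ev i (tmap (CocodeData.gTab.getD g []) (pos j)) =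
      if ((CocodeData.cert.infos[g]).gmat.getD j 0).testBit i then 1 else 0 := by decide +kernel

theorem codeMat_x {a : ℕ} (ha : a < 7) : CodeMat (CodeData.cert.mats.getD a []) (xel a) :=
  fun i j => by
    rw [xel, dif_pos ha]
    exact code_xmat ⟨a, ha⟩ i j

theorem cocodeMat_x {a : ℕ} (ha : a < 7) : CocodeMat (CocodeData.cert.mats.getD a []) (xel a) :=
  fun i j => by
    rw [xel, dif_pos ha]
    exact cocode_xmat ⟨a, ha⟩ i j

theorem codeMat_g {g : ℕ} {I : GInfo} (hI : CodeData.cert.infos[g]? = some I) :
    CodeMat I.gmat (codeG g) := fun i j => by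
  obtain ⟨hg, rfl⟩ := List.getElem?_eq_some_iff.mp hI
  rw [codeG, dif_pos (code_infos_length ▸ hg)]
  exact code_gmat ⟨g, hg⟩ i j

theorem cocodeMat_g {g : ℕ} {I : GInfo} (hI : CocodeData.cert.infos[g]? = some I) :
    CocodeMat I.gmat (cocodeG g) := fun i j => by
  obtain ⟨hg, rfl⟩ := List.getElem?_eq_some_iff.mp hI
  rw [cocodeG, dif_pos (cocode_infos_length ▸ hg)]
  exact cocode_gmat ⟨g, hg⟩ i j

/-- The subcode word with coordinates `v`. -/
def codeVec (v : Vec) : GolayPt → ZMod 2 := ∑ i, v i • ev i

/-- A representative of the functional with coordinates `v`. -/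
def dualVec (v : Vec) : GolayPt → ZMod 2 := ∑ i, v i • Pi.single (pos i) 1

theorem codeVec_mem (v : Vec) : codeVec v ∈ cInf :=
  Submodule.sum_mem _ fun i _ => Submodule.smul_mem _ _ (ParkerM23.ev_mem i)

theorem codeVec_pos (v : Vec) (i : Fin 11) : codeVec v (pos i) = v i := by
  simp [codeVec, ev, Finset.sum_apply, ParkerM23.ev_pos]

theorem codeVec_add (v w : Vec) : codeVec (v + w) = codeVec v + codeVec w := by
  simp [codeVec, add_smul, Finset.sum_add_distrib]

theorem dualVec_add (v w : Vec) : dualVec (v + w) = dualVec v + dualVec w := by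
  simp [dualVec, add_smul, Finset.sum_add_distrib]

theorem codeVec_conj {M : List ℕ} {σ : Spor.M23} (h : CodeMat M σ) (v : Vec) :
    codeVec v ∘ ⇑σ.1.symm = codeVec (mapply M v) := by
  refine sub_eq_zero.mp (ParkerM23.eq_zero_of_pivots
    (sub_mem (ParkerM23.comp_mem σ ⟨codeVec v, codeVec_mem v⟩) (codeVec_mem _)) fun i => ?_)
  rw [Pi.sub_apply, codeVec_pos, Function.comp_apply, sub_eq_zero, codeVec, Finset.sum_apply,
    mapply]
  refine Finset.sum_congr rfl fun j _ => ?_
  rw [Pi.smul_apply, h i j]
  split <;> simp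

theorem sum_dualVec (v : Vec) (f : GolayPt → ZMod 2) :
    ∑ p, dualVec v p * f p = ∑ i, v i * f (pos i) := by
  simp only [dualVec, Finset.sum_apply, Pi.smul_apply, smul_eq_mul, Finset.sum_mul]
  rw [Finset.sum_comm]
  refine Finset.sum_congr rfl fun i _ => ?_
  rw [Finset.sum_eq_single (pos i) (fun p _ hp => by simp [Pi.single_eq_of_ne hp]) (by simp)]
  simp

theorem sum_dualVec_ev (v : Vec) (k : Fin 11) : ∑ p, dualVec v p * ev k p = v k := by
  rw [sum_dualVec]
  simp [ev, ParkerM23.ev_pos]

/-- Membership in the code or its translate, tested on the basis. -/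
theorem dual_ker_iff (w : GolayPt → ZMod 2) :
    (w ∈ golayCode ∨ w + Pi.single none 1 ∈ golayCode) ↔ ∀ k, ∑ p, w p * ev k p = 0 := by
  rw [← ParkerM23.diag_eq_one_iff_mem, ParkerM23.diag_eq_one_iff]
  refine ⟨fun h k => h _ (ParkerM23.ev_mem k), fun h a ha => ?_⟩
  rw [ParkerM23.expand ha]
  simp only [Finset.sum_apply, Pi.smul_apply, smul_eq_mul, Finset.mul_sum]
  rw [Finset.sum_comm]
  refine Finset.sum_eq_zero fun i _ => ?_
  simp [mul_left_comm _ (a (pos i)), ← Finset.mul_sum, h i]

theorem dualVec_conj_ker {M : List ℕ} {σ : Spor.M23} (h : CocodeMat M σ) (v : Vec) (k : Fin 11) :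
    ∑ p, (dualVec v ∘ ⇑σ.1.symm + dualVec (mapply M v)) p * ev k p = 0 := by
  simp only [Pi.add_apply, add_mul, Finset.sum_add_distrib, sum_dualVec_ev]
  have h1 : ∑ p, (dualVec v ∘ ⇑σ.1.symm) p * ev k p = mapply M v k := by
    rw [← Equiv.sum_comp σ.1]
    simp only [Function.comp_apply, Equiv.symm_apply_apply]
    rw [sum_dualVec, mapply]
    refine Finset.sum_congr rfl fun j _ => ?_
    rw [h k j]
    split <;> simp
  rw [h1, CharTwo.add_self_eq_zero]

end Cfsg.Agent.Lib.Recognition.M23Tail
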