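import Cfsg.Agent.Lib.Recognition.TailCertCheck
import Cfsg.Agent.Lib.Compute.GolayFacts
import Cfsg.Prelude.Def_Spor_Mathieu

/-!
# The seven generators as elements of the point stabiliser
-/

set_option autoImplicit false

namespace Cfsg.Agent.Lib.Recognition.M23Tail

open Cfsg Cfsg.Agent.Lib.Compute Equiv

/-- The map of points given by a table. -/
def tmap (T : List ℕ) (p : GolayPt) : GolayPt :=
  enc.symm ⟨T.getD (enc p : Fin 24) 0 % 24, Nat.mod_lt _ (by decide)⟩

/-- A table as a packed permutation. -/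
def packTab (T : List ℕ) : ℕ := T.foldr (fun v acc => v + 2 ^ 16 * acc) 0

/-- The conditions on a table and its inverse. -/
def tabOk (T U : List ℕ) : Prop :=
  (∀ p : GolayPt, tmap U (tmap T p) = p ∧ tmap T (tmap U p) = p ∧
    ((enc (tmap T p) : Fin 24) : ℕ) = app (packTab T) (enc p)) ∧
  presOk (packTab T) = true ∧ tmap T none = none

instance (T U : List ℕ) : Decidable (tabOk T U) := by unfold tabOk; infer_instance

/-- The element of the stabiliser given by a good table. -/
def tabElt (T U : List ℕ) (h : tabOk T U) : Spor.M23 :=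
  ⟨⟨tmap T, tmap U, fun p => (h.1 p).1, fun p => (h.1 p).2.1⟩,
    mem_M24_of_app (P := packTab T) h.2.1 fun p => (h.1 p).2.2, h.2.2⟩

theorem xTab_ok : ∀ k : Fin 7, tabOk (xTab.getD k []) (xiTab.getD k []) := by decide +kernel

/-- The generators. -/
def xel (a : ℕ) : Spor.M23 :=
  if h : a < 7 then tabElt _ _ (xTab_ok ⟨a, h⟩) else 1

/-- The action of a word on points. -/
def wordMap (w : List ℕ) (p : GolayPt) : GolayPt :=
  w.foldr (fun a q => tmap (xTab.getD a []) q) p

theorem word_apply : ∀ (w : List ℕ), (∀ a ∈ w, a < 7) → ∀ p : GolayPt,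
    ((w.map xel).prod : Spor.M23).1 p = wordMap w p := by
  intro w
  induction w with
  | nil => intro _ p; rfl
  | cons a w ih =>
    intro hw p
    rw [List.map_cons, List.prod_cons, Subgroup.coe_mul, Perm.mul_apply,
      ih (fun b hb => hw b (List.mem_cons_of_mem _ hb))]
    rw [xel, dif_pos (hw a List.mem_cons_self)]
    rfl

theorem word_eq {v w : List ℕ} (hv : ∀ a ∈ v, a < 7) (hw : ∀ a ∈ w, a < 7)
    (h : ∀ p, wordMap v p = wordMap w p) : (v.map xel).prod = (w.map xel).prod :=
  Subtype.ext (Equiv.ext fun p => by rw [word_apply v hv, word_apply w hw, h])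

theorem rules_check : ∀ a b : Fin 7, a ≤ b →
    (∀ c ∈ ruleW a b, c < 7) ∧ ∀ p, wordMap [(a : ℕ), b] p = wordMap (ruleW a b) p := by
  decide +kernel

theorem xel_rule {a b : ℕ} (hab : a ≤ b) (hb : b < 7) :
    xel a * xel b = ((ruleW a b).map xel).prod := by
  obtain ⟨h1, h2⟩ := rules_check ⟨a, by omega⟩ ⟨b, hb⟩ hab
  have := word_eq (v := [a, b]) (by intro c hc; simp at hc; omega) h1 h2
  simpa using this

theorem ridx_inj : ∀ a b c d : Fin 7, a ≤ b → c ≤ d →
    ridx a b = ridx c d → a = c ∧ b = d := by decide +kernel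

theorem ridx_lt : ∀ a b : Fin 7, a ≤ b → ridx a b < 28 := by decide +kernel

theorem nf_range : ∀ n ∈ nfTab, ∀ a ∈ n, a < 7 := by decide +kernel

theorem nf_nil : [] ∈ nfTab := by decide +kernel

/-- The code of the permutation of a word. -/
def nfKey (n : List ℕ) : ℕ :=
  (List.range 24).foldr
    (fun i acc => (if h : i < 24 then ((enc (wordMap n (enc.symm ⟨i, h⟩)) : Fin 24) : ℕ) else 0) +
      32 * acc) 0

theorem nfKey_nodup : (nfTab.map nfKey).Nodup := by decide +kernel

theorem nf_length : nfTab.length = 128 := by decide +kernel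

end Cfsg.Agent.Lib.Recognition.M23Tail
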