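import Cfsg.Agent.Lib.Recognition.CertFast
import Cfsg.Agent.Lib.Recognition.McLCertData

/-!
# Kernel evaluation of `mclCert`
-/

set_option autoImplicit false
set_option maxRecDepth 100000
set_option maxHeartbeats 0
set_option Elab.async false

namespace Cfsg.Agent.Lib.Recognition.McLOut

open Cfsg.Agent.Lib.Compute Cfsg.Agent.Lib.Recognition.CertFast

theorem mclCert0_rest : lvlRest 275 mclCert0 [mclCert1, mclCert2, mclCert3, mclCert4] = true := by decide +kernel

theorem mclCert0_wit0 : witPart 275 mclCert0 [mclCert1, mclCert2, mclCert3, mclCert4] 0 1 = true := by decide +kernel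

theorem mclCert0_wit1 : witPart 275 mclCert0 [mclCert1, mclCert2, mclCert3, mclCert4] 1 2 = true := by decide +kernel

theorem mclCert0_wit2 : witPart 275 mclCert0 [mclCert1, mclCert2, mclCert3, mclCert4] 2 3 = true := by decide +kernel

theorem mclCert0_wit3 : witPart 275 mclCert0 [mclCert1, mclCert2, mclCert3, mclCert4] 3 4 = true := by decide +kernel

theorem mclCert0_wit4 : witPart 275 mclCert0 [mclCert1, mclCert2, mclCert3, mclCert4] 4 5 = true := by decide +kernel

theorem mclCert0_wit5 : witPart 275 mclCert0 [mclCert1, mclCert2, mclCert3, mclCert4] 5 6 = true := by decide +kernel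

theorem mclCert0_ok : lvlFast 275 mclCert0 [mclCert1, mclCert2, mclCert3, mclCert4] = true := by
  refine lvlFast_of_parts mclCert0_rest fun s hs => ?_
  change s < 6 at hs
  interval_cases s
  · exact mclCert0_wit0
  · exact mclCert0_wit1
  · exact mclCert0_wit2
  · exact mclCert0_wit3
  · exact mclCert0_wit4
  · exact mclCert0_wit5

theorem mclCert1_rest : lvlRest 275 mclCert1 [mclCert2, mclCert3, mclCert4] = true := by decide +kernel

theorem mclCert1_wit0 : witPart 275 mclCert1 [mclCert2, mclCert3, mclCert4] 0 1 = true := by decide +kernel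

theorem mclCert1_wit1 : witPart 275 mclCert1 [mclCert2, mclCert3, mclCert4] 1 2 = true := by decide +kernel

theorem mclCert1_wit2 : witPart 275 mclCert1 [mclCert2, mclCert3, mclCert4] 2 3 = true := by decide +kernel

theorem mclCert1_wit3 : witPart 275 mclCert1 [mclCert2, mclCert3, mclCert4] 3 4 = true := by decide +kernel

theorem mclCert1_wit4 : witPart 275 mclCert1 [mclCert2, mclCert3, mclCert4] 4 5 = true := by decide +kernel

theorem mclCert1_ok : lvlFast 275 mclCert1 [mclCert2, mclCert3, mclCert4] = true := by
  refine lvlFast_of_parts mclCert1_rest fun s hs => ?_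
  change s < 5 at hs
  interval_cases s
  · exact mclCert1_wit0
  · exact mclCert1_wit1
  · exact mclCert1_wit2
  · exact mclCert1_wit3
  · exact mclCert1_wit4

theorem mclCert2_rest : lvlRest 275 mclCert2 [mclCert3, mclCert4] = true := by decide +kernel

theorem mclCert2_wit0 : witPart 275 mclCert2 [mclCert3, mclCert4] 0 1 = true := by decide +kernel

theorem mclCert2_wit1 : witPart 275 mclCert2 [mclCert3, mclCert4] 1 2 = true := by decide +kernel

theorem mclCert2_wit2 : witPart 275 mclCert2 [mclCert3, mclCert4] 2 3 = true := by decide +kernel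

theorem mclCert2_wit3 : witPart 275 mclCert2 [mclCert3, mclCert4] 3 4 = true := by decide +kernel

theorem mclCert2_ok : lvlFast 275 mclCert2 [mclCert3, mclCert4] = true := by
  refine lvlFast_of_parts mclCert2_rest fun s hs => ?_
  change s < 4 at hs
  interval_cases s
  · exact mclCert2_wit0
  · exact mclCert2_wit1
  · exact mclCert2_wit2
  · exact mclCert2_wit3

theorem mclCert3_rest : lvlRest 275 mclCert3 [mclCert4] = true := by decide +kernel

theorem mclCert3_wit0 : witPart 275 mclCert3 [mclCert4] 0 1 = true := by decide +kernel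

theorem mclCert3_wit1 : witPart 275 mclCert3 [mclCert4] 1 2 = true := by decide +kernel

theorem mclCert3_wit2 : witPart 275 mclCert3 [mclCert4] 2 3 = true := by decide +kernel

theorem mclCert3_ok : lvlFast 275 mclCert3 [mclCert4] = true := by
  refine lvlFast_of_parts mclCert3_rest fun s hs => ?_
  change s < 3 at hs
  interval_cases s
  · exact mclCert3_wit0
  · exact mclCert3_wit1
  · exact mclCert3_wit2

theorem mclCert4_rest : lvlRest 275 mclCert4 [] = true := by decide +kernel

theorem mclCert4_wit0 : witPart 275 mclCert4 [] 0 1 = true := by decide +kernel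

theorem mclCert4_wit1 : witPart 275 mclCert4 [] 1 2 = true := by decide +kernel

theorem mclCert4_ok : lvlFast 275 mclCert4 [] = true := by
  refine lvlFast_of_parts mclCert4_rest fun s hs => ?_
  change s < 2 at hs
  interval_cases s
  · exact mclCert4_wit0
  · exact mclCert4_wit1

theorem mclCert_ok : chk 275 mclCert = true :=
  (chk_cons_of_fast mclCert0_ok
    (chk_cons_of_fast mclCert1_ok
    (chk_cons_of_fast mclCert2_ok
    (chk_cons_of_fast mclCert3_ok
    (chk_cons_of_fast mclCert4_ok
    rfl)))))

end Cfsg.Agent.Lib.Recognition.McLOut
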