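import Cfsg.Agent.Lib.Recognition.CertRebase
import Cfsg.Agent.Lib.Recognition.McLCertCheck
import Cfsg.Agent.Lib.Recognition.McLCertCData

/-!
# Kernel evaluation of `mclCertC` against the first base
-/

set_option autoImplicit false
set_option maxRecDepth 100000
set_option maxHeartbeats 0

namespace Cfsg.Agent.Lib.Recognition.McLOut

open Cfsg.Agent.Lib.Compute Cfsg.Agent.Lib.Recognition.CertFast Cfsg.Agent.Lib.Recognition.CertRebase

theorem mclCertC0_sub : subOk 275 mclCert (mclCertC0 :: [mclCertC1, mclCertC2, mclCertC3, mclCertC4]) mclCertCInto = true := by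
  decide +kernel

theorem mclCertC0_ok : (lvlRest 275 mclCertC0 [mclCertC1, mclCertC2, mclCertC3, mclCertC4] && witBase mclCert mclCertC0 [mclCertC1, mclCertC2, mclCertC3, mclCertC4]) = true := by
  decide +kernel

theorem mclCertC1_sub : subOk 275 mclCert (mclCertC1 :: [mclCertC2, mclCertC3, mclCertC4]) mclCertCInto = true := by
  decide +kernel

theorem mclCertC1_ok : (lvlRest 275 mclCertC1 [mclCertC2, mclCertC3, mclCertC4] && witBase mclCert mclCertC1 [mclCertC2, mclCertC3, mclCertC4]) = true := by
  decide +kernel

theorem mclCertC2_sub : subOk 275 mclCert (mclCertC2 :: [mclCertC3, mclCertC4]) mclCertCInto = true := by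
  decide +kernel

theorem mclCertC2_ok : (lvlRest 275 mclCertC2 [mclCertC3, mclCertC4] && witBase mclCert mclCertC2 [mclCertC3, mclCertC4]) = true := by
  decide +kernel

theorem mclCertC3_sub : subOk 275 mclCert (mclCertC3 :: [mclCertC4]) mclCertCInto = true := by
  decide +kernel

theorem mclCertC3_ok : (lvlRest 275 mclCertC3 [mclCertC4] && witBase mclCert mclCertC3 [mclCertC4]) = true := by
  decide +kernel

theorem mclCertC4_sub : subOk 275 mclCert (mclCertC4 :: []) mclCertCInto = true := by
  decide +kernel

theorem mclCertC4_ok : (lvlRest 275 mclCertC4 [] && witBase mclCert mclCertC4 []) = true := by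
  decide +kernel

theorem mclCertC_ok : chk 275 mclCertC = true :=
  (chk_cons_of_base mclCert_ok mclCertC0_sub
    (chk_cons_of_base mclCert_ok mclCertC1_sub
    (chk_cons_of_base mclCert_ok mclCertC2_sub
    (chk_cons_of_base mclCert_ok mclCertC3_sub
    (chk_cons_of_base mclCert_ok mclCertC4_sub
    rfl mclCertC4_ok) mclCertC3_ok) mclCertC2_ok) mclCertC1_ok) mclCertC0_ok)

end Cfsg.Agent.Lib.Recognition.McLOut
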