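import Cfsg.Agent.Lib.Recognition.CertRebase
import Cfsg.Agent.Lib.Recognition.McLCertCheck
import Cfsg.Agent.Lib.Recognition.McLCertAData

/-!
# Kernel evaluation of `mclCertA` against the first base
-/

set_option autoImplicit false
set_option maxRecDepth 100000
set_option maxHeartbeats 0

namespace Cfsg.Agent.Lib.Recognition.McLOut

open Cfsg.Agent.Lib.Compute Cfsg.Agent.Lib.Recognition.CertFast Cfsg.Agent.Lib.Recognition.CertRebase

theorem mclCertA0_sub : subOk 275 mclCert (mclCertA0 :: [mclCertA1, mclCertA2, mclCertA3, mclCertA4]) mclCertAInto = true := by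
  decide +kernel

theorem mclCertA0_ok : (lvlRest 275 mclCertA0 [mclCertA1, mclCertA2, mclCertA3, mclCertA4] && witBase mclCert mclCertA0 [mclCertA1, mclCertA2, mclCertA3, mclCertA4]) = true := by
  decide +kernel

theorem mclCertA1_sub : subOk 275 mclCert (mclCertA1 :: [mclCertA2, mclCertA3, mclCertA4]) mclCertAInto = true := by
  decide +kernel

theorem mclCertA1_ok : (lvlRest 275 mclCertA1 [mclCertA2, mclCertA3, mclCertA4] && witBase mclCert mclCertA1 [mclCertA2, mclCertA3, mclCertA4]) = true := by
  decide +kernel

theorem mclCertA2_sub : subOk 275 mclCert (mclCertA2 :: [mclCertA3, mclCertA4]) mclCertAInto = true := by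
  decide +kernel

theorem mclCertA2_ok : (lvlRest 275 mclCertA2 [mclCertA3, mclCertA4] && witBase mclCert mclCertA2 [mclCertA3, mclCertA4]) = true := by
  decide +kernel

theorem mclCertA3_sub : subOk 275 mclCert (mclCertA3 :: [mclCertA4]) mclCertAInto = true := by
  decide +kernel

theorem mclCertA3_ok : (lvlRest 275 mclCertA3 [mclCertA4] && witBase mclCert mclCertA3 [mclCertA4]) = true := by
  decide +kernel

theorem mclCertA4_sub : subOk 275 mclCert (mclCertA4 :: []) mclCertAInto = true := by
  decide +kernel

theorem mclCertA4_ok : (lvlRest 275 mclCertA4 [] && witBase mclCert mclCertA4 []) = true := by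
  decide +kernel

theorem mclCertA_ok : chk 275 mclCertA = true :=
  (chk_cons_of_base mclCert_ok mclCertA0_sub
    (chk_cons_of_base mclCert_ok mclCertA1_sub
    (chk_cons_of_base mclCert_ok mclCertA2_sub
    (chk_cons_of_base mclCert_ok mclCertA3_sub
    (chk_cons_of_base mclCert_ok mclCertA4_sub
    rfl mclCertA4_ok) mclCertA3_ok) mclCertA2_ok) mclCertA1_ok) mclCertA0_ok)

end Cfsg.Agent.Lib.Recognition.McLOut
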