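import Cfsg.Agent.Lib.Recognition.McLInvMain
import Cfsg.Agent.Lib.Recognition.McLFusionData
import Cfsg.Agent.Lib.Compute.FusionSimple

/-!
# The 2-fusion system of the group on 275 points is simple

The centre of the Sylow subgroup is generated by the involution, so the normaliser lies in the
centraliser of the involution, where a search bounds its order.
-/

set_option autoImplicit false
set_option maxRecDepth 100000
set_option maxHeartbeats 0
set_option Elab.async false

namespace Cfsg.Agent.Lib.Recognition.McLInv

open Cfsg Cfsg.Agent.Lib.Compute Cfsg.Agent.Lib.Recognition.McLOut Equiv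

theorem certN_ok : chk 275 mclCertN = true := by decide +kernel

theorem syl_sub : subOk 275 mclCert mclCertP mclSylWit = true := by decide +kernel

theorem syl_close : closeOk 275 mclCert mclCertP mclSylZ mclSylSteps = true := by decide +kernel

theorem syl_centre : centreOk 275 mclCertP mclSylZ = true := by decide +kernel

/-- The central element is the involution, and the centraliser lies in the searched group. -/
def centralOk : Bool :=
  ((List.range 275).all fun i => sift mclCertP mclSylZ i == app mclT i) &&
    (mclCertP0.gens.all fun g => (List.range 275).all fun i =>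
      app g.1 (app mclT i) == app mclT (app g.1 i)) &&
    (List.range mclCentGens.length).all fun k =>
      memOk 275 mclCertN (mclCentGens.getD k 0) (mclNFrom.getD k [])

theorem centralOk_eq : centralOk = true := by decide +kernel

theorem norm_count : (collect ([1, 2].map (powRows 275 mclCertP)) (normLeaf 275 mclCertP) mclCertN
    (fun i => i) []).length = 128 := by decide +kernel

theorem CT_le_N : CT ≤ grp 275 mclCertN := by
  rw [CT, CP, MonoidHom.map_closure, Subgroup.closure_le]
  rintro _ ⟨_, ⟨k, hk, rfl⟩, rfl⟩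
  have h := centralOk_eq
  simp only [centralOk, Bool.and_eq_true, List.all_eq_true, List.mem_range] at h
  have hlen := gensOk_eq
  simp only [gensOk, Bool.and_eq_true, beq_iff_eq] at hlen
  exact (mem_grp_of_memOk certN_ok (h.2 k (hlen.1.1 ▸ hk))).2

theorem norm_le (N : Subgroup (Perm (Fin 275))) (hN : N ≤ grp 275 mclCert)
    (hconj : ∀ g ∈ N, ∀ s ∈ grp 275 mclCertP, g * s * g⁻¹ ∈ grp 275 mclCertP) :
    Nat.card N ≤ certOrder mclCertP := by
  rw [orders_ok.2.2]
  refine card_normalizer_le certN_ok certP_ok (ks := [1, 2]) rfl norm_count.le ?_ hconj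
  intro g hg
  refine CT_le_N (mem_CT_iff.mpr ⟨hN hg, ?_⟩)
  have h := centralOk_eq
  simp only [centralOk, Bool.and_eq_true, List.all_eq_true, List.mem_range, beq_iff_eq] at h
  obtain ⟨⟨hz, hcomm⟩, -⟩ := h
  obtain ⟨hzr, hzm⟩ := sift_spec certP_ok mclSylZ
  have hzt : siftPerm 275 mclCertP mclSylZ = tP := hzr.eq t_repr.1 hz
  have hS : ∀ s ∈ grp 275 mclCertP, s * tP = tP * s := by
    intro s hs
    have hle : grp 275 mclCertP ≤ Subgroup.centralizer {tP} := by
      refine (Subgroup.closure_le _).mpr ?_
      rintro _ ⟨x, hx, rfl⟩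
      refine Subgroup.mem_centralizer_singleton_iff.mpr (Equiv.ext fun i => Fin.ext ?_)
      have hc := certP_ok
      rw [show mclCertP = mclCertP0 :: mclCertP.tail from rfl] at hc
      simp only [chk, Bool.and_eq_true] at hc
      have hr := repr_toPerm_of_genOk ((lvlOk_iff hc.1).2.1 x hx)
      rw [(hr.mul t_repr.1) i, (t_repr.1.mul hr) i]
      exact hcomm x hx i i.isLt
    exact Subgroup.mem_centralizer_singleton_iff.mp (hle hs)
  set w := g * tP * g⁻¹ with hw
  have hwS : w ∈ grp 275 mclCertP := hconj g hg tP (hzt ▸ hzm)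
  have hwc : ∀ s ∈ grp 275 mclCertP, s * w = w * s := by
    intro s hs
    have hgi : g⁻¹ * s * g ∈ grp 275 mclCertP := by
      simpa using hconj g⁻¹ (inv_mem hg) s hs
    have e := congrArg (fun x => g * x * g⁻¹) (hS _ hgi)
    simpa [hw, mul_assoc] using e
  obtain ⟨js, hjs, hjw⟩ := exists_idx certP_ok hwS
  have hr : Repr w (sift mclCertP js) := hjw ▸ (sift_spec certP_ok js).1
  have hz' := syl_centre
  rw [show mclCertP = mclCertP0 :: mclCertP.tail from rfl] at hz'
  simp only [centreOk, List.all_eq_true, Bool.or_eq_true, List.any_eq_true, List.mem_range,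
    bne_iff_ne, beq_iff_eq] at hz'
  rcases hz' js hjs with (⟨x, hx, i, hi, hne⟩ | h1) | h2
  · exfalso
    apply hne
    have hc := certP_ok
    rw [show mclCertP = mclCertP0 :: mclCertP.tail from rfl] at hc
    simp only [chk, Bool.and_eq_true] at hc
    have hxr := repr_toPerm_of_genOk ((lvlOk_iff hc.1).2.1 x hx)
    have e := congrArg (fun u : Perm (Fin 275) => ((u ⟨i, hi⟩ : Fin 275) : ℕ))
      (hwc _ (gen_mem (rest := mclCertP.tail) hx))
    simp only [Perm.mul_apply] at e
    rw [hxr, hr, hr, hxr] at e
    exact e
  · exfalso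
    have he : g * tP * g⁻¹ = 1 := (hr.eq Repr.one h1)
    exact t_ne (conj_eq_one_iff.mp he)
  · have he : g * tP * g⁻¹ = tP := hzt ▸ hr.eq hzr h2
    exact mul_inv_eq_iff_eq_mul.mp he

theorem two_fusion_simple {G : Type*} [Group G] [Finite G] (e : grp 275 mclCert ≃* G) (S : Sylow 2 G) :
    (groupFusionSystem (S : Subgroup G)).IsSimple 2 := by
  haveI : Fact (Nat.Prime 2) := ⟨Nat.prime_two⟩
  exact isSimple_of_bound e mclCert_ok certP_ok (a := 7) (by norm_num)
    (by rw [orders_ok.2.2]; norm_num) (r := 7016625) (by rw [moves_cover.2.2]; norm_num)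
    (by norm_num) syl_sub syl_close syl_centre norm_le S

end Cfsg.Agent.Lib.Recognition.McLInv
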