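import Cfsg.Agent.Lib.Recognition.CertRebase
import Cfsg.Agent.Lib.Recognition.McLCertCheck
import Cfsg.Agent.Lib.Recognition.McLInvData

/-!
# Kernel evaluation of `mclCertT` against the first base
-/

set_option autoImplicit false
set_option maxRecDepth 100000
set_option maxHeartbeats 0
set_option Elab.async false

namespace Cfsg.Agent.Lib.Recognition.McLInv

open Cfsg.Agent.Lib.Compute Cfsg.Agent.Lib.Recognition.CertFast Cfsg.Agent.Lib.Recognition.CertRebase
open Cfsg.Agent.Lib.Recognition.McLOut

theorem mclCertT0_sub : subOk 275 mclCert (mclCertT0 :: [mclCertT1, mclCertT2, mclCertT3, mclCertT4, mclCertT5]) mclTInto = true := by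
  decide +kernel

theorem mclCertT0_ok : (lvlRest 275 mclCertT0 [mclCertT1, mclCertT2, mclCertT3, mclCertT4, mclCertT5] && witBase mclCert mclCertT0 [mclCertT1, mclCertT2, mclCertT3, mclCertT4, mclCertT5]) = true := by
  decide +kernel

theorem mclCertT1_sub : subOk 275 mclCert (mclCertT1 :: [mclCertT2, mclCertT3, mclCertT4, mclCertT5]) mclTInto = true := by
  decide +kernel

theorem mclCertT1_ok : (lvlRest 275 mclCertT1 [mclCertT2, mclCertT3, mclCertT4, mclCertT5] && witBase mclCert mclCertT1 [mclCertT2, mclCertT3, mclCertT4, mclCertT5]) = true := by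
  decide +kernel

theorem mclCertT2_sub : subOk 275 mclCert (mclCertT2 :: [mclCertT3, mclCertT4, mclCertT5]) mclTInto = true := by
  decide +kernel

theorem mclCertT2_ok : (lvlRest 275 mclCertT2 [mclCertT3, mclCertT4, mclCertT5] && witBase mclCert mclCertT2 [mclCertT3, mclCertT4, mclCertT5]) = true := by
  decide +kernel

theorem mclCertT3_sub : subOk 275 mclCert (mclCertT3 :: [mclCertT4, mclCertT5]) mclTInto = true := by
  decide +kernel

theorem mclCertT3_ok : (lvlRest 275 mclCertT3 [mclCertT4, mclCertT5] && witBase mclCert mclCertT3 [mclCertT4, mclCertT5]) = true := by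
  decide +kernel

theorem mclCertT4_sub : subOk 275 mclCert (mclCertT4 :: [mclCertT5]) mclTInto = true := by
  decide +kernel

theorem mclCertT4_ok : (lvlRest 275 mclCertT4 [mclCertT5] && witBase mclCert mclCertT4 [mclCertT5]) = true := by
  decide +kernel

theorem mclCertT5_sub : subOk 275 mclCert (mclCertT5 :: []) mclTInto = true := by
  decide +kernel

theorem mclCertT5_ok : (lvlRest 275 mclCertT5 [] && witBase mclCert mclCertT5 []) = true := by
  decide +kernel

theorem mclCertT_ok : chk 275 mclCertT = true :=
  (chk_cons_of_base mclCert_ok mclCertT0_sub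
    (chk_cons_of_base mclCert_ok mclCertT1_sub
    (chk_cons_of_base mclCert_ok mclCertT2_sub
    (chk_cons_of_base mclCert_ok mclCertT3_sub
    (chk_cons_of_base mclCert_ok mclCertT4_sub
    (chk_cons_of_base mclCert_ok mclCertT5_sub
    rfl mclCertT5_ok) mclCertT4_ok) mclCertT3_ok) mclCertT2_ok) mclCertT1_ok) mclCertT0_ok)

end Cfsg.Agent.Lib.Recognition.McLInv
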