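import Cfsg.Agent.Lib.Recognition.McLInvData
import Cfsg.Agent.Lib.Recognition.McLCertData
import Cfsg.Agent.Lib.Recognition.CentralizerOutBound
import Cfsg.Agent.Lib.Compute.CertTools

/-!
# Checks on an involution of the group on 275 points and its centraliser
-/

set_option autoImplicit false
set_option maxRecDepth 100000
set_option maxHeartbeats 0
set_option Elab.async false

namespace Cfsg.Agent.Lib.Recognition.McLInv

open Cfsg.Agent.Lib.Compute Cfsg.Agent.Lib.Recognition.McLOut

theorem t_ok : (memOk 275 mclCert mclT mclTWit &&
    ((List.range 275).all fun i => app mclT (app mclT i) == i) &&
    (List.range 275).any fun i => app mclT i != i) = true := by decide +kernel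

theorem certD_ok : chk 283 mclCertD = true := by decide +kernel

theorem certE_ok : chk 8 mclCertE = true := by decide +kernel

theorem certP_ok : chk 275 mclCertP = true := by decide +kernel

theorem orders_ok : certOrder mclCertD = 40320 ∧ certOrder mclCertE = 20160 ∧
    certOrder mclCertP = 128 := by decide +kernel

/-- The generators of the centraliser: a pair of maps, glued on 283 points. -/
def gensOk : Bool :=
  (mclCentGens.length == mclCertD0.gens.length) && (mclCentImgs.length == mclCertD0.gens.length) &&
    (List.range mclCertD0.gens.length).all fun k =>
      memOk 275 mclCert (mclCentGens.getD k 0) (mclCentWit.getD k []) &&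
      memOk 8 mclCertE (mclCentImgs.getD k 0) (mclEightFrom.getD k []) &&
      ((List.range 275).all fun i => app (mclCentGens.getD k 0) (app mclT i) ==
        app mclT (app (mclCentGens.getD k 0) i)) &&
      ((List.range 283).all fun i => app (mclCertD0.gens.getD k (0, 0)).1 i ==
        if i < 275 then app (mclCentGens.getD k 0) i
        else 275 + app (mclCentImgs.getD k 0) (i - 275))

theorem gensOk_eq : gensOk = true := by decide +kernel

theorem eight_ok : ((mclCertE0.gens.all fun g => mclEightInto.any fun js =>
      (List.range 8).all fun i => sift mclCertD js (275 + i) == 275 + app g.1 i) &&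
    (mclCertD.all fun L => decide (L.base < 275))) = true := by decide +kernel

/-- The square root of the involution. -/
theorem root_ok : ((List.range 275).all fun i =>
    sift mclCertD mclRootWit (sift mclCertD mclRootWit i) == app mclT i) = true := by decide +kernel

/-- All index lists of a certificate. -/
def allIdx : List Lvl → List (List ℕ)
  | [] => [[]]
  | L :: rest => (List.range (L.trans.length + 1)).flatMap fun q => (allIdx rest).map (q :: ·)

/-- Each element of the Sylow subgroup is trivial, no involution, or a conjugate of the involution. -/
def sylOk : Bool :=
  subOkP && (List.range (allIdx mclCertP).length).all fun k =>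
    ((List.range 275).all fun i => sift mclCertP ((allIdx mclCertP).getD k []) i == i) ||
    ((List.range 275).any fun i =>
      sift mclCertP ((allIdx mclCertP).getD k []) (sift mclCertP ((allIdx mclCertP).getD k []) i) != i) ||
    ((List.range 275).all fun i =>
      sift mclCertP ((allIdx mclCertP).getD k []) (sift mclCert (mclConjWit.getD k []) i) ==
        sift mclCert (mclConjWit.getD k []) (app mclT i))
where
  /-- The generators lie in the group. -/
  subOkP : Bool := mclCertP0.gens.all fun g => mclSylWit.any fun js => memOk 275 mclCert g.1 js

theorem sylOk_eq : sylOk = true := by decide +kernel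

/-- The fixed points. -/
def fixT : List ℕ := (List.range 275).filter fun i => app mclT i == i

/-- The fixed points in the suborbit of the second base point. -/
def fixU : List ℕ :=
  (List.range (mclCertT1.trans.length + 1)).filter fun q =>
    app mclT (tfun mclCertT1 q mclCertT1.base) == tfun mclCertT1 q mclCertT1.base

/-- Three bounds for the centraliser along the chain. -/
def countOk : Bool :=
  (fixT.length == 35) && (fixU.length == 18) &&
    (app mclT mclCertT0.base == mclCertT0.base) && (app mclT mclCertT1.base == mclCertT1.base) &&
    ((commCands mclT mclCertT.tail.tail [] fun i => i).length == 64)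

theorem countOk_eq : countOk = true := by decide +kernel

theorem into_ok : (mclCertT0.gens.all fun g => mclTInto.any fun js => memOk 275 mclCert g.1 js) = true ∧
    (mclCert0.gens.all fun g => mclTFrom.any fun js => memOk 275 mclCertT g.1 js) = true := by
  decide +kernel

end Cfsg.Agent.Lib.Recognition.McLInv
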