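import Cfsg.Agent.S0404
import Cfsg.Agent.S1580
import Cfsg.Agent.Lib.Recognition.McLCertCheck
import Cfsg.Agent.Lib.Recognition.McLOutData

/-!
# The certified group on 275 points is the McLaughlin group
-/

set_option autoImplicit false
set_option maxRecDepth 100000

namespace Cfsg.Agent.Lib.Recognition.McLOut

open Cfsg Cfsg.Agent.Lib.Compute Cfsg.Agent.Lib.Leech Equiv
open MulAction (stabilizer mem_stabilizer_iff toPermHom)

/-- The first fixed vector. -/
noncomputable abbrev uVec : ↥leechLattice := ⟨vecOf bU, bU_mem⟩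

/-- The second fixed vector. -/
noncomputable abbrev vVec : ↥leechLattice := ⟨vecOf bV, bV_mem⟩

/-- The stabiliser of the two base vectors. -/
noncomputable abbrev McLBase : Subgroup ↥Co0 := stabilizer ↥Co0 uVec ⊓ stabilizer ↥Co0 vVec

theorem base_facts : sqNorm (vecOf bU) = 48 ∧ sqNorm (vecOf bV) = 32 ∧
    sqNorm (vecOf bU - vecOf bV) = 32 ∧ dotInt (vecOf bV) (vecOf bU - vecOf bV) = -8 ∧
    bV = tgtPairThree ∧ sqNorm Spor.vecV = 48 ∧ sqNorm (-Spor.vecU) = 32 ∧
    dotInt Spor.vecV (-Spor.vecU) = 24 := by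
  decide +kernel

theorem isMcL_base : IsMcL ↥McLBase := by
  obtain ⟨hu, hv, huv, hd, -⟩ := base_facts
  have h := Cfsg.Agent.S0404.result vVec (uVec - vVec) hv huv hd
  have e : stabilizer ↥Co0 vVec ⊓ stabilizer ↥Co0 (uVec - vVec) = McLBase := by
    ext g
    have hadd : ∀ x y : ↥leechLattice, g • (x + y) = g • x + g • y := g.2.1
    simp only [Subgroup.mem_inf, mem_stabilizer_iff]
    constructor
    · rintro ⟨h1, h2⟩
      have h3 := hadd (uVec - vVec) vVec
      rw [sub_add_cancel, h1, h2, sub_add_cancel] at h3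
      exact ⟨h3, h1⟩
    · rintro ⟨h1, h2⟩
      have h3 := hadd (uVec - vVec) vVec
      rw [sub_add_cancel, h1, h2] at h3
      exact ⟨h2, eq_sub_of_add_eq h3.symm⟩
  rwa [e] at h

/-- The entry of the vertex list. -/
def vert (i : ℕ) : List ℤ := mclVerts.getD i []

theorem verts_ok : ((List.range 275).all fun i => decide ((vert i).length = 24)) = true ∧
    (mclVerts.map packL).Nodup ∧ mclVerts.length = 275 ∧ vert 0 = bX ∧
    mclMono.all genGood = true := by
  decide +kernel

/-- A move maps the vertices by its permutation and fixes the two base vectors. -/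
def moveOk (w : List (Option ℕ) × ℕ) : Bool :=
  wordGood mclMono w.1 && decide (actWord mclMono w.1 bU = bU) && decide (actWord mclMono w.1 bV = bV) &&
    powValid w.2 && (List.range 275).all fun i =>
      decide (actWord mclMono w.1 (vert i) = vert (app w.2 i))
where
  /-- The images are distinct points. -/
  powValid (P : ℕ) : Bool :=
    ((List.range 275).all fun i => decide (app P i < 275)) && decide ((List.range 275).map (app P)).Nodup

theorem moves_ok : mclMoves.all moveOk = true := by decide +kernel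

theorem moves_cover : slpOk 275 (mclMoves.map Prod.snd) mclMoveSteps = true ∧
    slpCovers (mclMoves.map Prod.snd) mclMoveSteps mclCert = true ∧ certOrder mclCert = 898128000 := by
  decide +kernel

theorem move_valid {w : List (Option ℕ) × ℕ} (hw : w ∈ mclMoves) : Valid 275 w.2 := by
  have h := List.all_eq_true.mp moves_ok w hw
  simp only [moveOk, moveOk.powValid, Bool.and_eq_true, List.all_eq_true, List.mem_range,
    decide_eq_true_eq] at h
  obtain ⟨⟨-, hlt, hnd⟩, -⟩ := h
  have hinj : Function.Injective (fun i : Fin 275 => (⟨app w.2 i, hlt i i.isLt⟩ : Fin 275)) :=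
    fun i j e => Fin.ext (List.inj_on_of_nodup_map hnd (List.mem_range.mpr i.isLt)
      (List.mem_range.mpr j.isLt) (congrArg Fin.val e))
  exact ⟨Equiv.ofBijective _ (Finite.injective_iff_bijective.mp hinj), fun _ => rfl⟩

theorem grp_le_moves {σ : Perm (Fin 275)} (hσ : σ ∈ grp 275 mclCert) :
    σ ∈ Subgroup.closure (toPerm 275 '' {b | b ∈ mclMoves.map Prod.snd}) := by
  refine grp_le_closure (fun b hb => ?_) moves_cover.1 moves_cover.2.1 hσ
  obtain ⟨w, hw, rfl⟩ := List.mem_map.mp hb
  exact move_valid hw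

theorem mcl_orbit_full :
    (List.range 275).all (fun x => (Compute.orbit mclCert0).contains x) = true := by
  decide +kernel

theorem mcl_transitive (i : Fin 275) : ∃ σ ∈ grp 275 mclCert, σ (0 : Fin 275) = i := by
  have hm : ∀ x : Fin 275, ∃ σ ∈ grp 275 mclCert,
      σ ⟨mclCert0.base, by decide +kernel⟩ = x := fun x =>
    (mem_orbit_iff (L := mclCert0) mclCert_ok _ x rfl).mpr
      (List.contains_iff_mem.mp (List.all_eq_true.mp mcl_orbit_full x (List.mem_range.mpr x.isLt)))
  obtain ⟨σ, hσ, h0⟩ := hm 0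
  obtain ⟨τ, hτ, hi⟩ := hm i
  exact ⟨τ * σ⁻¹, mul_mem hτ (inv_mem hσ), by
    rw [Perm.mul_apply, ← h0, Equiv.Perm.inv_def, Equiv.symm_apply_apply, hi]⟩

theorem exists_equiv_sporMcL : Nonempty (grp 275 mclCert ≃* ↥Spor.McL) := by
  classical
  haveI := finite_co0
  obtain ⟨hu, hv, -, -, htgt, hV, hU, hVU⟩ := base_facts
  -- the stabiliser pair of the definition
  obtain ⟨k₀, hk₀⟩ := moves_three Spor.leechV hV
  obtain ⟨k, hk⟩ := transPairThree.extend hk₀ (x := -Spor.leechU)
    (by rw [subSet_one]; exact ⟨hU, hVU⟩)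
  simp only [Moves, List.cons_append, List.nil_append, List.map_cons, List.map_nil, List.cons.injEq,
    and_true, ← htgt] at hk
  have hk1 : k • Spor.leechV = uVec := Subtype.ext hk.1
  have hk2 : k • -Spor.leechU = vVec := Subtype.ext hk.2
  have hiff : ∀ g : ↥Co0, (g • Spor.leechV = Spor.leechV ∧ g • Spor.leechU = Spor.leechU) ↔
      k * g * k⁻¹ ∈ McLBase := by
    intro g
    rw [Subgroup.mem_inf, mem_stabilizer_iff, mem_stabilizer_iff, ← hk1, ← hk2]
    simp only [mul_smul, inv_smul_smul, smul_left_cancel_iff, co0_neg, neg_inj]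
  let eM : ↥Spor.McL ≃* ↥McLBase :=
    { toFun := fun g => ⟨k * ⟨g.1, g.2.1.1⟩ * k⁻¹, (hiff ⟨g.1, g.2.1.1⟩).mp ⟨g.2.1.2, g.2.2⟩⟩
      invFun := fun x => ⟨(k⁻¹ * (x : ↥Co0) * k : ↥Co0).1,
        have h := (hiff (k⁻¹ * (x : ↥Co0) * k)).mpr (by
          simpa [mul_assoc] using x.2)
        ⟨⟨(k⁻¹ * (x : ↥Co0) * k).2, h.1⟩, h.2⟩⟩
      left_inv := fun g => by
        have h : k⁻¹ * (k * ⟨g.1, g.2.1.1⟩ * k⁻¹) * k = (⟨g.1, g.2.1.1⟩ : ↥Co0) := by group
        exact Subtype.ext (congrArg Subtype.val h :)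
      right_inv := fun x => Subtype.ext (show k * (k⁻¹ * (x : ↥Co0) * k) * k⁻¹ = x by group)
      map_mul' := fun g h => Subtype.ext
        (show k * (⟨g.1, g.2.1.1⟩ * ⟨h.1, h.2.1.1⟩) * k⁻¹ =
          k * ⟨g.1, g.2.1.1⟩ * k⁻¹ * (k * ⟨h.1, h.2.1.1⟩ * k⁻¹) by group) }
  -- the points
  obtain ⟨hlen, hnd, hl275, hv0, hgood⟩ := verts_ok
  let S : Set ↥leechLattice := subSet [uVec, vVec] [24, 16]
  have hinv : ∀ g : McLBase, ∀ x ∈ S, (g : ↥Co0) • x ∈ S := by
    intro g x hx
    rw [subSet_two] at hx ⊢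
    refine ⟨(co0_sqNorm _ x).trans hx.1, ?_, ?_⟩
    · have h := co0_dot (g : ↥Co0) uVec x
      rw [g.2.1] at h; exact h.trans hx.2.1
    · have h := co0_dot (g : ↥Co0) vVec x
      rw [g.2.2] at h; exact h.trans hx.2.2
  letI : MulAction McLBase S :=
    { smul := fun g x => ⟨(g : ↥Co0) • x.1, hinv g x.1 x.2⟩
      one_smul := fun x => Subtype.ext (one_smul ↥Co0 x.1)
      mul_smul := fun g h x => Subtype.ext (mul_smul (g : ↥Co0) (h : ↥Co0) x.1) }
  have hk1' : Moves (1 : ↥Co0) [uVec, vVec] [bU, bV] := by simp [Moves]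
  have hSn : S.ncard = 275 := transTripleThree.ncard_sub hk1'
  have hex : ∀ i : Fin 275, ∃ x : S, listOf ((x : ↥leechLattice) : GolayPt → ℤ) = vert i := by
    have hX : (⟨vecOf bX, bX_mem⟩ : ↥leechLattice) ∈ S := by
      rw [subSet_two]
      exact (by decide +kernel : sqNorm (vecOf bX) = 32 ∧ dotInt (vecOf bU) (vecOf bX) = 24 ∧
        dotInt (vecOf bV) (vecOf bX) = 16)
    have hlist : ∀ l : List ℤ, l.length = 24 → listOf (vecOf l) = l := fun l hl =>
      List.ext_getElem (by simp [listOf, hl]) fun i h1 h2 => by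
        simp only [listOf, List.getElem_map, List.getElem_finRange, vecOf, Equiv.apply_symm_apply,
          Fin.cast_mk]
        rw [List.getD_eq_getElem _ _ h2]
    -- walk along the moves
    have step : ∀ w ∈ mclMoves, ∀ i : Fin 275, (∃ x : S, listOf ((x : ↥leechLattice) : GolayPt → ℤ) = vert i) →
        ∃ x : S, listOf ((x : ↥leechLattice) : GolayPt → ℤ) = vert (app w.2 i) := by
      intro w hw i hi
      obtain ⟨x, hx⟩ := hi
      have h := List.all_eq_true.mp moves_ok w hw
      simp only [moveOk, Bool.and_eq_true, List.all_eq_true, List.mem_range, decide_eq_true_eq] at h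
      obtain ⟨⟨⟨⟨hw1, hw2⟩, hw3⟩, -⟩, hw5⟩ := h
      obtain ⟨g, hg⟩ := exists_word hgood hw1
      have hfix : ∀ (l : List ℤ) (hl : vecOf l ∈ leechLattice), l.length = 24 →
          actWord mclMono w.1 l = l → g • (⟨vecOf l, hl⟩ : ↥leechLattice) = ⟨vecOf l, hl⟩ := by
        intro l hl hl24 he
        refine Subtype.ext ?_
        rw [← vecOf_listOf ((g • (⟨vecOf l, hl⟩ : ↥leechLattice) : ↥leechLattice) : GolayPt → ℤ), hg,
          hlist l hl24, he]
      have hgM : g ∈ McLBase := ⟨hfix bU bU_mem rfl hw2, hfix bV bV_mem rfl hw3⟩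
      refine ⟨(⟨g, hgM⟩ : McLBase) • x, ?_⟩
      show listOf ((g • x.1 : ↥leechLattice) : GolayPt → ℤ) = _
      rw [hg, hx, hw5 i i.isLt]
    intro i
    obtain ⟨σ, hσ, he⟩ := mcl_transitive i
    rw [← he]
    have hσ' : σ ∈ Submonoid.closure (toPerm 275 '' {b | b ∈ mclMoves.map Prod.snd}) := by
      rw [← Subgroup.closure_toSubmonoid_of_finite]; exact grp_le_moves hσ
    clear he hσ
    induction hσ' using Submonoid.closure_induction_left with
    | one => exact ⟨⟨_, hX⟩, by rw [hlist bX rfl]; exact hv0.symm⟩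
    | mul_left x hx y hy ih =>
      obtain ⟨P, hP, rfl⟩ := hx
      obtain ⟨w, hw, rfl⟩ := List.mem_map.mp hP
      rw [Perm.mul_apply, (move_valid hw).repr]
      exact step w hw _ ih
  choose e he using hex
  have hei : Function.Injective e := fun i j h => by
    have h1 : vert i = vert j := by rw [← he i, ← he j, h]
    apply Fin.ext
    have hi : (i : ℕ) < (mclVerts.map packL).length := by simp [hl275]
    have hj : (j : ℕ) < (mclVerts.map packL).length := by simp [hl275]
    refine (hnd.getElem_inj_iff (hi := hi) (hj := hj)).mp ?_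
    simp only [List.getElem_map]
    rw [← List.getD_eq_getElem mclVerts [] (by simpa using hi),
      ← List.getD_eq_getElem mclVerts [] (by simpa using hj)]
    exact congrArg packL h1
  haveI : Finite S := Set.finite_of_ncard_ne_zero (by rw [hSn]; norm_num)
  let E : Fin 275 ≃ S := Equiv.ofBijective e ((Nat.bijective_iff_injective_and_card e).mpr
    ⟨hei, by rw [Nat.card_fin, Nat.card_coe_set_eq, hSn]⟩)
  let φ : McLBase →* Perm (Fin 275) :=
    (E.symm.permCongrHom.toMonoidHom).comp (toPermHom McLBase S)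
  obtain ⟨hsimp, hcard⟩ := isMcL_base
  haveI := hsimp
  have hle : grp 275 mclCert ≤ φ.range := by
    refine le_trans (grp_le_closure (fun b hb => ?_) moves_cover.1 moves_cover.2.1)
      ((Subgroup.closure_le _).mpr ?_)
    · obtain ⟨w, hw, rfl⟩ := List.mem_map.mp hb
      exact move_valid hw
    rintro _ ⟨P, hP, rfl⟩
    obtain ⟨w, hw, rfl⟩ := List.mem_map.mp hP
    have h := List.all_eq_true.mp moves_ok w hw
    simp only [moveOk, Bool.and_eq_true, List.all_eq_true, List.mem_range, decide_eq_true_eq] at h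
    obtain ⟨⟨⟨⟨hw1, hw2⟩, hw3⟩, -⟩, hw5⟩ := h
    obtain ⟨g, hg⟩ := exists_word hgood hw1
    have hfix : ∀ (l : List ℤ) (hl : vecOf l ∈ leechLattice),
        listOf (vecOf l) = l → actWord mclMono w.1 l = l →
        g • (⟨vecOf l, hl⟩ : ↥leechLattice) = ⟨vecOf l, hl⟩ := by
      intro l hl hl24 hle
      refine Subtype.ext ?_
      rw [← vecOf_listOf ((g • (⟨vecOf l, hl⟩ : ↥leechLattice) : ↥leechLattice) : GolayPt → ℤ), hg,
        hl24, hle]
    have hgM : g ∈ McLBase :=
      ⟨hfix bU bU_mem (by decide +kernel) hw2, hfix bV bV_mem (by decide +kernel) hw3⟩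
    refine ⟨⟨g, hgM⟩, Equiv.ext fun i => E.injective ?_⟩
    refine Eq.trans (E.apply_symm_apply _) (Subtype.ext ?_)
    refine (Subtype.ext ?_ : (g • (e i).1 : ↥leechLattice) = (e (toPerm 275 w.2 i)).1)
    rw [← vecOf_listOf ((g • (e i).1 : ↥leechLattice) : GolayPt → ℤ), hg, he i, hw5 i i.isLt,
      ← (move_valid hw).repr i, ← he, vecOf_listOf]
  have hφ : Function.Injective φ := by
    rw [← MonoidHom.ker_eq_bot_iff]
    refine (IsSimpleGroup.eq_bot_or_eq_top_of_normal φ.ker (MonoidHom.normal_ker _)).resolve_right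
      fun h => ?_
    have h1 : φ.range = ⊥ := by
      rw [MonoidHom.range_eq_map, Subgroup.map_eq_bot_iff, h]
    have h2 : Nat.card (grp 275 mclCert) ≤ 1 := by
      rw [h1] at hle
      simp [le_bot_iff.mp hle]
    rw [card_grp mclCert_ok, moves_cover.2.2] at h2
    norm_num at h2
  have hrange : grp 275 mclCert = φ.range := Subgroup.eq_of_le_of_card_ge hle (by
    rw [card_grp mclCert_ok, moves_cover.2.2, ← Nat.card_congr (MonoidHom.ofInjective hφ).toEquiv]
    exact hcard.le)
  exact ⟨((MulEquiv.subgroupCongr hrange).trans (MonoidHom.ofInjective hφ).symm).trans eM.symm⟩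

end Cfsg.Agent.Lib.Recognition.McLOut
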