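import Cfsg.Agent.Lib.Recognition.McLInvCertT
import Cfsg.Agent.Lib.Recognition.McLInvChecks
import Cfsg.Agent.Lib.Recognition.McLModel
import Cfsg.Prelude.Def_SporadicB
import Mathlib.GroupTheory.SpecificGroups.Alternating

/-!
# Involutions of the group on 275 points

There is one class of involutions, and the centraliser is a double cover of the alternating group of
degree eight which does not split.
-/

set_option autoImplicit false
set_option maxRecDepth 100000

namespace Cfsg.Agent.Lib.Recognition.McLInv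

open Cfsg.Agent.Lib.Compute Cfsg.Agent.Lib.Recognition.McLOut Equiv
open MulAction (stabilizer orbit)

/-- The group. -/
noncomputable abbrev M : Subgroup (Perm (Fin 275)) := grp 275 mclCert

/-- The involution. -/
noncomputable def tP : Perm (Fin 275) := toPerm 275 mclT

theorem t_repr : Repr tP (app mclT) ∧ tP ∈ M := by
  have h := t_ok
  simp only [Bool.and_eq_true] at h
  obtain ⟨hv, hm⟩ := mem_grp_of_memOk mclCert_ok h.1.1
  exact ⟨hv.repr, hm⟩

theorem t_sq : tP * tP = 1 := by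
  have h := t_ok
  simp only [Bool.and_eq_true, List.all_eq_true, List.mem_range, beq_iff_eq] at h
  refine Equiv.ext fun i => Fin.ext ?_
  rw [(t_repr.1.mul t_repr.1) i]
  exact h.1.2 i i.isLt

theorem t_ne : tP ≠ 1 := by
  intro e
  have h := t_ok
  simp only [Bool.and_eq_true, List.any_eq_true, List.mem_range, bne_iff_ne, ne_eq] at h
  obtain ⟨i, hi, hne⟩ := h.2
  have := t_repr.1 ⟨i, hi⟩
  rw [e] at this
  exact hne this.symm

/-- Gluing two permutations. -/
noncomputable def glue : Perm (Fin 275) × Perm (Fin 8) →* Perm (Fin 283) :=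
  ((finSumFinEquiv : Fin 275 ⊕ Fin 8 ≃ Fin 283).permCongrHom.toMonoidHom).comp
    (Equiv.Perm.sumCongrHom (Fin 275) (Fin 8))

theorem glue_injective : Function.Injective glue := fun _ _ h =>
  Equiv.Perm.sumCongrHom_injective (((finSumFinEquiv : Fin 275 ⊕ Fin 8 ≃ Fin 283).permCongrHom).injective h)

theorem glue_left (p : Perm (Fin 275) × Perm (Fin 8)) (i : Fin 275) :
    glue p (Fin.castAdd 8 i) = Fin.castAdd 8 (p.1 i) := by
  show finSumFinEquiv (Sum.map p.1 p.2 (finSumFinEquiv.symm (Fin.castAdd 8 i))) = _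
  rw [finSumFinEquiv_symm_apply_castAdd, Sum.map_inl, finSumFinEquiv_apply_left]

theorem glue_right (p : Perm (Fin 275) × Perm (Fin 8)) (i : Fin 8) :
    glue p (Fin.natAdd 275 i) = Fin.natAdd 275 (p.2 i) := by
  show finSumFinEquiv (Sum.map p.1 p.2 (finSumFinEquiv.symm (Fin.natAdd 275 i))) = _
  rw [finSumFinEquiv_symm_apply_natAdd, Sum.map_inr, finSumFinEquiv_apply_right]

/-- The pair belonging to a generator. -/
noncomputable def gpair (k : ℕ) : Perm (Fin 275) × Perm (Fin 8) :=
  (toPerm 275 (mclCentGens.getD k 0), toPerm 8 (mclCentImgs.getD k 0))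

theorem gpair_spec {k : ℕ} (hk : k < mclCertD0.gens.length) :
    (gpair k).1 ∈ M ∧ (gpair k).1 * tP = tP * (gpair k).1 ∧ (gpair k).2 ∈ grp 8 mclCertE ∧
      glue (gpair k) = toPerm 283 (mclCertD0.gens.getD k (0, 0)).1 := by
  have h := gensOk_eq
  simp only [gensOk, Bool.and_eq_true, List.all_eq_true, List.mem_range, beq_iff_eq] at h
  obtain ⟨⟨⟨hg, hh⟩, hc⟩, hglue⟩ := h.2 k hk
  obtain ⟨hv, hm⟩ := mem_grp_of_memOk mclCert_ok hg
  obtain ⟨hv8, hm8⟩ := mem_grp_of_memOk certE_ok hh
  refine ⟨hm, ?_, hm8, (repr_toPerm_of_repr (σ := glue (gpair k)) fun i => ?_).symm⟩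
  · refine Equiv.ext fun i => Fin.ext ?_
    show ((toPerm 275 (mclCentGens.getD k 0) * tP) i : ℕ) =
      ((tP * toPerm 275 (mclCentGens.getD k 0)) i : ℕ)
    rw [(hv.repr.mul t_repr.1) i, (t_repr.1.mul hv.repr) i]
    exact hc i i.isLt
  · rw [hglue i i.isLt]
    by_cases hi : (i : ℕ) < 275
    · rw [if_pos hi, show i = Fin.castAdd 8 ⟨i, hi⟩ from Fin.ext rfl, glue_left]
      exact hv.repr ⟨i, hi⟩
    · have hi8 : (i : ℕ) - 275 < 8 := by omega
      rw [if_neg hi, show i = Fin.natAdd 275 (⟨(i : ℕ) - 275, hi8⟩ : Fin 8) from Fin.ext (by simp; omega),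
        glue_right, Fin.val_natAdd]
      simp only [Fin.val_natAdd, Nat.add_sub_cancel_left]
      exact congrArg (275 + ·) (hv8.repr ⟨i - 275, by omega⟩)

/-- The pairs over the centraliser. -/
noncomputable def CP : Subgroup (Perm (Fin 275) × Perm (Fin 8)) :=
  Subgroup.closure (gpair '' {k | k < mclCertD0.gens.length})

theorem CP_map : CP.map glue = grp 283 mclCertD := by
  rw [CP, MonoidHom.map_closure]
  refine congrArg Subgroup.closure (Set.ext fun σ => ?_)
  constructor
  · rintro ⟨_, ⟨k, hk, rfl⟩, rfl⟩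
    exact ⟨mclCertD0.gens.getD k (0, 0), by
      rw [List.getD_eq_getElem _ _ hk]; exact List.getElem_mem _, (gpair_spec hk).2.2.2.symm⟩
  · rintro ⟨g, hg, rfl⟩
    obtain ⟨k, hk, rfl⟩ := List.getElem_of_mem hg
    exact ⟨_, ⟨k, hk, rfl⟩, by rw [(gpair_spec hk).2.2.2, List.getD_eq_getElem _ _ hk]⟩

theorem card_CP : Nat.card CP = 40320 := by
  rw [Nat.card_congr (Subgroup.equivMapOfInjective CP glue glue_injective).toEquiv, CP_map,
    card_grp certD_ok, orders_ok.1]

theorem fst_injective {x : Perm (Fin 275) × Perm (Fin 8)} (hx : x ∈ CP) (h1 : x.1 = 1) : x = 1 := by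
  apply glue_injective
  rw [map_one]
  refine eq_one_of_fix_bases certD_ok (CP_map ▸ Subgroup.mem_map_of_mem glue hx) ?_
  intro L hL b hb
  have h := eight_ok
  simp only [Bool.and_eq_true, List.all_eq_true, decide_eq_true_eq] at h
  have hlt : (b : ℕ) < 275 := hb ▸ h.2 L hL
  rw [show b = Fin.castAdd 8 ⟨b, hlt⟩ from Fin.ext rfl, glue_left, h1]
  rfl

/-- The centraliser as permutations of 275 points. -/
noncomputable def CT : Subgroup (Perm (Fin 275)) := CP.map (MonoidHom.fst _ _)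

theorem CT_le : CT ≤ M ⊓ Subgroup.centralizer {tP} := by
  rw [CT, CP, MonoidHom.map_closure, Subgroup.closure_le]
  rintro _ ⟨_, ⟨k, hk, rfl⟩, rfl⟩
  exact ⟨(gpair_spec hk).1, Subgroup.mem_centralizer_singleton_iff.mpr (gpair_spec hk).2.1⟩

/-- The projection of the pairs to the centraliser. -/
noncomputable def fstC : CP →* Perm (Fin 275) := (MonoidHom.fst _ _).comp CP.subtype

theorem fstC_injective : Function.Injective fstC :=
  (injective_iff_map_eq_one _).mpr fun x hx => Subtype.ext (fst_injective x.2 hx)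

theorem fstC_range : fstC.range = CT := by
  rw [fstC, MonoidHom.range_comp, Subgroup.range_subtype, CT]

/-- The isomorphism of the pairs with the centraliser. -/
noncomputable def CTequiv : CP ≃* CT :=
  (MonoidHom.ofInjective fstC_injective).trans (MulEquiv.subgroupCongr fstC_range)

theorem card_CT : Nat.card CT = 40320 := by rw [← Nat.card_congr CTequiv.toEquiv, card_CP]

theorem card_le_mul {D : Subgroup (Perm (Fin 275))} (b : Fin 275) (A : List ℕ)
    (h : ∀ σ ∈ D, ((σ b : Fin 275) : ℕ) ∈ A) :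
    Nat.card D ≤ A.length * Nat.card ↥(D ⊓ stabilizer (Perm (Fin 275)) b) := by
  have e : (stabilizer (Perm (Fin 275)) b).subgroupOf D = stabilizer D b := rfl
  have h1 := Subgroup.card_mul_index (stabilizer D b)
  rw [MulAction.index_stabilizer] at h1
  have h2 : (orbit D b).ncard ≤ A.toFinset.card := by
    rw [← Set.ncard_coe_finset]
    refine Set.ncard_le_ncard_of_injOn (fun i => (i : ℕ)) ?_ (fun i _ j _ e => Fin.ext e)
      (Finset.finite_toSet _)
    rintro _ ⟨⟨σ, hσ⟩, rfl⟩
    simpa using h σ hσ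
  have h3 : Nat.card (stabilizer D b) = Nat.card ↥(D ⊓ stabilizer (Perm (Fin 275)) b) := by
    rw [← e, ← Subgroup.inf_subgroupOf_left]
    exact Nat.card_congr (Subgroup.subgroupOfEquivOfLe inf_le_left).toEquiv
  calc Nat.card D = Nat.card (stabilizer D b) * (orbit D b).ncard := h1.symm
    _ ≤ Nat.card ↥(D ⊓ stabilizer (Perm (Fin 275)) b) * A.length :=
        Nat.mul_le_mul h3.le (h2.trans (List.toFinset_card_le A))
    _ = _ := Nat.mul_comm _ _

theorem certT_eq : grp 275 mclCertT = M :=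
  le_antisymm (grp_le_of_subOk mclCert_ok (wit := mclTInto) into_ok.1)
    (grp_le_of_subOk mclCertT_ok (wit := mclTFrom) into_ok.2)

theorem card_centralizer_le : Nat.card ↥(M ⊓ Subgroup.centralizer {tP}) ≤ 40320 := by
  have h := countOk_eq
  simp only [countOk, Bool.and_eq_true, beq_iff_eq] at h
  obtain ⟨⟨⟨⟨h35, h18⟩, hb0⟩, hb1⟩, h64⟩ := h
  set D := M ⊓ Subgroup.centralizer {tP} with hD
  have hT : chk 275 (mclCertT0 :: mclCertT.tail) = true := mclCertT_ok
  have hc0 := hT
  simp only [chk, Bool.and_eq_true] at hc0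
  have hT1 : chk 275 (mclCertT1 :: mclCertT.tail.tail) = true := hc0.2
  have hc1 := hT1
  simp only [chk, Bool.and_eq_true] at hc1
  set b : Fin 275 := ⟨mclCertT0.base, (lvlOk_iff hc0.1).1⟩ with hb
  set b' : Fin 275 := ⟨mclCertT1.base, (lvlOk_iff hc1.1).1⟩ with hb'
  have hcomm : ∀ σ ∈ D, σ * tP = tP * σ := fun σ hσ => Subgroup.mem_centralizer_singleton_iff.mp hσ.2
  have hfix : ∀ σ ∈ D, ∀ i : Fin 275, tP i = i → tP (σ i) = σ i := by
    intro σ hσ i hi
    have := congrArg (fun τ : Perm (Fin 275) => τ i) (hcomm σ hσ)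
    simp only [Perm.mul_apply, hi] at this
    exact this.symm
  have htb : tP b = b := Fin.ext ((t_repr.1 b).trans hb0)
  have htb' : tP b' = b' := Fin.ext ((t_repr.1 b').trans hb1)
  have e1 : Nat.card D ≤ 35 * Nat.card ↥(D ⊓ stabilizer (Perm (Fin 275)) b) := by
    refine h35 ▸ card_le_mul b fixT fun σ hσ => ?_
    refine List.mem_filter.mpr ⟨List.mem_range.mpr (σ b).isLt, ?_⟩
    rw [beq_iff_eq, ← t_repr.1 (σ b), hfix σ hσ b htb]
  set D₁ := D ⊓ stabilizer (Perm (Fin 275)) b with hD₁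
  have hD₁r : ∀ σ ∈ D₁, σ ∈ grp 275 mclCertT.tail := fun σ hσ =>
    (mem_grp_rest_iff hT b rfl σ).mpr ⟨show σ ∈ grp 275 mclCertT from certT_eq ▸ hσ.1.1, hσ.2⟩
  have e2 : Nat.card D₁ ≤ 18 * Nat.card ↥(D₁ ⊓ stabilizer (Perm (Fin 275)) b') := by
    refine (card_le_mul b' (fixU.map fun q => tfun mclCertT1 q mclCertT1.base) fun σ hσ => ?_).trans ?_
    · obtain ⟨q, hq, τ, hτ, rfl⟩ := exists_decomp hT1 (hD₁r σ hσ)
      have hσb : ((tperm 275 mclCertT1 q * τ) b' : ℕ) = tfun mclCertT1 q mclCertT1.base := by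
        rw [Perm.mul_apply, grp_rest_fixes hc1.1 hc1.2 b' rfl hτ,
          (trans_spec (rest := mclCertT.tail.tail) (lvlOk_iff hc1.1).2.1 (lvlOk_iff hc1.1).2.2.1 q).1]
      refine List.mem_map.mpr ⟨q, List.mem_filter.mpr ⟨List.mem_range.mpr (Nat.lt_succ_of_le hq), ?_⟩,
        hσb.symm⟩
      rw [beq_iff_eq, ← hσb, ← t_repr.1, hfix _ hσ.1 b' htb']
    · rw [List.length_map, h18]
  have e3 : Nat.card ↥(D₁ ⊓ stabilizer (Perm (Fin 275)) b') ≤ 64 := by
    classical
    let J := (commCands mclT mclCertT.tail.tail [] fun i => i).map (siftPerm 275 mclCertT.tail.tail)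
    have hsub : ∀ σ ∈ D₁ ⊓ stabilizer (Perm (Fin 275)) b', σ ∈ J.toFinset := by
      intro σ hσ
      have hσr : σ ∈ grp 275 mclCertT.tail.tail :=
        (mem_grp_rest_iff hT1 b' rfl σ).mpr ⟨hD₁r σ hσ.1, hσ.2⟩
      obtain ⟨js, hjs, rfl⟩ := exists_commCands t_repr.1 hc1.2 (seen := []) (f := fun i => i)
        (π := 1) Repr.one hσr (by rw [one_mul]; exact hcomm _ hσ.1.1) (by simp)
      exact List.mem_toFinset.mpr (List.mem_map.mpr ⟨js, hjs, rfl⟩)
    calc Nat.card ↥(D₁ ⊓ stabilizer (Perm (Fin 275)) b')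
        ≤ Nat.card J.toFinset := Nat.card_le_card_of_injective
          (fun σ => (⟨σ.1, hsub σ.1 σ.2⟩ : J.toFinset))
          (fun σ τ e => Subtype.ext (by simpa using e))
      _ ≤ 64 := by
          rw [Nat.card_eq_fintype_card, Fintype.card_coe]
          exact (List.toFinset_card_le _).trans_eq (by rw [List.length_map, h64])
  calc Nat.card D ≤ 35 * (18 * 64) :=
        e1.trans (Nat.mul_le_mul_left _ (e2.trans (Nat.mul_le_mul_left _ e3)))
    _ = 40320 := by norm_num

theorem CT_eq : CT = M ⊓ Subgroup.centralizer {tP} :=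
  Subgroup.eq_of_le_of_card_ge CT_le (card_CT ▸ card_centralizer_le)

/-- The map to eight points. -/
noncomputable def sndC : CP →* Perm (Fin 8) := (MonoidHom.snd _ _).comp CP.subtype

theorem card_sndC : Nat.card sndC.range = 20160 := by
  rw [sndC, MonoidHom.range_comp, Subgroup.range_subtype]
  have h : CP.map (MonoidHom.snd _ _) = grp 8 mclCertE := by
    rw [CP, MonoidHom.map_closure]
    refine le_antisymm ((Subgroup.closure_le _).mpr ?_) ((Subgroup.closure_le _).mpr ?_)
    · rintro _ ⟨_, ⟨k, hk, rfl⟩, rfl⟩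
      exact (gpair_spec hk).2.2.1
    · rintro _ ⟨g, hg, rfl⟩
      have he := eight_ok
      simp only [Bool.and_eq_true, List.all_eq_true, List.any_eq_true, List.mem_range,
        beq_iff_eq] at he
      obtain ⟨js, -, hjs⟩ := he.1 g hg
      obtain ⟨hr, hm⟩ := sift_spec certD_ok js
      rw [← CP_map] at hm
      obtain ⟨x, hx, hxe⟩ := hm
      have hx2 : x.2 = toPerm 8 g.1 := (repr_toPerm_of_repr fun i => by
        have e := hr (Fin.natAdd 275 i)
        rw [← hxe, glue_right, Fin.val_natAdd, Fin.val_natAdd, hjs i i.isLt] at e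
        omega).symm
      show toPerm 8 g.1 ∈ _
      rw [← hx2, ← MonoidHom.map_closure]
      exact ⟨x, hx, rfl⟩
  rw [h, card_grp certE_ok, orders_ok.2.1]

theorem sndC_range : sndC.range = alternatingGroup (Fin 8) := by
  refine Equiv.Perm.eq_alternatingGroup_of_index_eq_two ?_
  have h := sndC.range.card_mul_index
  rw [card_sndC, Nat.card_perm, Nat.card_fin, show Nat.factorial 8 = 20160 * 2 by decide] at h
  exact Nat.eq_of_mul_eq_mul_left (by norm_num) h

/-- The map of the centraliser to the alternating group. -/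
noncomputable def toAlt : CT →* alternatingGroup (Fin 8) :=
  ((MulEquiv.subgroupCongr sndC_range).toMonoidHom.comp sndC.rangeRestrict).comp CTequiv.symm.toMonoidHom

theorem toAlt_surjective : Function.Surjective toAlt :=
  ((MulEquiv.subgroupCongr sndC_range).surjective.comp sndC.rangeRestrict_surjective).comp
    CTequiv.symm.surjective

theorem card_ker : Nat.card toAlt.ker = 2 := by
  have h := Subgroup.card_eq_card_quotient_mul_card_subgroup toAlt.ker
  rw [Nat.card_congr (QuotientGroup.quotientKerEquivOfSurjective toAlt toAlt_surjective).toEquiv,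
    card_CT] at h
  have h8 : Nat.card (alternatingGroup (Fin 8)) = 20160 := by rw [← sndC_range, card_sndC]
  rw [h8] at h
  omega

theorem tP_mem : tP ∈ CT := by
  rw [CT_eq]
  exact ⟨t_repr.2, Subgroup.mem_centralizer_singleton_iff.mpr rfl⟩

theorem mem_CT_iff {σ : Perm (Fin 275)} : σ ∈ CT ↔ σ ∈ M ∧ σ * tP = tP * σ := by
  rw [CT_eq, Subgroup.mem_inf, Subgroup.mem_centralizer_singleton_iff]

theorem t_central : (⟨tP, tP_mem⟩ : CT) ∈ Subgroup.center CT :=
  Subgroup.mem_center_iff.mpr fun c => Subtype.ext (mem_CT_iff.mp c.2).2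

theorem center_eq : Subgroup.center CT = toAlt.ker := by
  refine Subgroup.eq_of_le_of_card_ge ?_ ?_
  · intro z hz
    rw [MonoidHom.mem_ker]
    have : toAlt z ∈ Subgroup.center (alternatingGroup (Fin 8)) := by
      rw [Subgroup.mem_center_iff]
      intro a
      obtain ⟨c, rfl⟩ := toAlt_surjective a
      rw [← map_mul, Subgroup.mem_center_iff.mp hz c, map_mul]
    rwa [alternatingGroup.center_eq_bot (by simp), Subgroup.mem_bot] at this
  · rw [card_ker]
    have hz : (⟨tP, tP_mem⟩ : CT) ∈ Subgroup.center CT := t_central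
    haveI : Nontrivial (Subgroup.center CT) := ⟨⟨⟨_, hz⟩, 1, fun e =>
      t_ne (congrArg (fun x : Subgroup.center CT => (x.1 : Perm (Fin 275))) e)⟩⟩
    exact Finite.one_lt_card

theorem root_exists : ∃ g : CT, g * g = ⟨tP, tP_mem⟩ := by
  obtain ⟨hr, hm⟩ := sift_spec certD_ok mclRootWit
  rw [← CP_map] at hm
  obtain ⟨x, hx, he⟩ := hm
  refine ⟨⟨x.1, ⟨x, hx, rfl⟩⟩, Subtype.ext ?_⟩
  refine Equiv.ext fun i => Fin.ext ?_
  have h := List.all_eq_true.mp root_ok i (List.mem_range.mpr i.isLt)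
  rw [beq_iff_eq] at h
  have step : ∀ j : Fin 275, ((x.1 j : Fin 275) : ℕ) = sift mclCertD mclRootWit j := by
    intro j
    have := hr (Fin.castAdd 8 j)
    rw [← he, glue_left] at this
    exact this
  show ((x.1 * x.1) i : ℕ) = _
  rw [Perm.mul_apply, step, step, h]
  exact (t_repr.1 i).symm

theorem nonsplit_CT : Cfsg.IsNonsplitDoubleCover CT (alternatingGroup (Fin 8)) := by
  refine ⟨center_eq ▸ card_ker, ⟨(QuotientGroup.quotientMulEquivOfEq center_eq).trans
    (QuotientGroup.quotientKerEquivOfSurjective toAlt toAlt_surjective)⟩, fun L hL => ?_⟩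
  obtain ⟨g, hg⟩ := root_exists
  have hidx : L.index = 2 := by rw [hL.index_eq_card, center_eq, card_ker]
  have htL : (⟨tP, tP_mem⟩ : CT) ∈ L := hg ▸ Subgroup.mul_self_mem_of_index_two hidx g
  have htZ : (⟨tP, tP_mem⟩ : CT) ∈ Subgroup.center CT := t_central
  exact t_ne (congrArg Subtype.val (Subgroup.disjoint_def.mp hL.disjoint htZ htL))

theorem mem_allIdx : ∀ {c : List Lvl}, chk 275 c = true → ∀ {σ : Perm (Fin 275)}, σ ∈ grp 275 c →
    ∃ js ∈ allIdx c, σ = siftPerm 275 c js
  | [], _, σ, hσ => ⟨[], List.mem_singleton_self _, by simpa [grp, siftPerm] using hσ⟩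
  | L :: rest, hc, σ, hσ => by
    have hc' := hc
    simp only [chk, Bool.and_eq_true] at hc'
    obtain ⟨q, hq, τ, hτ, rfl⟩ := exists_decomp hc hσ
    obtain ⟨js, hjs, rfl⟩ := mem_allIdx hc'.2 hτ
    exact ⟨q :: js, List.mem_flatMap.mpr ⟨q, List.mem_range.mpr (Nat.lt_succ_of_le hq),
      List.mem_map.mpr ⟨js, hjs, rfl⟩⟩, rfl⟩

/-- The Sylow subgroup inside the group. -/
noncomputable def PS : Subgroup M := (grp 275 mclCertP).subgroupOf M

theorem P_le : grp 275 mclCertP ≤ M := by
  have h := sylOk_eq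
  simp only [sylOk, sylOk.subOkP, Bool.and_eq_true] at h
  exact grp_le_of_subOk mclCert_ok (wit := mclSylWit) h.1

theorem card_M : Nat.card M = 898128000 := by rw [card_grp mclCert_ok, moves_cover.2.2]

theorem conj_t {x : M} (hx : orderOf x = 2) : IsConj (⟨tP, t_repr.2⟩ : M) x := by
  haveI : Fact (Nat.Prime 2) := ⟨Nat.prime_two⟩
  have hcardP : Nat.card PS = 2 ^ (Nat.card M).factorization 2 := by
    rw [PS, Nat.card_congr (Subgroup.subgroupOfEquivOfLe P_le).toEquiv, card_grp certP_ok,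
      orders_ok.2.2, card_M]
    have h : (898128000 : ℕ).factorization 2 = 7 := by
      rw [show (898128000 : ℕ) = 2 ^ 7 * 7016625 by norm_num,
        Nat.factorization_mul (by norm_num) (by norm_num), Finsupp.add_apply,
        Nat.Prime.factorization_pow Nat.prime_two, Finsupp.single_eq_same,
        Nat.factorization_eq_zero_of_not_dvd (by norm_num)]
    rw [h]
    norm_num
  let S : Sylow 2 M := Sylow.ofCard PS hcardP
  have hp : IsPGroup 2 (Subgroup.zpowers x) :=
    IsPGroup.of_card (n := 1) (by rw [Nat.card_zpowers, hx, pow_one])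
  obtain ⟨Q, hQ⟩ := hp.exists_le_sylow
  obtain ⟨g, hg⟩ := MulAction.exists_smul_eq M Q S
  have hy : g * x * g⁻¹ ∈ PS := by
    have e : ((g • Q : Sylow 2 M) : Subgroup M) = PS := by rw [hg]; exact Sylow.coe_ofCard _ _
    rw [← e, Sylow.coe_subgroup_smul]
    exact ⟨x, hQ (Subgroup.mem_zpowers x), rfl⟩
  have hy2 : orderOf (g * x * g⁻¹) = 2 :=
    (orderOf_injective (MulAut.conj g).toMonoidHom (MulAut.conj g).injective x).trans hx
  suffices h : IsConj (⟨tP, t_repr.2⟩ : M) (g * x * g⁻¹) from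
    h.trans (isConj_iff.mpr ⟨g⁻¹, by simp [mul_assoc]⟩)
  generalize g * x * g⁻¹ = y at hy hy2
  obtain ⟨y, hyM⟩ := y
  obtain ⟨js, hjs, hyeq⟩ := mem_allIdx certP_ok (Subgroup.mem_subgroupOf.mp hy)
  obtain ⟨k, hk, hkj⟩ := List.getElem_of_mem hjs
  have h := sylOk_eq
  simp only [sylOk, Bool.and_eq_true, List.all_eq_true, List.mem_range, Bool.or_eq_true,
    List.any_eq_true, beq_iff_eq, bne_iff_ne, ne_eq] at h
  have hk' := h.2 k hk
  rw [List.getD_eq_getElem _ _ hk, hkj] at hk'
  have hyr : Repr y (sift mclCertP js) := by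
    rw [show y = siftPerm 275 mclCertP js from hyeq]; exact (sift_spec certP_ok js).1
  rcases hk' with (h1 | ⟨i, hi, h1⟩) | h1
  · exfalso
    have : (⟨y, hyM⟩ : M) = 1 :=
      Subtype.ext (Equiv.ext fun i => Fin.ext ((hyr i).trans (h1 i i.isLt)))
    rw [this, orderOf_one] at hy2
    exact absurd hy2 (by norm_num)
  · exfalso
    have hsq : (⟨y, hyM⟩ : M) ^ 2 = 1 := hy2 ▸ pow_orderOf_eq_one _
    have e := (hyr.mul hyr) ⟨i, hi⟩
    rw [← sq, show y ^ 2 = 1 from congrArg Subtype.val hsq] at e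
    exact h1 e.symm
  · obtain ⟨hcr, hcm⟩ := sift_spec mclCert_ok (mclConjWit.getD k [])
    refine isConj_iff.mpr ⟨⟨_, hcm⟩, ?_⟩
    rw [mul_inv_eq_iff_eq_mul]
    refine Subtype.ext (Equiv.ext fun i => Fin.ext ?_)
    show ((siftPerm 275 mclCert (mclConjWit.getD k []) * tP) i : ℕ) =
      ((y * siftPerm 275 mclCert (mclConjWit.getD k [])) i : ℕ)
    rw [(hcr.mul t_repr.1) i, (hyr.mul hcr) i]
    exact (h1 i i.isLt).symm

theorem order_t : orderOf (⟨tP, t_repr.2⟩ : M) = 2 :=
  orderOf_eq_prime (Subtype.ext ((sq tP).trans t_sq)) fun e => t_ne (congrArg Subtype.val e)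

/-- The centraliser in the group is the subgroup of pairs. -/
noncomputable def centEquiv : ↥(Subgroup.centralizer ({⟨tP, t_repr.2⟩} : Set M)) ≃* CT where
  toFun c := ⟨c.1.1, mem_CT_iff.mpr ⟨c.1.2,
    congrArg Subtype.val (Subgroup.mem_centralizer_singleton_iff.mp c.2)⟩⟩
  invFun c := ⟨⟨c.1, (mem_CT_iff.mp c.2).1⟩, Subgroup.mem_centralizer_singleton_iff.mpr
    (Subtype.ext (mem_CT_iff.mp c.2).2)⟩
  left_inv _ := rfl
  right_inv _ := rfl
  map_mul' _ _ := rfl

/-- A non-split double cover keeps its properties under isomorphism. -/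
theorem doubleCover_congr {H H' K : Type*} [Group H] [Group H'] [Group K] (e : H ≃* H')
    (h : Cfsg.IsNonsplitDoubleCover H K) : Cfsg.IsNonsplitDoubleCover H' K := by
  obtain ⟨h1, ⟨h2⟩, h3⟩ := h
  have hc : (Subgroup.center H).map e.toMonoidHom = Subgroup.center H' := by
    ext z
    rw [Subgroup.mem_map_equiv, Subgroup.mem_center_iff, Subgroup.mem_center_iff]
    refine ⟨fun hz g => e.symm.injective (by rw [map_mul, map_mul, hz]), fun hz g => ?_⟩
    exact e.injective (by rw [map_mul, map_mul, e.apply_symm_apply, hz])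
  refine ⟨?_, ⟨(QuotientGroup.congr _ _ e hc).symm.trans h2⟩, fun L hL => ?_⟩
  · rw [← hc]
    exact (Nat.card_congr (e.subgroupMap (Subgroup.center H)).toEquiv).symm.trans h1
  · refine h3 (L.map e.symm.toMonoidHom) (Subgroup.isComplement'_of_disjoint_and_mul_eq_univ ?_ ?_)
    · rw [Subgroup.disjoint_def]
      intro x hx hxL
      obtain ⟨y, hy, rfl⟩ := hxL
      have : y = 1 := Subgroup.disjoint_def.mp hL.disjoint
        (hc ▸ ⟨_, hx, e.apply_symm_apply y⟩) hy
      rw [this, map_one]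
    · refine Set.eq_univ_of_forall fun x => ?_
      obtain ⟨⟨⟨a, ha⟩, ⟨b, hb⟩⟩, hab, -⟩ := hL.existsUnique (e x)
      refine ⟨e.symm a, ?_, e.symm b, ⟨b, hb, rfl⟩, ?_⟩
      · rw [← hc] at ha
        obtain ⟨a', ha', rfl⟩ := ha
        simpa using ha'
      · show e.symm a * e.symm b = x
        rw [← map_mul]; exact (congrArg e.symm hab).trans (e.symm_apply_apply x)

theorem main : (∀ x y : M, orderOf x = 2 → orderOf y = 2 → IsConj x y) ∧
    ∃ t : M, orderOf t = 2 ∧
      Cfsg.IsNonsplitDoubleCover ↥(Subgroup.centralizer ({t} : Set M)) ↥(alternatingGroup (Fin 8)) :=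
  ⟨fun _ _ hx hy => (conj_t hx).symm.trans (conj_t hy), _, order_t,
    doubleCover_congr centEquiv.symm nonsplit_CT⟩

end Cfsg.Agent.Lib.Recognition.McLInv
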