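import Cfsg.Agent.Lib.Compute.CertTools

/-!
# Sifting a given permutation along a certificate
-/

set_option autoImplicit false

namespace Cfsg.Agent.Lib.Recognition

open Cfsg.Agent.Lib.Compute Equiv

/-- Index lists whose product agrees with `P` on the base points. -/
def targCands (P : ℕ) : List Lvl → (ℕ → ℕ) → List (List ℕ)
  | [], _ => [[]]
  | L :: rest, f => (List.range (L.trans.length + 1)).flatMap fun q =>
      if f (tfun L q L.base) = app P L.base then
        (targCands P rest fun i => f (tfun L q i)).map (q :: ·)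
      else []

theorem exists_targCands {n P : ℕ} {X : Perm (Fin n)} (hX : Repr X (app P)) :
    ∀ {c : List Lvl}, chk n c = true → ∀ {f : ℕ → ℕ} {π σ : Perm (Fin n)},
      Repr π f → σ ∈ grp n c → π * σ = X → ∃ js ∈ targCands P c f, σ = siftPerm n c js := by
  intro c
  induction c with
  | nil =>
    intro _ f π σ _ hσ _
    refine ⟨[], List.mem_singleton_self _, ?_⟩
    simpa [grp, siftPerm] using hσ
  | cons L rest ih =>
    intro hc f π σ hπ hσ he
    have hc' := hc
    simp only [chk, Bool.and_eq_true] at hc'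
    obtain ⟨hb, hg, ht, -, -, -⟩ := lvlOk_iff hc'.1
    obtain ⟨q, hq, τ, hτ, rfl⟩ := exists_decomp hc hσ
    have hrt := (trans_spec (rest := rest) hg ht q).1
    obtain ⟨js, hjs, hτe⟩ := ih hc'.2 (π := π * tperm n L q) (σ := τ) (hπ.mul hrt) hτ
      (by rw [mul_assoc, he])
    refine ⟨q :: js, ?_, by rw [hτe]; simp [siftPerm]⟩
    rw [targCands, List.mem_flatMap]
    refine ⟨q, List.mem_range.mpr (Nat.lt_succ_of_le hq), ?_⟩
    rw [if_pos, List.mem_map]
    · exact ⟨js, hjs, rfl⟩
    have e := hX ⟨L.base, hb⟩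
    rw [← he, Perm.mul_apply, Perm.mul_apply, grp_rest_fixes hc'.1 hc'.2 ⟨L.base, hb⟩ rfl hτ, hπ,
      hrt] at e
    exact e

end Cfsg.Agent.Lib.Recognition
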