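import Cfsg.Agent.Lib.Recognition.McLSelfCent
import Cfsg.Agent.Lib.Recognition.McLCentC
import Cfsg.Agent.Lib.Recognition.McLCertCheck
import Cfsg.Agent.Lib.Recognition.TargetCands
import Cfsg.Agent.Lib.Compute.OuterAut

/-!
# The group on 275 points has exactly two outer automorphism classes
-/

set_option autoImplicit false
set_option maxRecDepth 100000

namespace Cfsg.Agent.Lib.Recognition.McLOut

open Cfsg.Agent.Lib.Compute Equiv

/-- The group. -/
noncomputable abbrev McL275 : Subgroup (Perm (Fin 275)) := grp 275 mclCert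

theorem certA_eq : grp 275 mclCertA = McL275 :=
  le_antisymm (grp_le_of_subOk mclCert_ok (wit := mclCertAInto) (by decide +kernel))
    (grp_le_of_subOk mclCertA_ok (wit := mclCertAFrom) (by decide +kernel))

theorem certC_eq : grp 275 mclCertC = McL275 :=
  le_antisymm (grp_le_of_subOk mclCert_ok (wit := mclCertCInto) (by decide +kernel))
    (grp_le_of_subOk mclCertC_ok (wit := mclCertCFrom) (by decide +kernel))

theorem elts_mem :
    [mclA, mclA₂, mclC, mclB, mclB₂].all (fun P => memW 275 mclCert P mclEltWit) = true := by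
  decide +kernel

theorem elt_spec {P : ℕ} (hP : P ∈ [mclA, mclA₂, mclC, mclB, mclB₂]) :
    Valid 275 P ∧ toPerm 275 P ∈ McL275 :=
  memW_spec mclCert_ok (List.all_eq_true.mp elts_mem P hP)

theorem gen_ok : slpOk 275 [mclA, mclB] mclGenSteps = true ∧
    slpCovers [mclA, mclB] mclGenSteps mclCert = true := by
  decide +kernel

theorem basic_ok : (sameOn 275 (app mclA)^[11] (fun i => i) &&
    !(sameOn 275 (app mclA) fun i => i) &&
    sameOn 275 (fun i => app mclC (app mclA i)) (fun i => (app mclA)^[3] (app mclC i)) &&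
    sameOn 275 (fun i => app mclC (app mclA₂ i)) (fun i => (app mclA₂)^[3] (app mclC i)) &&
    sameOn 275 (app mclA)^[10] (app mclA₂) && sameOn 275 (app mclA₂)^[10] (app mclA) &&
    sameOn 275 (fun i => app mclB (app mclC i)) (fun i => app mclC (app mclB i)) &&
    orderSig 275 mclWords (app mclA) (app mclB)) = true := by
  decide +kernel

theorem pow_ok : ((List.range 10).all fun k =>
    sameOn 275
      (fun i => sift mclCert (mclPowWit.getD k ([], false)).1 ((app mclA)^[k + 1] i))
      (fun i => app (if (mclPowWit.getD k ([], false)).2 then mclA₂ else mclA)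
        (sift mclCert (mclPowWit.getD k ([], false)).1 i))) = true := by
  decide +kernel

theorem card_mcl : Nat.card McL275 = 898128000 := by
  rw [card_grp mclCert_ok]; decide +kernel

theorem card_out_le : Nat.card (Cfsg.Out McL275) ≤ 2 := by
  obtain ⟨hva, hma⟩ := elt_spec (P := mclA) (by simp)
  obtain ⟨hva', hma'⟩ := elt_spec (P := mclA₂) (by simp)
  obtain ⟨hvc, hmc⟩ := elt_spec (P := mclC) (by simp)
  obtain ⟨hvb, hmb⟩ := elt_spec (P := mclB) (by simp)
  obtain ⟨hvb', hmb'⟩ := elt_spec (P := mclB₂) (by simp)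
  have hok := basic_ok
  simp only [Bool.and_eq_true, Bool.not_eq_true'] at hok
  obtain ⟨⟨⟨⟨⟨⟨⟨h11, h1⟩, hr⟩, hr'⟩, ha'⟩, ha''⟩, hbc⟩, hW⟩ := hok
  let a : McL275 := ⟨_, hma⟩
  let a' : McL275 := ⟨_, hma'⟩
  let c : McL275 := ⟨_, hmc⟩
  let b : McL275 := ⟨_, hmb⟩
  let b' : McL275 := ⟨_, hmb'⟩
  haveI : Fact (Nat.Prime 11) := ⟨by norm_num⟩
  refine card_out_le_two' (p := 11) a a' c b b' ?_ ?_ ?_ ?_ (r := 3) (s := 6) ?_ ?_ rfl (by norm_num)
    ?_ ?_ ?_ ?_ (W := mclWords) hva.repr hva'.repr hvb.repr hW ?_ ?_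
  · refine orderOf_eq_prime (Subtype.ext ?_) fun h0 => ?_
    · rw [Subgroup.coe_pow]
      exact (Repr.eq_of_sameOn (repr_pow hva.repr 11) Repr.one h11).trans rfl
    · rw [sameOn_of_eq hva.repr Repr.one (congrArg Subtype.val h0)] at h1
      exact Bool.false_ne_true h1.symm
  · rw [card_mcl]; norm_num
  · apply Subgroup.map_injective (Subgroup.subtype_injective McL275)
    rw [MonoidHom.map_closure, ← MonoidHom.range_eq_map, Subgroup.range_subtype, Set.image_pair]
    refine le_antisymm ((Subgroup.closure_le _).mpr ?_) ?_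
    · rintro x (rfl | rfl)
      · exact hma
      · exact hmb
    · refine (grp_le_closure (base := [mclA, mclB]) ?_ gen_ok.1 gen_ok.2).trans
        (Subgroup.closure_mono ?_)
      · intro x hx
        simp only [List.mem_cons, List.not_mem_nil, or_false] at hx
        rcases hx with rfl | rfl
        · exact hva
        · exact hvb
      · rintro _ ⟨x, hx, rfl⟩
        simp only [Set.mem_setOf_eq, List.mem_cons, List.not_mem_nil, or_false] at hx
        rcases hx with rfl | rfl
        · exact Or.inl rfl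
        · exact Or.inr rfl
  · exact Subtype.ext (Repr.eq_of_sameOn (hvb.repr.mul hvc.repr) (hvc.repr.mul hvb.repr) hbc)
  · rw [mul_inv_eq_iff_eq_mul]
    exact Subtype.ext (Repr.eq_of_sameOn (hvc.repr.mul hva.repr)
      ((repr_pow hva.repr 3).mul hvc.repr) hr)
  · rw [mul_inv_eq_iff_eq_mul]
    exact Subtype.ext (Repr.eq_of_sameOn (hvc.repr.mul hva'.repr)
      ((repr_pow hva'.repr 3).mul hvc.repr) hr')
  · exact ⟨10, Subtype.ext (Repr.eq_of_sameOn (repr_pow hva.repr 10) hva'.repr ha')⟩
  · exact ⟨10, Subtype.ext (Repr.eq_of_sameOn (repr_pow hva'.repr 10) hva.repr ha'')⟩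
  · intro σ hσ
    obtain ⟨m, hm⟩ := mem_zpowers_of_selfCentOk mclCertA_ok hva selfCent
      (certA_eq.symm ▸ σ.2) (congrArg Subtype.val hσ)
    exact ⟨m, Subtype.ext hm⟩
  · intro k hk hk0
    obtain ⟨m, rfl⟩ : ∃ m, k = m + 1 := ⟨k - 1, by omega⟩
    obtain ⟨hrs, hms⟩ := sift_spec mclCert_ok (mclPowWit.getD m ([], false)).1
    refine ⟨⟨_, hms⟩, ?_⟩
    have h := List.all_eq_true.mp pow_ok m (List.mem_range.mpr (by omega))
    cases hflag : (mclPowWit.getD m ([], false)).2 with
    | false =>
      rw [hflag, if_neg Bool.false_ne_true] at h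
      left
      rw [mul_inv_eq_iff_eq_mul]
      exact Subtype.ext (Repr.eq_of_sameOn (hrs.mul (repr_pow hva.repr (m + 1))) (hva.repr.mul hrs) h)
    | true =>
      rw [hflag, if_pos rfl] at h
      right
      rw [mul_inv_eq_iff_eq_mul]
      exact Subtype.ext (Repr.eq_of_sameOn (hrs.mul (repr_pow hva.repr (m + 1))) (hva'.repr.mul hrs) h)
  · intro σ hσc hσW
    obtain ⟨x, hx, -⟩ := mem_of_inListOk mclCertC_ok hvc (by simp) inList₂ (certC_eq.symm ▸ σ.2)
      (congrArg Subtype.val hσc) hσW
    simp at hx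
  · intro σ hσc hσW
    obtain ⟨x, hx, he⟩ := mem_of_inListOk mclCertC_ok hvc
      (by simp only [List.mem_cons, List.not_mem_nil, or_false, forall_eq_or_imp, forall_eq]
          exact ⟨hvb, hvb'⟩) inList (certC_eq.symm ▸ σ.2)
      (congrArg Subtype.val hσc) hσW
    simp only [List.mem_cons, List.not_mem_nil, or_false] at hx
    rcases hx with rfl | rfl
    · exact Or.inl (Subtype.ext he)
    · exact Or.inr (Subtype.ext he)

theorem outer_ok :
    (genOk 275 (mclOuter, mclOuterInv) && normOk 275 mclCert mclOuter mclNormWit) = true := by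
  decide +kernel

theorem outer_notMem : toPerm 275 mclOuter ∉ McL275 := by
  intro h
  have hok := outer_ok
  rw [Bool.and_eq_true] at hok
  have hX := (valid_of_genOk hok.1).repr
  obtain ⟨js, hjs, he⟩ := exists_targCands hX mclCert_ok (f := fun i => i) (π := 1) Repr.one h
    (one_mul _)
  have hno : ((targCands mclOuter mclCert fun i => i).all
      fun js => !(sameOn 275 (app mclOuter) (sift mclCert js))) = true := by decide +kernel
  have := List.all_eq_true.mp hno js hjs
  rw [sameOn_of_eq hX (sift_spec mclCert_ok js).1 he] at this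
  exact Bool.false_ne_true this

theorem orbit_full :
    (List.range 275).all (fun x => (Compute.orbit mclCert0).contains x) = true := by
  decide +kernel

theorem center_trivial {u : Perm (Fin 275)} (hu : ∀ s ∈ McL275, u * s = s * u) : u = 1 := by
  have hb : mclCert0.base = 1 := by decide +kernel
  have hc : chk 275 (mclCert0 :: [mclCert1, mclCert2, mclCert3, mclCert4]) = true := mclCert_ok
  have h := testBit_of_centralizes hc (F := 2) (by decide +kernel) hu 1 (by rw [hb]; rfl)
  have h0 : u 1 = 1 := by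
    have key : ∀ y : Fin 275, Nat.testBit 2 y = true → y = 1 := by decide +kernel
    exact key _ h
  ext1 x
  obtain ⟨σ, hσ, hx⟩ := (mem_orbit_iff hc 1 x (by rw [hb]; rfl)).mpr
    (List.contains_iff_mem.mp (List.all_eq_true.mp orbit_full x (List.mem_range.mpr x.isLt)))
  have := congrArg (fun τ : Perm (Fin 275) => τ 1) (hu σ hσ)
  simp only [Perm.mul_apply, h0] at this
  rw [← hx]
  exact this

theorem card_out_mcl275 : Nat.card (Cfsg.Out McL275) = 2 := by
  have h := outer_ok
  rw [Bool.and_eq_true] at h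
  obtain ⟨φ, hφ⟩ := exists_aut_of_normOk mclCert_ok (valid_of_genOk h.1) h.2
  refine card_out_eq_two card_out_le φ fun hin => ?_
  obtain ⟨k, hk, hcomm⟩ := hφ hin
  refine outer_notMem ?_
  rw [← inv_mul_cancel_left k (toPerm 275 mclOuter), center_trivial hcomm, mul_one]
  exact inv_mem hk

end Cfsg.Agent.Lib.Recognition.McLOut
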