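import Cfsg.Agent.Lib.Recognition.CentralizerOutTwo
import Cfsg.Agent.Lib.Recognition.McLCertACheck
import Cfsg.Agent.Lib.Recognition.McLOutData

/-!
# The centraliser of an element of order 11
-/

set_option autoImplicit false
set_option maxRecDepth 100000

namespace Cfsg.Agent.Lib.Recognition.McLOut

open Cfsg.Agent.Lib.Compute

theorem selfCent : selfCentOk 275 11 mclCertA mclA = true := by decide +kernel

end Cfsg.Agent.Lib.Recognition.McLOut
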