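import Mathlib.GroupTheory.Sylow
import Mathlib.GroupTheory.Nilpotent
import Mathlib.GroupTheory.GroupAction.Quotient
import Mathlib.Tactic

/-!
A subgroup of a finite p-group that contains its own normalizer is the whole group.
-/

set_option autoImplicit false

namespace Cfsg.Agent.Lib.Recognition

variable {G : Type*} [Group G]

/-- A subgroup of a finite `p`-group `S` containing its normalizer in `S` equals `S`. -/
theorem eq_of_normalizer_le_of_pGroup [Finite G] {p : ℕ} [Fact p.Prime] {P S : Subgroup G}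
    (hS : IsPGroup p S) (hle : P ≤ S) (h : ∀ y ∈ S, y ∈ Subgroup.normalizer (P : Set G) → y ∈ P) :
    P = S := by
  haveI : Group.IsNilpotent S := hS.isNilpotent
  refine le_antisymm hle (fun x hx => ?_)
  by_contra hxP
  have hlt : P.subgroupOf S < ⊤ :=
    lt_top_iff_ne_top.2 fun e => hxP (Subgroup.subgroupOf_eq_top.1 e hx)
  obtain ⟨⟨y, hyS⟩, hy, hyn⟩ :=
    SetLike.exists_of_lt (normalizerCondition_of_isNilpotent (P.subgroupOf S) hlt)
  refine hyn (Subgroup.mem_subgroupOf.2 (h y hyS ?_))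
  refine Subgroup.mem_normalizer_fintype (S := (P : Set G)) (x := y) fun z hz => ?_
  exact (Subgroup.mem_normalizer_iff.1 hy ⟨z, hle hz⟩).1 hz

/-- An element permuting a finite set with fewer than `p` points fixes each of them, if its order is a power of `p`. -/
theorem smul_eq_of_ncard_lt [Finite G] {Ω : Type*} [MulAction G Ω] [Finite Ω] {p : ℕ} [hp : Fact p.Prime]
    {S : Subgroup G} (hS : IsPGroup p S) {y : G} (hy : y ∈ S) {F : Set Ω} (hF : F.ncard < p)
    (hinv : ∀ x ∈ F, y • x ∈ F) {x : Ω} (hx : x ∈ F) : y • x = x := by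
  have hpow : ∀ n : ℕ, y ^ n • x ∈ F := by
    intro n
    induction n with
    | zero => simpa using hx
    | succ n ih => rw [pow_succ', mul_smul]; exact hinv _ ih
  have hsub : MulAction.orbit (Subgroup.zpowers y) x ⊆ F := by
    rintro _ ⟨⟨z, hz⟩, rfl⟩
    obtain ⟨n, rfl⟩ := mem_powers_iff_mem_zpowers.2 hz
    exact hpow n
  obtain ⟨n, hn⟩ := (hS.to_le ((Subgroup.zpowers_le (g := y)).2 hy)).card_orbit x
  rw [Nat.card_coe_set_eq] at hn
  have hlt : p ^ n < p ^ 1 := by
    rw [pow_one, ← hn]; exact (Set.ncard_le_ncard hsub).trans_lt hF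
  have hn0 : n = 0 := by
    have := (Nat.pow_lt_pow_iff_right hp.out.one_lt).1 hlt
    omega
  rw [hn0, pow_zero, Set.ncard_eq_one] at hn
  obtain ⟨a, ha⟩ := hn
  have h1 : x ∈ MulAction.orbit (Subgroup.zpowers y) x := MulAction.mem_orbit_self x
  have h2 : y • x ∈ MulAction.orbit (Subgroup.zpowers y) x := ⟨⟨y, Subgroup.mem_zpowers y⟩, rfl⟩
  rw [ha, Set.mem_singleton_iff] at h1 h2
  rw [h2, h1]

end Cfsg.Agent.Lib.Recognition
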