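import Mathlib

/-!
7 × 7 matrices over the integers modulo 11 with rows packed into natural numbers, for kernel computations.
-/

set_option autoImplicit false

namespace Cfsg.Agent.Lib.Recognition.Packed

/-- A matrix by packed rows. -/
structure M7 where
  r0 : ℕ
  r1 : ℕ
  r2 : ℕ
  r3 : ℕ
  r4 : ℕ
  r5 : ℕ
  r6 : ℕ

/-- A field of a packed row. -/
def dig (r : ℕ) : Fin 7 → ℕ :=
  ![r % 65536,
    r / 65536 % 65536,
    r / 65536 / 65536 % 65536,
    r / 65536 / 65536 / 65536 % 65536,
    r / 65536 / 65536 / 65536 / 65536 % 65536,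
    r / 65536 / 65536 / 65536 / 65536 / 65536 % 65536,
    r / 65536 / 65536 / 65536 / 65536 / 65536 / 65536 % 65536]

/-- Packing of seven fields. -/
def pack7 (a0 a1 a2 a3 a4 a5 a6 : ℕ) : ℕ :=
  a0 + 65536 * (a1 + 65536 * (a2 + 65536 * (a3 + 65536 * (a4 + 65536 * (a5 + 65536 * a6)))))

/-- Reduction of the fields modulo 11. -/
def red (c : ℕ) : ℕ :=
  pack7 (c % 65536 % 11)
    (c / 65536 % 65536 % 11)
    (c / 65536 / 65536 % 65536 % 11)
    (c / 65536 / 65536 / 65536 % 65536 % 11)
    (c / 65536 / 65536 / 65536 / 65536 % 65536 % 11)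
    (c / 65536 / 65536 / 65536 / 65536 / 65536 % 65536 % 11)
    (c / 65536 / 65536 / 65536 / 65536 / 65536 / 65536 % 65536 % 11)

/-- A row times a matrix, without reduction. -/
def comb (r : ℕ) (B : M7) : ℕ :=
  (r % 65536 % 11) * B.r0
    + (r / 65536 % 65536 % 11) * B.r1
    + (r / 65536 / 65536 % 65536 % 11) * B.r2
    + (r / 65536 / 65536 / 65536 % 65536 % 11) * B.r3
    + (r / 65536 / 65536 / 65536 / 65536 % 65536 % 11) * B.r4
    + (r / 65536 / 65536 / 65536 / 65536 / 65536 % 65536 % 11) * B.r5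
    + (r / 65536 / 65536 / 65536 / 65536 / 65536 / 65536 % 65536 % 11) * B.r6

/-- Matrix product. -/
def mul (A B : M7) : M7 :=
  ⟨red (comb A.r0 B), red (comb A.r1 B), red (comb A.r2 B), red (comb A.r3 B), red (comb A.r4 B),
    red (comb A.r5 B), red (comb A.r6 B)⟩

/-- Comparison. -/
def eqb (A B : M7) : Bool :=
  A.r0 == B.r0 && A.r1 == B.r1 && A.r2 == B.r2 && A.r3 == B.r3 && A.r4 == B.r4 && A.r5 == B.r5 && A.r6 == B.r6

theorem eq_of_eqb {A B : M7} (h : eqb A B = true) : A = B := by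
  obtain ⟨a0, a1, a2, a3, a4, a5, a6⟩ := A
  obtain ⟨b0, b1, b2, b3, b4, b5, b6⟩ := B
  simp [eqb] at h
  obtain ⟨⟨⟨⟨⟨⟨rfl, rfl⟩, rfl⟩, rfl⟩, rfl⟩, rfl⟩, rfl⟩ := h
  rfl

/-- The row with a given index. -/
def row (A : M7) : Fin 7 → ℕ := ![A.r0, A.r1, A.r2, A.r3, A.r4, A.r5, A.r6]

/-- All fields are reduced. -/
def wf (A : M7) : Bool :=
  red A.r0 == A.r0 && red A.r1 == A.r1 && red A.r2 == A.r2 && red A.r3 == A.r3 && red A.r4 == A.r4
    && red A.r5 == A.r5 && red A.r6 == A.r6

/-- The matrix encoded by a packed matrix. -/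
def toMat (A : M7) : Matrix (Fin 7) (Fin 7) (ZMod 11) := Matrix.of fun i j => (dig (row A i) j : ZMod 11)

theorem dig_pack7 {a0 a1 a2 a3 a4 a5 a6 : ℕ} (h0 : a0 < 65536) (h1 : a1 < 65536) (h2 : a2 < 65536)
    (h3 : a3 < 65536) (h4 : a4 < 65536) (h5 : a5 < 65536) (h6 : a6 < 65536) :
    dig (pack7 a0 a1 a2 a3 a4 a5 a6) = ![a0, a1, a2, a3, a4, a5, a6] := by
  funext j
  have hd : ∀ a x : ℕ, a < 65536 → (a + 65536 * x) / 65536 = x := fun a x h => by omega
  have hm : ∀ a x : ℕ, a < 65536 → (a + 65536 * x) % 65536 = a := fun a x h => by omega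
  simp only [dig, pack7, hd _ _ h0, hm _ _ h0, hd _ _ h1, hm _ _ h1, hd _ _ h2, hm _ _ h2, hd _ _ h3, hm _ _ h3,
    hd _ _ h4, hm _ _ h4, hd _ _ h5, hm _ _ h5, Nat.mod_eq_of_lt h6]

theorem dig_red (c : ℕ) (j : Fin 7) : dig (red c) j = dig c j % 11 := by
  rw [red, dig_pack7 (by omega) (by omega) (by omega) (by omega) (by omega) (by omega) (by omega)]
  fin_cases j <;> simp [dig]

theorem red_eq_of_wf {A : M7} (h : wf A = true) (k : Fin 7) : red (row A k) = row A k := by
  simp [wf] at h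
  fin_cases k <;> simp [row, h]

theorem dig_comb (r : ℕ) {B : M7} (hB : wf B = true) (j : Fin 7) :
    dig (comb r B) j = ∑ k : Fin 7, dig r k % 11 * dig (row B k) j := by
  have hd : ∀ k j, dig (row B k) j < 11 := fun k j => by
    rw [← red_eq_of_wf hB k, dig_red]; exact Nat.mod_lt _ (by norm_num)
  have hrow : ∀ k, row B k = pack7 (dig (row B k) 0) (dig (row B k) 1) (dig (row B k) 2) (dig (row B k) 3)
      (dig (row B k) 4) (dig (row B k) 5) (dig (row B k) 6) := fun k => by
    conv_lhs => rw [← red_eq_of_wf hB k]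
    show pack7 (dig (row B k) 0 % 11) (dig (row B k) 1 % 11) (dig (row B k) 2 % 11) (dig (row B k) 3 % 11)
      (dig (row B k) 4 % 11) (dig (row B k) 5 % 11) (dig (row B k) 6 % 11) = _
    simp only [Nat.mod_eq_of_lt (hd k _)]
  have hsum : ∀ k : Fin 7 → ℕ, comb r B = pack7 (∑ k, dig r k % 11 * dig (row B k) 0) (∑ k, dig r k % 11 * dig (row B k) 1)
      (∑ k, dig r k % 11 * dig (row B k) 2) (∑ k, dig r k % 11 * dig (row B k) 3)
      (∑ k, dig r k % 11 * dig (row B k) 4) (∑ k, dig r k % 11 * dig (row B k) 5)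
      (∑ k, dig r k % 11 * dig (row B k) 6) := fun _ => by
    have e : comb r B = ∑ k, dig r k % 11 * row B k := by
      simp [comb, Fin.sum_univ_seven, row, dig]
    rw [e]
    conv_lhs => arg 2; ext k; rw [hrow k]
    simp only [pack7, mul_add, Finset.sum_add_distrib, Finset.mul_sum, Nat.mul_left_comm _ 65536, mul_comm]
  have hb : ∀ j, ∑ k, dig r k % 11 * dig (row B k) j < 65536 := fun j => by
    refine lt_of_le_of_lt (Finset.sum_le_sum (g := fun _ => 100) fun k _ => ?_) (by simp)
    have h1 : dig r k % 11 ≤ 10 := by omega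
    have h2 := hd k j
    calc dig r k % 11 * dig (row B k) j ≤ 10 * 10 := Nat.mul_le_mul h1 (by omega)
      _ = 100 := by norm_num
  rw [hsum (fun _ => 0), dig_pack7 (hb 0) (hb 1) (hb 2) (hb 3) (hb 4) (hb 5) (hb 6)]
  fin_cases j <;> rfl

theorem row_mul (A B : M7) (i : Fin 7) : row (mul A B) i = red (comb (row A i) B) := by
  fin_cases i <;> rfl

theorem toMat_mul (A : M7) {B : M7} (hB : wf B = true) : toMat (mul A B) = toMat A * toMat B := by
  ext i j
  rw [Matrix.mul_apply]
  simp only [toMat, Matrix.of_apply, row_mul, dig_red, dig_comb _ hB, ZMod.natCast_mod, Nat.cast_sum, Nat.cast_mul]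

theorem wf_mul (A B : M7) : wf (mul A B) = true := by
  have h : ∀ c, red (red c) = red c := fun c => by
    have e : ∀ x, red x = pack7 (dig x 0 % 11) (dig x 1 % 11) (dig x 2 % 11) (dig x 3 % 11) (dig x 4 % 11)
        (dig x 5 % 11) (dig x 6 % 11) := fun x => rfl
    rw [e (red c)]
    simp only [dig_red, Nat.mod_mod]
    exact (e c).symm
  simp [wf, mul, h]

/-- The identity matrix. -/
def one : M7 :=
  ⟨1, 65536, 4294967296, 281474976710656, 18446744073709551616, 1208925819614629174706176,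
    79228162514264337593543950336⟩

theorem toMat_one : toMat one = 1 := by decide +kernel

/-- Powers by repeated squaring on a fixed list of binary digits. -/
def powBits (g : M7) : List Bool → M7
  | [] => one
  | b :: bs => let s := powBits g bs; let q := mul s s; if b then mul g q else q

/-- Value of a list of binary digits. -/
def bitsVal : List Bool → ℕ
  | [] => 0
  | b :: bs => bitsVal bs + bitsVal bs + (if b then 1 else 0)

theorem wf_one : wf one = true := by decide +kernel

theorem wf_powBits (g : M7) : ∀ bs, wf (powBits g bs) = true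
  | [] => wf_one
  | true :: bs => wf_mul _ _
  | false :: bs => wf_mul _ _

theorem toMat_powBits (g : M7) : ∀ bs, toMat (powBits g bs) = toMat g ^ bitsVal bs
  | [] => by rw [bitsVal, pow_zero]; exact toMat_one
  | true :: bs => by
    show toMat (mul g (mul (powBits g bs) (powBits g bs))) = toMat g ^ (bitsVal bs + bitsVal bs + 1)
    rw [toMat_mul _ (wf_mul _ _), toMat_mul _ (wf_powBits g bs), toMat_powBits g bs, ← pow_add, ← pow_succ']
  | false :: bs => by
    show toMat (mul (powBits g bs) (powBits g bs)) = toMat g ^ (bitsVal bs + bitsVal bs + 0)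
    rw [toMat_mul _ (wf_powBits g bs), toMat_powBits g bs, ← pow_add, Nat.add_zero]

end Cfsg.Agent.Lib.Recognition.Packed
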