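import Cfsg.Agent.Lib.Compute.GolayFacts
import Cfsg.Prelude.Def_Spor_Mathieu

/-!
# The eleven-dimensional subcode of the Golay code at a point and a loop cocycle on it

`theta` is linear in its first argument; its failure of linearity in the second is the triple
intersection parity, and its diagonal is one quarter of the weight.
-/

set_option autoImplicit false

namespace Cfsg.Agent.Lib.Recognition.ParkerM23

open Cfsg Cfsg.Agent.Lib.Compute Equiv

/-- The words of the code vanishing at the extra point. -/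
def cInf : Submodule (ZMod 2) (GolayPt → ZMod 2) :=
  golayCode ⊓ LinearMap.ker (LinearMap.proj (R := ZMod 2) (φ := fun _ : GolayPt => ZMod 2) none)

theorem mem_cInf {w : GolayPt → ZMod 2} : w ∈ cInf ↔ w ∈ golayCode ∧ w none = 0 := Iff.rfl

/-- The information positions. -/
def pos (i : Fin 11) : GolayPt := enc.symm ⟨12 + i, by omega⟩

/-- Masks of the basis dual to the information positions. -/
def evT : Fin 11 → ℕ :=
  ![0x149f, 0x293e, 0x46e3, 0x8dc6, 0x10f13, 0x20ab9, 0x401ed, 0x803da, 0x1007b4, 0x200f68,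
    0x400a4f]

/-- The basis dual to the information positions. -/
def ev (i : Fin 11) : GolayPt → ZMod 2 := wordOf (evT i)

theorem evT_ok : ∀ i : Fin 11, inCode (evT i) = true ∧ (evT i).testBit 23 = false := by
  decide +kernel

theorem enc_none : ((enc (none : GolayPt) : Fin 24) : ℕ) = 23 := by decide +kernel

theorem wordOf_none (m : ℕ) : wordOf m none = if m.testBit 23 then 1 else 0 := by
  simp [wordOf, enc_none]

theorem ev_mem (i : Fin 11) : ev i ∈ cInf :=
  mem_cInf.mpr ⟨wordOf_mem_of_inCode (evT_ok i).1, by simp [ev, wordOf_none, (evT_ok i).2]⟩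

theorem ev_pos : ∀ i j : Fin 11, wordOf (evT j) (pos i) = if i = j then 1 else 0 := by
  decide +kernel

theorem pivots_check : codeList.all (fun m =>
    (List.range 12).any (fun i => m.testBit (12 + i)) || m == 0) = true := by decide +kernel

theorem eq_zero_of_pivots {w : GolayPt → ZMod 2} (hw : w ∈ cInf) (h : ∀ i, w (pos i) = 0) :
    w = 0 := by
  obtain ⟨hc, hn⟩ := mem_cInf.mp hw
  obtain ⟨m, hm, rfl⟩ := mem_golayCode_iff.mp hc
  have h1 := List.all_eq_true.mp pivots_check m hm
  rcases Bool.or_eq_true_iff.mp h1 with h2 | h2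
  · obtain ⟨i, hi, hb⟩ := List.any_eq_true.mp h2
    rw [List.mem_range] at hi
    rcases Nat.lt_or_ge i 11 with hi' | hi'
    · have := h ⟨i, hi'⟩
      simp [wordOf, pos, hb] at this
    · obtain rfl : i = 11 := by omega
      rw [show (12 + 11 : ℕ) = 23 from rfl] at hb
      simp [wordOf_none, hb] at hn
  · rw [beq_iff_eq] at h2
    rw [h2, wordOf_zero]

theorem expand {w : GolayPt → ZMod 2} (hw : w ∈ cInf) : w = ∑ i, w (pos i) • ev i := by
  refine sub_eq_zero.mp (eq_zero_of_pivots
    (sub_mem hw (Submodule.sum_mem _ fun i _ => Submodule.smul_mem _ _ (ev_mem i))) fun i => ?_)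
  simp [ev, Finset.sum_apply, ev_pos]

/-- Code words with a single bit among the first twelve positions. -/
def dualT : Fin 12 → ℕ :=
  ![0xc75001, 0x49f002, 0xd4b004, 0x6e3008, 0x9b3010, 0xb66020, 0xecc040, 0x1ed080, 0x3da100,
    0x7b4200, 0xb1d400, 0xe3a800]

/-- The twelve basis masks ordered by pivot. -/
def bT : Fin 12 → ℕ :=
  ![0x149f, 0x293e, 0x46e3, 0x8dc6, 0x10f13, 0x20ab9, 0x401ed, 0x803da, 0x1007b4, 0x200f68,
    0x400a4f, 0x800c75]

/-- The first twelve positions. -/
def low (j : Fin 12) : GolayPt := enc.symm ⟨j, by omega⟩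

/-- The last twelve positions. -/
def high (i : Fin 12) : GolayPt := enc.symm ⟨12 + i, by omega⟩

theorem dualT_ok : ∀ k : Fin 12, inCode (dualT k) = true ∧ inCode (bT k) = true := by
  decide +kernel

theorem dualT_low : ∀ k j : Fin 12, wordOf (dualT k) (low j) =
    if j = k then 1 else 0 := by decide +kernel

theorem bT_high : ∀ (i : Fin 12) (p : GolayPt), 12 ≤ ((enc p : Fin 24) : ℕ) →
    wordOf (bT i) p = if p = high i then 1 else 0 := by decide +kernel

/-- The code is its own orthogonal complement. -/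
theorem mem_golayCode_of_orth {x : GolayPt → ZMod 2}
    (h : ∀ a ∈ golayCode, ∑ p, x p * a p = 0) : x ∈ golayCode := by
  set z : GolayPt → ZMod 2 :=
    ∑ k : Fin 12, x (low k) • wordOf (dualT k) with hz
  have hzc : z ∈ golayCode := Submodule.sum_mem _ fun k _ =>
    Submodule.smul_mem _ _ (wordOf_mem_of_inCode (dualT_ok k).1)
  set y := x - z with hy
  have hylow : ∀ p : GolayPt, ((enc p : Fin 24) : ℕ) < 12 → y p = 0 := by
    intro p hp
    obtain ⟨j, rfl⟩ : ∃ j : Fin 12, p = low j :=
      ⟨⟨_, hp⟩, by simp [low]⟩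
    simp [hy, hz, Finset.sum_apply, dualT_low]
  have hyo : ∀ a ∈ golayCode, ∑ p, y p * a p = 0 := fun a ha => by
    simp [hy, sub_mul, Finset.sum_sub_distrib, h a ha, golayCode_orth hzc ha]
  have hhigh : ∀ i : Fin 12, y (high i) = 0 := by
    intro i
    have h0 := hyo _ (wordOf_mem_of_inCode (dualT_ok i).2)
    rw [Finset.sum_eq_single (high i)] at h0
    · rwa [bT_high i _ (by simp [high]), if_pos rfl, mul_one] at h0
    · intro p _ hp
      by_cases hl : ((enc p : Fin 24) : ℕ) < 12
      · rw [hylow p hl, zero_mul]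
      · rw [bT_high i p (by omega), if_neg hp, mul_zero]
    · simp
  have hy0 : y = 0 := by
    funext p
    by_cases hl : ((enc p : Fin 24) : ℕ) < 12
    · exact hylow p hl
    · have hlt := (enc p).isLt
      obtain ⟨i, rfl⟩ : ∃ i : Fin 12, p = high i := by
        refine ⟨⟨(enc p : ℕ) - 12, by omega⟩, enc.injective ?_⟩
        rw [high, Equiv.apply_symm_apply]
        exact Fin.ext (by simp only []; omega)
      exact hhigh i
  rw [hy, sub_eq_zero] at hy0
  rw [hy0]; exact hzc

/-- Size of the intersection of two supports. -/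
def nInter (a b : GolayPt → ZMod 2) : ℕ := (support₂ a ∩ support₂ b).card

/-- Half the size of the intersection of two supports. -/
def half (a b : GolayPt → ZMod 2) : ZMod 2 := ((nInter a b / 2 : ℕ) : ZMod 2)

/-- The triple intersection parity. -/
def tri (a b c : GolayPt → ZMod 2) : ZMod 2 := ∑ p, a p * b p * c p

/-- A quarter of the weight. -/
def quart (a : GolayPt → ZMod 2) : ZMod 2 := (((support₂ a).card / 4 : ℕ) : ZMod 2)

theorem card_cast (s : Finset GolayPt) :
    (s.card : ZMod 2) = ∑ p, if p ∈ s then 1 else 0 := by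
  rw [Finset.sum_ite_mem, Finset.univ_inter, Finset.sum_const, nsmul_eq_mul, mul_one]

theorem card_nat (s : Finset GolayPt) : s.card = ∑ p, if p ∈ s then 1 else 0 := by
  rw [Finset.sum_ite_mem, Finset.univ_inter, Finset.sum_const, smul_eq_mul, mul_one]

theorem mem_support₂_iff {a : GolayPt → ZMod 2} {p : GolayPt} : p ∈ support₂ a ↔ a p = 1 := by
  rcases zmod2_cases (a p) with h | h <;> simp [support₂, h]

theorem nInter_cast (a b : GolayPt → ZMod 2) : (nInter a b : ZMod 2) = ∑ p, a p * b p := by
  rw [nInter, card_cast]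
  refine Finset.sum_congr rfl fun p _ => ?_
  simp only [Finset.mem_inter, mem_support₂_iff]
  rcases zmod2_cases (a p) with h | h <;> rcases zmod2_cases (b p) with h' | h' <;> simp [h, h']

theorem nInter_add (a b c : GolayPt → ZMod 2) :
    nInter a (b + c) + 2 * (support₂ a ∩ support₂ b ∩ support₂ c).card =
      nInter a b + nInter a c := by
  simp only [nInter, card_nat, Finset.mul_sum, ← Finset.sum_add_distrib]
  refine Finset.sum_congr rfl fun p _ => ?_
  simp only [Finset.mem_inter, mem_support₂_iff, Pi.add_apply]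
  rcases zmod2_cases (a p) with h | h <;> rcases zmod2_cases (b p) with h' | h' <;>
    rcases zmod2_cases (c p) with h'' | h'' <;> simp [h, h', h'', CharTwo.add_self_eq_zero]

theorem nInter_even {a b : GolayPt → ZMod 2} (ha : a ∈ golayCode) (hb : b ∈ golayCode) :
    Even (nInter a b) :=
  (ZMod.natCast_eq_zero_iff_even).mp (by rw [nInter_cast, golayCode_orth ha hb])

theorem half_add {a b c : GolayPt → ZMod 2} (ha : a ∈ golayCode) (hb : b ∈ golayCode)
    (hc : c ∈ golayCode) : half a (b + c) = half a b + half a c + tri a b c := by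
  have ht : tri a b c = ((support₂ a ∩ support₂ b ∩ support₂ c).card : ZMod 2) := by
    rw [card_cast]
    refine Finset.sum_congr rfl fun p _ => ?_
    simp only [Finset.mem_inter, mem_support₂_iff]
    rcases zmod2_cases (a p) with h | h <;> rcases zmod2_cases (b p) with h' | h' <;>
      rcases zmod2_cases (c p) with h'' | h'' <;> simp [h, h', h'']
  obtain ⟨x, hx⟩ := nInter_even ha (add_mem hb hc)
  obtain ⟨y, hy⟩ := nInter_even ha hb
  obtain ⟨z, hz⟩ := nInter_even ha hc
  have h := nInter_add a b c
  have h2 : x + (support₂ a ∩ support₂ b ∩ support₂ c).card = y + z := by omega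
  have h3 := congrArg (fun n : ℕ => (n : ZMod 2)) h2
  simp only [Nat.cast_add] at h3
  simp only [half, ht, hx, hy, hz, ← two_mul, Nat.mul_div_cancel_left _ (by norm_num : 0 < 2)]
  linear_combination h3 -
    CharTwo.add_self_eq_zero ((support₂ a ∩ support₂ b ∩ support₂ c).card : ZMod 2)

/-- The cocycle of the loop. -/
def theta (a b : GolayPt → ZMod 2) : ZMod 2 :=
  (∑ i, a (pos i) * half (ev i) b) +
    (a (pos 0) * b (pos 9) + a (pos 1) * b (pos 2) + a (pos 3) * b (pos 5) +
      a (pos 4) * b (pos 6) + a (pos 8) * b (pos 10))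

theorem theta_add_left (a a' b : GolayPt → ZMod 2) :
    theta (a + a') b = theta a b + theta a' b := by
  simp only [theta, Pi.add_apply, add_mul, Finset.sum_add_distrib]
  ring

theorem theta_zero_left (b : GolayPt → ZMod 2) : theta 0 b = 0 := by simp [theta]

theorem theta_add_right {a b c : GolayPt → ZMod 2} (ha : a ∈ cInf) (hb : b ∈ cInf)
    (hc : c ∈ cInf) : theta a (b + c) = theta a b + theta a c + tri a b c := by
  have ht : tri a b c = ∑ i, a (pos i) * tri (ev i) b c := by
    conv_lhs => rw [expand ha]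
    simp only [tri, Finset.sum_apply, Pi.smul_apply, smul_eq_mul, Finset.sum_mul,
      Finset.mul_sum]
    rw [Finset.sum_comm]
    exact Finset.sum_congr rfl fun i _ => Finset.sum_congr rfl fun p _ => by ring
  simp only [theta, half_add (mem_cInf.mp (ev_mem _)).1 (mem_cInf.mp hb).1 (mem_cInf.mp hc).1,
    mul_add, Finset.sum_add_distrib, Pi.add_apply, ← ht]
  ring

theorem half_wordOf (a b : ℕ) :
    half (wordOf a) (wordOf b) = ((pop (a &&& b) / 2 : ℕ) : ZMod 2) := by
  rw [half, nInter, support₂_wordOf, support₂_wordOf, ← card_setOf24]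
  congr 3
  ext p
  simp [mem_setOf24]

/-- Bit `i` as a number. -/
def bitN (m i : ℕ) : ℕ := if m.testBit i then 1 else 0

/-- `theta` on the diagonal, computed on masks. -/
def diagN (m : ℕ) : ℕ :=
  (∑ i : Fin 11, bitN m (12 + i) * (pop (evT i &&& m) / 2)) +
    (bitN m 12 * bitN m 21 + bitN m 13 * bitN m 14 + bitN m 15 * bitN m 17 +
      bitN m 16 * bitN m 18 + bitN m 20 * bitN m 22)

theorem diag_check : codeList.all (fun m =>
    m.testBit 23 || diagN m % 2 == pop m / 4 % 2) = true := by decide +kernel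

theorem wordOf_pos (m : ℕ) (i : Fin 11) : wordOf m (pos i) = (bitN m (12 + i) : ZMod 2) := by
  simp [wordOf, pos, bitN, apply_ite (Nat.cast : ℕ → ZMod 2)]

theorem theta_self {a : GolayPt → ZMod 2} (ha : a ∈ cInf) : theta a a = quart a := by
  obtain ⟨hc, hn⟩ := mem_cInf.mp ha
  obtain ⟨m, hm, rfl⟩ := mem_golayCode_iff.mp hc
  have h := List.all_eq_true.mp diag_check m hm
  have hb : m.testBit 23 = false := by
    by_contra hb
    rw [Bool.not_eq_false] at hb
    simp [wordOf_none, hb] at hn
  rw [hb, Bool.false_or, beq_iff_eq, ← ZMod.natCast_eq_natCast_iff'] at h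
  rw [quart, support₂_wordOf, card_setOf24, ← h]
  simp only [theta, diagN, ev, half_wordOf, wordOf_pos, Nat.cast_add, Nat.cast_sum, Nat.cast_mul]
  rfl

theorem tri_comp (σ : Perm GolayPt) (a b c : GolayPt → ZMod 2) :
    tri (a ∘ σ) (b ∘ σ) (c ∘ σ) = tri a b c :=
  Equiv.sum_comp σ fun p => a p * b p * c p

theorem quart_comp (σ : Perm GolayPt) (a : GolayPt → ZMod 2) :
    quart (a ∘ σ) = quart a := by
  have h : (support₂ (a ∘ σ)).map σ.toEmbedding = support₂ a := by
    ext p
    simp [mem_support₂_iff]
  rw [quart, quart, ← h, Finset.card_map]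

end Cfsg.Agent.Lib.Recognition.ParkerM23
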