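import Cfsg.Agent.Lib.Recognition.ParkerM23

/-!
# The extension of the point stabiliser by the dual of the subcode does not split

The restriction to a semidihedral group of order 16 has no complement: one relation already
fails for every pair of lifts.
-/

set_option autoImplicit false

namespace Cfsg.Agent.Lib.Recognition.ParkerM23

open Cfsg Cfsg.Agent.Lib.Compute Equiv

/-- Images of the element of order 8. -/
def aT : List ℕ :=
  [19, 5, 18, 8, 17, 1, 0, 7, 20, 22, 13, 15, 4, 2, 3, 9, 6, 21, 10, 14, 16, 11, 12, 23]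

/-- Inverse images of the element of order 8. -/
def aiT : List ℕ :=
  [6, 5, 13, 14, 12, 1, 16, 7, 3, 15, 18, 21, 22, 10, 19, 11, 20, 4, 2, 0, 8, 17, 9, 23]

/-- Images of the involution. -/
def bT' : List ℕ :=
  [8, 5, 10, 20, 4, 1, 19, 7, 0, 12, 2, 17, 9, 13, 14, 15, 16, 11, 18, 6, 3, 22, 21, 23]

/-- The map of points given by a table. -/
def tabMap (T : List ℕ) (p : GolayPt) : GolayPt :=
  enc.symm ⟨T.getD (enc p : Fin 24) 0 % 24, Nat.mod_lt _ (by decide)⟩

/-- The element of order 8. -/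
def pa : Perm GolayPt where
  toFun := tabMap aT
  invFun := tabMap aiT
  left_inv := by intro p; revert p; decide +kernel
  right_inv := by intro p; revert p; decide +kernel

/-- The involution. -/
def pb : Perm GolayPt where
  toFun := tabMap bT'
  invFun := tabMap bT'
  left_inv := by intro p; revert p; decide +kernel
  right_inv := by intro p; revert p; decide +kernel

theorem pa_mem : pa ∈ Spor.M23 :=
  ⟨mem_M24_of_app
    (P := 0x17000c000b0010000e000a001500060009000300020004000f000d0016001400070000000100110008001200050013)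
    (by decide +kernel) (by decide +kernel),
    show pa none = none by decide +kernel⟩

theorem pb_mem : pb ∈ Spor.M23 :=
  ⟨mem_M24_of_app
    (P := 0x1700150016000300060012000b0010000f000e000d000900110002000c000000070013000100040014000a00050008)
    (by decide +kernel) (by decide +kernel),
    show pb none = none by decide +kernel⟩

/-- The element of order 8 in the group. -/
def qa : Spor.M23 := ⟨pa, pa_mem⟩

/-- The involution in the group. -/
def qb : Spor.M23 := ⟨pb, pb_mem⟩

theorem relation : qa ^ 5 * qb * qa * qb = 1 := by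
  have h : ∀ p, (pa ^ 5 * pb * pa * pb) p = p := by decide +kernel
  exact Subtype.ext (Equiv.ext h)

theorem mask_mem {m : ℕ} (h : inCode m = true) (h' : m.testBit 23 = false) :
    wordOf m ∈ cInf :=
  mem_cInf.mpr ⟨wordOf_mem_of_inCode h, by simp [wordOf_none, h']⟩

/-- Four points of an orbit of the element of order 8. -/
def u₁ : cInf := ⟨wordOf 0x160ce, mask_mem (by decide +kernel) (by decide +kernel)⟩
/-- Second point. -/
def u₂ : cInf := ⟨wordOf 0x401ed, mask_mem (by decide +kernel) (by decide +kernel)⟩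
/-- Third point. -/
def u₃ : cInf := ⟨wordOf 0x1c0583, mask_mem (by decide +kernel) (by decide +kernel)⟩
/-- Fourth point. -/
def u₄ : cInf := ⟨wordOf 0x1964a0, mask_mem (by decide +kernel) (by decide +kernel)⟩

theorem word_images :
    (∀ p, wordOf 0x160ce (tabMap aiT p) = wordOf 0x401ed p) ∧
    (∀ p, wordOf 0x401ed (tabMap aiT p) = wordOf 0x1c0583 p) ∧
    (∀ p, wordOf 0x1c0583 (tabMap aiT p) = wordOf 0x1964a0 p) ∧
    (∀ p, wordOf 0x1964a0 (tabMap aiT p) = wordOf 0x160ce p) ∧
    (∀ p, wordOf 0x160ce (tabMap bT' p) = wordOf 0x1964a0 p) ∧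
    (∀ p, wordOf 0x1964a0 (tabMap bT' p) = wordOf 0x160ce p) ∧
    (∀ p, wordOf 0x160ce p + wordOf 0x401ed p = wordOf 0x1c0583 p + wordOf 0x1964a0 p) := by
  decide +kernel

theorem images : act qa u₁ = u₂ ∧ act qa u₂ = u₃ ∧ act qa u₃ = u₄ ∧ act qa u₄ = u₁ ∧
    act qb u₁ = u₄ ∧ act qb u₄ = u₁ ∧ u₁ + u₂ = u₃ + u₄ := by
  obtain ⟨h1, h2, h3, h4, h5, h6, h7⟩ := word_images
  exact ⟨Subtype.ext (funext h1), Subtype.ext (funext h2), Subtype.ext (funext h3),
    Subtype.ext (funext h4), Subtype.ext (funext h5), Subtype.ext (funext h6),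
    Subtype.ext (funext h7)⟩

/-- `theta` on masks. -/
def thN (a b : ℕ) : ℕ :=
  (∑ i : Fin 11, bitN a (12 + i) * (pop (evT i &&& b) / 2)) +
    (bitN a 12 * bitN b 21 + bitN a 13 * bitN b 14 + bitN a 15 * bitN b 17 +
      bitN a 16 * bitN b 18 + bitN a 20 * bitN b 22)

theorem theta_wordOf (a b : ℕ) : theta (wordOf a) (wordOf b) = (thN a b : ZMod 2) := by
  simp only [theta, thN, ev, half_wordOf, wordOf_pos, Nat.cast_add, Nat.cast_sum, Nat.cast_mul]
  rfl

theorem obstruction_value :
    th u₂ u₃ + th u₁ u₂ + (th u₄ u₁ + th u₃ u₄) = 1 := by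
  simp only [th, u₁, u₂, u₃, u₄, theta_wordOf]
  decide +kernel

theorem word_ne_one (g h : TPerm) (hg : g.perm = qa) (hh : h.perm = qb) :
    g ^ 5 * h * g * h ≠ 1 := by
  intro e
  obtain ⟨a1, a2, a3, a4, b1, -, hs⟩ := images
  have e' := congrFun (congrArg TPerm.fn e) u₁
  simp only [pow_succ, pow_zero, one_mul, mul_fn, one_fn, hg, hh, a1, a2, a3, a4, b1] at e'
  have t12 := g.twist u₁ u₂
  have t34 := g.twist u₃ u₄
  rw [hg, a1, a2] at t12
  rw [hg, a3, a4, ← hs] at t34
  have key : (th u₂ u₃ + th u₁ u₂ + (th u₄ u₁ + th u₃ u₄) : ZMod 2) = 0 := by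
    linear_combination -e' - t12 - t34 + two_zero (g.fn (u₁ + u₂)) +
      two_zero (h.fn u₁) + two_zero (g.fn u₄)
  rw [obstruction_value] at key
  exact one_ne_zero key

theorem no_complement (H : Subgroup TPerm) (h1 : H ⊓ proj.ker = ⊥) : H ⊔ proj.ker ≠ ⊤ := by
  intro h2
  have hl : ∀ π, ∃ g ∈ H, g.perm = π := by
    intro π
    obtain ⟨g, hg⟩ := proj_surjective π
    have hm : g ∈ ((H ⊔ proj.ker : Subgroup TPerm) : Set TPerm) := by rw [h2]; trivial
    rw [Subgroup.mul_normal] at hm
    obtain ⟨a, ha, n, hn, rfl⟩ := hm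
    exact ⟨a, ha, by rw [← hg, map_mul, MonoidHom.mem_ker.mp hn, mul_one]; rfl⟩
  obtain ⟨g, hgH, hg⟩ := hl qa
  obtain ⟨h, hhH, hh⟩ := hl qb
  refine word_ne_one g h hg hh ((Subgroup.eq_bot_iff_forall _).mp h1 _ (Subgroup.mem_inf.mpr
    ⟨mul_mem (mul_mem (mul_mem (pow_mem hgH 5) hhH) hgH) hhH, ?_⟩))
  rw [MonoidHom.mem_ker, map_mul, map_mul, map_mul, map_pow,
    show proj g = qa from hg, show proj h = qb from hh, relation]

end Cfsg.Agent.Lib.Recognition.ParkerM23
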