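import Mathlib
import Cfsg.Agent.Lib.Frobenius.Complement
import Cfsg.Agent.Lib.Recognition.NaturalModule

/-!
`SL(2,5)` embeds in `SL(2,11)` and acts without fixed points on the natural module.
-/

set_option autoImplicit false
set_option linter.style.haveILetI false

namespace Cfsg.Agent.Lib.Recognition

namespace SLTwoFive

/-- 2 × 2 matrices as tuples. -/
abbrev M2 (R : Type) := R × R × R × R

/-- Product of tuples read as matrices. -/
def mul {R : Type} [Mul R] [Add R] (A B : M2 R) : M2 R :=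
  (A.1 * B.1 + A.2.1 * B.2.2.1, A.1 * B.2.1 + A.2.1 * B.2.2.2,
    A.2.2.1 * B.1 + A.2.2.2 * B.2.2.1, A.2.2.1 * B.2.1 + A.2.2.2 * B.2.2.2)

/-- The identity tuple. -/
def one {R : Type} [Zero R] [One R] : M2 R := (1, 0, 0, 1)

/-- Iterated product. -/
def npow {R : Type} [Mul R] [Add R] [Zero R] [One R] (A : M2 R) : ℕ → M2 R
  | 0 => one
  | n + 1 => mul A (npow A n)

def u5 : M2 (ZMod 5) := (1, 1, 0, 1)
def w5 : M2 (ZMod 5) := (0, 4, 1, 0)
def u11 : M2 (ZMod 11) := (0, 1, 10, 3)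
def w11 : M2 (ZMod 11) := (3, 4, 3, 8)
def d11 : M2 (ZMod 11) := (10, 1, 9, 1)

/-- The exponent `k` with `2 ^ k = a`. -/
def lg (a : ZMod 5) : ℕ := if a = 1 then 0 else if a = 2 then 1 else if a = 4 then 2 else 3

/-- The embedding, through the Bruhat decomposition. -/
def f (A : M2 (ZMod 5)) : M2 (ZMod 11) :=
  if A.2.2.1 = 0 then mul (npow d11 (lg A.1)) (npow u11 (A.2.1 * A.1 ^ 3).val)
  else mul (mul (mul (npow u11 (A.1 * A.2.2.1 ^ 3).val) w11) (npow d11 (lg A.2.2.1))) (npow u11 (A.2.2.2 * A.2.2.1 ^ 3).val)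

theorem f_gen : ∀ a b c d : ZMod 5, a * d - b * c = 1 →
    f (mul u5 (a, b, c, d)) = mul u11 (f (a, b, c, d)) ∧ f (mul w5 (a, b, c, d)) = mul w11 (f (a, b, c, d)) ∧
    (f (a, b, c, d)).1 * (f (a, b, c, d)).2.2.2 - (f (a, b, c, d)).2.1 * (f (a, b, c, d)).2.2.1 = 1 ∧
    ((f (a, b, c, d)).1 + (f (a, b, c, d)).2.2.2 = 2 → (a, b, c, d) = one) := by decide +kernel

theorem f_u5 : f u5 = u11 ∧ f w5 = w11 ∧ f one = one := by decide +kernel

theorem gen_cover : ∀ a b c d : ZMod 5, a * d - b * c = 1 → ∃ i j k l : Fin 5,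
    mul (npow u5 i.val) (mul w5 (mul (npow u5 j.val) (mul w5 (mul (npow u5 k.val) (mul w5 (npow u5 l.val)))))) = (a, b, c, d) ∨
    mul (npow u5 i.val) (mul w5 (mul (npow u5 j.val) (mul w5 (npow u5 k.val)))) = (a, b, c, d) := by
  decide +kernel

theorem mul_assoc' {R : Type} [CommRing R] (A B C : M2 R) : mul (mul A B) C = mul A (mul B C) := by
  unfold mul
  refine Prod.ext ?_ (Prod.ext ?_ (Prod.ext ?_ ?_)) <;> simp only <;> ring

theorem one_mul' {R : Type} [CommRing R] (A : M2 R) : mul one A = A := by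
  unfold mul one
  refine Prod.ext ?_ (Prod.ext ?_ (Prod.ext ?_ ?_)) <;> simp

theorem det_mul' {R : Type} [CommRing R] (A B : M2 R) :
    (mul A B).1 * (mul A B).2.2.2 - (mul A B).2.1 * (mul A B).2.2.1 =
      (A.1 * A.2.2.2 - A.2.1 * A.2.2.1) * (B.1 * B.2.2.2 - B.2.1 * B.2.2.1) := by
  simp only [mul]; ring

theorem f_mul (A B : M2 (ZMod 5)) (hA : A.1 * A.2.2.2 - A.2.1 * A.2.2.1 = 1)
    (hB : B.1 * B.2.2.2 - B.2.1 * B.2.2.1 = 1) : f (mul A B) = mul (f A) (f B) := by
  let P : M2 (ZMod 5) → Prop := fun A => (A.1 * A.2.2.2 - A.2.1 * A.2.2.1 = 1) ∧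
    ∀ B : M2 (ZMod 5), B.1 * B.2.2.2 - B.2.1 * B.2.2.1 = 1 → f (mul A B) = mul (f A) (f B)
  have h1 : P one := ⟨by decide +kernel, fun B _ => by rw [one_mul', f_u5.2.2, one_mul']⟩
  have hstep : ∀ g G, (g.1 * g.2.2.2 - g.2.1 * g.2.2.1 = 1) →
      (∀ B : M2 (ZMod 5), B.1 * B.2.2.2 - B.2.1 * B.2.2.1 = 1 → f (mul g B) = mul G (f B)) →
      ∀ A, P A → P (mul g A) := by
    intro g G hg hgen A hA
    refine ⟨by rw [det_mul', hg, hA.1, _root_.one_mul], fun B hB => ?_⟩
    rw [mul_assoc', hgen _ (by rw [det_mul', hA.1, hB, _root_.one_mul]), hA.2 B hB, hgen A hA.1, mul_assoc']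
  have hu : ∀ A, P A → P (mul u5 A) := hstep u5 u11 (by decide +kernel) fun B hB => (f_gen B.1 B.2.1 B.2.2.1 B.2.2.2 hB).1
  have hw : ∀ A, P A → P (mul w5 A) := hstep w5 w11 (by decide +kernel) fun B hB => (f_gen B.1 B.2.1 B.2.2.1 B.2.2.2 hB).2.1
  have hun : ∀ (n : ℕ) A, P A → P (mul (npow u5 n) A) := by
    intro n
    induction n with
    | zero => intro A h; show P (mul one A); rw [one_mul']; exact h
    | succ n ih => intro A h; show P (mul (mul u5 (npow u5 n)) A); rw [mul_assoc']; exact hu _ (ih A h)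
  have hun' : ∀ n : ℕ, P (npow u5 n) := by
    intro n
    induction n with
    | zero => exact h1
    | succ n ih => exact hu _ ih
  obtain ⟨i, j, k, l, h | h⟩ := gen_cover A.1 A.2.1 A.2.2.1 A.2.2.2 hA
  · exact ((show A = _ from h.symm) ▸ hun i.val _ (hw _ (hun j.val _ (hw _ (hun k.val _ (hw _ (hun' l.val)))))) : P A).2 B hB
  · exact ((show A = _ from h.symm) ▸ hun i.val _ (hw _ (hun j.val _ (hw _ (hun' k.val)))) : P A).2 B hB

/-- The entries of a matrix. -/
def tup {R : Type} (A : Matrix (Fin 2) (Fin 2) R) : M2 R := (A 0 0, A 0 1, A 1 0, A 1 1)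

theorem tup_mul {R : Type} [CommRing R] (A B : Matrix (Fin 2) (Fin 2) R) : tup (A * B) = mul (tup A) (tup B) := by
  simp [tup, mul, Matrix.mul_apply, Fin.sum_univ_two]

theorem det_tup (A : Matrix.SpecialLinearGroup (Fin 2) (ZMod 5)) :
    (tup (A : Matrix (Fin 2) (Fin 2) (ZMod 5))).1 * (tup (A : Matrix (Fin 2) (Fin 2) (ZMod 5))).2.2.2 -
      (tup (A : Matrix (Fin 2) (Fin 2) (ZMod 5))).2.1 * (tup (A : Matrix (Fin 2) (Fin 2) (ZMod 5))).2.2.1 = 1 := by
  have h := A.2
  rw [Matrix.det_fin_two] at h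
  exact h

/-- The embedding as a homomorphism. -/
def emb : Matrix.SpecialLinearGroup (Fin 2) (ZMod 5) →* Matrix.SpecialLinearGroup (Fin 2) (ZMod 11) :=
  MonoidHom.mk' (fun A =>
    let t := f (tup (A : Matrix (Fin 2) (Fin 2) (ZMod 5)))
    ⟨!![t.1, t.2.1; t.2.2.1, t.2.2.2], by
      rw [Matrix.det_fin_two]
      exact (f_gen _ _ _ _ (det_tup A)).2.2.1⟩) fun A B => by
    have h := f_mul _ _ (det_tup A) (det_tup B)
    rw [← tup_mul, ← Matrix.SpecialLinearGroup.coe_mul] at h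
    refine Matrix.SpecialLinearGroup.ext _ _ fun i j => ?_
    show (!![_, _; _, _] : Matrix (Fin 2) (Fin 2) (ZMod 11)) i j = (((!![_, _; _, _] : Matrix (Fin 2) (Fin 2) (ZMod 11)) * (!![_, _; _, _] : Matrix (Fin 2) (Fin 2) (ZMod 11)) : Matrix (Fin 2) (Fin 2) (ZMod 11))) i j
    rw [h]
    fin_cases i <;> fin_cases j <;> simp [mul, Matrix.mul_apply, Fin.sum_univ_two]

theorem emb_fpf (A : Matrix.SpecialLinearGroup (Fin 2) (ZMod 5)) (v : Fin 2 → ZMod 11) (hv : v ≠ 0)
    (h : Matrix.mulVec (emb A : Matrix (Fin 2) (Fin 2) (ZMod 11)) v = v) : A = 1 := by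
  haveI : Fact (Nat.Prime 11) := ⟨by norm_num⟩
  set M : Matrix (Fin 2) (Fin 2) (ZMod 11) := (emb A : Matrix (Fin 2) (Fin 2) (ZMod 11)) with hM
  have hd : (M - 1).det = 0 := by
    by_contra hne
    apply hv
    apply Matrix.eq_zero_of_mulVec_eq_zero hne
    rw [Matrix.sub_mulVec, Matrix.one_mulVec, h, sub_self]
  have hdet := (emb A).2
  rw [← hM, Matrix.det_fin_two] at hdet
  rw [Matrix.det_fin_two] at hd
  simp at hd
  have ht : M 0 0 + M 1 1 = 2 := by linear_combination hdet - hd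
  have h1 := (f_gen _ _ _ _ (det_tup A)).2.2.2 ht
  simp only [one, Prod.mk.injEq] at h1
  apply Matrix.SpecialLinearGroup.ext
  intro i j
  obtain ⟨h00, h01, h10, h11⟩ := h1
  fin_cases i <;> fin_cases j <;> simp [tup] at * <;> assumption

end SLTwoFive

open SLTwoFive in
/-- `SL(2,5)` is a Frobenius complement. -/
theorem exists_frobeniusComplement_sl25 :
    ∃ (L : Type) (_ : Group L) (_ : Finite L) (H : Subgroup L),
      Cfsg.IsFrobeniusComplement H ∧ Nonempty (H ≃* Matrix.SpecialLinearGroup (Fin 2) (ZMod 5)) := by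
  haveI : Fact (Nat.Prime 11) := ⟨by norm_num⟩
  let φ := (natModuleAut (ZMod 11) 1).comp emb
  let L := SemidirectProduct (Multiplicative (Fin 1 → Fin 2 → ZMod 11)) (Matrix.SpecialLinearGroup (Fin 2) (ZMod 5)) φ
  haveI : Finite L := Finite.of_equiv _ SemidirectProduct.equivProd.symm
  let H : Subgroup L := (SemidirectProduct.inr : _ →* L).range
  let N : Subgroup L := (SemidirectProduct.rightHom : L →* _).ker
  refine ⟨L, inferInstance, inferInstance, H, ?_, ⟨(MonoidHom.ofInjective SemidirectProduct.inr_injective).symm⟩⟩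
  refine Frobenius.isFrobeniusComplement_of_fixedPointFree (N := N) ?_ ?_ ?_ ?_ ?_
  · rw [Subgroup.eq_bot_iff_forall]
    rintro _ ⟨hn, s, rfl⟩
    have : s = 1 := hn
    rw [this, map_one]
  · rw [eq_top_iff]
    intro x _
    rw [← SemidirectProduct.inl_left_mul_inr_right x]
    exact Subgroup.mul_mem_sup (show (SemidirectProduct.inl x.left : L) ∈ N from rfl) ⟨_, rfl⟩
  · intro hN
    have hm : SemidirectProduct.inl (Multiplicative.ofAdd (fun _ _ => (1 : ZMod 11))) ∈ N := by simp [N]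
    rw [hN, Subgroup.mem_bot] at hm
    have h2 := congrArg (fun x : L => x.left.toAdd 0 0) hm
    simp at h2
  · intro hH
    have hm : SemidirectProduct.inr (φ := φ) (-1) ∈ H := ⟨_, rfl⟩
    rw [hH, Subgroup.mem_bot] at hm
    have h2 : ((-1 : Matrix.SpecialLinearGroup (Fin 2) (ZMod 5))) = 1 := congrArg SemidirectProduct.right hm
    exact absurd h2 (by decide +kernel)
  · rintro _ ⟨s, rfl⟩ hs n hn hcomm
    have hr : n.right = 1 := hn
    have h1 : φ s n.left = n.left := by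
      have h2 := congrArg SemidirectProduct.left hcomm
      rw [SemidirectProduct.mul_left, SemidirectProduct.mul_left, SemidirectProduct.left_inr, SemidirectProduct.right_inr,
        hr, map_one, one_mul, mul_one] at h2
      exact h2
    apply SemidirectProduct.ext
    · rw [SemidirectProduct.one_left]
      apply Multiplicative.toAdd.injective
      funext i
      by_contra hv
      exact hs (by rw [emb_fpf s (n.left.toAdd i) hv (congrFun (congrArg Multiplicative.toAdd h1) i), map_one])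
    · exact hr

end Cfsg.Agent.Lib.Recognition
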