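import Cfsg.Agent.Lib.Recognition.Sp6Cover
import Cfsg.Agent.Lib.Recognition.CertShift

/-!
# The double cover maps onto the symplectic group and is perfect
-/

set_option autoImplicit false
set_option maxRecDepth 100000

namespace Cfsg.Agent.Lib.Recognition.Sp6Cover

open Cfsg.Agent.Lib.Compute
open Cfsg.Agent.Lib.Recognition

theorem keep_ok : keepOk 240 covCert = true := by decide +kernel

theorem small_ok : imgOk 240 covCert covSmall smallBase smallWit = true := by decide +kernel

theorem small_slp :
    slpOk 240 smallBase smallSteps = true ∧ slpCovers smallBase smallSteps covSmall = true := by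
  decide +kernel

theorem exists_small :
    ∃ σ : grp 303 covCert →* grp 240 covSmall, Function.Surjective σ :=
  exists_restrict (m := 240) (n := 303) (by norm_num) (L := covCert0)
    (rest := [covCert1, covCert2, covCert3])
    covCert_ok covSmall_ok keep_ok small_ok small_slp.1 small_slp.2

theorem keep_img : CertShift.keepShift 240 63 covCert = true := by decide +kernel

theorem img_ok : CertShift.imgShift 240 63 covCert pspCert imgBase imgWit = true := by
  decide +kernel

theorem img_slp : slpOk 63 imgBase imgSteps = true ∧ slpCovers imgBase imgSteps pspCert = true := by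
  decide +kernel

theorem exists_large : ∃ σ : grp 303 covCert →* grp 63 pspCert, Function.Surjective σ :=
  CertShift.exists_restrict_shift (d := 240) (m := 63) (n := 303) (by norm_num) (L := covCert0)
    (rest := [covCert1, covCert2, covCert3])
    covCert_ok psp_ok keep_img img_ok img_slp.1 img_slp.2

theorem comm_ok : ((List.range commBase.length).all fun k =>
    commOk 240 covSmall (commBase.getD k 0) (commWit.getD k ([], [])).1
      (commWit.getD k ([], [])).2) = true := by decide +kernel

theorem comm_slp :
    slpOk 240 commBase commSteps = true ∧ slpCovers commBase commSteps covSmall = true := by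
  decide +kernel

theorem cov_perfect : Group.IsPerfect (grp 240 covSmall) :=
  isPerfect_of_comms covSmall_ok comm_ok comm_slp.1 comm_slp.2

theorem exists_onto : ∃ σ : grp 240 covSmall →* grp 63 pspCert, Function.Surjective σ := by
  obtain ⟨σ₁, h₁⟩ := exists_small
  obtain ⟨σ₂, h₂⟩ := exists_large
  have hb : Function.Bijective σ₁ :=
    Nat.bijective_iff_surjective_and_card σ₁ |>.mpr ⟨h₁, by rw [card_cov, card_small]⟩
  exact ⟨σ₂.comp (MulEquiv.ofBijective σ₁ hb).symm.toMonoidHom,
    h₂.comp (MulEquiv.ofBijective σ₁ hb).symm.surjective⟩

end Cfsg.Agent.Lib.Recognition.Sp6Cover
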