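import Cfsg.Agent.Lib.Compute.MultBound

/-!
# A Sylow 3-subgroup of shape 3 wr 3 kills the 3-part of the multiplier
-/

set_option autoImplicit false

namespace Cfsg.Agent.Lib.Recognition.WreathMult

open Cfsg Cfsg.Agent.Lib.Compute
open scoped commutatorElement

variable {Γ Q : Type*} [Group Γ] [Group Q] [Finite Γ] (σ : Γ →* Q)

/-- `a` and its two conjugates under `t` commute, and `g` inverts `a` and fixes the next one. -/
theorem eq_one_of_wreath (hσ : Function.Surjective σ) (hc : σ.ker ≤ Subgroup.center Γ) {z : Γ}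
    (hz : z ∈ σ.ker) (hz' : z ∈ commutator Γ) (hzp : z ^ 3 = 1) {a t g : Q} (ha : a ^ 3 = 1)
    (ht : t ^ 3 = 1) (hab : Commute a (t * a * t⁻¹)) (hga : g * a * g⁻¹ = a⁻¹)
    (hgb : g * (t * a * t⁻¹) * g⁻¹ = t * a * t⁻¹)
    (hind : ∀ i < 3, ∀ j < 3, (a * (t * a * t⁻¹)⁻¹) ^ i *
      (t * a * t⁻¹ * (t * (t * a * t⁻¹) * t⁻¹)⁻¹) ^ j = 1 → i = 0 ∧ j = 0)
    (hcop : Nat.Coprime 3 (Subgroup.closure {a, t}).index) : z = 1 := by
  obtain ⟨A, rfl⟩ := hσ a
  obtain ⟨T, rfl⟩ := hσ t
  obtain ⟨W, rfl⟩ := hσ g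
  set B := T * A * T⁻¹ with hBdef
  set C := T * B * T⁻¹ with hCdef
  have hker : ∀ u, σ u = 1 → u ∈ Subgroup.center Γ := fun u hu => hc hu
  have hcen : ∀ (u : Γ) (v : Γ), u ∈ Subgroup.center Γ → v * u = u * v :=
    fun u v hu => Subgroup.mem_center_iff.mp hu v
  have hσB : σ B = σ T * σ A * (σ T)⁻¹ := by simp [hBdef]
  have hT3 : T ^ 3 ∈ Subgroup.center Γ := hker _ (by rw [map_pow, ht])
  have hA3 : A ^ 3 ∈ Subgroup.center Γ := hker _ (by rw [map_pow, ha])
  have hTC : T * C * T⁻¹ = A := by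
    have e : T * C * T⁻¹ = T ^ 3 * A * (T ^ 3)⁻¹ := by
      simp only [hCdef, hBdef, pow_succ, pow_zero, one_mul, mul_inv_rev, mul_assoc]
    rw [e, ← hcen _ A hT3, mul_inv_cancel_right]
  set D := ⁅A, B⁆ with hD
  have hDc : D ∈ Subgroup.center Γ := hker _ (by
    rw [hD, map_commutatorElement, hσB, commutatorElement_eq_one_iff_mul_comm]; exact hab)
  have hcomm : ∀ a b k l : Γ, k ∈ Subgroup.center Γ → l ∈ Subgroup.center Γ →
      ⁅a * k, b * l⁆ = ⁅a, b⁆ := fun a b k l hk hl => by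
    rw [Subgroup.mem_center_iff] at hk hl
    simp only [commutatorElement_def, mul_inv_rev]
    calc a * k * (b * l) * (k⁻¹ * a⁻¹) * (l⁻¹ * b⁻¹)
        = a * (k * (b * l)) * k⁻¹ * (a⁻¹ * l⁻¹) * b⁻¹ := by simp only [mul_assoc]
      _ = a * (b * l) * (a⁻¹ * l⁻¹) * b⁻¹ := by
          rw [← hk (b * l)]; simp only [mul_assoc, mul_inv_cancel_left]
      _ = a * b * (l * (a⁻¹ * l⁻¹)) * b⁻¹ := by simp only [mul_assoc]
      _ = a * b * a⁻¹ * b⁻¹ := by
          rw [← hl (a⁻¹ * l⁻¹)]; simp only [mul_assoc, inv_mul_cancel, mul_one]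
  have hWA : ⁅A⁻¹, B⁆ = D := by
    have e1 : A * (W * A * W⁻¹) ∈ Subgroup.center Γ := hker _ (by
      rw [map_mul, map_mul, map_mul, map_inv, hga, mul_inv_cancel])
    have e2 : B⁻¹ * (W * B * W⁻¹) ∈ Subgroup.center Γ := hker _ (by
      rw [map_mul, map_mul, map_mul, map_inv, map_inv, hσB, hgb, inv_mul_cancel])
    have h := hcomm A⁻¹ B _ _ e1 e2
    rw [inv_mul_cancel_left, mul_inv_cancel_left] at h
    rw [← h]
    calc ⁅W * A * W⁻¹, W * B * W⁻¹⁆ = W * D * W⁻¹ := by
          simp only [hD, commutatorElement_def]; group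
      _ = D := by rw [hcen _ W hDc, mul_inv_cancel_right]
  have hAD : A * B * A⁻¹ = D * B := by rw [hD, commutatorElement_def]; group
  have hD2 : D ^ 2 = 1 := by
    have h2 : B = D ^ 2 * B := by
      calc B = A * (A⁻¹ * B * A⁻¹⁻¹) * A⁻¹ := by group
        _ = A * (D * B) * A⁻¹ := by rw [show A⁻¹ * B * A⁻¹⁻¹ = ⁅A⁻¹, B⁆ * B by group, hWA]
        _ = D * (A * B * A⁻¹) := by rw [← mul_assoc A, hcen _ A hDc]; group
        _ = D ^ 2 * B := by rw [hAD, ← mul_assoc, sq]
    exact mul_right_cancel (h2.symm.trans (one_mul B).symm)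
  have hD3 : D ^ 3 = 1 := by
    have hpow : ∀ n : ℕ, A ^ n * B * (A ^ n)⁻¹ = D ^ n * B := by
      intro n
      induction n with
      | zero => simp
      | succ n ih =>
        rw [pow_succ', mul_inv_rev]
        calc A * A ^ n * B * ((A ^ n)⁻¹ * A⁻¹) = A * (A ^ n * B * (A ^ n)⁻¹) * A⁻¹ := by group
          _ = A * (D ^ n * B) * A⁻¹ := by rw [ih]
          _ = D ^ n * (A * B * A⁻¹) := by
              rw [← mul_assoc A, hcen _ A (pow_mem hDc n)]; group
          _ = D ^ (n + 1) * B := by rw [hAD]; group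
    have h := hpow 3
    rw [← hcen _ B hA3, mul_inv_cancel_right] at h
    exact mul_right_cancel (h.symm.trans (one_mul B).symm)
  have hD1 : D = 1 := by rw [pow_succ, hD2, one_mul] at hD3; exact hD3
  have cAB : Commute A B := commutatorElement_eq_one_iff_mul_comm.mp (hD ▸ hD1)
  have conjT : ∀ {u v : Γ}, Commute u v → Commute (T * u * T⁻¹) (T * v * T⁻¹) := fun {u v} h => by
    show _ = _
    calc T * u * T⁻¹ * (T * v * T⁻¹) = T * (u * v) * T⁻¹ := by group
      _ = T * (v * u) * T⁻¹ := by rw [h.eq]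
      _ = _ := by group
  have cBC : Commute B C := conjT cAB
  have cCA : Commute C A := by
    have h := conjT cBC
    rwa [hTC, ← hCdef] at h
  set U := A * B⁻¹ with hU
  set V := B * C⁻¹ with hV
  set K : Subgroup Γ := Subgroup.closure {U, V} with hK
  have cAU : Commute A U := (Commute.refl A).mul_right cAB.inv_right
  have cAV : Commute A V := cAB.mul_right cCA.symm.inv_right
  have cUV : Commute U V :=
    ((cAB.mul_right cCA.symm.inv_right)).mul_left
      (((Commute.refl B).mul_right cBC.inv_right).inv_left)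
  have hTU : T * U * T⁻¹ = V := by rw [hU, hV, hCdef, hBdef]; group
  have hTV : T * V * T⁻¹ = (U * V)⁻¹ := by
    calc T * V * T⁻¹ = T * B * T⁻¹ * (T * C * T⁻¹)⁻¹ := by rw [hV]; group
      _ = C * A⁻¹ := by rw [hTC, ← hCdef]
      _ = (U * V)⁻¹ := by rw [hU, hV]; group
  have hnA : A ∈ Subgroup.normalizer (K : Set Γ) := by
    have h : ∀ k ∈ K, Commute A k := by
      intro k hk
      induction hk using Subgroup.closure_induction with
      | mem x hx => rcases hx with rfl | rfl <;> assumption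
      | one => exact Commute.one_right A
      | mul x y _ _ hx hy => exact hx.mul_right hy
      | inv x _ hx => exact hx.inv_right
    refine Subgroup.mem_normalizer_iff.mpr fun x => ⟨fun hx => ?_, fun hx => ?_⟩
    · rw [(h x hx).eq, mul_inv_cancel_right]; exact hx
    · have e : x = A * x * A⁻¹ := by
        have := h _ hx
        calc x = A⁻¹ * (A * x * A⁻¹ * A) := by group
          _ = A⁻¹ * (A * (A * x * A⁻¹)) := by rw [this.eq]
          _ = A * x * A⁻¹ := by group
      rw [e]; exact hx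
  have hnT : T ∈ Subgroup.normalizer (K : Set Γ) := by
    have hle : K.map (MulAut.conj T).toMonoidHom ≤ K := by
      rw [hK, MonoidHom.map_closure, Subgroup.closure_le]
      rintro _ ⟨x, (rfl | rfl), rfl⟩
      · show T * U * T⁻¹ ∈ _
        rw [hTU]; exact Subgroup.subset_closure (Or.inr rfl)
      · show T * V * T⁻¹ ∈ _
        rw [hTV]
        exact inv_mem (mul_mem (Subgroup.subset_closure (Or.inl rfl))
          (Subgroup.subset_closure (Or.inr rfl)))
    have heq : K.map (MulAut.conj T).toMonoidHom = K :=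
      Subgroup.eq_of_le_of_card_ge hle (le_of_eq (Nat.card_congr
        (K.equivMapOfInjective _ (MulAut.conj T).injective).toEquiv))
    refine Subgroup.mem_normalizer_iff.mpr fun x => ⟨fun hx => ?_, fun hx => ?_⟩
    · exact hle ⟨x, hx, rfl⟩
    · rw [← heq] at hx
      obtain ⟨y, hy, hyx⟩ := hx
      have : y = x := (MulAut.conj T).injective hyx
      exact this ▸ hy
  have hAT : ⁅A, T⁆ = U := by rw [hU, hBdef, commutatorElement_def]; group
  have hzK : z ∈ K := commutator_comap_le σ hc rfl K hnA hnT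
    (by rw [hAT]; exact Subgroup.subset_closure (Or.inl rfl))
    (by rw [← commutatorElement_inv, hAT]; exact inv_mem (Subgroup.subset_closure (Or.inl rfl)))
    (mem_commutator_comap σ hσ hc hz hz' hzp hcop)
  obtain ⟨i, j, hij⟩ : ∃ i j : ℤ, U ^ i * V ^ j = z := by
    have h : ∀ k ∈ K, ∃ i j : ℤ, U ^ i * V ^ j = k := by
      intro k hk
      induction hk using Subgroup.closure_induction with
      | mem x hx =>
        rcases hx with rfl | rfl
        · exact ⟨1, 0, by simp⟩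
        · exact ⟨0, 1, by simp⟩
      | one => exact ⟨0, 0, by simp⟩
      | mul x y _ _ hx hy =>
        obtain ⟨i, j, rfl⟩ := hx
        obtain ⟨i', j', rfl⟩ := hy
        exact ⟨i + i', j + j', by
          rw [zpow_add, zpow_add, mul_assoc, ← mul_assoc (U ^ i') (V ^ j),
            ((cUV.zpow_zpow i' j)).eq]
          simp only [mul_assoc]⟩
      | inv x _ hx =>
        obtain ⟨i, j, rfl⟩ := hx
        exact ⟨-i, -j, by rw [mul_inv_rev, ← zpow_neg, ← zpow_neg, (cUV.zpow_zpow _ _).eq]⟩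
    exact h z hzK
  have hB3 : B ^ 3 = A ^ 3 := by
    rw [hBdef, conj_pow, hcen _ T hA3, mul_inv_cancel_right]
  have hC3 : C ^ 3 = A ^ 3 := by
    rw [hCdef, conj_pow, hB3, hcen _ T hA3, mul_inv_cancel_right]
  have hU3 : U ^ (3 : ℤ) = 1 := by
    rw [show (3 : ℤ) = ((3 : ℕ) : ℤ) from rfl, zpow_natCast, hU, cAB.inv_right.mul_pow, inv_pow,
      hB3, mul_inv_cancel]
  have hV3 : V ^ (3 : ℤ) = 1 := by
    rw [show (3 : ℤ) = ((3 : ℕ) : ℤ) from rfl, zpow_natCast, hV, cBC.inv_right.mul_pow, inv_pow,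
      hB3, hC3, mul_inv_cancel]
  rw [zpow_eq_mod U i hU3, zpow_eq_mod V j hV3] at hij
  obtain ⟨i', hi'⟩ : ∃ i' : ℕ, (i' : ℤ) = i % 3 := ⟨(i % 3).toNat, Int.toNat_of_nonneg (by omega)⟩
  obtain ⟨j', hj'⟩ : ∃ j' : ℕ, (j' : ℤ) = j % 3 := ⟨(j % 3).toNat, Int.toNat_of_nonneg (by omega)⟩
  rw [← hi', ← hj', zpow_natCast, zpow_natCast] at hij
  have h1 := congrArg σ hij
  rw [MonoidHom.mem_ker.mp hz, map_mul, map_pow, map_pow, hU, hV, hCdef] at h1
  simp only [map_mul, map_inv, hσB] at h1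
  obtain ⟨rfl, rfl⟩ := hind i' (by omega) j' (by omega) h1
  rw [← hij, pow_zero, pow_zero, mul_one]
where
  zpow_eq_mod {G : Type _} [Group G] (u : G) (i : ℤ) (h : u ^ (3 : ℤ) = 1) :
      u ^ i = u ^ (i % 3) := by
    conv_lhs => rw [← Int.emod_add_mul_ediv i 3, zpow_add, zpow_mul, h, one_zpow, mul_one]

end Cfsg.Agent.Lib.Recognition.WreathMult
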