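import Cfsg.Agent.Lib.Recognition.Sp6CoverTwo
import Cfsg.Agent.Lib.Recognition.Sp6CoverOdd
import Cfsg.Agent.Lib.Recognition.WreathMult
import Cfsg.Agent.Lib.Compute.MultReduce

/-!
# The multiplier of the double cover of Sp6(2) is trivial
-/

set_option autoImplicit false
set_option maxRecDepth 100000

namespace Cfsg.Agent.Lib.Recognition.Sp6Cover

open Cfsg Cfsg.Agent.Lib.Compute

theorem odd_mem :
    memOk 240 covSmall covA3 covA3Wit = true ∧ memOk 240 covSmall covT3 covT3Wit = true ∧
    memOk 240 covSmall covG3 covG3Wit = true ∧ memOk 240 covSmall covQ5 covQ5Wit = true ∧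
    memOk 240 covSmall covQ7 covQ7Wit = true := by decide +kernel

theorem three_facts :
    powOk 240 3 covA3 = true ∧ powOk 240 3 covT3 = true ∧
    (∀ i < 240, app covA3 (app covT3 (app covA3 (app covT3 (app covT3 i)))) =
      app covT3 (app covA3 (app covT3 (app covT3 (app covA3 i))))) ∧
    (∀ i < 240, app covA3 (app covG3 (app covA3 i)) = app covG3 i) ∧
    (∀ i < 240, app covG3 (app covT3 (app covA3 (app covT3 (app covT3 i)))) =
      app covT3 (app covA3 (app covT3 (app covT3 (app covG3 i))))) := by decide +kernel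

/-- The first basic commutator. -/
def uFun (x : ℕ) : ℕ := app covA3 (app covT3 (app covA3 (app covA3 (app covT3 (app covT3 x)))))

/-- The second basic commutator. -/
def vFun (x : ℕ) : ℕ := app covT3 (app covA3 (app covT3 (app covA3 (app covA3
  (app covT3 (app covT3 (app covT3 (app covT3 x))))))))

theorem three_indep : ∀ i < 3, ∀ j < 3,
    (∀ x < 240, uFun^[i] (vFun^[j] x) = x) → i = 0 ∧ j = 0 := by decide +kernel

theorem three_slp :
    chk 240 covE3 = true ∧ slpOk 240 [covA3, covT3] covE3Steps = true ∧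
      slpCovers [covA3, covT3] covE3Steps covE3 = true ∧ certOrder covE3 = 81 := by decide +kernel

theorem cyc_facts :
    (powOk 240 5 covQ5 = true ∧ ((List.range 240).any fun i => app covQ5 i != i) = true) ∧
    (powOk 240 7 covQ7 = true ∧ ((List.range 240).any fun i => app covQ7 i != i) = true) := by
  decide +kernel

theorem repr_pow {n : ℕ} {x : Equiv.Perm (Fin n)} {f : ℕ → ℕ} (h : Repr x f) :
    ∀ k, Repr (x ^ k) f^[k] := by
  intro k
  induction k with
  | zero => exact fun i => rfl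
  | succ k ih =>
    rw [pow_succ, Function.iterate_succ]
    exact ih.mul h

theorem mult_trivial {Q : Type*} [Group Q] [Finite Q] (e : grp 240 covSmall ≃* Q) :
    HasCyclicSchurMultiplier Q 1 := by
  haveI : Fact (Nat.Prime 2) := ⟨Nat.prime_two⟩
  refine hasCyclicSchurMultiplier_one_of_primes e [2, 3, 5, 7] ?_ ?_
  · intro p hp hdvd
    rw [card_small, show (2903040 : ℕ) = 2 ^ 10 * (3 ^ 4 * (5 * 7)) by norm_num] at hdvd
    simp only [List.mem_cons, List.not_mem_nil, or_false]
    rcases hp.dvd_mul.mp hdvd with h | h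
    · exact Or.inl ((Nat.prime_dvd_prime_iff_eq hp Nat.prime_two).mp (hp.dvd_of_dvd_pow h))
    rcases hp.dvd_mul.mp h with h | h
    · exact Or.inr (Or.inl ((Nat.prime_dvd_prime_iff_eq hp Nat.prime_three).mp (hp.dvd_of_dvd_pow h)))
    rcases hp.dvd_mul.mp h with h | h
    · exact Or.inr (Or.inr (Or.inl ((Nat.prime_dvd_prime_iff_eq hp (by norm_num)).mp h)))
    · exact Or.inr (Or.inr (Or.inr ((Nat.prime_dvd_prime_iff_eq hp (by norm_num)).mp h)))
  obtain ⟨mA, mT, mG, m5, m7⟩ := odd_mem
  intro p hp Δ _ _ τ hs hc' hd z hz hz' hzp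
  simp only [List.mem_cons, List.not_mem_nil, or_false] at hp
  rcases hp with rfl | rfl | rfl | rfl
  · refine eq_one_of_kernel_prime τ hs hc' hd (fun Δ' _ _ τ' hs' hc'' w hw hw' hwp hgen =>
      eq_one_of_ker_two τ' hs' hc'' hw hw' hwp fun u hu => ?_) hz hzp
    obtain ⟨i, rfl⟩ := hgen u hu
    rcases Nat.even_or_odd' i with ⟨j, rfl | rfl⟩
    · left; rw [pow_mul, hwp, one_pow]
    · right; rw [pow_succ, pow_mul, hwp, one_pow, one_mul]
  · obtain ⟨hA, hT, hcomm, hgA, hgB⟩ := three_facts
    obtain ⟨e1, e2, e3, o3⟩ := three_slp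
    obtain ⟨hv, ha⟩ := valid_of_powOk (by norm_num) hA
    obtain ⟨hvt, ht⟩ := valid_of_powOk (by norm_num) hT
    obtain ⟨hvg, hG⟩ := mem_grp_of_memOk covSmall_ok mG
    have hA3 := (mem_grp_of_memOk covSmall_ok mA).2
    have hT3 := (mem_grp_of_memOk covSmall_ok mT).2
    have hinv : ∀ {P : ℕ}, toPerm 240 P ^ 3 = 1 →
        (toPerm 240 P)⁻¹ = toPerm 240 P * toPerm 240 P := fun h => by
      rw [inv_eq_iff_mul_eq_one, ← mul_assoc, ← pow_three']; exact h
    have hrb := hvt.repr.mul (hv.repr.mul (hvt.repr.mul hvt.repr))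
    refine WreathMult.eq_one_of_wreath τ hs hc' hz hz' hzp (a := ⟨_, hA3⟩) (t := ⟨_, hT3⟩)
      (g := ⟨_, hG⟩) ?_ ?_ ?_ ?_ ?_ ?_ ?_
    · exact Subtype.ext (by simpa using ha)
    · exact Subtype.ext (by simpa using ht)
    · refine Subtype.ext ?_
      simp only [Subgroup.coe_mul, Subgroup.coe_inv, hinv ht, mul_assoc]
      exact (hv.repr.mul hrb).eq (hvt.repr.mul (hv.repr.mul (hvt.repr.mul
        (hvt.repr.mul hv.repr)))) hcomm
    · refine Subtype.ext ?_
      simp only [Subgroup.coe_mul, Subgroup.coe_inv]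
      rw [mul_inv_eq_iff_eq_mul, eq_inv_mul_iff_mul_eq]
      exact (hv.repr.mul (hvg.repr.mul hv.repr)).eq hvg.repr hgA
    · refine Subtype.ext ?_
      simp only [Subgroup.coe_mul, Subgroup.coe_inv]
      rw [mul_inv_eq_iff_eq_mul]
      simp only [hinv ht, mul_assoc]
      exact (hvg.repr.mul hrb).eq (hvt.repr.mul (hv.repr.mul (hvt.repr.mul
        (hvt.repr.mul hvg.repr)))) hgB
    · intro i hi j hj h
      have h2 := congrArg Subtype.val h
      simp only [Subgroup.coe_mul, Subgroup.coe_inv, SubmonoidClass.coe_pow,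
        Subgroup.coe_one] at h2
      have hgen : ∀ a t : Equiv.Perm (Fin 240), a⁻¹ = a * a → t⁻¹ = t * t →
          a * (t * a * t⁻¹)⁻¹ = a * (t * (a * (a * (t * t)))) ∧
          t * a * t⁻¹ * (t * (t * a * t⁻¹) * t⁻¹)⁻¹ =
            t * (a * (t * (a * (a * (t * (t * (t * t))))))) := fun a t ha' ht' => by
        constructor <;>
        · simp only [mul_inv_rev, inv_inv, mul_assoc, inv_mul_cancel_left]
          rw [ha', ht']
          simp only [mul_assoc]
      obtain ⟨hu, hv'⟩ := hgen _ _ (hinv ha) (hinv ht)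
      rw [hu, hv'] at h2
      have hru := hv.repr.mul (hvt.repr.mul (hv.repr.mul (hv.repr.mul (hvt.repr.mul hvt.repr))))
      have hrv := hvt.repr.mul (hv.repr.mul (hvt.repr.mul (hv.repr.mul (hv.repr.mul
        (hvt.repr.mul (hvt.repr.mul (hvt.repr.mul hvt.repr)))))))
      have hr := (repr_pow hru i).mul (repr_pow hrv j)
      refine three_indep i hi j hj fun x hx => ?_
      have h3 := hr ⟨x, hx⟩
      rw [h2] at h3
      exact h3.symm
    · exact coprime_index_of_slp hA3 hT3 card_small e1 hv hvt e2 e3 (d := 35840)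
        (by rw [o3]) (by norm_num)
  · have hQ := (mem_grp_of_memOk covSmall_ok m5).2
    refine eq_one_of_cyclic τ hs hc' hz hz' hzp (x := ⟨_, hQ⟩) ?_
    exact coprime_index_of_prime hQ card_small (q := 5) (d := 580608) (by norm_num) (by norm_num)
      cyc_facts.1.1 cyc_facts.1.2 (by norm_num)
  · have hQ := (mem_grp_of_memOk covSmall_ok m7).2
    refine eq_one_of_cyclic τ hs hc' hz hz' hzp (x := ⟨_, hQ⟩) ?_
    exact coprime_index_of_prime hQ card_small (q := 7) (d := 414720) (by norm_num) (by norm_num)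
      cyc_facts.2.1 cyc_facts.2.2 (by norm_num)

end Cfsg.Agent.Lib.Recognition.Sp6Cover
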