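import Cfsg.Agent.Lib.Recognition.Sp6Cover
import Cfsg.Agent.Lib.Recognition.Sp6CoverSplit
import Cfsg.Agent.Lib.Recognition.TabFast

/-!
# The multiplier of the double cover has trivial 2-part
-/

set_option autoImplicit false
set_option maxRecDepth 100000

namespace Cfsg.Agent.Lib.Recognition.Sp6Cover

open Cfsg.Agent.Lib.Compute

theorem split_gens_ok : ((List.range splitBase.length).all fun i =>
    memOk 240 covSmall (splitBase.getD i 0) (splitWit.getD i [])) = true := by decide +kernel

theorem split_tab_fast : TabFast.tabFast splitTab 240 covSmall splitBase = true := by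
  decide +kernel

theorem split_tab_ok : splitTab.tabOk 240 splitBase = true :=
  TabFast.tabOk_of_fast covSmall_ok split_gens_ok splitTab split_tab_fast

theorem split_cert_ok : splitTab.certOk 240 covSmall 4096 splitRows splitPos = true := by
  decide +kernel

theorem splitS_ok : chk 240 splitS = true ∧ slpOk 240 splitBase splitSteps = true ∧
    slpCovers splitBase splitSteps splitS = true := by decide +kernel

theorem eq_one_of_ker_two {Δ : Type*} [Group Δ] [Finite Δ] (τ : Δ →* grp 240 covSmall)
    (hs : Function.Surjective τ) (hc : τ.ker ≤ Subgroup.center Δ) {z : Δ} (hz : z ∈ τ.ker)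
    (hz' : z ∈ commutator Δ) (hzp : z ^ 2 = 1) (hker : ∀ w ∈ τ.ker, w = 1 ∨ w = z) : z = 1 :=
  eq_one_of_twoSplit covSmall_ok τ hs hc hz hz' hzp hker split_gens_ok splitTab split_tab_ok
    split_cert_ok splitS_ok.1 splitS_ok.2.1 splitS_ok.2.2 (d := 2835) (by decide +kernel)
    (by norm_num)

end Cfsg.Agent.Lib.Recognition.Sp6Cover
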