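import Cfsg.Agent.Lib.Recognition.TailCertSylowData

/-!
# The kernel check of a splitting certificate
-/

set_option autoImplicit false

namespace Cfsg.Agent.Lib.Recognition.M23Tail

open Tail

/-- The position of the rule of `a ≤ b`. -/
def ridx (a b : ℕ) : ℕ := a * 7 - a * (a - 1) / 2 + (b - a)

/-- The identity matrix. -/
def idMat : List ℕ := (List.range 11).map fun j => 1 <<< j

/-- The rewriting data of a certificate. -/
def sysOf (D : Cert) : Sys where
  num := 7
  mat a := if a < 7 then D.mats.getD a [] else idMat
  rule a b := ruleTab.getD (ridx a b) []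
  tail a b := tvar (ridx a b)

/-- Fuel for collection. -/
def fuel : ℕ := 200

/-- Right-hand side of a rule as tokens. -/
def ruleR (a b : ℕ) : List Tok :=
  Tok.v (tvar (ridx a b)) ::
    ((if a = b then [] else [Tok.l b]) ++ (ruleTab.getD (ridx a b) []).map Tok.l)

/-- A word in the generators of a subgroup as tokens. -/
def srcT (I : GInfo) (w : List ℕ) : List Tok :=
  w.flatMap fun k => (I.ys.getD k []).map Tok.l

/-- Its image under conjugation as tokens. -/
def imgT (I : GInfo) (w : List ℕ) : List Tok :=
  w.flatMap fun k => Tok.v (tvar (I.start + k)) :: (I.vs.getD k []).map Tok.l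

/-- The form of an equation. -/
def eqForm (D : Cert) : EqK → ℕ
  | .cons a b c =>
    if a ≤ b ∧ b ≤ c ∧ c < 7 then
      diffF (collect (sysOf D) fuel (ruleR a b ++ [Tok.l c]))
        (collect (sysOf D) fuel (Tok.l a :: ruleR b c))
    else 0
  | .stab g w₁ w₂ =>
    match D.infos[g]? with
    | none => 0
    | some I =>
      if (∀ k ∈ w₁ ++ w₂, k < I.ys.length) then
        let A := collect (sysOf D) fuel (srcT I w₁)
        let B := collect (sysOf D) fuel (srcT I w₂)
        let C := collect (sysOf D) fuel (imgT I w₁)
        let D' := collect (sysOf D) fuel (imgT I w₂)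
        if A.2 = B.2 ∧ C.2 = D'.2 then actF I.gmat (A.1 ^^^ B.1) ^^^ (C.1 ^^^ D'.1) else 0
      else 0

/-- Every listed form is the form of its source. -/
def formsOk (D : Cert) : Bool :=
  D.eqs.length == D.forms.length &&
    (D.eqs.zip D.forms).all fun p => eqForm D p.1 == p.2

/-- A combination of the forms and of the extra form. -/
def comb (lam : ℕ) : List ℕ → ℕ → ℕ
  | [], m => if m.testBit 0 then lam else 0
  | T :: Ts, m =>
    if m == 0 then 0
    else force (comb lam Ts (m >>> 11)) fun r =>
      r ^^^ xsum 11 fun j => if m.testBit j then slot j T else 0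

/-- Interleave the corrections in a word. -/
def subW (D : Cert) (w : List ℕ) : List Tok :=
  w.flatMap fun c => [Tok.v (D.corr.getD c 0), Tok.l c]

/-- The word on the right of a rule. -/
def ruleW (a b : ℕ) : List ℕ :=
  (if a = b then [] else [b]) ++ ruleTab.getD (ridx a b) []

/-- The corrected rule of `(a, b)` follows from the equations. -/
def targetOk (D : Cert) (a b : ℕ) : Bool :=
  let l := collect (sysOf D) fuel (subW D [a, b])
  let r := collect (sysOf D) fuel (subW D (ruleW a b))
  (l.2 == r.2) && force (l.1 ^^^ r.1) fun T =>
    (List.range 11).all fun i =>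
      slot i T == comb D.lam D.forms ((D.combos.getD (ridx a b) []).getD i 0)

/-- All corrected rules follow. -/
def targetsOk (D : Cert) : Bool :=
  (List.range 7).all fun a => (List.range 7).all fun b => !decide (a ≤ b) || targetOk D a b

/-- The extra form only involves the tails, and all words stay in range. -/
def rangeOk (D : Cert) : Bool :=
  decide (D.lam < 2 ^ 308) && D.mats.length == 7 && D.corr.length == 7 &&
    D.infos.all fun I => decide (28 ≤ I.start ∧ 11 * (I.start + I.ys.length) ≤ 512) &&
      I.ys.length == I.vs.length

/-- The unknown vectors of different conjugations are different. -/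
def startsOk (D : Cert) : Bool :=
  (List.range D.infos.length).all fun i => (List.range i).all fun j =>
    match D.infos[i]?, D.infos[j]? with
    | some I, some J => decide (J.start + J.ys.length ≤ I.start)
    | _, _ => false

/-- The normal words are closed under multiplication by generators. -/
def nfClosed : Bool :=
  nfTab.all fun n => (List.range 7).all fun a =>
    nfTab.contains ((lm (sysOf ⟨[], [], [], [], [], [], 0⟩) fuel a n).2)

theorem nfClosed_ok : nfClosed = true := by decide +kernel

end Cfsg.Agent.Lib.Recognition.M23Tail
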