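import Cfsg.Agent.Lib.Recognition.TailEngine

/-!
# Certificates that an extension restricted to a 2-subgroup with seven generators splits
-/

set_option autoImplicit false

namespace Cfsg.Agent.Lib.Recognition.M23Tail

/-- Data of one conjugating element: its matrix, generators of the subgroup, their images and
the number of the first unknown vector. -/
structure GInfo where
  gmat : List ℕ
  ys : List (List ℕ)
  vs : List (List ℕ)
  start : ℕ

/-- Where an equation comes from. -/
inductive EqK where
  | cons (a b c : ℕ)
  | stab (g : ℕ) (w₁ w₂ : List ℕ)

/-- A certificate. -/
structure Cert where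
  mats : List (List ℕ)
  infos : List GInfo
  eqs : List EqK
  forms : List ℕ
  corr : List ℕ
  combos : List (List ℕ)
  lam : ℕ

end Cfsg.Agent.Lib.Recognition.M23Tail
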