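import Cfsg.Agent.Lib.Recognition.M23Sylow
import Cfsg.Agent.Lib.Solvable.Gaschuetz
import Cfsg.Agent.Lib.MathieuOut.Gen

/-!
# A checked certificate gives a complement
-/

set_option autoImplicit false

namespace Cfsg.Agent.Lib.Recognition.M23Tail

open Cfsg Tail

/-- The checks on a certificate. -/
structure Cert.Good (D : Cert) : Prop where
  forms : formsOk D = true
  targets : targetsOk D = true
  range : rangeOk D = true
  starts : startsOk D = true

/-- The conjugating elements match the data. -/
def GOk (D : Cert) (gel : ℕ → Spor.M23) : Prop :=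
  ∀ g I, D.infos[g]? = some I → ∀ k < I.ys.length,
    gel g * ((I.ys.getD k []).map xel).prod = ((I.vs.getD k []).map xel).prod * gel g

variable {E : Type*} [Group E]

/-- An extension of the point stabiliser by a module with the matrices of the certificate. -/
structure Setup (D : Cert) (gel : ℕ → Spor.M23) (π : E →* Spor.M23) (ν : Vec → E) : Prop where
  surj : Function.Surjective π
  add : ∀ v w, ν (v + w) = ν v * ν w
  inj : Function.Injective ν
  ker : ∀ e, π e = 1 ↔ ∃ v, ν v = e
  conjX : ∀ a < 7, ∀ e, π e = xel a → ∀ v, e * ν v = ν (mapply (D.mats.getD a []) v) * e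
  conjG : ∀ g I, D.infos[g]? = some I → ∀ e, π e = gel g →
    ∀ v, e * ν v = ν (mapply I.gmat v) * e

/-- `t` gives the tails of the lifts `x`. -/
def HasTails (x : ℕ → E) (ν : Vec → E) (t : ℕ → Vec) : Prop :=
  ∀ a b, a ≤ b → b < 7 → x a * x b = ν (t (ridx a b)) * ((ruleW a b).map x).prod

/-- `x` lifts the generators. -/
def IsLift (π : E →* Spor.M23) (x : ℕ → E) : Prop :=
  (∀ a, π (x a) = xel a) ∧ ∀ a, 7 ≤ a → x a = 1

/-- The extra form as a function of tails. -/
def lamVal (D : Cert) (t : ℕ → Vec) : ZMod 2 :=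
  evm (fun k => t (k / 11) ⟨k % 11, Nat.mod_lt _ (by decide)⟩) D.lam

variable {D : Cert} {gel : ℕ → Spor.M23} {π : E →* Spor.M23} {ν : Vec → E}

theorem Setup.map_zero (S : Setup D gel π ν) : ν 0 = 1 := by
  have := S.add 0 0
  rw [add_zero] at this
  exact mul_eq_left.mp this.symm

theorem map_word {x : ℕ → E} (hx : ∀ a, π (x a) = xel a) (w : List ℕ) :
    π (w.map x).prod = (w.map xel).prod := by
  rw [map_list_prod, List.map_map]
  congr 1
  exact List.map_congr_left fun a _ => hx a

theorem Setup.exists_lift (S : Setup D gel π ν) : ∃ x : ℕ → E, IsLift π x := by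
  choose s hs using S.surj
  refine ⟨fun a => if a < 7 then s (xel a) else 1, fun a => ?_, fun a ha => by simp [not_lt.mpr ha]⟩
  by_cases h : a < 7
  · simp [h, hs]
  · simp [h, xel]

theorem Setup.exists_tails (S : Setup D gel π ν) {x : ℕ → E} (hx : IsLift π x) :
    ∃ t : ℕ → Vec, HasTails x ν t := by
  have h : ∀ i, ∃ v : Vec, ∀ a b, a ≤ b → b < 7 → ridx a b = i →
      x a * x b = ν v * ((ruleW a b).map x).prod := by
    intro i
    by_cases hi : ∃ a b, a ≤ b ∧ b < 7 ∧ ridx a b = i
    · obtain ⟨a, b, hab, hb, he⟩ := hi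
      obtain ⟨v, hv⟩ := (S.ker (x a * x b * ((ruleW a b).map x).prod⁻¹)).mp (by
        rw [map_mul, map_mul, map_inv, map_word hx.1, hx.1, hx.1, xel_rule hab hb, mul_inv_cancel])
      refine ⟨v, fun c d hcd hd he' => ?_⟩
      obtain ⟨e1, e2⟩ := ridx_inj ⟨a, by omega⟩ ⟨b, hb⟩ ⟨c, by omega⟩ ⟨d, hd⟩ hab hcd
        (he.trans he'.symm)
      obtain rfl : a = c := congrArg Fin.val e1
      obtain rfl : b = d := congrArg Fin.val e2
      rw [hv, inv_mul_cancel_right]
    · exact ⟨0, fun a b h1 h2 h3 => absurd ⟨a, b, h1, h2, h3⟩ hi⟩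
  choose t ht using h
  exact ⟨t, fun a b h1 h2 => ht _ a b h1 h2 rfl⟩

theorem mapply_idMat (v : Vec) : mapply idMat v = v := by
  funext i
  have h : ∀ i j : Fin 11, (idMat.getD j 0).testBit i = decide (j = i) := by decide +kernel
  simp only [mapply, h, decide_eq_true_eq]
  simp

/-- The values of all unknowns. -/
def valOf (t u : ℕ → Vec) (k : ℕ) : ZMod 2 :=
  if k < 308 then t (k / 11) ⟨k % 11, Nat.mod_lt _ (by decide)⟩
  else u (k / 11) ⟨k % 11, Nat.mod_lt _ (by decide)⟩

theorem sem_tail (t u : ℕ → Vec) {i : ℕ} (hi : i < 28) : sem (valOf t u) (tvar i) = t i := by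
  rw [sem_tvar _ (by omega)]
  funext j
  rw [valOf, if_pos (by omega)]
  congr 1
  · omega
  · exact Fin.ext (by show (11 * i + j) % 11 = j; omega)

theorem sem_unknown (t u : ℕ → Vec) {i : ℕ} (hi : 28 ≤ i) (hi' : 11 * i + 11 ≤ 512) :
    sem (valOf t u) (tvar i) = u i := by
  rw [sem_tvar _ hi']
  funext j
  rw [valOf, if_neg (by omega)]
  congr 1
  · omega
  · exact Fin.ext (by show (11 * i + j) % 11 = j; omega)

theorem evm_lam (hlam : D.lam < 2 ^ 308) (t u : ℕ → Vec) :
    evm (valOf t u) D.lam = lamVal D t := by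
  unfold lamVal evm
  refine Finset.sum_congr rfl fun k _ => ?_
  by_cases hk : (k : ℕ) < 308
  · simp [valOf, hk]
  · rw [Nat.testBit_lt_two_pow (lt_of_lt_of_le hlam (Nat.pow_le_pow_right (by decide) (by omega)))]
    simp

theorem realises (S : Setup D gel π ν) {x : ℕ → E} (hx : IsLift π x) {t : ℕ → Vec}
    (ht : HasTails x ν t) (u : ℕ → Vec) : Realises (sysOf D) x ν (valOf t u) where
  add := S.add
  conj a v := by
    by_cases h : a < 7
    · simp only [sysOf, h, if_true]
      exact S.conjX a h (x a) (hx.1 a) v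
    · simp [sysOf, h, hx.2 a (not_lt.mp h), mapply_idMat]
  sq a ha := by
    have h := ht a a le_rfl ha
    simp only [ruleW, if_true, List.nil_append] at h
    simpa [sysOf, sem_tail t u (ridx_lt ⟨a, ha⟩ ⟨a, ha⟩ le_rfl)] using h
  com a b hab hb := by
    have h := ht a b hab.le hb
    simp only [ruleW, hab.ne, if_false, List.singleton_append, List.map_cons, List.prod_cons] at h
    simpa [sysOf, sem_tail t u
      (ridx_lt ⟨a, hab.trans hb⟩ ⟨b, hb⟩ (Fin.mk_le_mk.mpr hab.le))] using h

theorem Setup.exists_unknowns (S : Setup D gel π ν) (hG : GOk D gel) (hD : D.Good) {x : ℕ → E}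
    (hx : IsLift π x) (gl : ℕ → E) (hgl : ∀ g, π (gl g) = gel g) :
    ∃ u : ℕ → Vec, ∀ g I, D.infos[g]? = some I → ∀ k < I.ys.length,
      gl g * ((I.ys.getD k []).map x).prod =
        ν (u (I.start + k)) * ((I.vs.getD k []).map x).prod * gl g := by
  have h : ∀ i, ∃ v : Vec, ∀ g I, D.infos[g]? = some I → ∀ k < I.ys.length, I.start + k = i →
      gl g * ((I.ys.getD k []).map x).prod = ν v * ((I.vs.getD k []).map x).prod * gl g := by
    intro i
    by_cases hi : ∃ (g : ℕ) (I : GInfo), D.infos[g]? = some I ∧ ∃ k < I.ys.length, I.start + k = i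
    · obtain ⟨g, I, hI, k, hk, hik⟩ := hi
      obtain ⟨v, hv⟩ := (S.ker (gl g * ((I.ys.getD k []).map x).prod * (gl g)⁻¹ *
        ((I.vs.getD k []).map x).prod⁻¹)).mp (by
        rw [map_mul, map_mul, map_mul, map_inv, map_inv, map_word hx.1, map_word hx.1, hgl,
          hG g I hI k hk]
        group)
      refine ⟨v, fun g' I' hI' k' hk' hik' => ?_⟩
      have hst := hD.starts
      simp only [startsOk, List.all_eq_true, List.mem_range] at hst
      have hlt : ∀ n J, D.infos[n]? = some J → n < D.infos.length :=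
        fun n J hn => (List.getElem?_eq_some_iff.mp hn).1
      obtain rfl : g = g' := by
        rcases Nat.lt_trichotomy g g' with hl | hl | hl
        · have := hst g' (hlt _ _ hI') g hl
          rw [hI, hI'] at this
          simp at this
          omega
        · exact hl
        · have := hst g (hlt _ _ hI) g' hl
          rw [hI, hI'] at this
          simp at this
          omega
      obtain rfl : I = I' := Option.some.inj (hI.symm.trans hI')
      obtain rfl : k = k' := by omega
      rw [hv]; group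
    · exact ⟨0, fun g I h1 k h2 h3 => absurd ⟨g, I, h1, k, h2, h3⟩ hi⟩
  choose u hu using h
  exact ⟨u, fun g I h1 k h2 => hu _ g I h1 k h2 rfl⟩

theorem eval_ruleR {τ : ℕ → ZMod 2} {x : ℕ → E} (a b : ℕ) :
    evalT x ν τ (ruleR a b) = ν (sem τ (tvar (ridx a b))) * ((ruleW a b).map x).prod := by
  rw [ruleR, evalT]
  congr 1
  rw [evalT_append, evalT_letters, ruleW, List.map_append, List.prod_append]
  congr 1
  split <;> simp [evalT]

theorem sem_eqForm (S : Setup D gel π ν) (hD : D.Good) {x : ℕ → E}
    (hx : IsLift π x) {t u : ℕ → Vec} (ht : HasTails x ν t) (gl : ℕ → E)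
    (hgl : ∀ g, π (gl g) = gel g)
    (hu : ∀ g I, D.infos[g]? = some I → ∀ k < I.ys.length,
      gl g * ((I.ys.getD k []).map x).prod =
        ν (u (I.start + k)) * ((I.vs.getD k []).map x).prod * gl g) :
    ∀ e : EqK, sem (valOf t u) (eqForm D e) = 0 := by
  have R := realises S hx ht u
  intro e
  cases e with
  | cons a b c =>
    rw [eqForm]
    split
    · rename_i h
      refine sem_diff_of_eq R S.inj fuel ?_
      simp only [evalT_append, evalT, eval_ruleR]
      rw [
        sem_tail t u (ridx_lt ⟨a, by omega⟩ ⟨b, by omega⟩ (Fin.mk_le_mk.mpr h.1)),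
        sem_tail t u (ridx_lt ⟨b, by omega⟩ ⟨c, h.2.2⟩ (Fin.mk_le_mk.mpr h.2.1)),
        ← ht a b h.1 (by omega), ← ht b c h.2.1 h.2.2]
      simp [mul_assoc]
    · exact sem_zero _
  | stab g w₁ w₂ =>
    rw [eqForm]
    split
    · exact sem_zero _
    · rename_i I hI
      split
      · rename_i hk
        have hr := hD.range
        simp only [rangeOk, Bool.and_eq_true, List.all_eq_true, decide_eq_true_eq] at hr
        obtain ⟨hst, hlast⟩ := (hr.2 I (List.mem_of_getElem? hI)).1
        have key : ∀ w : List ℕ, (∀ k ∈ w, k < I.ys.length) →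
            gl g * evalT x ν (valOf t u) (srcT I w) =
              evalT x ν (valOf t u) (imgT I w) * gl g := by
          intro w
          induction w with
          | nil => intro _; simp [srcT, imgT, evalT]
          | cons k w ih =>
            intro hw
            have hk' := hw k List.mem_cons_self
            simp only [srcT, imgT] at ih ⊢
            rw [List.flatMap_cons, List.flatMap_cons, evalT_append, evalT_append, evalT,
              evalT_letters, evalT_letters, sem_unknown t u (by omega) (by omega), ← mul_assoc,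
              hu g I hI k hk', mul_assoc, ih fun j hj => hw j (List.mem_cons_of_mem _ hj),
              ← mul_assoc]
        dsimp only
        split
        · rename_i hn
          obtain ⟨hAB, hCD⟩ := hn
          have k1 := key w₁ fun k h' => hk k (List.mem_append_left _ h')
          have k2 := key w₂ fun k h' => hk k (List.mem_append_right _ h')
          rw [collect_sound R fuel, collect_sound R fuel] at k1 k2
          rw [hAB, hCD, ← mul_assoc, S.conjG g I hI _ (hgl g)] at k1
          rw [← mul_assoc, S.conjG g I hI _ (hgl g)] at k2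
          set a := mapply I.gmat (sem (valOf t u) (collect (sysOf D) fuel (srcT I w₁)).1)
          set b := mapply I.gmat (sem (valOf t u) (collect (sysOf D) fuel (srcT I w₂)).1)
          set c := sem (valOf t u) (collect (sysOf D) fuel (imgT I w₁)).1
          set d := sem (valOf t u) (collect (sysOf D) fuel (imgT I w₂)).1
          set G := gl g
          set P := ((collect (sysOf D) fuel (srcT I w₂)).2.map x).prod
          set Q := ((collect (sysOf D) fuel (imgT I w₂)).2.map x).prod
          -- k1 : ν a * G * P = ν c * Q * G and k2 : ν b * G * P = ν d * Q * G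
          have h1 : G * P = (ν b)⁻¹ * (ν d * Q * G) := by rw [← k2]; group
          rw [mul_assoc (ν a), h1] at k1
          have h2 : ν a * (ν b)⁻¹ = ν c * (ν d)⁻¹ := by
            calc ν a * (ν b)⁻¹ = ν a * ((ν b)⁻¹ * (ν d * Q * G)) * (ν d * Q * G)⁻¹ := by group
              _ = _ := by rw [k1]; group
          have hinv : ∀ v, (ν v)⁻¹ = ν v := fun v => inv_eq_of_mul_eq_one_right (by
            rw [← S.add, add_self_vec, S.map_zero])
          rw [hinv, hinv, ← S.add, ← S.add] at h2
          have h3 : a + b = c + d := S.inj h2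
          rw [sem_xor, sem_actF, sem_xor, sem_xor]
          have hlin : ∀ v w : Vec, mapply I.gmat (v + w) = mapply I.gmat v + mapply I.gmat w := by
            intro v w
            funext i
            simp only [mapply, Pi.add_apply, ← Finset.sum_add_distrib]
            exact Finset.sum_congr rfl fun j _ => by split <;> simp
          rw [hlin]
          show a + b + (c + d) = 0
          rw [h3, add_self_vec]
        · exact sem_zero _
      · exact sem_zero _

theorem evm_comb {τ : ℕ → ZMod 2} {lam : ℕ} (hl : evm τ lam = 0) :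
    ∀ (Ts : List ℕ), (∀ T ∈ Ts, sem τ T = 0) → ∀ m, evm τ (comb lam Ts m) = 0 := by
  intro Ts
  induction Ts with
  | nil => intro _ m; rw [comb]; split <;> simp [hl, evm_zero]
  | cons T Ts ih =>
    intro h m
    rw [comb]
    split
    · exact evm_zero τ
    · rw [force_eq, evm_xor, ih (fun U hU => h U (List.mem_cons_of_mem _ hU)), zero_add, evm_xsum]
      refine Finset.sum_eq_zero fun j _ => ?_
      split
      · exact congrFun (h T List.mem_cons_self) j
      · exact evm_zero τ

theorem eval_subW {τ : ℕ → ZMod 2} {x x' : ℕ → E} (w : List ℕ)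
    (h : ∀ c ∈ w, x' c = ν (sem τ (D.corr.getD c 0)) * x c) :
    evalT x ν τ (subW D w) = (w.map x').prod := by
  induction w with
  | nil => rfl
  | cons c w ih =>
    rw [subW, List.flatMap_cons, evalT_append, List.map_cons, List.prod_cons,
      h c List.mem_cons_self]
    congr 1
    · simp [evalT]
    · exact ih fun d hd => h d (List.mem_cons_of_mem _ hd)

/-- Lifts satisfying the rules exactly exist if the extra form vanishes. -/
theorem exists_exact_lifts (hD : D.Good) (S : Setup D gel π ν) (hG : GOk D gel) {x : ℕ → E}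
    (hx : IsLift π x) {t : ℕ → Vec} (ht : HasTails x ν t) (hlam : lamVal D t = 0) :
    ∃ x' : ℕ → E, IsLift π x' ∧
      ∀ a b, a ≤ b → b < 7 → x' a * x' b = ((ruleW a b).map x').prod := by
  choose s hs using S.surj
  obtain ⟨u, hu⟩ := S.exists_unknowns hG hD hx (fun g => s (gel g)) fun g => hs _
  have hr := hD.range
  simp only [rangeOk, Bool.and_eq_true, decide_eq_true_eq] at hr
  have hl : evm (valOf t u) D.lam = 0 := by rw [evm_lam hr.1.1.1, hlam]
  have hforms : ∀ T ∈ D.forms, sem (valOf t u) T = 0 := by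
    intro T hT
    have hf := hD.forms
    simp only [formsOk, Bool.and_eq_true, beq_iff_eq, List.all_eq_true] at hf
    obtain ⟨i, hi, rfl⟩ := List.getElem_of_mem hT
    have := hf.2 (D.eqs[i]'(by omega), D.forms[i]) (by
      rw [List.mem_iff_getElem]
      exact ⟨i, by simp [List.length_zip]; omega, by simp⟩)
    simp only at this
    rw [← this]
    exact sem_eqForm S hD hx ht _ (fun g => hs _) hu _
  refine ⟨fun a => if a < 7 then ν (sem (valOf t u) (D.corr.getD a 0)) * x a else 1,
    ⟨fun a => ?_, fun a ha => by simp [not_lt.mpr ha]⟩, fun a b hab hb => ?_⟩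
  · by_cases h : a < 7
    · simp only [h, if_true, map_mul]
      rw [(S.ker _).mpr ⟨_, rfl⟩, one_mul, hx.1]
    · simp [h, xel]
  · set x' := fun a => if a < 7 then ν (sem (valOf t u) (D.corr.getD a 0)) * x a else 1 with hx'
    have hd : ∀ c, c < 7 → x' c = ν (sem (valOf t u) (D.corr.getD c 0)) * x c :=
      fun c hc => by simp [hx', hc]
    have e1 : evalT x ν (valOf t u) (subW D [a, b]) = ([a, b].map x').prod :=
      eval_subW [a, b] (by intro c hc; simp at hc; exact hd c (by omega))
    have e2 : evalT x ν (valOf t u) (subW D (ruleW a b)) = ((ruleW a b).map x').prod :=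
      eval_subW _ fun c hc => hd c ((rules_check ⟨a, by omega⟩ ⟨b, hb⟩ hab).1 c hc)
    have htg := hD.targets
    simp only [targetsOk, List.all_eq_true, List.mem_range] at htg
    have hab' := htg a (by omega) b hb
    simp only [hab, decide_true, Bool.not_true, Bool.false_or] at hab'
    simp only [targetOk, force_eq, Bool.and_eq_true, beq_iff_eq, List.all_eq_true,
      List.mem_range] at hab'
    have he := eval_eq_of_collect (realises S hx ht u) fuel hab'.1 (funext fun i => by
      show evm _ (slot i _) = 0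
      rw [hab'.2 i i.isLt]
      exact evm_comb hl _ hforms _)
    rw [e1, e2] at he
    simpa [hx'] using he

theorem nf_closed {n : List ℕ} (hn : n ∈ nfTab) {a : ℕ} (ha : a < 7) :
    (lm (sysOf ⟨[], [], [], [], [], [], 0⟩) fuel a n).2 ∈ nfTab := by
  have := nfClosed_ok
  simp only [nfClosed, List.all_eq_true, List.mem_range, List.contains_iff_mem] at this
  exact this n hn a ha

theorem nfKey_eq {v w : List ℕ} (h : ∀ p, wordMap v p = wordMap w p) : nfKey v = nfKey w := by
  simp [nfKey, h]

/-- The certificate gives a complement. -/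
theorem exists_complement [Finite E] (hD : D.Good) (S : Setup D gel π ν) (hG : GOk D gel)
    {x : ℕ → E} (hx : IsLift π x) {t : ℕ → Vec} (ht : HasTails x ν t)
    (hlam : lamVal D t = 0) : ∃ H : Subgroup E, H ⊓ π.ker = ⊥ ∧ H ⊔ π.ker = ⊤ := by
  classical
  obtain ⟨y, hy, hrule⟩ := exists_exact_lifts hD S hG hx ht hlam
  have R : Realises (sysOf ⟨[], [], [], [], [], [], 0⟩) y (fun _ => (1 : E)) (fun _ => 0) := by
    refine ⟨fun _ _ => (one_mul 1).symm, fun a v => by simp, fun a ha => ?_, fun a b hab hb => ?_⟩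
    · simpa [sysOf, ruleW] using hrule a a le_rfl ha
    · simpa [sysOf, ruleW, hab.ne] using hrule a b hab.le hb
  have hstep : ∀ w : List ℕ, (∀ a ∈ w, a < 7) → ∀ n ∈ nfTab,
      ∃ m ∈ nfTab, (w.map y).prod * (n.map y).prod = (m.map y).prod := by
    intro w
    induction w with
    | nil => intro _ n hn; exact ⟨n, hn, by simp⟩
    | cons a w ih =>
      intro hw n hn
      obtain ⟨m, hm, e⟩ := ih (fun b hb => hw b (List.mem_cons_of_mem _ hb)) n hn
      refine ⟨_, nf_closed hm (hw a List.mem_cons_self), ?_⟩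
      rw [List.map_cons, List.prod_cons, mul_assoc, e, lm_sound R fuel a m, one_mul]
  let M : Submonoid E :=
    { carrier := (fun n : List ℕ => (n.map y).prod) '' {n | n ∈ nfTab}
      one_mem' := ⟨[], nf_nil, rfl⟩
      mul_mem' := by
        rintro _ _ ⟨v, hv, rfl⟩ ⟨n, hn, rfl⟩
        obtain ⟨m, hm, e⟩ := hstep v (nf_range v hv) n hn
        exact ⟨m, hm, e.symm⟩ }
  let A : Subgroup E :=
    { M with
      inv_mem' := fun {e} he => by
        have h0 : 0 < orderOf e := orderOf_pos e
        have h1 : e⁻¹ = e ^ (orderOf e - 1) := inv_eq_of_mul_eq_one_right (by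
          rw [← pow_succ', Nat.sub_add_cancel h0, pow_orderOf_eq_one])
        show e⁻¹ ∈ M
        rw [h1]
        exact pow_mem he _ }
  have hinjA : ∀ v ∈ nfTab, ∀ w ∈ nfTab, π (v.map y).prod = π (w.map y).prod → v = w := by
    intro v hv w hw e
    rw [map_word hy.1, map_word hy.1] at e
    refine List.inj_on_of_nodup_map nfKey_nodup hv hw (nfKey_eq fun p => ?_)
    rw [← word_apply v (nf_range v hv), ← word_apply w (nf_range w hw), e]
  have hAN : A ⊓ π.ker = ⊥ := by
    rw [Subgroup.eq_bot_iff_forall]
    intro e he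
    obtain ⟨⟨n, hn, rfl⟩, hk⟩ := Subgroup.mem_inf.mp he
    have : n = [] := hinjA n hn [] nf_nil (by simpa using MonoidHom.mem_ker.mp hk)
    simp [this]
  have hAcard : Nat.card A = 128 := by
    rw [← SetLike.coe_sort_coe, Nat.card_coe_set_eq,
      show (A : Set E) = (fun n : List ℕ => (n.map y).prod) '' {n | n ∈ nfTab} from rfl,
      Set.InjOn.ncard_image (s := {n : List ℕ | n ∈ nfTab})
        fun v hv w hw e => hinjA v hv w hw (congrArg π e),
      show {n : List ℕ | n ∈ nfTab} = (nfTab.toFinset : Set (List ℕ)) from (List.coe_toFinset _).symm,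
      Set.ncard_coe_finset,
      List.toFinset_card_of_nodup (List.Nodup.of_map _ nfKey_nodup), nf_length]
  have hcardN : Nat.card π.ker = 2048 := by
    rw [← Nat.card_congr (Equiv.ofBijective
      (fun v : Vec => (⟨ν v, MonoidHom.mem_ker.mpr ((S.ker _).mpr ⟨v, rfl⟩)⟩ : π.ker))
      ⟨fun v w e => S.inj (congrArg Subtype.val e), fun e => by
        obtain ⟨v, hv⟩ := (S.ker _).mp (MonoidHom.mem_ker.mp e.2)
        exact ⟨v, Subtype.ext hv⟩⟩)]
    simp
  haveI : IsMulCommutative π.ker := ⟨⟨fun a b => by
    obtain ⟨v, hv⟩ := (S.ker _).mp (MonoidHom.mem_ker.mp a.2)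
    obtain ⟨w, hw⟩ := (S.ker _).mp (MonoidHom.mem_ker.mp b.2)
    refine Subtype.ext ?_
    show (a : E) * b = b * a
    rw [← hv, ← hw, ← S.add, ← S.add, add_comm]⟩⟩
  have hidx : (A ⊔ π.ker).index = 79695 := by
    have hq : Nat.card (E ⧸ π.ker) = 10200960 := by
      rw [Nat.card_congr (QuotientGroup.quotientKerEquivOfSurjective π S.surj).toEquiv]
      exact MathieuOut.card_M23
    have h1 : Nat.card E = 10200960 * 2048 := by
      rw [Subgroup.card_eq_card_quotient_mul_card_subgroup π.ker, hq, hcardN]
    have h2 : Nat.card (A ⊔ π.ker : Subgroup E) = 128 * 2048 := by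
      rw [← hAcard, ← hcardN, ← Nat.card_prod]
      refine (Nat.card_congr (Equiv.ofBijective
        (fun p : A × π.ker => (⟨p.1 * p.2, mul_mem (Subgroup.mem_sup_left p.1.2)
          (Subgroup.mem_sup_right p.2.2)⟩ : (A ⊔ π.ker : Subgroup E))) ⟨?_, ?_⟩)).symm
      · rintro ⟨a, n⟩ ⟨b, m⟩ e
        have e' : (b : E)⁻¹ * a = m * (n : E)⁻¹ := by
          rw [inv_mul_eq_iff_eq_mul, ← mul_assoc, eq_mul_inv_iff_mul_eq]
          exact congrArg Subtype.val e
        have hh : (b : E)⁻¹ * a ∈ A ⊓ π.ker := Subgroup.mem_inf.mpr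
          ⟨mul_mem (inv_mem b.2) a.2, e' ▸ mul_mem m.2 (inv_mem n.2)⟩
        rw [hAN, Subgroup.mem_bot] at hh
        have hab : a = b := Subtype.ext (inv_mul_eq_one.mp hh).symm
        subst hab
        exact Prod.ext rfl (Subtype.ext (mul_left_cancel (congrArg Subtype.val e)))
      · rintro ⟨e, he⟩
        rw [← SetLike.mem_coe, Subgroup.mul_normal] at he
        obtain ⟨a, ha, n, hn, rfl⟩ := he
        exact ⟨(⟨a, ha⟩, ⟨n, hn⟩), rfl⟩
    have h3 := (A ⊔ π.ker).card_mul_index
    rw [h1, h2] at h3
    omega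
  obtain ⟨H, hH⟩ := Solvable.exists_complement_of_coprime_index (le_sup_right : π.ker ≤ A ⊔ π.ker)
    (by rw [hcardN, hidx]; decide +kernel) (A := A) le_sup_left hAN (sup_comm _ _)
  exact ⟨H, hH.symm.disjoint.eq_bot, hH.symm.sup_eq_top⟩

end Cfsg.Agent.Lib.Recognition.M23Tail
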