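import Cfsg.Agent.Lib.Recognition.TailCertDefs

/-!
# The Sylow 2-subgroup of the point stabiliser: generators, rules, normal words
-/

set_option autoImplicit false

namespace Cfsg.Agent.Lib.Recognition.M23Tail

/-- Images of the seven generators. -/
def xTab : List (List ℕ) :=
  [[12, 1, 13, 22, 9, 5, 6, 18, 14, 4, 10, 20, 0, 2, 8, 15, 19, 17, 7, 16, 11, 21, 3, 23],
    [3, 1, 14, 0, 16, 5, 6, 20, 13, 19, 10, 18, 22, 8, 2, 15, 4, 17, 11, 9, 7, 21, 12, 23],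
    [8, 1, 22, 13, 7, 5, 6, 4, 0, 18, 10, 19, 14, 3, 12, 15, 20, 17, 9, 11, 16, 21, 2, 23],
    [19, 1, 7, 9, 22, 5, 6, 2, 11, 3, 10, 8, 16, 18, 20, 15, 12, 17, 13, 0, 14, 21, 4, 23],
    [22, 1, 14, 12, 9, 6, 5, 7, 13, 4, 17, 11, 3, 8, 2, 15, 19, 10, 18, 16, 20, 21, 0, 23],
    [19, 15, 7, 4, 8, 6, 5, 12, 20, 14, 10, 22, 16, 18, 11, 1, 2, 17, 0, 13, 3, 21, 9, 23],
    [3, 1, 2, 0, 9, 17, 10, 11, 8, 4, 6, 7, 22, 13, 14, 15, 19, 5, 20, 16, 18, 21, 12, 23]]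

/-- Inverse images. -/
def xiTab : List (List ℕ) :=
  [[12, 1, 13, 22, 9, 5, 6, 18, 14, 4, 10, 20, 0, 2, 8, 15, 19, 17, 7, 16, 11, 21, 3, 23],
    [3, 1, 14, 0, 16, 5, 6, 20, 13, 19, 10, 18, 22, 8, 2, 15, 4, 17, 11, 9, 7, 21, 12, 23],
    [8, 1, 22, 13, 7, 5, 6, 4, 0, 18, 10, 19, 14, 3, 12, 15, 20, 17, 9, 11, 16, 21, 2, 23],
    [19, 1, 7, 9, 22, 5, 6, 2, 11, 3, 10, 8, 16, 18, 20, 15, 12, 17, 13, 0, 14, 21, 4, 23],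
    [22, 1, 14, 12, 9, 6, 5, 7, 13, 4, 17, 11, 3, 8, 2, 15, 19, 10, 18, 16, 20, 21, 0, 23],
    [18, 15, 16, 20, 3, 6, 5, 2, 4, 22, 10, 14, 7, 19, 9, 1, 12, 17, 13, 0, 8, 21, 11, 23],
    [3, 1, 2, 0, 9, 17, 10, 11, 8, 4, 6, 7, 22, 13, 14, 15, 19, 5, 20, 16, 18, 21, 12, 23]]

/-- The rule words. -/
def ruleTab : List (List ℕ) :=
  [[],
    [0],
    [0],
    [0],
    [0],
    [0],
    [0],
    [],
    [1],
    [1],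
    [1],
    [1, 0],
    [1],
    [],
    [2],
    [2, 0],
    [2, 0],
    [2, 1],
    [],
    [3, 1],
    [3, 2, 1],
    [3, 1, 0],
    [],
    [4, 1],
    [4],
    [2, 1],
    [5, 4],
    []]

/-- Part of the normal words. -/
def nfTab0 : List (List ℕ) :=
  [[],
    [0],
    [1],
    [1, 0],
    [2],
    [2, 0],
    [2, 1],
    [2, 1, 0],
    [3],
    [3, 0],
    [3, 1],
    [3, 1, 0],
    [3, 2],
    [3, 2, 0],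
    [3, 2, 1],
    [3, 2, 1, 0],
    [4],
    [4, 0],
    [4, 1],
    [4, 1, 0],
    [4, 2],
    [4, 2, 0],
    [4, 2, 1],
    [4, 2, 1, 0],
    [4, 3],
    [4, 3, 0],
    [4, 3, 1],
    [4, 3, 1, 0],
    [4, 3, 2],
    [4, 3, 2, 0],
    [4, 3, 2, 1],
    [4, 3, 2, 1, 0]]

/-- Part of the normal words. -/
def nfTab1 : List (List ℕ) :=
  [[5],
    [5, 0],
    [5, 1],
    [5, 1, 0],
    [5, 2],
    [5, 2, 0],
    [5, 2, 1],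
    [5, 2, 1, 0],
    [5, 3],
    [5, 3, 0],
    [5, 3, 1],
    [5, 3, 1, 0],
    [5, 3, 2],
    [5, 3, 2, 0],
    [5, 3, 2, 1],
    [5, 3, 2, 1, 0],
    [5, 4],
    [5, 4, 0],
    [5, 4, 1],
    [5, 4, 1, 0],
    [5, 4, 2],
    [5, 4, 2, 0],
    [5, 4, 2, 1],
    [5, 4, 2, 1, 0],
    [5, 4, 3],
    [5, 4, 3, 0],
    [5, 4, 3, 1],
    [5, 4, 3, 1, 0],
    [5, 4, 3, 2],
    [5, 4, 3, 2, 0],
    [5, 4, 3, 2, 1],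
    [5, 4, 3, 2, 1, 0]]

/-- Part of the normal words. -/
def nfTab2 : List (List ℕ) :=
  [[6],
    [6, 0],
    [6, 1],
    [6, 1, 0],
    [6, 2],
    [6, 2, 0],
    [6, 2, 1],
    [6, 2, 1, 0],
    [6, 3],
    [6, 3, 0],
    [6, 3, 1],
    [6, 3, 1, 0],
    [6, 3, 2],
    [6, 3, 2, 0],
    [6, 3, 2, 1],
    [6, 3, 2, 1, 0],
    [6, 4],
    [6, 4, 0],
    [6, 4, 1],
    [6, 4, 1, 0],
    [6, 4, 2],
    [6, 4, 2, 0],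
    [6, 4, 2, 1],
    [6, 4, 2, 1, 0],
    [6, 4, 3],
    [6, 4, 3, 0],
    [6, 4, 3, 1],
    [6, 4, 3, 1, 0],
    [6, 4, 3, 2],
    [6, 4, 3, 2, 0],
    [6, 4, 3, 2, 1],
    [6, 4, 3, 2, 1, 0]]

/-- Part of the normal words. -/
def nfTab3 : List (List ℕ) :=
  [[6, 5],
    [6, 5, 0],
    [6, 5, 1],
    [6, 5, 1, 0],
    [6, 5, 2],
    [6, 5, 2, 0],
    [6, 5, 2, 1],
    [6, 5, 2, 1, 0],
    [6, 5, 3],
    [6, 5, 3, 0],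
    [6, 5, 3, 1],
    [6, 5, 3, 1, 0],
    [6, 5, 3, 2],
    [6, 5, 3, 2, 0],
    [6, 5, 3, 2, 1],
    [6, 5, 3, 2, 1, 0],
    [6, 5, 4],
    [6, 5, 4, 0],
    [6, 5, 4, 1],
    [6, 5, 4, 1, 0],
    [6, 5, 4, 2],
    [6, 5, 4, 2, 0],
    [6, 5, 4, 2, 1],
    [6, 5, 4, 2, 1, 0],
    [6, 5, 4, 3],
    [6, 5, 4, 3, 0],
    [6, 5, 4, 3, 1],
    [6, 5, 4, 3, 1, 0],
    [6, 5, 4, 3, 2],
    [6, 5, 4, 3, 2, 0],
    [6, 5, 4, 3, 2, 1],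
    [6, 5, 4, 3, 2, 1, 0]]

/-- The normal words. -/
def nfTab : List (List ℕ) := nfTab0 ++ nfTab1 ++ nfTab2 ++ nfTab3

end Cfsg.Agent.Lib.Recognition.M23Tail
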