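import Mathlib.Data.ZMod.Basic
import Mathlib.Algebra.CharP.Two
import Mathlib.Data.Nat.Bitwise
import Mathlib.Algebra.BigOperators.Fin
import Mathlib.Tactic.Abel

/-!
# Collection with tails in an elementary abelian normal subgroup

A vector of eleven linear forms in at most 512 unknowns is packed in one number.
-/

set_option autoImplicit false

namespace Cfsg.Agent.Lib.Recognition.Tail

/-- Vectors. -/
abbrev Vec : Type := Fin 11 → ZMod 2

/-- The `j`-th form of a packed vector. -/
def slot (j T : ℕ) : ℕ := T / 2 ^ (512 * j) % 2 ^ 512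

/-- Packing. -/
def packR : ℕ → (ℕ → ℕ) → ℕ
  | 0, _ => 0
  | n + 1, f => f 0 % 2 ^ 512 + 2 ^ 512 * packR n (fun i => f (i + 1))

/-- Evaluate the argument before continuing. -/
def force {α : Type} (n : ℕ) (k : ℕ → α) : α :=
  match n with
  | 0 => k 0
  | m + 1 => k (m + 1)

theorem force_eq {α : Type} (n : ℕ) (k : ℕ → α) : force n k = k n := by
  cases n <;> rfl

theorem slot_packR : ∀ (n : ℕ) (f : ℕ → ℕ) (i : ℕ), i < n →
    slot i (packR n f) = f i % 2 ^ 512 := by
  intro n
  induction n with
  | zero => intro f i hi; omega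
  | succ n ih =>
    intro f i hi
    cases i with
    | zero =>
      rw [slot, packR, Nat.mul_zero, pow_zero, Nat.div_one, Nat.add_mul_mod_self_left,
        Nat.mod_mod]
    | succ i =>
      rw [slot, packR, show 512 * (i + 1) = 512 + 512 * i by omega, pow_add, ← Nat.div_div_eq_div_mul,
        Nat.add_mul_div_left _ _ (Nat.two_pow_pos 512),
        Nat.div_eq_of_lt (Nat.mod_lt _ (Nat.two_pow_pos 512)), Nat.zero_add]
      exact ih (fun i => f (i + 1)) i (by omega)

theorem slot_xor (j a b : ℕ) : slot j (a ^^^ b) = slot j a ^^^ slot j b := by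
  refine Nat.eq_of_testBit_eq fun i => ?_
  simp only [slot, Nat.testBit_xor, Nat.testBit_mod_two_pow, Nat.testBit_div_two_pow]
  cases decide (i < 512) <;> simp

/-- The value of a form. -/
def evm (τ : ℕ → ZMod 2) (r : ℕ) : ZMod 2 :=
  ∑ k : Fin 512, if r.testBit k then τ k else 0

theorem evm_zero (τ : ℕ → ZMod 2) : evm τ 0 = 0 := by simp [evm]

theorem evm_xor (τ : ℕ → ZMod 2) (a b : ℕ) : evm τ (a ^^^ b) = evm τ a + evm τ b := by
  rw [evm, evm, evm, ← Finset.sum_add_distrib]
  refine Finset.sum_congr rfl fun k _ => ?_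
  rw [Nat.testBit_xor]
  cases a.testBit k <;> cases b.testBit k <;> simp [CharTwo.add_self_eq_zero]

theorem evm_mod (τ : ℕ → ZMod 2) (r : ℕ) : evm τ (r % 2 ^ 512) = evm τ r := by
  refine Finset.sum_congr rfl fun k _ => ?_
  rw [Nat.testBit_mod_two_pow]
  simp [k.isLt]

theorem evm_single (τ : ℕ → ZMod 2) {n : ℕ} (hn : n < 512) : evm τ (1 <<< n) = τ n := by
  rw [evm, Finset.sum_eq_single ⟨n, hn⟩]
  · simp [Nat.one_shiftLeft]
  · intro k _ hk
    have : ¬ n = (k : ℕ) := fun e => hk (Fin.ext e.symm)
    simp [Nat.one_shiftLeft, Nat.testBit_two_pow, this]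
  · simp

theorem evm_add (τ τ' : ℕ → ZMod 2) (r : ℕ) :
    evm (fun k => τ k + τ' k) r = evm τ r + evm τ' r := by
  rw [evm, evm, evm, ← Finset.sum_add_distrib]
  exact Finset.sum_congr rfl fun k _ => by split <;> simp

theorem add_self_vec (v : Vec) : v + v = 0 := funext fun i => CharTwo.add_self_eq_zero (v i)

/-- The value of a packed vector. -/
def sem (τ : ℕ → ZMod 2) (T : ℕ) : Vec := fun i => evm τ (slot i T)

theorem sem_xor (τ : ℕ → ZMod 2) (a b : ℕ) : sem τ (a ^^^ b) = sem τ a + sem τ b :=
  funext fun i => by simp [sem, slot_xor, evm_xor]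

theorem sem_zero (τ : ℕ → ZMod 2) : sem τ 0 = 0 :=
  funext fun i => by simp [sem, slot, evm_zero]

/-- A linear map given by the masks of the images of the basis vectors. -/
def mapply (M : List ℕ) (v : Vec) : Vec :=
  fun i => ∑ j : Fin 11, if (M.getD j 0).testBit i then v j else 0

/-- Exclusive sum of `f` below `n`. -/
def xsum : ℕ → (ℕ → ℕ) → ℕ
  | 0, _ => 0
  | n + 1, f => f n ^^^ xsum n f

theorem evm_xsum (τ : ℕ → ZMod 2) : ∀ (n : ℕ) (f : ℕ → ℕ),
    evm τ (xsum n f) = ∑ j : Fin n, evm τ (f j) := by
  intro n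
  induction n with
  | zero => intro f; simp [xsum, evm_zero]
  | succ n ih => intro f; simp [xsum, evm_xor, ih, Fin.sum_univ_castSucc, add_comm]

/-- The map on packed vectors. -/
def actF (M : List ℕ) (T : ℕ) : ℕ :=
  force T fun T => packR 11 fun i => xsum 11 fun j =>
    if (M.getD j 0).testBit i then slot j T else 0

theorem sem_actF (τ : ℕ → ZMod 2) (M : List ℕ) (T : ℕ) :
    sem τ (actF M T) = mapply M (sem τ T) := by
  funext i
  rw [sem, actF, force_eq, slot_packR 11 _ i i.isLt, evm_mod, evm_xsum, mapply]
  refine Finset.sum_congr rfl fun j _ => ?_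
  split <;> simp [sem, evm_zero]

/-- The unknown vector number `i`. -/
def tvar (i : ℕ) : ℕ := packR 11 fun j => 1 <<< (11 * i + j)

theorem sem_tvar (τ : ℕ → ZMod 2) {i : ℕ} (hi : 11 * i + 11 ≤ 512) :
    sem τ (tvar i) = fun j : Fin 11 => τ (11 * i + j) := by
  funext j
  rw [sem, tvar, slot_packR 11 _ j j.isLt, evm_mod, evm_single _ (by omega)]

/-- Rewriting data: matrices, rule words and rule tails. -/
structure Sys where
  num : ℕ
  mat : ℕ → List ℕ
  rule : ℕ → ℕ → List ℕ
  tail : ℕ → ℕ → ℕ

/-- A token: a letter or a vector. -/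
inductive Tok where
  | l (a : ℕ)
  | v (T : ℕ)

/-- One step of multiplying a rule word on the left. -/
def stepF (S : Sys) (g : ℕ → List ℕ → ℕ × List ℕ) (c : ℕ) (st : ℕ × List ℕ) : ℕ × List ℕ :=
  let p := g c st.2
  force (p.1 ^^^ actF (S.mat c) st.1) fun T => (T, p.2)

/-- Put a letter before a normal word. -/
def lm (S : Sys) : ℕ → ℕ → List ℕ → ℕ × List ℕ
  | 0, a, n => (0, a :: n)
  | _ + 1, a, [] => (0, [a])
  | f + 1, a, b :: rest =>
    if b < a ∨ S.num ≤ b then (0, a :: b :: rest)
    else
      let r := (S.rule a b).foldr (stepF S (lm S f)) (0, rest)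
      if a = b then force (S.tail a b ^^^ r.1) fun T => (T, r.2)
      else force (S.tail a b ^^^ actF (S.mat b) r.1) fun T => (T, b :: r.2)

/-- Collect a list of tokens. -/
def collect (S : Sys) (fuel : ℕ) : List Tok → ℕ × List ℕ
  | [] => (0, [])
  | .v T :: ts => let r := collect S fuel ts
    force (T ^^^ r.1) fun U => (U, r.2)
  | .l a :: ts => let r := collect S fuel ts
    let p := lm S fuel a r.2
    force (p.1 ^^^ actF (S.mat a) r.1) fun T => (T, p.2)

/-- A realisation of the rewriting data. -/
structure Realises (S : Sys) {E : Type*} [Group E] (x : ℕ → E) (ν : Vec → E)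
    (τ : ℕ → ZMod 2) : Prop where
  add : ∀ v w, ν (v + w) = ν v * ν w
  conj : ∀ a v, x a * ν v = ν (mapply (S.mat a) v) * x a
  sq : ∀ a < S.num, x a * x a = ν (sem τ (S.tail a a)) * ((S.rule a a).map x).prod
  com : ∀ a b, a < b → b < S.num →
    x a * x b = ν (sem τ (S.tail a b)) * (x b * ((S.rule a b).map x).prod)

variable {S : Sys} {E : Type*} [Group E] {x : ℕ → E} {ν : Vec → E} {τ : ℕ → ZMod 2}

theorem Realises.map_zero (h : Realises S x ν τ) : ν 0 = 1 := by
  have := h.add 0 0
  rw [add_zero] at this
  exact mul_eq_left.mp this.symm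

theorem Realises.sem_zero (h : Realises S x ν τ) : ν (sem τ 0) = 1 := by
  rw [Tail.sem_zero, h.map_zero]

theorem Realises.eq_of_add_zero (h : Realises S x ν τ) {v w : Vec} (hvw : v + w = 0) :
    ν v = ν w := by
  have hv : v = w := by
    have h2 : v + w + w = w := by rw [hvw, zero_add]
    rwa [add_assoc, show w + w = 0 from funext fun i => CharTwo.add_self_eq_zero _, add_zero] at h2
  rw [hv]

theorem lm_sound (h : Realises S x ν τ) : ∀ (f a : ℕ) (n : List ℕ),
    x a * (n.map x).prod = ν (sem τ (lm S f a n).1) * ((lm S f a n).2.map x).prod := by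
  intro f
  induction f with
  | zero => intro a n; simp [lm, h.sem_zero]
  | succ f ih =>
    intro a n
    cases n with
    | nil => simp [lm, h.sem_zero]
    | cons b rest =>
      have hfold : ∀ l : List ℕ,
          (l.map x).prod * (rest.map x).prod =
            ν (sem τ (l.foldr (stepF S (lm S f)) (0, rest)).1) *
            (((l.foldr (stepF S (lm S f)) (0, rest)).2).map x).prod := by
        intro l
        induction l with
        | nil => simp [h.sem_zero]
        | cons c l ihl =>
          simp only [List.map_cons, List.prod_cons, List.foldr_cons]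
          rw [stepF]
          simp only [force_eq]
          rw [mul_assoc, ihl, ← mul_assoc, h.conj, mul_assoc, ih, ← mul_assoc, ← h.add,
            sem_xor, sem_actF, add_comm (mapply _ _)]
      rw [lm]
      split
      · simp [h.sem_zero]
      · rename_i hb
        push Not at hb
        split
        · rename_i hab
          subst hab
          simp only [force_eq, List.map_cons, List.prod_cons]
          rw [← mul_assoc, h.sq a hb.2, mul_assoc, hfold, ← mul_assoc, ← h.add, sem_xor]
        · rename_i hab
          simp only [force_eq, List.map_cons, List.prod_cons]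
          rw [← mul_assoc, h.com a b (lt_of_le_of_ne hb.1 hab) hb.2, mul_assoc, mul_assoc, hfold,
            ← mul_assoc (x b), h.conj, mul_assoc, ← mul_assoc, ← h.add, sem_xor, sem_actF]

/-- The element denoted by tokens. -/
def evalT (x : ℕ → E) (ν : Vec → E) (τ : ℕ → ZMod 2) : List Tok → E
  | [] => 1
  | .v T :: ts => ν (sem τ T) * evalT x ν τ ts
  | .l a :: ts => x a * evalT x ν τ ts

theorem evalT_append (s t : List Tok) :
    evalT x ν τ (s ++ t) = evalT x ν τ s * evalT x ν τ t := by
  induction s with
  | nil => simp [evalT]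
  | cons c s ih => cases c <;> simp [evalT, ih, mul_assoc]

theorem evalT_letters (w : List ℕ) : evalT x ν τ (w.map Tok.l) = (w.map x).prod := by
  induction w with
  | nil => rfl
  | cons a w ih => simp [evalT, ih]

theorem collect_sound (h : Realises S x ν τ) (fuel : ℕ) : ∀ ts : List Tok,
    evalT x ν τ ts =
      ν (sem τ (collect S fuel ts).1) * ((collect S fuel ts).2.map x).prod := by
  intro ts
  induction ts with
  | nil => simp [evalT, collect, h.sem_zero]
  | cons c ts ih =>
    cases c with
    | v T => simp [evalT, collect, force_eq, ih, sem_xor, h.add, mul_assoc]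
    | l a =>
      simp only [evalT, collect, force_eq]
      rw [ih, ← mul_assoc, h.conj, mul_assoc, lm_sound h fuel, ← mul_assoc, ← h.add, sem_xor,
        sem_actF, add_comm (mapply _ _)]

/-- The difference of two collections, `0` if the normal words differ. -/
def diffF (a b : ℕ × List ℕ) : ℕ := if a.2 = b.2 then a.1 ^^^ b.1 else 0

theorem sem_diff_of_eq (h : Realises S x ν τ) (hinj : Function.Injective ν) (fuel : ℕ)
    {s t : List Tok} (e : evalT x ν τ s = evalT x ν τ t) :
    sem τ (diffF (collect S fuel s) (collect S fuel t)) = 0 := by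
  rw [diffF]
  split
  · rename_i hn
    rw [collect_sound h fuel, collect_sound h fuel, hn, mul_left_inj] at e
    rw [sem_xor, hinj e]
    exact add_self_vec _
  · exact sem_zero τ

theorem eval_eq_of_collect (h : Realises S x ν τ) (fuel : ℕ) {s t : List Tok}
    (hn : (collect S fuel s).2 = (collect S fuel t).2)
    (hd : sem τ ((collect S fuel s).1 ^^^ (collect S fuel t).1) = 0) :
    evalT x ν τ s = evalT x ν τ t := by
  rw [sem_xor] at hd
  rw [collect_sound h fuel, collect_sound h fuel, hn, h.eq_of_add_zero hd]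

end Cfsg.Agent.Lib.Recognition.Tail
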