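import Mathlib

/-!
Three pairwise non-adjacent primes in the prime graph: the Frobenius-on-Frobenius obstruction.
-/

set_option autoImplicit false
set_option linter.style.haveILetI false

namespace Cfsg.Agent.Lib.Recognition

/-- If `Q` and `x` act on an abelian group with no fixed points except `0`, and `x` acts without fixed points on `Q`,
then `|Q|` kills the abelian group. -/
theorem card_nsmul_eq_zero_of_fpf {L A : Type*} [Group L] [Finite L] [AddCommGroup A] [DistribMulAction L A]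
    (Q : Subgroup L) (x : L) (r : ℕ) (hr : 1 ≤ r) (hxr : x ^ r = 1)
    (hxQ : ∀ c ∈ Q, x * c * x⁻¹ ∈ Q)
    (hQ : ∀ v : A, (∀ c ∈ Q, c • v = v) → v = 0)
    (hx : ∀ v : A, x • v = v → v = 0)
    (hxc : ∀ i, 0 < i → i < r → ∀ c ∈ Q, x ^ i * c * (x ^ i)⁻¹ = c → c = 1)
    (v : A) : Nat.card Q • v = 0 := by
  classical
  haveI := Fintype.ofFinite Q
  have hNQ : ∀ w : A, ∑ c : Q, (c : L) • w = 0 := by
    intro w
    apply hQ
    intro d hd
    rw [Finset.smul_sum]
    exact Fintype.sum_equiv (Equiv.mulLeft (⟨d, hd⟩ : Q)) _ _ fun c => by simp [mul_smul]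
  have hNx : ∀ w : A, ∑ i ∈ Finset.range r, x ^ i • w = 0 := by
    intro w
    apply hx
    obtain ⟨k, rfl⟩ := Nat.exists_eq_succ_of_ne_zero (show r ≠ 0 by omega)
    rw [Finset.smul_sum, Finset.sum_range_succ (fun i => x • x ^ i • w), Finset.sum_range_succ' (fun i => x ^ i • w)]
    congr 1
    · exact Finset.sum_congr rfl fun i _ => by rw [smul_smul, ← pow_succ']
    · rw [smul_smul, ← pow_succ', hxr, pow_zero]
  have hxiQ : ∀ i : ℕ, ∀ c ∈ Q, x ^ i * c * (x ^ i)⁻¹ ∈ Q := by
    intro i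
    induction i with
    | zero => intro c hc; simpa using hc
    | succ i ih =>
      intro c hc
      have := hxQ _ (ih c hc)
      rw [pow_succ']
      simpa [mul_inv_rev, mul_assoc] using this
  have h1 : ∑ c : Q, (c : L) • ∑ i ∈ Finset.range r, x ^ i • ((c : L)⁻¹ • v) = 0 :=
    Finset.sum_eq_zero fun c _ => by rw [hNx, smul_zero]
  simp only [Finset.smul_sum] at h1
  rw [Finset.sum_comm] at h1
  rw [Finset.sum_eq_single_of_mem 0 (Finset.mem_range.2 hr)] at h1
  · simpa [smul_smul, ← Nat.card_eq_fintype_card] using h1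
  intro i hi hi0
  let f : Q → Q := fun c => ⟨(c : L) * (x ^ i * (c : L)⁻¹ * (x ^ i)⁻¹), Q.mul_mem c.2 (hxiQ i _ (inv_mem c.2))⟩
  have hinj : Function.Injective f := by
    intro a b hab
    have hab' : (a : L) * (x ^ i * (a : L)⁻¹ * (x ^ i)⁻¹) = b * (x ^ i * (b : L)⁻¹ * (x ^ i)⁻¹) := congrArg Subtype.val hab
    have h2 : (b : L)⁻¹ * a = 1 := by
      refine hxc i (Nat.pos_of_ne_zero hi0) (Finset.mem_range.1 hi) _ (mul_mem (inv_mem b.2) a.2) ?_
      calc x ^ i * ((b : L)⁻¹ * a) * (x ^ i)⁻¹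
          = (b : L)⁻¹ * ((b : L) * (x ^ i * (b : L)⁻¹ * (x ^ i)⁻¹)) * (x ^ i * (a : L) * (x ^ i)⁻¹) := by group
        _ = (b : L)⁻¹ * a := by rw [← hab']; group
    exact Subtype.ext (inv_mul_eq_one.1 h2).symm
  calc ∑ c : Q, (c : L) • x ^ i • (c : L)⁻¹ • v = ∑ c : Q, (f c : L) • (x ^ i • v) :=
        Finset.sum_congr rfl fun c _ => by
          simp only [smul_smul]
          congr 1
          show _ = (c : L) * (x ^ i * (c : L)⁻¹ * (x ^ i)⁻¹) * x ^ i
          group
    _ = ∑ c : Q, (c : L) • (x ^ i • v) :=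
        (Finite.injective_iff_bijective.1 hinj).sum_comp (fun c : Q => (c : L) • (x ^ i • v))
    _ = 0 := hNQ _

/-- Commuting elements of orders divisible by distinct primes give an element of order the product. -/
theorem exists_orderOf_eq_mul_of_commute {G : Type*} [Group G] [Finite G] {u y : G} (h : Commute u y)
    {p q : ℕ} (hp : p.Prime) (hq : q.Prime) (hpq : p ≠ q) (hu : p ∣ orderOf u) (hy : q ∣ orderOf y) :
    ∃ z : G, orderOf z = p * q := by
  refine ⟨u ^ (orderOf u / p) * y ^ (orderOf y / q), ?_⟩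
  rw [(h.pow_pow _ _).orderOf_mul_eq_mul_orderOf_of_coprime]
  · rw [orderOf_pow_orderOf_div (orderOf_pos u).ne' hu, orderOf_pow_orderOf_div (orderOf_pos y).ne' hy]
  · rw [orderOf_pow_orderOf_div (orderOf_pos u).ne' hu, orderOf_pow_orderOf_div (orderOf_pos y).ne' hy]
    exact (Nat.coprime_primes hp hq).2 hpq

/-- Three primes met along a normal series are not pairwise non-adjacent in the prime graph. -/
theorem three_prime_adjacent {G : Type*} [Group G] [Finite G] (K M : Subgroup G) [K.Normal] [M.Normal]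
    (hKM : K ≤ M) (p q r : ℕ) (hp : p.Prime) (hq : q.Prime) (hr : r.Prime) (hpq : p ≠ q) (hpr : p ≠ r)
    (hqr : q ≠ r) (hpK : p ∣ Nat.card K) (hqM : q ∣ K.relIndex M) (hrG : r ∣ M.index) :
    (∃ x : G, orderOf x = p * q) ∨ (∃ x : G, orderOf x = p * r) ∨ (∃ x : G, orderOf x = q * r) := by
  classical
  by_contra hno
  simp only [not_or] at hno
  obtain ⟨hnpq, hnpr, hnqr⟩ := hno
  haveI := Fact.mk hp
  haveI := Fact.mk hq
  haveI := Fact.mk hr
  obtain ⟨P⟩ := (inferInstance : Nonempty (Sylow p K))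
  set P' : Subgroup G := (P : Subgroup K).map K.subtype with hP'
  have hP'p : IsPGroup p P' := P.2.map _
  set N := Subgroup.normalizer (P' : Set G) with hN
  have hNK : N ⊔ K = ⊤ := Sylow.normalizer_sup_eq_top P
  let M1 : Subgroup N := M.subgroupOf N
  have hq1 : q ∣ Nat.card M1 := by
    let g : M1 →* G ⧸ K := (QuotientGroup.mk' K).comp (N.subtype.comp M1.subtype)
    have hr1 : g.range = M.map (QuotientGroup.mk' K) := by
      ext y
      constructor
      · rintro ⟨m, rfl⟩
        exact ⟨_, m.2, rfl⟩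
      · rintro ⟨m, hm, rfl⟩
        have hmt : m ∈ N ⊔ K := hNK ▸ Subgroup.mem_top m
        rw [Subgroup.mem_sup_of_normal_right] at hmt
        obtain ⟨n, hn, k, hk, rfl⟩ := hmt
        have hnM : n ∈ M := by
          have := M.mul_mem hm (inv_mem (hKM hk))
          rwa [mul_inv_cancel_right] at this
        refine ⟨⟨⟨n, hn⟩, hnM⟩, ?_⟩
        show (QuotientGroup.mk' K) n = _
        rw [map_mul, (QuotientGroup.eq_one_iff k).2 hk |> fun e => (show (QuotientGroup.mk' K) k = 1 from e), mul_one]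
    have h2 : Nat.card (M.map (QuotientGroup.mk' K)) = K.relIndex M := by
      rw [← Subgroup.relIndex_ker, QuotientGroup.ker_mk']
    rw [← h2, ← hr1] at hqM
    exact hqM.trans (Subgroup.card_range_dvd g)
  obtain ⟨Q⟩ := (inferInstance : Nonempty (Sylow q M1))
  set Q' : Subgroup N := (Q : Subgroup M1).map M1.subtype with hQ'
  set N2 := Subgroup.normalizer (Q' : Set N) with hN2
  have hN2M : N2 ⊔ M1 = ⊤ := Sylow.normalizer_sup_eq_top Q
  have hr2 : r ∣ Nat.card N2 := by
    let g : N2 →* G ⧸ M := (QuotientGroup.mk' M).comp (N.subtype.comp N2.subtype)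
    have hsurj : Function.Surjective g := by
      intro y
      obtain ⟨m, rfl⟩ := QuotientGroup.mk'_surjective M y
      have hmt : m ∈ N ⊔ K := hNK ▸ Subgroup.mem_top m
      rw [Subgroup.mem_sup_of_normal_right] at hmt
      obtain ⟨n, hn, k, hk, rfl⟩ := hmt
      have hnt : (⟨n, hn⟩ : N) ∈ N2 ⊔ M1 := hN2M ▸ Subgroup.mem_top _
      rw [Subgroup.mem_sup_of_normal_right] at hnt
      obtain ⟨a, ha, b, hb, hab⟩ := hnt
      refine ⟨⟨a, ha⟩, ?_⟩
      show (QuotientGroup.mk' M) (a : G) = _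
      have e : n = (a : G) * b := (congrArg Subtype.val hab).symm
      rw [e, map_mul, map_mul, show (QuotientGroup.mk' M) (b : G) = 1 from (QuotientGroup.eq_one_iff _).2 hb,
        show (QuotientGroup.mk' M) k = 1 from (QuotientGroup.eq_one_iff _).2 (hKM hk), mul_one, mul_one]
    exact hrG.trans ((Subgroup.index_eq_card M) ▸ Subgroup.card_dvd_of_surjective g hsurj)
  obtain ⟨⟨x, hxN2⟩, hxo⟩ := exists_prime_orderOf_dvd_card' r hr2
  rw [Subgroup.orderOf_mk] at hxo
  let Z : Subgroup G := (Subgroup.center P').map P'.subtype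
  have hZmem : ∀ n : N, ∀ z ∈ Z, (n : G) * z * (n : G)⁻¹ ∈ Z := by
    rintro n _ ⟨z, hz, rfl⟩
    have hzn : (n : G) * z * (n : G)⁻¹ ∈ P' := (Subgroup.mem_normalizer_iff.1 n.2 z).1 z.2
    refine ⟨⟨_, hzn⟩, ?_, rfl⟩
    rw [SetLike.mem_coe, Subgroup.mem_center_iff]
    intro w
    have hw : (n : G)⁻¹ * w * n ∈ P' := by
      have := (Subgroup.mem_normalizer_iff.1 (inv_mem n.2) w).1 w.2
      rwa [inv_inv] at this
    have h1 := congrArg Subtype.val (Subgroup.mem_center_iff.1 hz ⟨_, hw⟩)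
    simp only [Subgroup.coe_mul] at h1
    apply Subtype.ext
    show (w : G) * ((n : G) * z * (n : G)⁻¹) = (n : G) * z * (n : G)⁻¹ * w
    calc (w : G) * ((n : G) * z * (n : G)⁻¹) = n * ((n : G)⁻¹ * w * n * z) * (n : G)⁻¹ := by group
      _ = (n : G) * z * (n : G)⁻¹ * w := by rw [h1]; group
  haveI : IsMulCommutative Z := ⟨⟨fun a b => by
    obtain ⟨_, z, hz, rfl⟩ := a
    obtain ⟨_, w, hw, rfl⟩ := b
    apply Subtype.ext
    show (z : G) * w = (w : G) * z
    exact congrArg Subtype.val (Subgroup.mem_center_iff.1 hw z)⟩⟩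
  letI : CommGroup Z := { (inferInstance : Group Z) with mul_comm := fun a b => IsMulCommutative.is_comm.comm a b }
  letI : DistribMulAction N (Additive Z) :=
    { smul := fun n v => Additive.ofMul ⟨(n : G) * (v.toMul : G) * (n : G)⁻¹, hZmem n _ v.toMul.2⟩
      one_smul := fun v => Additive.toMul.injective (Subtype.ext (show (1 : G) * _ * (1 : G)⁻¹ = _ by simp))
      mul_smul := fun m n v => Additive.toMul.injective (Subtype.ext (show ((m : G) * n) * _ * ((m : G) * n)⁻¹ = (m : G) * ((n : G) * _ * (n : G)⁻¹) * (m : G)⁻¹ by group))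
      smul_zero := fun n => Additive.toMul.injective (Subtype.ext (show (n : G) * 1 * (n : G)⁻¹ = (1 : G) by simp))
      smul_add := fun n v w => Additive.toMul.injective (Subtype.ext (show (n : G) * ((v.toMul : G) * w.toMul) * (n : G)⁻¹ = ((n : G) * v.toMul * (n : G)⁻¹) * ((n : G) * w.toMul * (n : G)⁻¹) by group)) }
  have hZp : IsPGroup p Z := hP'p.to_le (Subgroup.map_subtype_le _)
  have hfix : ∀ (n : N) (s : ℕ), s.Prime → s ∣ orderOf n → p ≠ s → (¬ ∃ w : G, orderOf w = p * s) →
      ∀ v : Additive Z, n • v = v → v = 0 := by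
    intro n s hs hsn hps hnone v hv
    by_contra hv0
    apply hnone
    have h1 : (n : G) * (v.toMul : G) * (n : G)⁻¹ = v.toMul := congrArg (fun a : Additive Z => ((a.toMul : Z) : G)) hv
    have hcomm : Commute ((v.toMul : Z) : G) (n : G) := (mul_inv_eq_iff_eq_mul.1 h1).symm
    refine exists_orderOf_eq_mul_of_commute hcomm hp hs hps ?_ (by rwa [Subgroup.orderOf_coe])
    rw [Subgroup.orderOf_coe]
    obtain ⟨k, hk⟩ := IsPGroup.iff_orderOf.1 hZp v.toMul
    rw [hk]
    refine dvd_pow_self p fun hk0 => hv0 ?_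
    rw [hk0, pow_zero, orderOf_eq_one_iff] at hk
    exact Additive.toMul.injective hk
  have hQne : ∃ c ∈ Q', c ≠ 1 := by
    by_contra h
    push_neg at h
    exact Q.ne_bot_of_dvd_card hq1 ((Subgroup.map_eq_bot_iff_of_injective _ M1.subtype_injective).1 ((Subgroup.eq_bot_iff_forall Q').2 h))
  obtain ⟨c₀, hc₀, hc₀1⟩ := hQne
  have hQq : IsPGroup q Q' := Q.2.map _
  have hqdiv : ∀ c ∈ Q', c ≠ 1 → q ∣ orderOf c := by
    intro c hc hc1
    obtain ⟨k, hk⟩ := IsPGroup.iff_orderOf.1 hQq ⟨c, hc⟩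
    rw [Subgroup.orderOf_mk] at hk
    rw [hk]
    refine dvd_pow_self q fun hk0 => hc1 ?_
    rwa [hk0, pow_zero, orderOf_eq_one_iff] at hk
  have key : ∀ v : Additive Z, Nat.card Q' • v = 0 := by
    intro v
    refine card_nsmul_eq_zero_of_fpf Q' x r hr.one_lt.le (hxo ▸ pow_orderOf_eq_one x) (fun c hc => (Subgroup.mem_normalizer_iff.1 hxN2 c).1 hc)
      (fun w hw => hfix c₀ q hq (hqdiv c₀ hc₀ hc₀1) hpq hnpq w (hw c₀ hc₀))
      (hfix x r hr (dvd_of_eq hxo.symm) hpr hnpr) ?_ v
    intro i hi hir c hc hci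
    by_contra hc1
    apply hnqr
    have hco : orderOf (x ^ i) = r := by
      rw [(Nat.Coprime.orderOf_pow (by rw [hxo]; exact Nat.coprime_of_lt_prime hi.ne' hir hr)), hxo]
    have hcomm : Commute ((c : N) : G) ((x ^ i : N) : G) := (congrArg Subtype.val (mul_inv_eq_iff_eq_mul.1 hci)).symm
    refine exists_orderOf_eq_mul_of_commute hcomm hq hr hqr ?_ ?_
    · rw [Subgroup.orderOf_coe]; exact hqdiv c hc hc1
    · rw [Subgroup.orderOf_coe, hco]
  haveI : Nontrivial P' := by
    rw [Subgroup.nontrivial_iff_ne_bot, hP', Ne, Subgroup.map_eq_bot_iff_of_injective _ K.subtype_injective]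
    exact P.ne_bot_of_dvd_card hpK
  haveI := hP'p.center_nontrivial
  obtain ⟨z, hz⟩ := exists_ne (1 : Subgroup.center P')
  let v : Additive Z := Additive.ofMul ⟨((z : P') : G), ⟨z, z.2, rfl⟩⟩
  have hv : v ≠ 0 := by
    intro h
    apply hz
    apply Subtype.ext
    apply Subtype.ext
    exact congrArg (fun a : Additive Z => ((a.toMul : Z) : G)) h
  obtain ⟨k, hk⟩ := hQq.exists_card_eq
  obtain ⟨j, hj⟩ := IsPGroup.iff_orderOf.1 hZp v.toMul
  have h1 : orderOf v.toMul ∣ q ^ k := orderOf_dvd_of_pow_eq_one (by rw [← hk]; exact congrArg Additive.toMul (key v))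
  rw [hj] at h1
  have h2 : p ^ j = 1 := Nat.eq_one_of_dvd_coprimes (Nat.coprime_pow_primes j k hp hq hpq) dvd_rfl h1
  rw [h2, orderOf_eq_one_iff] at hj
  exact hv (Additive.toMul.injective hj)

/-- A solvable normal subgroup meets a set of three pairwise non-adjacent primes at most once. -/
theorem solvable_normal_two_primes {G : Type*} [Group G] [Finite G] (K : Subgroup G) [K.Normal]
    (hK : Group.IsSolvable K) (p q r : ℕ) (hp : p.Prime) (hq : q.Prime) (hr : r.Prime) (hpq : p ≠ q)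
    (hpr : p ≠ r) (hqr : q ≠ r) (hpK : p ∣ Nat.card K) (hqK : q ∣ Nat.card K) (hrG : r ∣ Nat.card G)
    (hnpq : ¬ ∃ x : G, orderOf x = p * q) (hnpr : ¬ ∃ x : G, orderOf x = p * r)
    (hnqr : ¬ ∃ x : G, orderOf x = q * r) : False := by
  classical
  induction hn : Nat.card K using Nat.strong_induction_on generalizing K p q r with
  | _ n ih =>
    subst hn
    have hne : K ≠ ⊥ := fun h => by rw [h, Subgroup.card_bot] at hpK; exact hp.not_dvd_one hpK
    have hDK : (⁅K, K⁆ : Subgroup G) ≤ K := Subgroup.commutator_le_left _ _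
    have hlt : (⁅K, K⁆ : Subgroup G) < K := by
      haveI : Nontrivial K := (Subgroup.nontrivial_iff_ne_bot K).2 hne
      haveI := hK
      have h1 := Group.IsSolvable.commutator_lt_top_of_nontrivial K
      refine lt_of_le_of_ne hDK fun h => h1.ne ?_
      apply Subgroup.map_injective K.subtype_injective
      rw [commutator_def, Subgroup.map_commutator, ← MonoidHom.range_eq_map, Subgroup.range_subtype, h]
    set D : Subgroup G := ⁅K, K⁆ with hD
    have hDs : Group.IsSolvable D := solvable_of_solvable_injective (Subgroup.inclusion_injective hDK)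
    have hcardlt : Nat.card D < Nat.card K := by
      rcases Nat.lt_or_ge (Nat.card D) (Nat.card K) with h | h
      · exact h
      · exact absurd (Subgroup.eq_of_le_of_card_ge hDK h) hlt.ne
    have hsplit : Nat.card D * D.relIndex K = Nat.card K := by
      rw [← Subgroup.relIndex_bot_left, Subgroup.relIndex_mul_relIndex _ _ _ bot_le hDK, Subgroup.relIndex_bot_left]
    have hdiv : ∀ s : ℕ, s.Prime → s ∣ Nat.card K → ¬ s ∣ Nat.card D → s ∣ D.relIndex K := fun s hs h1 h2 =>
      (hs.dvd_mul.1 (hsplit.symm ▸ h1)).resolve_left h2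
    have hab : ∀ s t : ℕ, s.Prime → t.Prime → s ≠ t → s ∣ D.relIndex K → t ∣ D.relIndex K → ∃ x : G, orderOf x = s * t := by
      intro s t hs ht hst hsI htI
      haveI := Fact.mk hs
      haveI := Fact.mk ht
      have h2 : Nat.card (K.map (QuotientGroup.mk' D)) = D.relIndex K := by
        rw [← Subgroup.relIndex_ker, QuotientGroup.ker_mk']
      obtain ⟨a, ha⟩ := exists_prime_orderOf_dvd_card' s (h2.symm ▸ hsI)
      obtain ⟨b, hb⟩ := exists_prime_orderOf_dvd_card' t (h2.symm ▸ htI)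
      obtain ⟨a', ha', hae⟩ := a.2
      obtain ⟨b', hb', hbe⟩ := b.2
      have hcomm : Commute (a : G ⧸ D) b := by
        rw [← hae, ← hbe, ← commutatorElement_eq_one_iff_commute, ← map_commutatorElement]
        exact (QuotientGroup.eq_one_iff _).2 (Subgroup.commutator_mem_commutator ha' hb')
      obtain ⟨z, hz⟩ := exists_orderOf_eq_mul_of_commute hcomm hs ht hst
        (by rw [Subgroup.orderOf_coe, ha]) (by rw [Subgroup.orderOf_coe, hb])
      obtain ⟨z', rfl⟩ := QuotientGroup.mk'_surjective D z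
      refine ⟨z' ^ (orderOf z' / (s * t)), orderOf_pow_orderOf_div (orderOf_pos z').ne' ?_⟩
      exact hz ▸ orderOf_map_dvd (QuotientGroup.mk' D) z'
    have hrec : ∀ a b c : ℕ, a.Prime → b.Prime → c.Prime → a ≠ b → a ≠ c → b ≠ c → a ∣ Nat.card D → b ∣ Nat.card D →
        c ∣ Nat.card G → (¬ ∃ x : G, orderOf x = a * b) → (¬ ∃ x : G, orderOf x = a * c) → (¬ ∃ x : G, orderOf x = b * c) → False :=
      fun a b c ha hb hc h1 h2 h3 h4 h5 h6 h7 h8 h9 =>
        ih (Nat.card D) hcardlt D hDs a b c ha hb hc h1 h2 h3 h4 h5 h6 h7 h8 h9 rfl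
    by_cases hpD : p ∣ Nat.card D
    · by_cases hqD : q ∣ Nat.card D
      · exact hrec p q r hp hq hr hpq hpr hqr hpD hqD hrG hnpq hnpr hnqr
      by_cases hrK : r ∣ Nat.card K
      · by_cases hrD : r ∣ Nat.card D
        · exact hrec p r q hp hr hq hpr hpq hqr.symm hpD hrD (hqK.trans K.card_subgroup_dvd_card) hnpr hnpq (by rwa [mul_comm])
        · exact hnqr (hab q r hq hr hqr (hdiv q hq hqK hqD) (hdiv r hr hrK hrD))
      · have hrI : r ∣ K.index := (hr.dvd_mul.1 (K.card_mul_index.symm ▸ hrG)).resolve_left hrK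
        rcases three_prime_adjacent D K hDK p q r hp hq hr hpq hpr hqr hpD (hdiv q hq hqK hqD) hrI with h | h | h
        exacts [hnpq h, hnpr h, hnqr h]
    · by_cases hqD : q ∣ Nat.card D
      · by_cases hrK : r ∣ Nat.card K
        · by_cases hrD : r ∣ Nat.card D
          · exact hrec q r p hq hr hp hqr hpq.symm hpr.symm hqD hrD (hpK.trans K.card_subgroup_dvd_card) hnqr (by rwa [mul_comm]) (by rwa [mul_comm])
          · exact hnpr (hab p r hp hr hpr (hdiv p hp hpK hpD) (hdiv r hr hrK hrD))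
        · have hrI : r ∣ K.index := (hr.dvd_mul.1 (K.card_mul_index.symm ▸ hrG)).resolve_left hrK
          rcases three_prime_adjacent D K hDK q p r hq hp hr hpq.symm hqr hpr hqD (hdiv p hp hpK hpD) hrI with h | h | h
          exacts [hnpq (by rwa [mul_comm]), hnqr h, hnpr h]
      · exact hnpq (hab p q hp hq hpq (hdiv p hp hpK hpD) (hdiv q hq hqK hqD))

end Cfsg.Agent.Lib.Recognition
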