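import Mathlib

/-!
Two primes in the upper half of `[1, n]`, and groups with two non-adjacent primes.
-/

set_option autoImplicit false
set_option linter.style.haveILetI false

namespace Cfsg.Agent.Lib.Recognition

open scoped commutatorElement

open Nat in
/-- Erdős's bound, allowing a single prime in `(n, 2n]`. -/
theorem centralBinom_le_of_one_bertrand_prime (n : ℕ) (n_large : 2 < n) (p₀ : ℕ)
    (one_prime : ∀ p : ℕ, p.Prime → n < p → p ≤ 2 * n → p = p₀) :
    centralBinom n ≤ (2 * n) ^ sqrt (2 * n) * 4 ^ (2 * n / 3) := by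
  classical
  have n_pos : 0 < n := (Nat.zero_le _).trans_lt n_large
  have n2_pos : 1 ≤ 2 * n := mul_pos (zero_lt_two' ℕ) n_pos
  have hs : 1 ≤ sqrt (2 * n) := Nat.sqrt_pos.2 (by omega)
  let f := fun x => x ^ n.centralBinom.factorization x
  let S := {p ∈ Finset.range (2 * n + 1) | Nat.Prime p ∧ p ≠ p₀ ∧ p ≤ 2 * n / 3}
  have h1 : centralBinom n ≤ 2 * n * ∏ x ∈ S, f x := by
    have e : centralBinom n = ∏ x ∈ Finset.range (2 * n + 1), f x := n.prod_pow_factorization_centralBinom.symm
    have h2 : ∏ x ∈ S, f x = ∏ x ∈ (Finset.range (2 * n + 1)).erase p₀, f x := by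
      apply Finset.prod_subset
      · intro x hx
        obtain ⟨h1, -, h3, -⟩ := Finset.mem_filter.1 hx
        exact Finset.mem_erase.2 ⟨h3, h1⟩
      intro x hx h2x
      rw [Finset.mem_erase, Finset.mem_range] at hx
      show x ^ n.centralBinom.factorization x = 1
      by_cases hxp : x.Prime
      · have h3 : ¬ x ≤ 2 * n / 3 := fun h => h2x (Finset.mem_filter.2 ⟨Finset.mem_range.2 hx.2, hxp, hx.1, h⟩)
        have h4 : x ≤ n := by
          by_contra h
          exact hx.1 (one_prime x hxp (by omega) (by omega))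
        rw [factorization_centralBinom_of_two_mul_self_lt_three_mul n_large h4 (by omega), Nat.pow_zero]
      · rw [factorization_eq_zero_of_not_prime n.centralBinom hxp, Nat.pow_zero]
    rw [h2, e]
    by_cases hp : p₀ ∈ Finset.range (2 * n + 1)
    · rw [← Finset.mul_prod_erase _ _ hp]
      exact Nat.mul_le_mul_right _ (pow_factorization_choose_le (mul_pos two_pos n_pos))
    · rw [Finset.erase_eq_of_notMem hp]
      exact Nat.le_mul_of_pos_left _ (by omega)
  refine h1.trans ?_
  rw [← Finset.prod_filter_mul_prod_filter_not S (· ≤ sqrt (2 * n)), ← mul_assoc]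
  apply mul_le_mul'
  · have e : (2 * n) ^ sqrt (2 * n) = 2 * n * (2 * n) ^ (sqrt (2 * n) - 1) := by
      rw [← pow_succ', Nat.succ_eq_add_one, Nat.sub_add_cancel hs]
    rw [e]
    refine Nat.mul_le_mul_left _ ?_
    refine (Finset.prod_le_prod' fun p _ => (?_ : f p ≤ 2 * n)).trans ?_
    · exact pow_factorization_choose_le (mul_pos two_pos n_pos)
    rw [Finset.prod_const]
    refine pow_right_mono₀ n2_pos ?_
    refine (Finset.card_le_card (t := Finset.Icc 2 (sqrt (2 * n))) fun x hx => ?_).trans (by rw [Nat.card_Icc]; omega)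
    obtain ⟨h1, h2⟩ := Finset.mem_filter.1 hx
    exact Finset.mem_Icc.mpr ⟨(Finset.mem_filter.1 h1).2.1.two_le, h2⟩
  · refine le_trans ?_ (primorial_le_four_pow (2 * n / 3))
    refine (Finset.prod_le_prod' fun p hp => (?_ : f p ≤ p)).trans ?_
    · obtain ⟨h1, h2⟩ := Finset.mem_filter.1 hp
      refine (pow_right_mono₀ (Finset.mem_filter.1 h1).2.1.one_lt.le ?_).trans (pow_one p).le
      exact Nat.factorization_choose_le_one (sqrt_lt'.mp <| not_le.1 h2)
    refine Finset.prod_le_prod_of_subset_of_one_le' (fun p hp => ?_) ?_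
    · obtain ⟨h1, -⟩ := Finset.mem_filter.1 hp
      obtain ⟨-, h2, -, h3⟩ := Finset.mem_filter.1 h1
      exact Finset.mem_filter.2 ⟨Finset.mem_range.2 (by omega), h2⟩
    exact fun p hp _ => (Finset.mem_filter.1 hp).2.one_lt.le

/-- Two primes in `(m, 2m]` for `m ≥ 6`. -/
theorem exists_two_primes_lt_le_two_mul (m : ℕ) (hm : 6 ≤ m) :
    ∃ p q : ℕ, p.Prime ∧ q.Prime ∧ p < q ∧ m < p ∧ q ≤ 2 * m := by
  rcases Nat.lt_or_ge m 512 with h | h
  · by_cases h1 : m < 7
    · exact ⟨7, 11, by norm_num, by norm_num, by norm_num, h1, by omega⟩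
    by_cases h2 : m < 11
    · exact ⟨11, 13, by norm_num, by norm_num, by norm_num, h2, by omega⟩
    by_cases h3 : m < 17
    · exact ⟨17, 19, by norm_num, by norm_num, by norm_num, h3, by omega⟩
    by_cases h4 : m < 29
    · exact ⟨29, 31, by norm_num, by norm_num, by norm_num, h4, by omega⟩
    by_cases h5 : m < 47
    · exact ⟨47, 53, by norm_num, by norm_num, by norm_num, h5, by omega⟩
    by_cases h6 : m < 83
    · exact ⟨83, 89, by norm_num, by norm_num, by norm_num, h6, by omega⟩
    by_cases h7 : m < 157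
    · exact ⟨157, 163, by norm_num, by norm_num, by norm_num, h7, by omega⟩
    by_cases h8 : m < 311
    · exact ⟨311, 313, by norm_num, by norm_num, by norm_num, h8, by omega⟩
    exact ⟨617, 619, by norm_num, by norm_num, by norm_num, by omega, by omega⟩
  · by_contra hcon
    push_neg at hcon
    obtain ⟨p₀, hp₀, hp₀1, hp₀2⟩ := Nat.exists_prime_lt_and_le_two_mul m (by omega)
    have hone : ∀ p : ℕ, p.Prime → m < p → p ≤ 2 * m → p = p₀ := by
      intro p hp h1 h2
      rcases lt_trichotomy p p₀ with h3 | h3 | h3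
      · exact absurd hp₀2 (not_le.2 (hcon p p₀ hp hp₀ h3 h1))
      · exact h3
      · exact absurd h2 (not_le.2 (hcon p₀ p hp₀ hp h3 hp₀1))
    have hcb := centralBinom_le_of_one_bertrand_prime m (by omega) p₀ hone
    have h4 := Nat.four_pow_lt_mul_centralBinom m (by omega)
    have h5 : m * m.centralBinom ≤ 4 ^ m := by
      refine (Nat.mul_le_mul_left m hcb).trans ?_
      rw [← mul_assoc]
      exact bertrand_main_inequality h
    omega

/-- Two primes in `(n/2, n]` for `n ≥ 11`. -/
theorem exists_two_primes_upper_half (n : ℕ) (hn : 11 ≤ n) :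
    ∃ p q : ℕ, p.Prime ∧ q.Prime ∧ p < q ∧ n < 2 * p ∧ q ≤ n := by
  rcases Nat.eq_or_lt_of_le hn with rfl | hn
  · exact ⟨7, 11, by norm_num, by norm_num, by norm_num, by norm_num, le_rfl⟩
  obtain ⟨p, q, hp, hq, hpq, h1, h2⟩ := exists_two_primes_lt_le_two_mul (n / 2) (by omega)
  exact ⟨p, q, hp, hq, hpq, by omega, by omega⟩

/-- A prime `p > n/2` divides `n!` at most once. -/
theorem sq_not_dvd_factorial {p n : ℕ} (hp : p.Prime) (h : n < 2 * p) : ¬ p ^ 2 ∣ n.factorial := by
  intro hdvd
  have hn : n < p ^ 2 := by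
    calc n < 2 * p := h
      _ ≤ p * p := Nat.mul_le_mul_right p hp.two_le
      _ = p ^ 2 := (sq p).symm
  have hlog : Nat.log p n < 2 := by
    rcases Nat.eq_zero_or_pos n with rfl | hpos
    · simp
    · exact (Nat.log_lt_iff_lt_pow hp.one_lt hpos.ne').2 hn
  have h1 := (hp.pow_dvd_factorial_iff hlog).1 hdvd
  rw [show Finset.Ico 1 2 = {1} from rfl, Finset.sum_singleton, pow_one] at h1
  have := (Nat.div_lt_iff_lt_mul hp.pos).2 h
  omega

/-- A permutation of `n` points has no order divisible by two primes adding up to more than `n`. -/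
theorem perm_orderOf_ne_mul {n p q : ℕ} (hp : p.Prime) (hq : q.Prime) (hne : p ≠ q) (hn : n < p + q)
    (σ : Equiv.Perm (Fin n)) : orderOf σ ≠ p * q := by
  classical
  intro h
  have hsum : σ.cycleType.sum ≤ n := by
    rw [Equiv.Perm.sum_cycleType]
    exact (Finset.card_le_univ _).trans (Fintype.card_fin n).le
  have key : ∀ r : ℕ, r.Prime → ∀ s : Multiset ℕ, r ∣ s.lcm → ∃ a ∈ s, r ∣ a := by
    intro r hr s
    induction s using Multiset.induction with
    | empty => intro h; rw [Multiset.lcm_zero] at h; exact absurd h hr.not_dvd_one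
    | cons a s ih =>
      intro h
      rw [Multiset.lcm_cons] at h
      rcases hr.dvd_mul.1 (h.trans (lcm_dvd_iff.2 ⟨dvd_mul_right _ _, dvd_mul_left _ _⟩)) with h1 | h1
      · exact ⟨a, Multiset.mem_cons_self a s, h1⟩
      · obtain ⟨b, hb, hb'⟩ := ih h1
        exact ⟨b, Multiset.mem_cons_of_mem hb, hb'⟩
  have hlcm : σ.cycleType.lcm = p * q := by rw [Equiv.Perm.lcm_cycleType, h]
  obtain ⟨a, ha, hpa⟩ := key p hp σ.cycleType (hlcm ▸ dvd_mul_right p q)
  obtain ⟨b, hb, hqb⟩ := key q hq σ.cycleType (hlcm ▸ dvd_mul_left q p)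
  have ha2 := Equiv.Perm.two_le_of_mem_cycleType ha
  by_cases hab : a = b
  · subst hab
    have h1 : p * q ≤ a := Nat.le_of_dvd (by omega) (((Nat.coprime_primes hp hq).2 hne).mul_dvd_of_dvd_of_dvd hpa hqb)
    have h2 := Multiset.le_sum_of_mem ha
    have h3 : p + q ≤ p * q := Nat.add_le_mul hp.two_le hq.two_le
    omega
  · have hb' : b ∈ σ.cycleType.erase a := (Multiset.mem_erase_of_ne (Ne.symm hab)).2 hb
    have h1 := Multiset.le_sum_of_mem hb'
    have h2 : σ.cycleType.sum = a + (σ.cycleType.erase a).sum := by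
      rw [← Multiset.sum_cons, Multiset.cons_erase ha]
    have h3 := Nat.le_of_dvd (by omega) hpa
    have hb2 := Equiv.Perm.two_le_of_mem_cycleType hb
    have h4 := Nat.le_of_dvd (by omega) hqb
    omega

/-- An element of order `s` normalizing an `r`-subgroup `V` without elements of order `r * s`
forces `|V| ≡ 1 mod s`. -/
theorem dvd_card_sub_one_of_normalizes {G : Type*} [Group G] [Finite G] {r s : ℕ} (hr : r.Prime) (hs : s.Prime)
    (hrs : r ≠ s) (V : Subgroup G) (hV : IsPGroup r V) (y : G) (hy : orderOf y = s)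
    (hyV : ∀ v ∈ V, y * v * y⁻¹ ∈ V) (hno : ¬ ∃ z : G, orderOf z = r * s) : s ∣ Nat.card V - 1 := by
  classical
  haveI := Fact.mk hs
  haveI := Fact.mk hr
  have hyn : y ∈ Subgroup.normalizer (V : Set G) := Subgroup.mem_normalizer_fintype (S := (V : Set G)) (x := y) hyV
  let W : Subgroup G := Subgroup.zpowers y
  have hW : W ≤ Subgroup.normalizer (V : Set G) := (Subgroup.zpowers_le (g := y)).2 hyn
  letI : MulAction W V :=
    { smul := fun w v => ⟨(w : G) * v * (w : G)⁻¹, (Subgroup.mem_normalizer_iff.1 (hW w.2) v).1 v.2⟩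
      one_smul := fun v => Subtype.ext (show (1 : G) * v * (1 : G)⁻¹ = v by simp)
      mul_smul := fun a b v => Subtype.ext (show ((a : G) * b) * v * ((a : G) * b)⁻¹ = (a : G) * ((b : G) * v * (b : G)⁻¹) * (a : G)⁻¹ by group) }
  have hWp : IsPGroup s W := IsPGroup.of_card (n := 1) (by rw [pow_one, Nat.card_zpowers, hy])
  have hmod := hWp.card_modEq_card_fixedPoints V
  have hfix : MulAction.fixedPoints W V = {1} := by
    ext v
    simp only [MulAction.mem_fixedPoints, Set.mem_singleton_iff]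
    constructor
    · intro h
      by_contra hv
      apply hno
      have h1 : y * (v : G) * y⁻¹ = v := congrArg Subtype.val (h ⟨y, Subgroup.mem_zpowers y⟩)
      have hc : Commute (v : G) y := (mul_inv_eq_iff_eq_mul.1 h1).symm
      obtain ⟨k, hk⟩ := IsPGroup.iff_orderOf.1 hV v
      have hrv : r ∣ orderOf (v : G) := by
        rw [Subgroup.orderOf_coe, hk]
        refine dvd_pow_self r fun hk0 => hv ?_
        rwa [hk0, pow_zero, orderOf_eq_one_iff] at hk
      refine ⟨(v : G) ^ (orderOf (v : G) / r) * y, ?_⟩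
      rw [(hc.pow_left _).orderOf_mul_eq_mul_orderOf_of_coprime, orderOf_pow_orderOf_div (orderOf_pos _).ne' hrv, hy]
      rw [orderOf_pow_orderOf_div (orderOf_pos _).ne' hrv, hy]
      exact (Nat.coprime_primes hr hs).2 hrs
    · rintro rfl w
      exact Subtype.ext (show (w : G) * 1 * (w : G)⁻¹ = 1 by simp)
  rw [hfix, Nat.card_coe_set_eq, Set.ncard_singleton] at hmod
  exact (Nat.modEq_iff_dvd' Nat.card_pos).1 hmod.symm

/-- No solvable group has two non-adjacent primes whose powers are not congruent to 1 modulo each other. -/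
theorem not_solvable_of_pair : ∀ (G : Type*) [Group G] [Finite G] (p q : ℕ), p.Prime → q.Prime → p ≠ q →
    p ∣ Nat.card G → q ∣ Nat.card G → (¬ ∃ z : G, orderOf z = p * q) →
    (∀ i, 1 ≤ i → p ^ i ∣ Nat.card G → ¬ q ∣ p ^ i - 1) →
    (∀ i, 1 ≤ i → q ^ i ∣ Nat.card G → ¬ p ∣ q ^ i - 1) → ¬ Group.IsSolvable G := by
  intro G
  induction h : Nat.card G using Nat.strong_induction_on generalizing G with
  | _ n ih =>
    intro _ _ p q hp hq hpq hpG hqG hno hP hQ hsol
    subst h
    classical
    haveI := hsol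
    have hnt : (⊤ : Subgroup G) ≠ ⊥ := fun h => by
      have h' : Nat.card G = 1 := by rw [← Subgroup.card_top, h, Subgroup.card_bot]
      exact hp.not_dvd_one (h' ▸ hpG)
    have hex : ∃ k, ∃ V : Subgroup G, V.Normal ∧ V ≠ ⊥ ∧ Nat.card V = k := ⟨_, ⊤, inferInstance, hnt, rfl⟩
    obtain ⟨V, hVn, hV1, hVc⟩ := Nat.find_spec hex
    haveI := hVn
    haveI : Nontrivial V := (Subgroup.nontrivial_iff_ne_bot V).2 hV1
    have hVV : (⁅V, V⁆ : Subgroup G) = ⊥ := by
      by_contra hne
      have hle : (⁅V, V⁆ : Subgroup G) ≤ V := Subgroup.commutator_le_left _ _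
      have h1 := Nat.find_le (h := hex) (⟨⁅V, V⁆, inferInstance, hne, rfl⟩ : ∃ W : Subgroup G, W.Normal ∧ W ≠ ⊥ ∧ Nat.card W = _)
      have heq := Subgroup.eq_of_le_of_card_ge hle (hVc.trans_le h1)
      refine (Group.IsSolvable.commutator_lt_top_of_nontrivial V).ne ?_
      apply Subgroup.map_injective V.subtype_injective
      rw [commutator_def, Subgroup.map_commutator, ← MonoidHom.range_eq_map, Subgroup.range_subtype, heq]
    obtain ⟨r, hr, hrV⟩ := Nat.exists_prime_and_dvd (Finite.one_lt_card (α := V)).ne'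
    haveI := Fact.mk hr
    obtain ⟨R⟩ := (inferInstance : Nonempty (Sylow r V))
    have hRn : (R : Subgroup V).Normal := ⟨fun a ha g => by
      have : g * a * g⁻¹ = a := by
        apply Subtype.ext
        have h2 : ⁅(g : G), (a : G)⁆ ∈ (⁅V, V⁆ : Subgroup G) := Subgroup.commutator_mem_commutator g.2 a.2
        rw [hVV, Subgroup.mem_bot, commutatorElement_eq_one_iff_commute] at h2
        show (g : G) * a * (g : G)⁻¹ = a
        rw [h2.eq, mul_inv_cancel_right]
      rwa [this]⟩
    haveI := R.characteristic_of_normal hRn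
    set R' : Subgroup G := (R : Subgroup V).map V.subtype with hR'
    haveI : R'.Normal := ConjAct.normal_of_characteristic_of_normal
    have hR'r : IsPGroup r R' := R.2.map _
    obtain ⟨i, hi⟩ := hR'r.exists_card_eq
    have hR'1 : R' ≠ ⊥ := by
      rw [hR', Ne, Subgroup.map_eq_bot_iff_of_injective _ V.subtype_injective]
      exact R.ne_bot_of_dvd_card hrV
    have hi1 : 1 ≤ i := by
      rcases Nat.eq_zero_or_pos i with rfl | h
      · exact absurd (Subgroup.eq_bot_of_card_eq _ hi) hR'1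
      · exact h
    have hstep : ∀ s : ℕ, s.Prime → s ∣ Nat.card G → r ≠ s → (¬ ∃ z : G, orderOf z = r * s) → s ∣ r ^ i - 1 := by
      intro s hs hsG hrs hno'
      haveI := Fact.mk hs
      obtain ⟨y, hy⟩ := exists_prime_orderOf_dvd_card' s hsG
      exact hi ▸ dvd_card_sub_one_of_normalizes hr hs hrs R' hR'r y hy
        (fun v hv => ‹R'.Normal›.conj_mem v hv y) hno'
    by_cases hrp : r = p
    · subst hrp
      exact hP i hi1 (hi ▸ R'.card_subgroup_dvd_card) (hstep q hq hqG hpq hno)
    by_cases hrq : r = q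
    · subst hrq
      exact hQ i hi1 (hi ▸ R'.card_subgroup_dvd_card) (hstep p hp hpG (Ne.symm hpq) (by rwa [mul_comm]))
    have hlt : Nat.card (G ⧸ R') < Nat.card G := by
      rw [← Subgroup.index_eq_card, ← R'.card_mul_index, hi]
      have h2 : 2 ≤ r ^ i := hr.two_le.trans (Nat.le_self_pow (by omega) r)
      have h3 : 0 < R'.index := Nat.pos_of_ne_zero Subgroup.index_ne_zero_of_finite
      nlinarith
    have hdvd : ∀ s : ℕ, s.Prime → s ∣ Nat.card G → r ≠ s → s ∣ Nat.card (G ⧸ R') := by
      intro s hs hsG hrs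
      rw [← Subgroup.index_eq_card]
      refine (hs.dvd_mul.1 (R'.card_mul_index.symm ▸ hsG)).resolve_left fun h => hrs ?_
      rw [hi] at h
      exact ((Nat.prime_dvd_prime_iff_eq hs hr).1 (hs.dvd_of_dvd_pow h)).symm
    have hsub : Nat.card (G ⧸ R') ∣ Nat.card G := (Subgroup.index_eq_card R') ▸ R'.index_dvd_card
    refine ih _ hlt (G ⧸ R') rfl p q hp hq hpq (hdvd p hp hpG hrp) (hdvd q hq hqG hrq) ?_
      (fun j hj h => hP j hj (h.trans hsub)) (fun j hj h => hQ j hj (h.trans hsub)) inferInstance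
    rintro ⟨z, hz⟩
    obtain ⟨z', rfl⟩ := QuotientGroup.mk'_surjective R' z
    exact hno ⟨z' ^ (orderOf z' / (p * q)), orderOf_pow_orderOf_div (orderOf_pos z').ne' (hz ▸ orderOf_map_dvd (QuotientGroup.mk' R') z')⟩

/-- A minimal normal subgroup whose order is divisible exactly once by `p` and which is perfect is simple. -/
theorem isSimpleGroup_of_minimal_normal {Q : Type*} [Group Q] [Finite Q] (V : Subgroup Q) [V.Normal] (hV : V ≠ ⊥)
    (hmin : ∀ W : Subgroup Q, W.Normal → W ≤ V → W = ⊥ ∨ W = V)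
    {p : ℕ} (hp : p.Prime) (hpV : p ∣ Nat.card V) (hp2 : ¬ p ^ 2 ∣ Nat.card V) : IsSimpleGroup V := by
  classical
  haveI : Nontrivial V := (Subgroup.nontrivial_iff_ne_bot V).2 hV
  haveI := Fintype.ofFinite (Subgroup V)
  let cj : Q → V ≃* V := fun g => MulAut.conjNormal g
  have hinv : ∀ M : Subgroup V, (∀ g : Q, M.map (cj g).toMonoidHom = M) → M = ⊥ ∨ M = ⊤ := by
    intro M hM
    have hn : (M.map V.subtype).Normal := ⟨fun x hx g => by
      obtain ⟨m, hm, rfl⟩ := hx
      exact ⟨cj g m, hM g ▸ Subgroup.mem_map_of_mem _ hm, MulAut.conjNormal_apply g m⟩⟩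
    rcases hmin _ hn (Subgroup.map_subtype_le M) with h | h
    · exact Or.inl ((Subgroup.map_eq_bot_iff_of_injective _ V.subtype_injective).1 h)
    · refine Or.inr (Subgroup.map_injective V.subtype_injective ?_)
      rw [h, ← MonoidHom.range_eq_map, Subgroup.range_subtype]
  have hsupcard : ∀ A B : Subgroup V, A.Normal → B.Normal → Nat.card (A ⊔ B : Subgroup V) ∣ Nat.card A * Nat.card B := by
    intro A B hA hB
    haveI := hA
    haveI := hB
    rw [← Subgroup.relIndex_bot_left (A ⊔ B), ← Subgroup.relIndex_mul_relIndex ⊥ B (A ⊔ B) bot_le le_sup_right,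
      Subgroup.relIndex_bot_left, Subgroup.relIndex_sup_right, mul_comm]
    exact Nat.mul_dvd_mul_right (Subgroup.relIndex_dvd_card _ _) _
  -- the largest normal subgroup of `p'`-order is trivial
  have hfin : ∀ W : Subgroup V, W.Normal → ¬ p ∣ Nat.card W → W = ⊥ := by
    have hex : (Finset.univ.filter fun W : Subgroup V => W.Normal ∧ ¬ p ∣ Nat.card W).Nonempty :=
      ⟨⊥, Finset.mem_filter.2 ⟨Finset.mem_univ _, inferInstance, by rw [Subgroup.card_bot]; exact hp.not_dvd_one⟩⟩
    obtain ⟨M, hM, hmax⟩ := Finset.exists_max_image _ (fun W : Subgroup V => Nat.card W) hex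
    obtain ⟨-, hMn, hMp⟩ := Finset.mem_filter.1 hM
    have hall : ∀ W : Subgroup V, W.Normal → ¬ p ∣ Nat.card W → W ≤ M := by
      intro W hW hWp
      haveI := hW
      haveI := hMn
      have h1 : ¬ p ∣ Nat.card (M ⊔ W : Subgroup V) := fun h =>
        (hp.dvd_mul.1 (h.trans (hsupcard M W hMn hW))).elim hMp hWp
      have h2 := hmax (M ⊔ W) (Finset.mem_filter.2 ⟨Finset.mem_univ _, inferInstance, h1⟩)
      exact (Subgroup.eq_of_le_of_card_ge le_sup_left h2).symm ▸ le_sup_right
    have hMi : ∀ g : Q, M.map (cj g).toMonoidHom = M := by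
      intro g
      have hc : Nat.card (M.map (cj g).toMonoidHom) = Nat.card M :=
        (Nat.card_congr (M.equivMapOfInjective _ (cj g).injective).toEquiv).symm
      exact Subgroup.eq_of_le_of_card_ge (hall _ (hMn.map _ (cj g).surjective) (hc ▸ hMp)) hc.ge
    intro W hW hWp
    rcases hinv M hMi with h | h
    · exact le_bot_iff.1 (h ▸ hall W hW hWp)
    · exfalso
      exact hMp (by rw [h, Subgroup.card_top]; exact hpV)
  have hex : (Finset.univ.filter fun W : Subgroup V => W.Normal ∧ W ≠ ⊥).Nonempty :=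
    ⟨⊤, Finset.mem_filter.2 ⟨Finset.mem_univ _, inferInstance, top_ne_bot⟩⟩
  obtain ⟨W, hW, hWmin⟩ := Finset.exists_min_image _ (fun W : Subgroup V => Nat.card W) hex
  obtain ⟨-, hWn, hW1⟩ := Finset.mem_filter.1 hW
  have hpdiv : ∀ A : Subgroup V, A.Normal → A ≠ ⊥ → p ∣ Nat.card A := fun A hA h1 => by
    by_contra h
    exact h1 (hfin A hA h)
  have hWi : ∀ g : Q, W.map (cj g).toMonoidHom = W := by
    intro g
    set W' := W.map (cj g).toMonoidHom
    have hW'n : W'.Normal := hWn.map _ (cj g).surjective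
    have hc : Nat.card W' = Nat.card W := (Nat.card_congr (W.equivMapOfInjective _ (cj g).injective).toEquiv).symm
    by_cases h : W ⊓ W' = ⊥
    · exfalso
      haveI := hWn
      haveI := hW'n
      have h1 : Nat.card (W ⊔ W' : Subgroup V) = Nat.card W * Nat.card W' := by
        rw [← Subgroup.relIndex_bot_left (W ⊔ W'), ← Subgroup.relIndex_mul_relIndex ⊥ W' (W ⊔ W') bot_le le_sup_right,
          Subgroup.relIndex_bot_left, Subgroup.relIndex_sup_right, mul_comm]
        congr 1
        rw [← Subgroup.inf_relIndex_right, inf_comm, h, Subgroup.relIndex_bot_left]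
      refine hp2 ((dvd_of_eq (sq p)).trans ?_)
      refine dvd_trans ?_ (Subgroup.card_subgroup_dvd_card (W ⊔ W'))
      rw [h1, hc]
      exact Nat.mul_dvd_mul (hpdiv W hWn hW1) (hpdiv W hWn hW1)
    · haveI := hWn
      haveI := hW'n
      have h2 := hWmin (W ⊓ W') (Finset.mem_filter.2 ⟨Finset.mem_univ _, inferInstance, h⟩)
      have h3 : W ⊓ W' = W := Subgroup.eq_of_le_of_card_ge inf_le_left h2
      exact (Subgroup.eq_of_le_of_card_ge (h3 ▸ inf_le_right : W ≤ W') hc.le).symm
  refine ⟨fun A hA => ?_⟩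
  by_cases hA1 : A = ⊥
  · exact Or.inl hA1
  right
  rcases hinv W hWi with h | h
  · exact absurd h hW1
  · have h2 := hWmin A (Finset.mem_filter.2 ⟨Finset.mem_univ _, hA, hA1⟩)
    exact Subgroup.eq_top_of_card_eq A (le_antisymm (Subgroup.card_le_card_group A) (by rw [h, Subgroup.card_top] at h2; exact h2))

end Cfsg.Agent.Lib.Recognition
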