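import Cfsg.Agent.Lib.Recognition.U34Model
import Cfsg.Agent.Lib.Recognition.GraphExt

/-!
# The action of `SU(3,4)` on the module of unital functions
-/

set_option autoImplicit false

namespace Cfsg.Agent.Lib.Recognition.U34

open scoped Matrix

/-- The group. -/
abbrev SU34 : Type := ↥(Cfsg.SU 3 K16 4)

/-- The matrix of an element. -/
def mat (g : SU34) : Matrix (Fin 3) (Fin 3) K16 := (g.1 : Matrix (Fin 3) (Fin 3) K16)

theorem mat_one : mat 1 = 1 := rfl

theorem mat_mul (g h : SU34) : mat (g * h) = mat g * mat h := rfl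

theorem hk_act (g : SU34) (u v : Fin 3 → K16) : hk (mat g *ᵥ u) (mat g *ᵥ v) = hk u v := by
  rw [← hermForm_eq, ← hermForm_eq]
  exact g.2 u v

theorem act_inv (g : SU34) (v : Fin 3 → K16) : mat g⁻¹ *ᵥ (mat g *ᵥ v) = v := by
  rw [Matrix.mulVec_mulVec, ← mat_mul, inv_mul_cancel, mat_one, Matrix.one_mulVec]

theorem iso_act (g : SU34) (v : Fin 3 → K16) : Iso (mat g *ᵥ v) ↔ Iso v := by
  unfold Iso
  rw [hk_act]
  refine and_congr_left' ⟨fun h hv => h (by rw [hv, Matrix.mulVec_zero]), fun h hv => h ?_⟩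
  rw [← act_inv g v, hv, Matrix.mulVec_zero]

/-- The translate of a function. -/
def move (g : SU34) (f : (Fin 3 → K16) → ZMod 5) : (Fin 3 → K16) → ZMod 5 :=
  fun v => f (mat g⁻¹ *ᵥ v)

theorem move_mem (g : SU34) {f : (Fin 3 → K16) → ZMod 5} (hf : f ∈ modM) : move g f ∈ modM := by
  obtain ⟨h1, h2, h3⟩ := hf
  refine ⟨fun v hv => h1 _ (fun h => hv ((iso_act _ v).mp h)), fun l v hl => ?_,
    fun a b ha hb hab => ?_⟩
  · simp only [move, Matrix.mulVec_smul]
    exact h2 l _ hl
  · have e : blk (move g f) a b = blk f (mat g⁻¹ *ᵥ a) (mat g⁻¹ *ᵥ b) := by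
      simp only [blk, term, move]
      congr 1
      refine Finset.sum_congr rfl fun c _ => ?_
      simp only [← Matrix.mulVec_smul, ← Matrix.mulVec_add, iso_act]
    rw [e]
    exact h3 _ _ ((iso_act _ _).mpr ha) ((iso_act _ _).mpr hb) (by rw [hk_act]; exact hab)

/-- The constants. -/
def consts : AddSubgroup modM := AddSubgroup.zmultiples ⟨ind, ind_mem⟩

/-- The module. -/
abbrev Mod : Type := modM ⧸ consts

/-- The translation of `modM`. -/
def moveHom (g : SU34) : modM →+ modM where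
  toFun f := ⟨move g f.1, move_mem g f.2⟩
  map_zero' := rfl
  map_add' _ _ := rfl

theorem moveHom_ind (g : SU34) : moveHom g ⟨ind, ind_mem⟩ = ⟨ind, ind_mem⟩ := by
  apply Subtype.ext
  funext v
  show ind (mat g⁻¹ *ᵥ v) = ind v
  simp only [ind, iso_act]

theorem consts_le (g : SU34) : consts ≤ consts.comap (moveHom g) := by
  rw [consts, AddSubgroup.zmultiples_le, AddSubgroup.mem_comap, moveHom_ind]
  exact AddSubgroup.mem_zmultiples _

instance : SMul SU34 Mod := ⟨fun g => QuotientAddGroup.map consts consts (moveHom g) (consts_le g)⟩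

theorem smul_mk (g : SU34) (f : modM) :
    g • (QuotientAddGroup.mk f : Mod) = QuotientAddGroup.mk (moveHom g f) := rfl

instance : DistribMulAction SU34 Mod where
  one_smul x := by
    obtain ⟨f, rfl⟩ := QuotientAddGroup.mk_surjective x
    rw [smul_mk]
    congr 1
    apply Subtype.ext; funext v
    show f.1 (mat 1⁻¹ *ᵥ v) = f.1 v
    rw [inv_one, mat_one, Matrix.one_mulVec]
  mul_smul g h x := by
    obtain ⟨f, rfl⟩ := QuotientAddGroup.mk_surjective x
    rw [smul_mk, smul_mk, smul_mk]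
    congr 1
    apply Subtype.ext; funext v
    show f.1 (mat (g * h)⁻¹ *ᵥ v) = f.1 (mat h⁻¹ *ᵥ (mat g⁻¹ *ᵥ v))
    rw [Matrix.mulVec_mulVec, ← mat_mul, mul_inv_rev]
  smul_zero g := map_zero (QuotientAddGroup.map consts consts (moveHom g) (consts_le g))
  smul_add g x y := map_add (QuotientAddGroup.map consts consts (moveHom g) (consts_le g)) x y

theorem five_nsmul (x : Mod) : (5 : ℕ) • x = 0 := by
  obtain ⟨f, rfl⟩ := QuotientAddGroup.mk_surjective x
  rw [← QuotientAddGroup.mk_nsmul]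
  have : (5 : ℕ) • f = 0 := by
    apply Subtype.ext; funext v
    rw [AddSubmonoidClass.coe_nsmul, Pi.smul_apply, nsmul_eq_mul]
    show ((5 : ℕ) : ZMod 5) * f.1 v = 0
    rw [ZMod.natCast_self, zero_mul]
  rw [this]; rfl

/-- Two points at which the tabulated function differs. -/
theorem fun0_nonconst : ∃ i < 65, ∃ j < 65, Iso (rep i) ∧ Iso (rep j) ∧
    fun0 (rep i) ≠ fun0 (rep j) := by decide +kernel

theorem mem_consts {f : modM} (h : f ∈ consts) (v w : Fin 3 → K16) (hv : Iso v) (hw : Iso w) :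
    f.1 v = f.1 w := by
  obtain ⟨k, rfl⟩ := AddSubgroup.mem_zmultiples_iff.mp h
  rw [AddSubgroupClass.coe_zsmul, Pi.smul_apply, Pi.smul_apply]
  simp [ind, hv, hw]

instance : Nontrivial Mod := by
  refine ⟨⟨QuotientAddGroup.mk ⟨fun0, fun0_mem⟩, 0, fun h => ?_⟩⟩
  obtain ⟨i, -, j, -, hi, hj, hne⟩ := fun0_nonconst
  exact hne (mem_consts ((QuotientAddGroup.eq_zero_iff _).mp h) _ _ hi hj)

instance : Finite Mod := inferInstance

/-- A matrix from rows. -/
def ofRows (L : List (List ℕ)) : Matrix (Fin 3) (Fin 3) K16 :=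
  fun i j => el ((L.getD i.val []).getD j.val 0)

/-- The membership test. -/
def GoodMat (M : Matrix (Fin 3) (Fin 3) K16) : Prop :=
  M.det = 1 ∧ ∀ i j : Fin 3, hk (fun r => M r i) (fun r => M r j) = if i = j then 1 else 0

theorem good_mem {M : Matrix.SpecialLinearGroup (Fin 3) K16}
    (h : ∀ i j : Fin 3, hk (fun r => (M : Matrix _ _ K16) r i) (fun r => (M : Matrix _ _ K16) r j)
      = if i = j then 1 else 0) : M ∈ Cfsg.SU 3 K16 4 := by
  refine (Cfsg.Agent.Lib.Classical.mem_SU_iff card_K16 M).mpr ?_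
  ext i j
  rw [Cfsg.Agent.Lib.Classical.transpose_mul_map_apply, hermForm_eq, h i j, Matrix.one_apply]

theorem good_all : GoodMat (ofRows matX) ∧ GoodMat (ofRows matY) ∧ GoodMat (ofRows matZ) := by
  unfold GoodMat
  simp only [Matrix.det_fin_three]
  decide +kernel

/-- An element from a matrix. -/
def mk (M : Matrix (Fin 3) (Fin 3) K16) (h : GoodMat M) : SU34 := ⟨⟨M, h.1⟩, good_mem h.2⟩

/-- The element of order 13. -/
def gX : SU34 := mk _ good_all.1
/-- The element of order 10. -/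
def gY : SU34 := mk _ good_all.2.1
/-- The element of order 15. -/
def gZ : SU34 := mk _ good_all.2.2

theorem orders : orderOf gX = 13 ∧ orderOf gY = 10 ∧ orderOf gZ = 15 := by
  refine ⟨(orderOf_eq_iff (by norm_num)).mpr ⟨?_, ?_⟩, (orderOf_eq_iff (by norm_num)).mpr ⟨?_, ?_⟩,
    (orderOf_eq_iff (by norm_num)).mpr ⟨?_, ?_⟩⟩
  all_goals decide +kernel

/-- The value table of a function constant on orbits. -/
def orbOf (v : Fin 3 → K16) : Fin 5 :=
  Fin.ofNat 5 ((orbTab.getD (repIdx v) (0, 0, 0)).1)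

/-- The representative of an orbit. -/
def orep (o : Fin 5) : Fin 3 → K16 := rep (orbList.getD o.val 0)

theorem orb_table : ∀ i : Fin 65,
    el (orbTab.getD i.val (0, 0, 0)).2.2 ≠ 0 ∧
    ∀ r : Fin 3, ((mat gX ^ (orbTab.getD i.val (0, 0, 0)).2.1) *ᵥ
        orep (Fin.ofNat 5 (orbTab.getD i.val (0, 0, 0)).1)) r
      = el (orbTab.getD i.val (0, 0, 0)).2.2 * rep i.val r := by
  decide +kernel

/-- The coefficient of an orbit in a block. -/
def coef (a b : Fin 3 → K16) (o : Fin 5) : ZMod 5 :=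
  (if orbOf b = o then 1 else 0) +
    ((Finset.univ.filter fun c : K16 => Iso (a + c • b) ∧ orbOf (a + c • b) = o).card : ℕ)

/-- The chosen blocks have only constant solutions. -/
theorem eq_only_const : ∀ F1 F2 F3 F4 : ZMod 5,
    (∀ p ∈ eqList, hk (rep p.1) (rep p.2) = 0 ∨ ¬ Iso (rep p.1) ∨ ¬ Iso (rep p.2) ∨
      coef (rep p.1) (rep p.2) 1 * F1 + coef (rep p.1) (rep p.2) 2 * F2
        + coef (rep p.1) (rep p.2) 3 * F3 + coef (rep p.1) (rep p.2) 4 * F4 = 0) →
    F1 = 0 ∧ F2 = 0 ∧ F3 = 0 ∧ F4 = 0 := by decide +kernel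

theorem iso_rep_list : ∀ i : Fin 65, Iso (rep i.val) := by decide +kernel

theorem sum_decomp {ι : Type*} [Fintype ι] (o₀ : Fin 5) (orb : ι → Fin 5) (P : ι → Prop)
    [DecidablePred P] (x y c : ZMod 5) (u v : ι → ZMod 5) (D : Fin 5 → ZMod 5)
    (e₀ : x - c * y = ∑ o : Fin 5, (if o₀ = o then 1 else 0) * D o)
    (e₁ : ∀ w, u w - c * v w = ∑ o : Fin 5, (if P w ∧ orb w = o then 1 else 0) * D o) :
    (x + ∑ w, u w) - c * (y + ∑ w, v w)
      = ∑ o : Fin 5, ((if o₀ = o then 1 else 0) +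
          (((Finset.univ.filter fun w => P w ∧ orb w = o).card : ℕ) : ZMod 5)) * D o := by
  rw [mul_add, Finset.mul_sum, add_sub_add_comm, e₀, ← Finset.sum_sub_distrib,
    Finset.sum_congr rfl fun w _ => e₁ w, Finset.sum_comm, ← Finset.sum_add_distrib]
  refine Finset.sum_congr rfl fun o _ => ?_
  rw [← Finset.sum_mul, Finset.sum_boole, add_mul]

theorem blk_decomp (f : (Fin 3 → K16) → ZMod 5) (c : ZMod 5)
    (hall : ∀ v, Iso v → f v = f (orep (orbOf v))) (a b : Fin 3 → K16) (hb : Iso b) :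
    blk f a b - c * blk ind a b = ∑ o : Fin 5, coef a b o * (f (orep o) - c) := by
  have eb : f b - c * ind b = ∑ o : Fin 5, (if orbOf b = o then 1 else 0) * (f (orep o) - c) := by
    simp only [ite_mul, one_mul, zero_mul, Finset.sum_ite_eq, Finset.mem_univ, if_true]
    rw [show ind b = 1 from if_pos hb, mul_one, hall b hb]
  have et : ∀ w, term f w - c * term ind w
      = ∑ o : Fin 5, (if Iso w ∧ orbOf w = o then 1 else 0) * (f (orep o) - c) := by
    intro w
    by_cases hw : Iso w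
    · simp only [term, if_pos hw, hw, true_and, ite_mul, one_mul, zero_mul, Finset.sum_ite_eq,
        Finset.mem_univ, if_true]
      rw [show ind w = 1 from if_pos hw, mul_one, hall w hw]
    · simp [term, hw]
  exact sum_decomp (orbOf b) (fun w => orbOf (a + w • b)) (fun w => Iso (a + w • b)) (f b) (ind b) c
    (fun w => term f (a + w • b)) (fun w => term ind (a + w • b)) (fun o => f (orep o) - c) eb
    fun w => et (a + w • b)

theorem fixed_const {f : (Fin 3 → K16) → ZMod 5} (hf : f ∈ modM)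
    (hx : ∀ v, f (mat gX *ᵥ v) = f v) : ∃ c : ZMod 5, ∀ v, Iso v → f v = c := by
  have ht := orb_table
  have hpow : ∀ k v, f ((mat gX ^ k) *ᵥ v) = f v := by
    intro k
    induction k with
    | zero => intro v; rw [pow_zero, Matrix.one_mulVec]
    | succ k ih => intro v; rw [pow_succ', ← Matrix.mulVec_mulVec, hx, ih]
  have hrep : ∀ i < 65, f (rep i) = f (orep (Fin.ofNat 5 (orbTab.getD i (0, 0, 0)).1)) := by
    intro i hi
    obtain ⟨h1, h2⟩ := ht ⟨i, hi⟩
    rw [← hpow (orbTab.getD i (0, 0, 0)).2.1 (orep (Fin.ofNat 5 (orbTab.getD i (0, 0, 0)).1)),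
      ← hf.2.1 (el (orbTab.getD i (0, 0, 0)).2.2) (rep i) h1]
    exact congrArg f (funext fun r => (h2 r).symm)
  set c := f (orep 0)
  have hall : ∀ v, Iso v → f v = f (orep (orbOf v)) := by
    intro v hv
    have h := rep_table
    simp only [List.all_eq_true, List.mem_range, decide_eq_true_eq] at h
    have h' := h (code v) (code_lt v)
    rw [vec_code] at h'
    obtain ⟨h1, h2, h3⟩ := h'.resolve_left (fun h => h hv)
    conv_lhs => rw [show v = repSc v • rep (repIdx v) from funext fun r => (h3 r).symm]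
    rw [hf.2.1 _ _ h2, hrep _ h1]
    rfl
  refine ⟨c, fun v hv => ?_⟩
  set D : Fin 5 → ZMod 5 := fun o => f (orep o) - c with hD
  have hD0 : D 0 = 0 := sub_self _
  have hsol := eq_only_const (D 1) (D 2) (D 3) (D 4) (by
    intro p _
    by_cases h1 : hk (rep p.1) (rep p.2) = 0
    · exact Or.inl h1
    by_cases h2 : Iso (rep p.1)
    swap
    · exact Or.inr (Or.inl h2)
    by_cases h3 : Iso (rep p.2)
    swap
    · exact Or.inr (Or.inr (Or.inl h3))
    right; right; right
    set a := rep p.1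
    set b := rep p.2
    have e := blk_decomp f c hall a b h3
    rw [hf.2.2 a b h2 h3 h1, ind_mem.2.2 a b h2 h3 h1, mul_zero, sub_zero, Fin.sum_univ_five,
      show f (orep 0) - c = 0 from sub_self _, mul_zero, zero_add] at e
    exact e.symm)
  rw [hall v hv]
  obtain ⟨s1, s2, s3, s4⟩ := hsol
  have : ∀ o : Fin 5, D o = 0 := by intro o; fin_cases o <;> assumption
  exact sub_eq_zero.mp (this _)

theorem gX_fixed_point_free (x : Mod) (h : gX • x = x) : x = 0 := by
  obtain ⟨f, rfl⟩ := QuotientAddGroup.mk_surjective x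
  rw [smul_mk, QuotientAddGroup.eq, consts, AddSubgroup.mem_zmultiples_iff] at h
  obtain ⟨k, hk'⟩ := h
  have h1 : ∀ v, f.1 v = f.1 (mat gX⁻¹ *ᵥ v) + (k : ZMod 5) * ind v := by
    intro v
    have := congrFun (congrArg Subtype.val hk') v
    simp only [AddSubgroupClass.coe_zsmul, Pi.smul_apply, AddSubgroup.coe_add,
      AddSubgroup.coe_neg, Pi.add_apply, Pi.neg_apply, zsmul_eq_mul] at this
    rw [this]
    show f.1 v = f.1 (mat gX⁻¹ *ᵥ v) + (-(f.1 (mat gX⁻¹ *ᵥ v)) + f.1 v)
    ring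
  have hstep : ∀ v, f.1 (mat gX *ᵥ v) = f.1 v + (k : ZMod 5) * ind v := by
    intro v
    rw [h1 (mat gX *ᵥ v), act_inv]
    simp only [ind, iso_act]
  have hn : ∀ (n : ℕ) v, f.1 ((mat gX ^ n) *ᵥ v) = f.1 v + (n : ZMod 5) * ((k : ZMod 5) * ind v) := by
    intro n
    induction n with
    | zero => intro v; simp
    | succ n ih =>
      intro v
      rw [pow_succ, ← Matrix.mulVec_mulVec, ih, hstep v]
      have : ind (mat gX *ᵥ v) = ind v := by simp only [ind, iso_act]
      rw [this]; push_cast; ring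
  have hX13 : mat gX ^ 13 = 1 := by
    have hp : ∀ n : ℕ, mat (gX ^ n) = mat gX ^ n := by
      intro n
      induction n with
      | zero => simp [mat_one]
      | succ n ih => rw [pow_succ, mat_mul, ih, pow_succ]
    rw [← hp, ← orders.1, pow_orderOf_eq_one, mat_one]
  have hk0 : ∀ v, (k : ZMod 5) * ind v = 0 := by
    intro v
    have h13 := hn 13 v
    rw [hX13, Matrix.one_mulVec, left_eq_add, show ((13 : ℕ) : ZMod 5) = 3 from rfl] at h13
    revert h13
    generalize (k : ZMod 5) * ind v = y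
    revert y
    decide
  obtain ⟨c, hc⟩ := fixed_const f.2 (fun v => by rw [hstep v, hk0 v, add_zero])
  rw [QuotientAddGroup.eq_zero_iff]
  refine AddSubgroup.mem_zmultiples_iff.mpr ⟨(c.val : ℤ), ?_⟩
  apply Subtype.ext
  funext v
  rw [AddSubgroupClass.coe_zsmul, Pi.smul_apply]
  by_cases hv : Iso v
  · simp [ind, hv, hc v hv, ZMod.natCast_zmod_val]
  · simp [ind, hv, f.2.1 v hv]

end Cfsg.Agent.Lib.Recognition.U34
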