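import Cfsg.Prelude.Def_Classical
import Cfsg.Agent.Lib.Recognition.U34Data
import Cfsg.Agent.Lib.Classical.HermCard

/-!
# `SU(3,4)` over a table model of the field with 16 elements, and its module of functions on the
unital orthogonal to all blocks modulo 5
-/

set_option autoImplicit false

namespace Cfsg.Agent.Lib.Recognition.U34

/-- The field with sixteen elements, elements written in base `2, x` with `x^4 = x + 1`. -/
structure K16 where
  /-- The code. -/
  v : Fin 16
deriving DecidableEq

/-- The codes. -/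
def k16Equiv : Fin 16 ≃ K16 := ⟨K16.mk, K16.v, fun _ => rfl, fun _ => rfl⟩

instance : Fintype K16 := Fintype.ofEquiv (Fin 16) k16Equiv

/-- Code to element. -/
def el (n : ℕ) : K16 := ⟨⟨n % 16, Nat.mod_lt _ (by norm_num)⟩⟩

instance : Zero K16 := ⟨el 0⟩
instance : One K16 := ⟨el 1⟩
instance : Add K16 := ⟨fun a b => el (Nat.xor a.v.val b.v.val)⟩
instance : Neg K16 := ⟨fun a => a⟩
instance : Mul K16 := ⟨fun a b => el (mulTab >>> (4 * (16 * a.v.val + b.v.val)))⟩

/-- Powers by repeated multiplication. -/
def kpow : ℕ → K16 → K16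
  | 0, _ => 1
  | n + 1, a => kpow n a * a

instance : Inv K16 := ⟨fun a => kpow 14 a⟩

theorem add_comm' : ∀ a b : K16, a + b = b + a := by decide +kernel
theorem add_assoc' : ∀ a b c : K16, a + b + c = a + (b + c) := by decide +kernel
theorem zero_add' : ∀ a : K16, 0 + a = a := by decide +kernel
theorem neg_add' : ∀ a : K16, -a + a = 0 := by decide +kernel
theorem mul_assoc' : ∀ a b c : K16, a * b * c = a * (b * c) := by decide +kernel
theorem mul_comm' : ∀ a b : K16, a * b = b * a := by decide +kernel
theorem one_mul' : ∀ a : K16, 1 * a = a := by decide +kernel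
theorem left_distrib' : ∀ a b c : K16, a * (b + c) = a * b + a * c := by decide +kernel
theorem mul_inv' : ∀ a : K16, a ≠ 0 → a * a⁻¹ = 1 := by decide +kernel
theorem inv_zero' : (0 : K16)⁻¹ = 0 := by decide +kernel

instance : Field K16 where
  add_assoc := add_assoc'
  zero_add := zero_add'
  add_zero a := by rw [add_comm', zero_add']
  add_comm := add_comm'
  nsmul := nsmulRec
  zsmul := zsmulRec
  neg_add_cancel := neg_add'
  mul_assoc := mul_assoc'
  mul_comm := mul_comm'
  one_mul := one_mul'
  mul_one a := by rw [mul_comm', one_mul']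
  left_distrib := left_distrib'
  right_distrib a b c := by rw [mul_comm', left_distrib', mul_comm' c a, mul_comm' c b]
  zero_mul a := by revert a; decide +kernel
  mul_zero a := by revert a; decide +kernel
  mul_inv_cancel := mul_inv'
  inv_zero := inv_zero'
  exists_pair_ne := ⟨0, 1, by decide +kernel⟩
  nnqsmul := _
  qsmul := _

theorem card_K16 : Fintype.card K16 = 4 ^ 2 := by rw [← Fintype.card_congr k16Equiv]; rfl

/-- A vector from its code. -/
def vec (n : ℕ) : Fin 3 → K16 := fun i => el (n >>> (4 * i.val))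

/-- The code of a vector. -/
def code (v : Fin 3 → K16) : ℕ := (v 0).v.val + 16 * (v 1).v.val + 256 * (v 2).v.val

/-- A fourth power. -/
def p4 (x : K16) : K16 := x * x * (x * x)

theorem pow_four_eq (x : K16) : x ^ 4 = p4 x := by simp only [p4]; ring

/-- The hermitian form. -/
def hk (u v : Fin 3 → K16) : K16 := u 0 * p4 (v 0) + u 1 * p4 (v 1) + u 2 * p4 (v 2)

theorem hermForm_eq (u v : Fin 3 → K16) : Cfsg.hermForm 3 K16 4 u v = hk u v := by
  simp [Cfsg.hermForm, hk, Fin.sum_univ_three, pow_four_eq]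

/-- Isotropic points. -/
def Iso (v : Fin 3 → K16) : Prop := v ≠ 0 ∧ hk v v = 0

instance (v : Fin 3 → K16) : Decidable (Iso v) := by unfold Iso; infer_instance

/-- The term of a block. -/
def term (f : (Fin 3 → K16) → ZMod 5) (w : Fin 3 → K16) : ZMod 5 := if Iso w then f w else 0

/-- The block sum. -/
def blk (f : (Fin 3 → K16) → ZMod 5) (a b : Fin 3 → K16) : ZMod 5 :=
  f b + ∑ c : K16, term f (a + c • b)

/-- Functions on isotropic points whose sums over all blocks vanish. -/
def modM : AddSubgroup ((Fin 3 → K16) → ZMod 5) where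
  carrier := {f | (∀ v, ¬ Iso v → f v = 0) ∧ (∀ (l : K16) (v), l ≠ 0 → f (l • v) = f v) ∧
    ∀ a b, Iso a → Iso b → hk a b ≠ 0 → blk f a b = 0}
  zero_mem' := ⟨fun _ _ => rfl, fun _ _ _ => rfl, fun a b _ _ _ => by simp [blk, term]⟩
  add_mem' := by
    rintro f g ⟨f1, f2, f3⟩ ⟨g1, g2, g3⟩
    refine ⟨fun v hv => by simp [f1 v hv, g1 v hv], fun l v hl => by simp [f2 l v hl, g2 l v hl],
      fun a b ha hb hab => ?_⟩
    have h : blk (f + g) a b = blk f a b + blk g a b := by
      have : ∀ w, term (f + g) w = term f w + term g w := fun w => by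
        unfold term; split <;> simp
      simp only [blk, this, Finset.sum_add_distrib, Pi.add_apply]
      ring
    rw [h, f3 a b ha hb hab, g3 a b ha hb hab, add_zero]
  neg_mem' := by
    rintro f ⟨f1, f2, f3⟩
    refine ⟨fun v hv => by simp [f1 v hv], fun l v hl => by simp [f2 l v hl],
      fun a b ha hb hab => ?_⟩
    have h : blk (-f) a b = -blk f a b := by
      have : ∀ w, term (-f) w = -term f w := fun w => by
        unfold term; split <;> simp
      simp only [blk, this, Finset.sum_neg_distrib, Pi.neg_apply]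
      ring
    rw [h, f3 a b ha hb hab, neg_zero]

/-- The tabulated function. -/
def fun0 (v : Fin 3 → K16) : ZMod 5 := ((funTab >>> (3 * code v)) % 8 : ℕ)

/-- The indicator function of the isotropic points. -/
def ind (v : Fin 3 → K16) : ZMod 5 := if Iso v then 1 else 0

/-- The representatives. -/
def rep (i : ℕ) : Fin 3 → K16 := vec (repList.getD i 0)

/-- The index of the point of a vector. -/
def repIdx (v : Fin 3 → K16) : ℕ := (repTab >>> (11 * code v)) % 128

/-- The scalar of a vector. -/
def repSc (v : Fin 3 → K16) : K16 := el ((repTab >>> (11 * code v + 7)) % 16)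

theorem vec_code (v : Fin 3 → K16) : vec (code v) = v := by
  have key : ∀ a b c : K16, (el ((a.v.val + 16 * b.v.val + 256 * c.v.val) >>> 0) = a ∧
      el ((a.v.val + 16 * b.v.val + 256 * c.v.val) >>> 4) = b ∧
      el ((a.v.val + 16 * b.v.val + 256 * c.v.val) >>> 8) = c) := by decide +kernel
  obtain ⟨h0, h1, h2⟩ := key (v 0) (v 1) (v 2)
  funext i
  fin_cases i
  · exact h0
  · exact h1
  · exact h2

theorem code_lt (v : Fin 3 → K16) : code v < 4096 := by
  have h0 := (v 0).v.isLt; have h1 := (v 1).v.isLt; have h2 := (v 2).v.isLt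
  simp only [code]; omega

/-- A check on every vector. -/
theorem forall_vec {P : (Fin 3 → K16) → Prop} (h : ∀ n < 4096, P (vec n)) (v : Fin 3 → K16) :
    P v := by
  rw [← vec_code v]; exact h _ (code_lt v)

theorem rep_table : ((List.range 4096).all fun n => decide (¬ Iso (vec n) ∨
    (repIdx (vec n) < 65 ∧ repSc (vec n) ≠ 0 ∧
      ∀ i : Fin 3, repSc (vec n) * rep (repIdx (vec n)) i = vec n i))) = true := by
  decide +kernel

theorem exists_rep {v : Fin 3 → K16} (hv : Iso v) :
    ∃ i < 65, ∃ l : K16, l ≠ 0 ∧ v = l • rep i := by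
  revert hv
  refine forall_vec (P := fun v => Iso v → ∃ i < 65, ∃ l : K16, l ≠ 0 ∧ v = l • rep i) ?_ v
  intro n hn hv
  have h := rep_table
  simp only [List.all_eq_true, List.mem_range, decide_eq_true_eq] at h
  obtain ⟨h1, h2, h3⟩ := (h n hn).resolve_left (fun h => h hv)
  exact ⟨_, h1, _, h2, funext fun i => (h3 i).symm⟩

theorem hk_smul (l m : K16) (u v : Fin 3 → K16) : hk (l • u) (m • v) = l * p4 m * hk u v := by
  simp [hk, p4]; ring

theorem iso_smul {l : K16} (hl : l ≠ 0) {v : Fin 3 → K16} : Iso (l • v) ↔ Iso v := by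
  unfold Iso
  rw [hk_smul, smul_ne_zero_iff, mul_eq_zero]
  have : l * p4 l ≠ 0 := mul_ne_zero hl (by simp [p4, hl])
  tauto

theorem fun0_table : ((List.range 4096).all fun n =>
    decide (Iso (vec n) ∨ fun0 (vec n) = 0)) = true := by decide +kernel

theorem fun0_scal : ((List.range 65).all fun i => decide (∀ l : K16, l ≠ 0 →
    fun0 (l • rep i) = fun0 (rep i))) = true := by decide +kernel

theorem fun0_blocks : ((List.range 65).all fun i => (List.range 65).all fun j =>
    decide (hk (rep i) (rep j) = 0 ∨ blk fun0 (rep i) (rep j) = 0)) = true := by decide +kernel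

theorem fun0_smul {l : K16} (hl : l ≠ 0) (v : Fin 3 → K16) : fun0 (l • v) = fun0 v := by
  have h0 := fun0_table
  have h1 := fun0_scal
  simp only [List.all_eq_true, List.mem_range, decide_eq_true_eq] at h0 h1
  have h0' : ∀ w, ¬ Iso w → fun0 w = 0 := fun w =>
    forall_vec (P := fun w => ¬ Iso w → fun0 w = 0) (fun n hn hw => (h0 n hn).resolve_left hw) w
  by_cases hv : Iso v
  · obtain ⟨i, hi, m, hm, rfl⟩ := exists_rep hv
    rw [smul_smul, h1 i hi _ (mul_ne_zero hl hm), h1 i hi _ hm]
  · rw [h0' v hv, h0' _ (fun h => hv ((iso_smul hl).mp h))]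

theorem term_smul {f : (Fin 3 → K16) → ZMod 5} (hf : ∀ (l : K16) (v), l ≠ 0 → f (l • v) = f v)
    {l : K16} (hl : l ≠ 0) (w : Fin 3 → K16) : term f (l • w) = term f w := by
  simp only [term, iso_smul hl, hf l w hl]

theorem blk_smul {f : (Fin 3 → K16) → ZMod 5} (hf : ∀ (l : K16) (v), l ≠ 0 → f (l • v) = f v)
    {l m : K16} (hl : l ≠ 0) (hm : m ≠ 0) (a b : Fin 3 → K16) :
    blk f (l • a) (m • b) = blk f a b := by
  unfold blk
  rw [hf m b hm]
  congr 1
  refine Fintype.sum_equiv (Equiv.mulRight₀ (m / l) (div_ne_zero hm hl)) _ _ fun c => ?_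
  rw [← term_smul hf hl (a + Equiv.mulRight₀ (m / l) (div_ne_zero hm hl) c • b)]
  congr 1
  rw [smul_add, smul_smul, smul_smul]
  congr 2
  show c * m = l * (c * (m / l))
  field_simp

theorem fun0_mem : fun0 ∈ modM := by
  have h0 := fun0_table
  have h2 := fun0_blocks
  simp only [List.all_eq_true, List.mem_range, decide_eq_true_eq] at h0 h2
  refine ⟨fun v hv => forall_vec (P := fun w => ¬ Iso w → fun0 w = 0)
    (fun n hn hw => (h0 n hn).resolve_left hw) v hv, fun l v hl => fun0_smul hl v,
    fun a b ha hb hab => ?_⟩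
  obtain ⟨i, hi, l, hl, rfl⟩ := exists_rep ha
  obtain ⟨j, hj, m, hm, rfl⟩ := exists_rep hb
  rw [blk_smul (fun l v hl => fun0_smul hl v) hl hm]
  refine (h2 i hi j hj).resolve_left fun h => hab ?_
  rw [hk_smul, h, mul_zero]

theorem trace_count : ∀ H : K16, H ≠ 0 →
    (Finset.univ.filter fun c : K16 => p4 c * H + c * p4 H = 0).card = 4 := by decide +kernel

theorem p4_add : ∀ a b : K16, p4 (a + b) = p4 a + p4 b := by decide +kernel

theorem p4_mul (a b : K16) : p4 (a * b) = p4 a * p4 b := by simp only [p4]; ring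

theorem p4_p4 : ∀ a : K16, p4 (p4 a) = a := by decide +kernel

theorem hk_line {a b : Fin 3 → K16} (ha : hk a a = 0) (hb : hk b b = 0) (c : K16) :
    hk (a + c • b) (a + c • b) = p4 c * hk a b + c * p4 (hk a b) := by
  have e : hk (a + c • b) (a + c • b)
      = hk a a + p4 c * hk a b + c * p4 (hk a b) + c * p4 c * hk b b := by
    simp only [hk, Pi.add_apply, Pi.smul_apply, smul_eq_mul, p4_add, p4_mul, p4_p4]
    ring
  rw [e, ha, hb, mul_zero, add_zero, zero_add]

theorem ind_mem : ind ∈ modM := by
  refine ⟨fun v hv => if_neg hv, fun l v hl => by simp only [ind, iso_smul hl],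
    fun a b ha hb hab => ?_⟩
  have hne : ∀ c : K16, a + c • b ≠ 0 := fun c h => hab (by
    have e : a = (-c) • b := by rw [neg_smul]; exact eq_neg_of_add_eq_zero_left h
    have e2 := hk_smul (-c) 1 b b
    rw [one_smul, ← e, hb.2, mul_zero] at e2
    exact e2)
  have e : ∀ c : K16, term ind (a + c • b)
      = if p4 c * hk a b + c * p4 (hk a b) = 0 then 1 else 0 := by
    intro c
    simp only [term, ind, Iso, hne c, ne_eq, not_false_eq_true, true_and, hk_line ha.2 hb.2]
    split <;> rfl
  rw [blk, Finset.sum_congr rfl fun c _ => e c, Finset.sum_boole, trace_count _ hab,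
    show ind b = 1 from if_pos hb]
  decide

end Cfsg.Agent.Lib.Recognition.U34
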