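import Cfsg.Agent.Lib.Recognition.CertFast
import Cfsg.Agent.Lib.Recognition.U43Data

/-!
# Kernel evaluation of the certificates for PSU(4,3)
-/

set_option autoImplicit false
set_option maxRecDepth 100000
set_option maxHeartbeats 0
set_option Elab.async false

namespace Cfsg.Agent.Lib.Recognition.U43

open Cfsg.Agent.Lib.Compute Cfsg.Agent.Lib.Recognition.CertFast

theorem pairCert0_rest : lvlRest 392 pairCert0 [pairCert1, pairCert2, pairCert3, pairCert4] = true := by decide +kernel

theorem pairCert0_wit0 : witPart 392 pairCert0 [pairCert1, pairCert2, pairCert3, pairCert4] 0 1 = true := by decide +kernel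

theorem pairCert0_wit1 : witPart 392 pairCert0 [pairCert1, pairCert2, pairCert3, pairCert4] 1 2 = true := by decide +kernel

theorem pairCert0_wit2 : witPart 392 pairCert0 [pairCert1, pairCert2, pairCert3, pairCert4] 2 3 = true := by decide +kernel

theorem pairCert0_wit3 : witPart 392 pairCert0 [pairCert1, pairCert2, pairCert3, pairCert4] 3 4 = true := by decide +kernel

theorem pairCert0_wit4 : witPart 392 pairCert0 [pairCert1, pairCert2, pairCert3, pairCert4] 4 5 = true := by decide +kernel

theorem pairCert0_wit5 : witPart 392 pairCert0 [pairCert1, pairCert2, pairCert3, pairCert4] 5 6 = true := by decide +kernel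

theorem pairCert0_ok : lvlFast 392 pairCert0 [pairCert1, pairCert2, pairCert3, pairCert4] = true := by
  refine lvlFast_of_parts pairCert0_rest fun s hs => ?_
  change s < 6 at hs
  interval_cases s
  · exact pairCert0_wit0
  · exact pairCert0_wit1
  · exact pairCert0_wit2
  · exact pairCert0_wit3
  · exact pairCert0_wit4
  · exact pairCert0_wit5

theorem pairCert1_rest : lvlRest 392 pairCert1 [pairCert2, pairCert3, pairCert4] = true := by decide +kernel

theorem pairCert1_wit0 : witPart 392 pairCert1 [pairCert2, pairCert3, pairCert4] 0 1 = true := by decide +kernel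

theorem pairCert1_wit1 : witPart 392 pairCert1 [pairCert2, pairCert3, pairCert4] 1 2 = true := by decide +kernel

theorem pairCert1_wit2 : witPart 392 pairCert1 [pairCert2, pairCert3, pairCert4] 2 3 = true := by decide +kernel

theorem pairCert1_wit3 : witPart 392 pairCert1 [pairCert2, pairCert3, pairCert4] 3 4 = true := by decide +kernel

theorem pairCert1_wit4 : witPart 392 pairCert1 [pairCert2, pairCert3, pairCert4] 4 5 = true := by decide +kernel

theorem pairCert1_ok : lvlFast 392 pairCert1 [pairCert2, pairCert3, pairCert4] = true := by
  refine lvlFast_of_parts pairCert1_rest fun s hs => ?_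
  change s < 5 at hs
  interval_cases s
  · exact pairCert1_wit0
  · exact pairCert1_wit1
  · exact pairCert1_wit2
  · exact pairCert1_wit3
  · exact pairCert1_wit4

theorem pairCert2_rest : lvlRest 392 pairCert2 [pairCert3, pairCert4] = true := by decide +kernel

theorem pairCert2_wit0 : witPart 392 pairCert2 [pairCert3, pairCert4] 0 1 = true := by decide +kernel

theorem pairCert2_wit1 : witPart 392 pairCert2 [pairCert3, pairCert4] 1 2 = true := by decide +kernel

theorem pairCert2_wit2 : witPart 392 pairCert2 [pairCert3, pairCert4] 2 3 = true := by decide +kernel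

theorem pairCert2_wit3 : witPart 392 pairCert2 [pairCert3, pairCert4] 3 4 = true := by decide +kernel

theorem pairCert2_ok : lvlFast 392 pairCert2 [pairCert3, pairCert4] = true := by
  refine lvlFast_of_parts pairCert2_rest fun s hs => ?_
  change s < 4 at hs
  interval_cases s
  · exact pairCert2_wit0
  · exact pairCert2_wit1
  · exact pairCert2_wit2
  · exact pairCert2_wit3

theorem pairCert3_rest : lvlRest 392 pairCert3 [pairCert4] = true := by decide +kernel

theorem pairCert3_wit0 : witPart 392 pairCert3 [pairCert4] 0 1 = true := by decide +kernel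

theorem pairCert3_wit1 : witPart 392 pairCert3 [pairCert4] 1 2 = true := by decide +kernel

theorem pairCert3_wit2 : witPart 392 pairCert3 [pairCert4] 2 3 = true := by decide +kernel

theorem pairCert3_ok : lvlFast 392 pairCert3 [pairCert4] = true := by
  refine lvlFast_of_parts pairCert3_rest fun s hs => ?_
  change s < 3 at hs
  interval_cases s
  · exact pairCert3_wit0
  · exact pairCert3_wit1
  · exact pairCert3_wit2

theorem pairCert4_rest : lvlRest 392 pairCert4 [] = true := by decide +kernel

theorem pairCert4_wit0 : witPart 392 pairCert4 [] 0 1 = true := by decide +kernel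

theorem pairCert4_ok : lvlFast 392 pairCert4 [] = true := by
  refine lvlFast_of_parts pairCert4_rest fun s hs => ?_
  change s < 1 at hs
  interval_cases s
  · exact pairCert4_wit0

theorem pairCert_ok : chk 392 pairCert = true :=
  (chk_cons_of_fast pairCert0_ok
  (chk_cons_of_fast pairCert1_ok
  (chk_cons_of_fast pairCert2_ok
  (chk_cons_of_fast pairCert3_ok
  (chk_cons_of_fast pairCert4_ok
  rfl)))))

theorem ptCert0_rest : lvlRest 280 ptCert0 [ptCert1, ptCert2] = true := by decide +kernel

theorem ptCert0_wit0 : witPart 280 ptCert0 [ptCert1, ptCert2] 0 1 = true := by decide +kernel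

theorem ptCert0_wit1 : witPart 280 ptCert0 [ptCert1, ptCert2] 1 2 = true := by decide +kernel

theorem ptCert0_wit2 : witPart 280 ptCert0 [ptCert1, ptCert2] 2 3 = true := by decide +kernel

theorem ptCert0_wit3 : witPart 280 ptCert0 [ptCert1, ptCert2] 3 4 = true := by decide +kernel

theorem ptCert0_ok : lvlFast 280 ptCert0 [ptCert1, ptCert2] = true := by
  refine lvlFast_of_parts ptCert0_rest fun s hs => ?_
  change s < 4 at hs
  interval_cases s
  · exact ptCert0_wit0
  · exact ptCert0_wit1
  · exact ptCert0_wit2
  · exact ptCert0_wit3

theorem ptCert1_rest : lvlRest 280 ptCert1 [ptCert2] = true := by decide +kernel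

theorem ptCert1_wit0 : witPart 280 ptCert1 [ptCert2] 0 1 = true := by decide +kernel

theorem ptCert1_wit1 : witPart 280 ptCert1 [ptCert2] 1 2 = true := by decide +kernel

theorem ptCert1_wit2 : witPart 280 ptCert1 [ptCert2] 2 3 = true := by decide +kernel

theorem ptCert1_ok : lvlFast 280 ptCert1 [ptCert2] = true := by
  refine lvlFast_of_parts ptCert1_rest fun s hs => ?_
  change s < 3 at hs
  interval_cases s
  · exact ptCert1_wit0
  · exact ptCert1_wit1
  · exact ptCert1_wit2

theorem ptCert2_rest : lvlRest 280 ptCert2 [] = true := by decide +kernel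

theorem ptCert2_wit0 : witPart 280 ptCert2 [] 0 1 = true := by decide +kernel

theorem ptCert2_wit1 : witPart 280 ptCert2 [] 1 2 = true := by decide +kernel

theorem ptCert2_ok : lvlFast 280 ptCert2 [] = true := by
  refine lvlFast_of_parts ptCert2_rest fun s hs => ?_
  change s < 2 at hs
  interval_cases s
  · exact ptCert2_wit0
  · exact ptCert2_wit1

theorem ptCert_ok : chk 280 ptCert = true :=
  (chk_cons_of_fast ptCert0_ok
  (chk_cons_of_fast ptCert1_ok
  (chk_cons_of_fast ptCert2_ok
  rfl)))

theorem pair_slp : slpOk 392 pairBase pairSteps = true := by decide +kernel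

theorem pt_slp : slpOk 280 ptBase ptSteps = true := by decide +kernel

end Cfsg.Agent.Lib.Recognition.U43
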