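import Cfsg.Agent.S1581
import Cfsg.Agent.Lib.Recognition.U43Data
import Cfsg.Agent.Lib.Recognition.McLModel
import Cfsg.Agent.Lib.Compute.CertTools

/-!
# The stabiliser of three base vectors on the 112 neighbours
-/

set_option autoImplicit false
set_option maxRecDepth 100000

namespace Cfsg.Agent.Lib.Recognition.U43

open Cfsg Cfsg.Agent.Lib.Compute Cfsg.Agent.Lib.Leech Equiv
open Cfsg.Agent.Lib.Recognition.McLOut (uVec vVec McLBase isMcL_base)
open MulAction (stabilizer mem_stabilizer_iff toPermHom)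

/-- The point of the 275-set. -/
noncomputable abbrev xVec : ↥leechLattice := ⟨vecOf bX, bX_mem⟩

/-- The stabiliser of the three base vectors. -/
noncomputable abbrev St : Subgroup ↥Co0 :=
  stabilizer ↥Co0 uVec ⊓ stabilizer ↥Co0 vVec ⊓ stabilizer ↥Co0 xVec

theorem moves_base : Moves (1 : ↥Co0) [uVec, vVec, xVec] [bU, bV, bX] := by simp [Moves]

/-- The mask of the entries congruent to the parity plus two. -/
def maskL (l : List ℤ) : ℕ :=
  ((List.range 24).map fun i => if (l.getD i 0 - l.getD 0 0 % 2) % 4 = 2 then 2 ^ i else 0).sum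

/-- A test for membership in the lattice and in the neighbour set. -/
def nbrOk (l : List ℤ) : Bool :=
  decide (l.length = 24) && inCode (maskL l) &&
  ((List.finRange 24).all fun i : Fin 24 => decide (l.getD i 0 % 4 =
    res (l.getD 0 0 % 2).toNat ((maskL l).testBit i))) &&
  decide (((List.finRange 24).map fun i : Fin 24 => l.getD i 0).sum % 8 = 4 * ((l.getD 0 0 % 2).toNat : ℤ)) &&
  decide (normL l = 32) && decide (dotL bU l = 24) && decide (dotL bV l = 16) && decide (dotL bX l = 8)

/-- A key of a coordinate list. -/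
def nbrKey (l : List ℤ) : ℕ := keyList (l.map fun a => (a + 8).toNat)

theorem nbrs_ok : nbrs.all nbrOk = true ∧ (nbrs.map nbrKey).Nodup ∧ nbrs.length = 112 ∧
    stMono.all genGood = true := by
  decide +kernel

/-- The neighbours. -/
noncomputable abbrev S8 : Set ↥leechLattice := subSet [uVec, vVec, xVec] [24, 16, 8]

theorem nbr_mem {l : List ℤ} (h : l ∈ nbrs) :
    ∃ x : ↥leechLattice, x ∈ S8 ∧ listOf (x : GolayPt → ℤ) = l := by
  have h := List.all_eq_true.mp nbrs_ok.1 l h
  simp only [nbrOk, Bool.and_eq_true, decide_eq_true_eq, List.all_eq_true] at h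
  obtain ⟨⟨⟨⟨⟨⟨⟨hlen, hcode⟩, h4⟩, h8⟩, hn⟩, hu⟩, hv⟩, hx⟩ := h
  have hmem : vecOf l ∈ leechLattice := by
    refine lattice_of_form (p := (l.getD 0 0 % 2).toNat) (m := maskL l) (by omega)
      (mem_codeList_of_inCode hcode) (fun q => h4 (enc q) (List.mem_finRange _)) ?_
    rw [← h8, sum_enc]
    rfl
  refine ⟨⟨vecOf l, hmem⟩, ?_, ?_⟩
  · rw [subSet_three]
    exact ⟨by rw [← normL_eq]; exact hn, by rw [← dotL_eq]; exact hu, by rw [← dotL_eq]; exact hv,
      by rw [← dotL_eq]; exact hx⟩
  · show listOf (vecOf l) = l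
    exact List.ext_getElem (by simp [listOf, hlen]) fun i h1 h2 => by
      simp only [listOf, List.getElem_map, List.getElem_finRange, vecOf, Equiv.apply_symm_apply,
        Fin.cast_mk]
      rw [List.getD_eq_getElem _ _ h2]

theorem card_S8 : S8.ncard = 112 := transNbrEight.ncard_sub moves_base

instance : Finite ↥S8 := Set.finite_of_ncard_ne_zero (by rw [card_S8]; norm_num)

theorem exists_enum : ∃ E : Fin 112 ≃ ↥S8,
    ∀ i : Fin 112, listOf ((E i : ↥leechLattice) : GolayPt → ℤ) = nbrs.getD i [] := by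
  obtain ⟨-, hnd, hl, -⟩ := nbrs_ok
  have hex : ∀ i : Fin 112, ∃ x : ↥S8, listOf ((x : ↥leechLattice) : GolayPt → ℤ) = nbrs.getD i [] := by
    intro i
    obtain ⟨x, hx, he⟩ := nbr_mem (l := nbrs.getD i []) (by
      rw [List.getD_eq_getElem _ _ (by omega : (i : ℕ) < nbrs.length)]
      exact List.getElem_mem _)
    exact ⟨⟨x, hx⟩, he⟩
  choose e he using hex
  have hei : Function.Injective e := fun i j h => by
    have h1 : nbrs.getD i [] = nbrs.getD j [] := by rw [← he i, ← he j, h]
    rw [List.getD_eq_getElem _ _ (by omega : (i : ℕ) < nbrs.length),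
      List.getD_eq_getElem _ _ (by omega : (j : ℕ) < nbrs.length)] at h1
    exact Fin.ext ((List.Nodup.getElem_inj_iff (List.Nodup.of_map _ hnd)).mp h1)
  exact ⟨Equiv.ofBijective e ((Nat.bijective_iff_injective_and_card e).mpr
    ⟨hei, by rw [Nat.card_fin, Nat.card_coe_set_eq, card_S8]⟩), he⟩

theorem fix_dot {v x : ↥leechLattice} {h : ↥Co0} (hh : h • v = v) :
    dotInt (v : GolayPt → ℤ) ((h • x : ↥leechLattice) : GolayPt → ℤ)
      = dotInt (v : GolayPt → ℤ) (x : GolayPt → ℤ) := by
  have h' := co0_dot h v x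
  rwa [hh] at h'

/-- The action on the neighbours. -/
noncomputable instance : MulAction ↥St ↥S8 where
  smul g x := ⟨(g : ↥Co0) • x.1, by
    have hx := subSet_three.mp x.2
    rw [subSet_three]
    exact ⟨(co0_sqNorm _ _).trans hx.1, (fix_dot g.2.1.1).trans hx.2.1,
      (fix_dot g.2.1.2).trans hx.2.2.1, (fix_dot g.2.2).trans hx.2.2.2⟩⟩
  one_smul x := Subtype.ext (one_smul ↥Co0 x.1)
  mul_smul g h x := Subtype.ext (mul_smul (g : ↥Co0) (h : ↥Co0) x.1)

/-- A word fixes the base and acts on the neighbours by the stated images. -/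
def stOk (i : Fin 2) : Bool :=
  wordGood stMono (stWord i) &&
  [bU, bV, bX].all (fun b => decide (actWord stMono (stWord i) b = b)) &&
  (List.range 112).all fun k => decide (app (imgA i) k < 112) &&
    decide (actWord stMono (stWord i) (nbrs.getD k []) = nbrs.getD (app (imgA i) k) [])

theorem st_ok : ∀ i, stOk i = true := by decide +kernel

theorem imgA_valid : ∀ i : Fin 2, ((List.range 112).map (app (imgA i))).Nodup := by decide +kernel

theorem imgA_repr (i : Fin 2) : Valid 112 (imgA i) := by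
  have h := st_ok i
  simp only [stOk, Bool.and_eq_true, List.all_eq_true, List.mem_range, decide_eq_true_eq] at h
  have hlt : ∀ k : Fin 112, app (imgA i) k < 112 := fun k => (h.2 k k.isLt).1
  have hinj : Function.Injective (fun k : Fin 112 => (⟨app (imgA i) k, hlt k⟩ : Fin 112)) :=
    fun a b e => Fin.ext (List.inj_on_of_nodup_map (imgA_valid i) (List.mem_range.mpr a.isLt)
      (List.mem_range.mpr b.isLt) (congrArg Fin.val e))
  exact ⟨Equiv.ofBijective _ (Finite.injective_iff_bijective.mp hinj), fun _ => rfl⟩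

theorem exists_stab_perm : ∃ φ : ↥St →* Perm (Fin 112), ∀ i, toPerm 112 (imgA i) ∈ φ.range := by
  obtain ⟨E, hE⟩ := exists_enum
  refine ⟨E.symm.permCongrHom.toMonoidHom.comp (toPermHom ↥St ↥S8), fun i => ?_⟩
  have h := st_ok i
  simp only [stOk, Bool.and_eq_true, List.all_eq_true, List.mem_range, decide_eq_true_eq] at h
  obtain ⟨⟨hw, hfix⟩, himg⟩ := h
  obtain ⟨g, hg⟩ := exists_word nbrs_ok.2.2.2 hw
  have hf : ∀ (l : List ℤ) (hl : vecOf l ∈ leechLattice),
      listOf (vecOf l) = l → actWord stMono (stWord i) l = l →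
      g • (⟨vecOf l, hl⟩ : ↥leechLattice) = ⟨vecOf l, hl⟩ := fun l hl h24 hle => by
    refine Subtype.ext ?_
    rw [← vecOf_listOf ((g • (⟨vecOf l, hl⟩ : ↥leechLattice) : ↥leechLattice) : GolayPt → ℤ), hg,
      h24, hle]
  have hgS : g ∈ St := ⟨⟨hf bU bU_mem (by decide +kernel) (hfix bU (by simp)),
    hf bV bV_mem (by decide +kernel) (hfix bV (by simp))⟩,
    hf bX bX_mem (by decide +kernel) (hfix bX (by simp))⟩
  refine ⟨⟨g, hgS⟩, Equiv.ext fun k => E.injective ?_⟩
  refine Eq.trans (E.apply_symm_apply _) (Subtype.ext ?_)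
  refine (Subtype.ext ?_ : (g • (E k).1 : ↥leechLattice) = (E (toPerm 112 (imgA i) k)).1)
  rw [← vecOf_listOf ((g • (E k).1 : ↥leechLattice) : GolayPt → ℤ), hg, hE k, (himg k k.isLt).2,
    ← (imgA_repr i).repr k, ← hE, vecOf_listOf]

theorem card_st : Nat.card ↥St = 3265920 := by
  have := finite_co0
  obtain ⟨hu, hv, huv, -, -⟩ := McLOut.base_facts
  have hk : Moves (1 : ↥Co0) [uVec, vVec] [bU, bV] := by simp [Moves]
  have hX : xVec ∈ subSet [uVec, vVec] [24, 16] := by
    rw [subSet_two]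
    exact (by decide +kernel : sqNorm (vecOf bX) = 32 ∧ dotInt (vecOf bU) (vecOf bX) = 24 ∧
      dotInt (vecOf bV) (vecOf bX) = 16)
  have horb : MulAction.orbit ↥McLBase xVec = subSet [uVec, vVec] [24, 16] := by
    ext y
    constructor
    · rintro ⟨g, rfl⟩
      have h := subSet_two.mp hX
      rw [subSet_two]
      exact ⟨(co0_sqNorm _ _).trans h.1, (fix_dot g.2.1).trans h.2.1,
        (fix_dot g.2.2).trans h.2.2⟩
    · intro hy
      obtain ⟨g, hg, hgy⟩ := transTripleThree.transitive hk hX hy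
      exact ⟨⟨g, hg uVec (by simp), hg vVec (by simp)⟩, hgy⟩
  have h1 : (stabilizer ↥McLBase xVec).index = 275 := by
    rw [MulAction.index_stabilizer, horb]
    exact transTripleThree.ncard_sub hk
  have h2 := (stabilizer ↥McLBase xVec).card_mul_index
  rw [h1, isMcL_base.2] at h2
  have e : (stabilizer ↥McLBase xVec).map McLBase.subtype = St := by
    ext g
    constructor
    · rintro ⟨x, hx, rfl⟩
      exact ⟨⟨x.2.1, x.2.2⟩, hx⟩
    · rintro ⟨⟨h1, h2⟩, h3⟩
      exact ⟨⟨g, h1, h2⟩, h3, rfl⟩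
  rw [← e, Subgroup.card_map_of_injective Subtype.val_injective]
  omega

end Cfsg.Agent.Lib.Recognition.U43
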