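import Cfsg.Agent.Lib.Recognition.U43Model
import Cfsg.Agent.Lib.Recognition.U43Stab
import Cfsg.Agent.Lib.Recognition.U43Checks

/-!
# The point stabiliser on the 275 points is PSU(4,3)
-/

set_option autoImplicit false
set_option maxRecDepth 100000

namespace Cfsg.Agent.Lib.Recognition.U43

open Cfsg Cfsg.Agent.Lib.Compute Equiv
open Cfsg.Agent.G2TwoU33 (K9)

theorem pair_checks : chk 392 pairCert = true ∧ certOrder pairCert = 3265920 ∧
    pairCert.all (fun L => decide (L.base < 112)) = true ∧
    slpOk 392 pairBase pairSteps = true ∧ slpCovers pairBase pairSteps pairCert = true :=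
  ⟨pairCert_ok, by decide +kernel, by decide +kernel, pair_slp, by decide +kernel⟩

theorem pt_checks : chk 280 ptCert = true ∧ certOrder ptCert = 3265920 ∧
    slpOk 280 ptBase ptSteps = true ∧ slpCovers ptBase ptSteps ptCert = true :=
  ⟨ptCert_ok, by decide +kernel, pt_slp, by decide +kernel⟩

/-- The pairs as permutations of the disjoint union. -/
noncomputable def joinHom : Perm (Fin 112) × Perm (Fin 280) →* Perm (Fin 392) :=
  ((finSumFinEquiv (m := 112) (n := 280)).permCongrHom.toMonoidHom).comp
    (Equiv.Perm.sumCongrHom (Fin 112) (Fin 280))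

theorem joinHom_injective : Function.Injective joinHom :=
  fun a b h => Equiv.Perm.sumCongrHom_injective ((finSumFinEquiv (m := 112) (n := 280)).permCongrHom.injective h)

theorem pair_data : (List.range 2).all (fun i => (List.range 392).all fun k =>
      app (pairBase.getD i 0) k == if k < 112 then app (imgA (Fin.ofNat 2 i)) k
        else 112 + app (imgB (Fin.ofNat 2 i)) (k - 112)) = true ∧
    pairBase.length = 2 ∧ ptBase = (List.finRange 2).map imgB := by
  decide +kernel

theorem base_pair (i : Fin 2) : Valid 392 (pairBase.getD i.val 0) ∧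
    joinHom (toPerm 112 (imgA i), toPerm 280 (imgB i)) = toPerm 392 (pairBase.getD i.val 0) := by
  have h := List.all_eq_true.mp pair_data.1 i.val (List.mem_range.mpr i.isLt)
  simp only [List.all_eq_true, List.mem_range, beq_iff_eq, Fin.ofNat_eq_cast,
    Fin.cast_val_eq_self] at h
  have hr : Repr (joinHom (toPerm 112 (imgA i), toPerm 280 (imgB i)))
      (app (pairBase.getD i.val 0)) := by
    intro k
    rw [h k k.isLt]
    obtain ⟨c | c, rfl⟩ := (finSumFinEquiv (m := 112) (n := 280)).surjective k
    · have e : joinHom (toPerm 112 (imgA i), toPerm 280 (imgB i)) (finSumFinEquiv (m := 112) (n := 280) (Sum.inl c))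
          = finSumFinEquiv (m := 112) (n := 280) (Sum.inl (toPerm 112 (imgA i) c)) := by
        simp [joinHom, Equiv.permCongrHom]
      rw [e]
      show ((toPerm 112 (imgA i) c : Fin 112) : ℕ) = if c.val < 112 then _ else _
      rw [if_pos c.isLt, (imgA_repr i).repr c]
      rfl
    · have e : joinHom (toPerm 112 (imgA i), toPerm 280 (imgB i)) (finSumFinEquiv (m := 112) (n := 280) (Sum.inr c))
          = finSumFinEquiv (m := 112) (n := 280) (Sum.inr (toPerm 280 (imgB i) c)) := by
        simp [joinHom, Equiv.permCongrHom]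
      rw [e]
      show 112 + ((toPerm 280 (imgB i) c : Fin 280) : ℕ) = if 112 + c.val < 112 then _ else
        112 + app (imgB i) (112 + c.val - 112)
      rw [if_neg (by omega), (imgB_repr i).repr c, Nat.add_sub_cancel_left]
  exact ⟨⟨_, hr⟩, (repr_toPerm_of_repr hr).symm⟩

theorem base_index {b : ℕ} (hb : b ∈ pairBase) : ∃ i : Fin 2, b = pairBase.getD i.val 0 := by
  obtain ⟨j, hj, rfl⟩ := List.getElem_of_mem hb
  exact ⟨⟨j, by rw [pair_data.2.1] at hj; exact hj⟩, (List.getD_eq_getElem _ _ hj).symm⟩

theorem pair_mem_checks : memOk 392 pairCert (pairBase.getD 0 0) [1, 0, 0, 0, 0] = true ∧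
    memOk 392 pairCert (pairBase.getD 1 0) [10, 55, 4, 2, 1] = true := by
  decide +kernel

theorem pair_gen (i : Fin 2) :
    (toPerm 112 (imgA i), toPerm 280 (imgB i)) ∈ (grp 392 pairCert).comap joinHom := by
  rw [Subgroup.mem_comap, (base_pair i).2]
  fin_cases i
  · exact (mem_grp_of_memOk pair_checks.1 pair_mem_checks.1).2
  · exact (mem_grp_of_memOk pair_checks.1 pair_mem_checks.2).2

theorem exists_iso : Nonempty (↥St ≃* Cfsg.PSU 4 K9 3) := by
  classical
  obtain ⟨φ, hφ⟩ := exists_stab_perm
  obtain ⟨hc, ho, hb, hs, hcov⟩ := pair_checks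
  obtain ⟨hc', ho', hs', hcov'⟩ := pt_checks
  have := Nat.finite_of_card_ne_zero (α := ↥St) (by rw [card_st]; norm_num)
  have := Nat.finite_of_card_ne_zero (α := Cfsg.PSU 4 K9 3) (by rw [card_psu]; norm_num)
  set K : Subgroup (Perm (Fin 112) × Perm (Fin 280)) := (grp 392 pairCert).comap joinHom with hK
  have hKle : grp 392 pairCert ≤ (φ.range.prod psuPerm.range).map joinHom := by
    refine le_trans (grp_le_closure (fun b hb' => by obtain ⟨i, rfl⟩ := base_index hb'; exact (base_pair i).1) hs hcov)
      ((Subgroup.closure_le _).mpr ?_)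
    rintro _ ⟨b, hb', rfl⟩
    obtain ⟨i, rfl⟩ := base_index hb'
    exact ⟨_, ⟨hφ i, mem_range_psu i⟩, (base_pair i).2⟩
  have hKcard : Nat.card K = 3265920 := by
    have e : K.map joinHom = grp 392 pairCert := by
      rw [hK, Subgroup.map_comap_eq, inf_eq_right]
      exact hKle.trans (Subgroup.map_le_range _ _)
    rw [← Subgroup.card_map_of_injective (f := joinHom) joinHom_injective, e, card_grp hc, ho]
  have hK1 : K ≤ φ.range.prod psuPerm.range := fun x hx => by
    obtain ⟨y, hy, e⟩ := hKle hx
    exact joinHom_injective e ▸ hy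
  -- the first projection
  let p1 : ↥K →* ↥φ.range := ((MonoidHom.fst _ _).comp K.subtype).codRestrict _ fun x => (hK1 x.2).1
  have hp1 : Function.Injective p1 := by
    refine (injective_iff_map_eq_one _).mpr fun x hx => Subtype.ext (joinHom_injective ?_)
    rw [OneMemClass.coe_one, map_one]
    refine eq_one_of_fix_bases hc x.2 fun L hL b hbL => ?_
    have hlt : (b : ℕ) < 112 := by
      rw [hbL]; exact of_decide_eq_true (List.all_eq_true.mp hb L hL)
    have e1 : x.1.1 = 1 := congrArg Subtype.val hx
    obtain ⟨c | c, rfl⟩ := (finSumFinEquiv (m := 112) (n := 280)).surjective b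
    · simp [joinHom, Equiv.permCongrHom, e1]
    · exact absurd (show 112 + c.val < 112 from hlt) (by omega)
  have hφcard : Nat.card φ.range ≤ 3265920 := by
    rw [← card_st]
    exact Nat.card_le_card_of_surjective φ.rangeRestrict φ.rangeRestrict_surjective
  have hp1b : Function.Bijective p1 := (Nat.bijective_iff_injective_and_card _).mpr ⟨hp1,
    le_antisymm (Nat.card_le_card_of_injective p1 hp1) (hKcard ▸ hφcard)⟩
  have hrA : Function.Bijective φ.rangeRestrict :=
    (Nat.bijective_iff_surjective_and_card _).mpr ⟨φ.rangeRestrict_surjective, by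
      rw [card_st, ← Nat.card_eq_of_bijective p1 hp1b, hKcard]⟩
  -- the second projection
  let p2 : ↥K →* ↥psuPerm.range :=
    ((MonoidHom.snd _ _).comp K.subtype).codRestrict _ fun x => (hK1 x.2).2
  have hge : 3265920 ≤ Nat.card psuPerm.range := by
    rw [← ho', ← card_grp hc']
    refine Subgroup.card_le_of_le (le_trans (grp_le_closure (fun b hb' => ?_) hs' hcov')
      ((Subgroup.closure_le _).mpr ?_))
    · rw [pair_data.2.2, List.mem_map] at hb'
      obtain ⟨i, -, rfl⟩ := hb'
      exact imgB_repr i
    · rintro _ ⟨b, hb', rfl⟩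
      rw [Set.mem_ofPred_eq, pair_data.2.2, List.mem_map] at hb'
      obtain ⟨i, -, rfl⟩ := hb'
      exact mem_range_psu i
  have hp2 : Function.Surjective p2 := by
    have h1 : grp 280 ptCert ≤ K.map (MonoidHom.snd _ _) := by
      refine le_trans (grp_le_closure (fun b hb' => ?_) hs' hcov')
        ((Subgroup.closure_le _).mpr ?_)
      · rw [pair_data.2.2, List.mem_map] at hb'
        obtain ⟨i, -, rfl⟩ := hb'
        exact imgB_repr i
      · rintro _ ⟨b, hb', rfl⟩
        rw [Set.mem_ofPred_eq, pair_data.2.2, List.mem_map] at hb'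
        obtain ⟨i, -, rfl⟩ := hb'
        exact ⟨(toPerm 112 (imgA i), toPerm 280 (imgB i)), pair_gen i, rfl⟩
    have h2 : K.map (MonoidHom.snd _ _) ≤ psuPerm.range := by
      rintro _ ⟨x, hx, rfl⟩
      exact (hK1 hx).2
    have h3 : K.map (MonoidHom.snd _ _) = psuPerm.range := Subgroup.eq_of_le_of_card_ge h2 (by
      calc Nat.card psuPerm.range ≤ 3265920 := by
            rw [← card_psu]
            exact Nat.card_le_card_of_surjective psuPerm.rangeRestrict psuPerm.rangeRestrict_surjective
        _ = Nat.card (grp 280 ptCert) := by rw [card_grp hc', ho']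
        _ ≤ _ := Subgroup.card_le_of_le h1)
    rintro ⟨y, hy⟩
    rw [← h3] at hy
    obtain ⟨x, hx, rfl⟩ := hy
    exact ⟨⟨x, hx⟩, rfl⟩
  have hle : Nat.card psuPerm.range ≤ 3265920 := by
    rw [← card_psu]
    exact Nat.card_le_card_of_surjective psuPerm.rangeRestrict psuPerm.rangeRestrict_surjective
  have hp2b : Function.Bijective p2 :=
    (Nat.bijective_iff_surjective_and_card _).mpr ⟨hp2, by rw [hKcard]; omega⟩
  have hrB : Function.Bijective psuPerm.rangeRestrict :=
    (Nat.bijective_iff_surjective_and_card _).mpr ⟨psuPerm.rangeRestrict_surjective, by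
      rw [card_psu]; omega⟩
  exact ⟨(MulEquiv.ofBijective _ hrA).trans ((MulEquiv.ofBijective _ hp1b).symm.trans
    ((MulEquiv.ofBijective _ hp2b).trans (MulEquiv.ofBijective _ hrB).symm))⟩

end Cfsg.Agent.Lib.Recognition.U43
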