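import Cfsg.Prelude.Def_Classical
import Cfsg.Agent.Lib.Recognition.U43Data
import Cfsg.Agent.Lib.Compute.CertTools
import Cfsg.Agent.Lib.FusionControl.U33Model
import Cfsg.Agent.Lib.Classical.HermCard

/-!
# PSU(4,3) on the 280 isotropic points
-/

set_option autoImplicit false
set_option maxRecDepth 100000

namespace Cfsg.Agent.Lib.Recognition.U43

open Equiv Cfsg.Agent.Lib.Classical Cfsg.Agent.Lib.Compute
open Cfsg.Agent.G2TwoU33 (K9 el p3 p3_add p3_mul card_K9)
open scoped Matrix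

/-- the code of a vector -/
def code4 (v : Fin 4 → K9) : ℕ :=
  (v 0).v.val + 9 * (v 1).v.val + 81 * (v 2).v.val + 729 * (v 3).v.val

/-- the vector of a code -/
def vec4 (n : ℕ) : Fin 4 → K9 := fun i => el (n / 9 ^ i.val)

/-- the hermitian form -/
def h4 (u v : Fin 4 → K9) : K9 :=
  u 0 * p3 (v 0) + u 1 * p3 (v 1) + u 2 * p3 (v 2) + u 3 * p3 (v 3)

theorem hermForm_eq (u v : Fin 4 → K9) : Cfsg.hermForm 4 K9 3 u v = h4 u v := by
  simp [Cfsg.hermForm, h4, p3, Fin.sum_univ_four, pow_succ]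

theorem el_v : ∀ a : K9, el a.v.val = a := by decide +kernel

theorem vec4_code (v : Fin 4 → K9) : vec4 (code4 v) = v := by
  have h0 := (v 0).v.isLt; have h1 := (v 1).v.isLt; have h2 := (v 2).v.isLt; have h3 := (v 3).v.isLt
  have key : ∀ (n : ℕ) (a : K9), n % 9 = a.v.val → el n = a := fun n a h => by
    rw [← el_v a]; simp only [el]; congr 1; exact Fin.ext (by simp only; omega)
  funext i
  fin_cases i <;> refine key _ _ ?_ <;> simp [code4] <;> omega

/-- the points -/
def pnt (k : Fin 280) : Fin 4 → K9 := vec4 (ptList.getD k.val 0)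

/-- the index of a vector -/
def pidx (v : Fin 4 → K9) : Fin 280 :=
  ⟨(ptTab >>> (13 * code4 v)) % 512 % 280, Nat.mod_lt _ (by norm_num)⟩

/-- the scalar of a vector -/
def psc (v : Fin 4 → K9) : K9 := el ((ptTab >>> (13 * code4 v + 9)) % 16)

/-- the test on a code -/
def covOk (n : ℕ) : Bool :=
  decide (vec4 n = 0) || decide (h4 (vec4 n) (vec4 n) ≠ 0) ||
    (decide (psc (vec4 n) ≠ 0) && decide (vec4 n = psc (vec4 n) • pnt (pidx (vec4 n))))

theorem cov_table : (List.range 6561).all covOk = true := by decide +kernel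

theorem exists_pnt {v : Fin 4 → K9} (h0 : v ≠ 0) (hv : h4 v v = 0) :
    ∃ k, ∃ l : K9, l ≠ 0 ∧ v = l • pnt k := by
  have h1 := (v 0).v.isLt; have h2 := (v 1).v.isLt; have h3 := (v 2).v.isLt; have h4' := (v 3).v.isLt
  have h := List.all_eq_true.mp cov_table (code4 v) (List.mem_range.mpr (by simp only [code4]; omega))
  simp only [covOk, vec4_code, Bool.or_eq_true, Bool.and_eq_true, decide_eq_true_eq] at h
  rcases h with (h | h) | ⟨ha, hb⟩
  · exact absurd h h0
  · exact absurd hv h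
  · exact ⟨_, _, ha, hb⟩

theorem pnt_table : ∀ k : Fin 280, pnt k ≠ 0 ∧ h4 (pnt k) (pnt k) = 0 ∧
    ∀ a : K9, a ≠ 0 → pidx (a • pnt k) = k := by
  decide +kernel

theorem pnt_sep {k l : Fin 280} {a : K9} (h : pnt k = a • pnt l) : k = l := by
  have ha : a ≠ 0 := fun e => (pnt_table k).1 (by rw [h, e, zero_smul])
  have h1 := (pnt_table k).2.2 1 one_ne_zero
  rw [one_smul, h] at h1
  exact h1.symm.trans ((pnt_table l).2.2 a ha)

/-- the group -/
abbrev SU43 : Type := ↥(Cfsg.SU 4 K9 3)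

/-- the matrix of an element -/
def smat (g : SU43) : Matrix (Fin 4) (Fin 4) K9 := (g.1 : Matrix (Fin 4) (Fin 4) K9)

/-- a matrix permutes the points -/
def PActs (M : Matrix (Fin 4) (Fin 4) K9) (σ : Perm (Fin 280)) : Prop :=
  ∀ k, ∃ l : K9, M *ᵥ pnt k = l • pnt (σ k)

theorem PActs.mul {M M' : Matrix (Fin 4) (Fin 4) K9} {σ τ : Perm (Fin 280)} (hM : PActs M σ)
    (hN : PActs M' τ) : PActs (M * M') (σ * τ) := fun k => by
  obtain ⟨l, hl⟩ := hN k
  obtain ⟨m, hm⟩ := hM (τ k)
  exact ⟨l * m, by rw [← Matrix.mulVec_mulVec, hl, Matrix.mulVec_smul, hm, smul_smul, Perm.mul_apply]⟩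

theorem h4_act (g : SU43) (u v : Fin 4 → K9) : h4 (smat g *ᵥ u) (smat g *ᵥ v) = h4 u v := by
  rw [← hermForm_eq, ← hermForm_eq]
  exact g.2 u v

theorem act_inv (g : SU43) (v : Fin 4 → K9) : smat g⁻¹ *ᵥ (smat g *ᵥ v) = v := by
  rw [Matrix.mulVec_mulVec, show smat g⁻¹ * smat g = 1 from
    (show smat (g⁻¹ * g) = 1 by rw [inv_mul_cancel]; rfl), Matrix.one_mulVec]

theorem act_ne (g : SU43) {v : Fin 4 → K9} (hv : v ≠ 0) : smat g *ᵥ v ≠ 0 := fun e =>
  hv (by rw [← act_inv g v, e, Matrix.mulVec_zero])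

theorem PActs.unique {g : SU43} {σ τ : Perm (Fin 280)} (h : PActs (smat g) σ)
    (h' : PActs (smat g) τ) : σ = τ := Equiv.ext fun k => by
  obtain ⟨l, hl⟩ := h k
  obtain ⟨m, hm⟩ := h' k
  have hl0 : l ≠ 0 := fun e => act_ne g (pnt_table k).1 (by rw [hl, e, zero_smul])
  exact pnt_sep (a := l⁻¹ * m)
    (by rw [← smul_smul, ← hm, hl, smul_smul, inv_mul_cancel₀ hl0, one_smul])

theorem exists_pacts (g : SU43) : ∃ σ, PActs (smat g) σ := by
  have h : ∀ k, ∃ j, ∃ l : K9, l ≠ 0 ∧ smat g *ᵥ pnt k = l • pnt j := fun k =>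
    exists_pnt (act_ne g (pnt_table k).1) (by rw [h4_act]; exact (pnt_table k).2.1)
  choose f l hl hf using h
  have hinj : Function.Injective f := by
    intro j k hjk
    refine pnt_sep (a := l j * (l k)⁻¹) ?_
    have e : smat g *ᵥ pnt j = smat g *ᵥ ((l j * (l k)⁻¹) • pnt k) := by
      rw [Matrix.mulVec_smul, hf j, hf k, smul_smul, mul_assoc, inv_mul_cancel₀ (hl k), mul_one, hjk]
    have h1 := congrArg (fun v => smat g⁻¹ *ᵥ v) e
    simpa only [act_inv] using h1
  exact ⟨Equiv.ofBijective f ((Fintype.bijective_iff_injective_and_card f).2 ⟨hinj, rfl⟩),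
    fun k => ⟨l k, hf k⟩⟩

/-- the permutation representation -/
noncomputable def suPerm : SU43 →* Perm (Fin 280) where
  toFun g := (exists_pacts g).choose
  map_one' := (exists_pacts 1).choose_spec.unique
    (fun k => ⟨1, by rw [one_smul]; exact Matrix.one_mulVec _⟩)
  map_mul' g h := (exists_pacts (g * h)).choose_spec.unique
    ((exists_pacts g).choose_spec.mul (exists_pacts h).choose_spec)

/-- The action of the projective group. -/
noncomputable def psuPerm : Cfsg.PSU 4 K9 3 →* Perm (Fin 280) :=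
  QuotientGroup.lift (Subgroup.center SU43) suPerm fun g hg => by
    have hs := SU_center_scalar card_K9 g hg 0
    refine MonoidHom.mem_ker.mpr ((exists_pacts g).choose_spec.unique
      fun k => ⟨smat g 0 0, ?_⟩)
    show smat g *ᵥ pnt k = smat g 0 0 • pnt k
    conv_lhs => rw [show smat g = smat g 0 0 • (1 : Matrix (Fin 4) (Fin 4) K9) from hs]
    rw [Matrix.smul_mulVec, Matrix.one_mulVec]

/-- a matrix from a table -/
def tabM (i : Fin 2) : Matrix (Fin 4) (Fin 4) K9 :=
  Matrix.of fun r c => el (((suMat i).getD r.val []).getD c.val 0)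

theorem tab_det : ∀ i, (tabM i).det = 1 := by
  intro i
  simp only [Matrix.det_succ_row_zero, Fin.sum_univ_succ]
  revert i
  decide +kernel

theorem tab_form : ∀ i, (tabM i)ᵀ * (tabM i).map p3 = 1 := by decide +kernel

theorem tab_su (i : Fin 2) :
    (⟨tabM i, tab_det i⟩ : Matrix.SpecialLinearGroup (Fin 4) K9) ∈ Cfsg.SU 4 K9 3 := by
  refine (mem_SU_iff card_K9 _).mpr ?_
  refine Eq.trans ?_ (tab_form i)
  refine congrArg (fun M => (tabM i)ᵀ * M) ?_
  ext r c
  simp [conjHom_apply, p3, pow_succ]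

theorem tab_acts : ((List.range 2).all fun i => (List.range 280).all fun k =>
    (List.range 9).any fun l => decide (tabM (Fin.ofNat 2 i) *ᵥ pnt (Fin.ofNat 280 k) =
      el l • pnt (Fin.ofNat 280 (app (imgB (Fin.ofNat 2 i)) k)))) = true := by
  decide +kernel

theorem imgB_valid : ∀ i : Fin 2, ((List.range 280).map (app (imgB i))).Nodup ∧
    (List.range 280).all (fun k => decide (app (imgB i) k < 280)) = true := by
  decide +kernel

theorem imgB_repr (i : Fin 2) : Valid 280 (imgB i) := by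
  obtain ⟨hnd, hall⟩ := imgB_valid i
  simp only [List.all_eq_true, List.mem_range, decide_eq_true_eq] at hall
  have hinj : Function.Injective
      (fun k : Fin 280 => (⟨app (imgB i) k, hall k k.isLt⟩ : Fin 280)) :=
    fun a b e => Fin.ext (List.inj_on_of_nodup_map hnd (List.mem_range.mpr a.isLt)
      (List.mem_range.mpr b.isLt) (congrArg Fin.val e))
  exact ⟨Equiv.ofBijective _ (Finite.injective_iff_bijective.mp hinj), fun _ => rfl⟩

theorem mem_range_psu (i : Fin 2) : toPerm 280 (imgB i) ∈ psuPerm.range := by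
  refine ⟨(QuotientGroup.mk (⟨⟨tabM i, tab_det i⟩, tab_su i⟩ : SU43)), ?_⟩
  show suPerm _ = _
  refine (exists_pacts _).choose_spec.unique fun k => ?_
  have h := List.all_eq_true.mp (List.all_eq_true.mp tab_acts i.val (List.mem_range.mpr i.isLt))
    k.val (List.mem_range.mpr k.isLt)
  simp only [List.any_eq_true, List.mem_range, decide_eq_true_eq, Fin.ofNat_eq_cast,
    Fin.cast_val_eq_self] at h
  obtain ⟨l, -, hl⟩ := h
  refine ⟨el l, ?_⟩
  show tabM i *ᵥ pnt k = _
  rw [hl, ← (imgB_repr i).repr k, Fin.cast_val_eq_self]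

theorem card_psu : Nat.card (Cfsg.PSU 4 K9 3) = 3265920 := by
  have h := card_center_mul_card_PSU (F := K9) (q := 3) card_K9 (n := 4) (by norm_num)
  rw [card_GU card_K9] at h
  simp only [Finset.prod_range_succ, Finset.prod_range_zero, Nat.even_iff] at h
  norm_num at h
  omega

end Cfsg.Agent.Lib.Recognition.U43
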